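import Groth.Agent.Lib.helper25.PBasisF

set_option autoImplicit false
set_option linter.unusedSectionVars false
universe u

namespace Groth.Agent.Lib.helper25.PBasisG

open EGA41 Groth.Agent.Lib.helper25.PBasisA Groth.Agent.Lib.helper25.PBasisF
open scoped IntermediateField

section generic
variable {R R' M ι : Type*} [Ring R] [Ring R'] [AddCommGroup M] [Module R M] [Module R' M]

theorem li_transfer (φ : R → R') (hφ0 : ∀ r, φ r = 0 → r = 0) (hsm : ∀ (r : R) (m : M), r • m = φ r • m)
    {v : ι → M} (h : LinearIndependent R' v) : LinearIndependent R v := by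
  rw [linearIndependent_iff'] at h ⊢
  intro s g hg i hi
  apply hφ0
  refine h s (fun i => φ (g i)) ?_ i hi
  simpa [← hsm] using hg

theorem span_transfer (φ : R → R') (hsm : ∀ (r : R) (m : M), r • m = φ r • m) {s : Set M}
    (h : Submodule.span R s = ⊤) : Submodule.span R' s = ⊤ := by
  rw [eq_top_iff]
  intro m _
  have hm : m ∈ Submodule.span R s := by rw [h]; trivial
  induction hm using Submodule.span_induction with
  | mem y hy => exact Submodule.subset_span hy
  | zero => exact Submodule.zero_mem _
  | add y y' _ _ hy hy' => exact Submodule.add_mem _ (hy trivial) (hy' trivial)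
  | smul r y _ hy => rw [hsm]; exact Submodule.smul_mem _ _ (hy trivial)

end generic

section field
variable (p : ℕ) [hp : Fact p.Prime] (k K : Type u) [Field k] [Field K] [Algebra k K] [CharP K p]

theorem inv_mem_pPower (c : K) (hc : c ∈ pPowerSubalgebra p k K) : c⁻¹ ∈ pPowerSubalgebra p k K := by
  by_cases h0 : c = 0
  · rw [h0, inv_zero]; exact Subalgebra.zero_mem _
  · have : c⁻¹ = c ^ (p - 1) * (c⁻¹) ^ p := by
      rw [inv_pow]
      field_simp
      rw [← pow_succ']
      congr 1
      have := hp.out.one_le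
      omega
    rw [this]
    exact Subalgebra.mul_mem _ (Subalgebra.pow_mem _ hc _) (Algebra.subset_adjoin ⟨c⁻¹, rfl⟩)

/-- `k(K^p)` as an intermediate field -/
noncomputable def Cf : IntermediateField k K :=
  IntermediateField.adjoin k (Set.range fun b : K => b ^ p)

theorem Cf_toSubalgebra : (Cf p k K).toSubalgebra = pPowerSubalgebra p k K :=
  IntermediateField.adjoin_eq_algebra_adjoin _ _ (fun c hc => inv_mem_pPower p k K c hc)

theorem mem_Cf (c : K) : c ∈ Cf p k K ↔ c ∈ pPowerSubalgebra p k K := by
  rw [← Cf_toSubalgebra, IntermediateField.mem_toSubalgebra]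

theorem hF_Cf : ∀ b : K, b ^ p ∈ Set.range (algebraMap (Cf p k K) K) := by
  intro b
  exact ⟨⟨b ^ p, IntermediateField.subset_adjoin _ _ ⟨b, rfl⟩⟩, rfl⟩

variable {p k K} {ι : Type u} (x : ι → K)

theorem isPIndependent_iff :
    IsPIndependent p k x ↔ LinearIndependent (Cf p k K) (mon (p := p) x) := by
  constructor
  · intro h
    exact li_transfer (R := Cf p k K) (R' := pPowerSubalgebra p k K)
      (fun c => ⟨c.1, (mem_Cf p k K c.1).1 c.2⟩)
      (fun c hc => Subtype.ext (by have := congrArg Subtype.val hc; exact this)) (fun c m => rfl) h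
  · intro h
    exact li_transfer (R := pPowerSubalgebra p k K) (R' := Cf p k K)
      (fun c => ⟨c.1, (mem_Cf p k K c.1).2 c.2⟩)
      (fun c hc => Subtype.ext (by have := congrArg Subtype.val hc; exact this)) (fun c m => rfl) h

theorem isPGenerating_iff :
    IsPGenerating p k x ↔ Submodule.span (Cf p k K) (Set.range (mon (p := p) x)) = ⊤ := by
  constructor
  · intro h
    exact span_transfer (R := pPowerSubalgebra p k K) (R' := Cf p k K)
      (fun c => ⟨c.1, (mem_Cf p k K c.1).2 c.2⟩) (fun c m => rfl) h
  · intro h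
    exact span_transfer (R := Cf p k K) (R' := pPowerSubalgebra p k K)
      (fun c => ⟨c.1, (mem_Cf p k K c.1).1 c.2⟩) (fun c m => rfl) h

theorem adjoin_Cf_eq (U : Set K) :
    IntermediateField.restrictScalars k (IntermediateField.adjoin (Cf p k K) U) =
      IntermediateField.adjoin k ((Set.range fun b : K => b ^ p) ∪ U) :=
  IntermediateField.adjoin_adjoin_left k _ U

theorem mem_algAdjoin_Cf_iff (U : Set K) (y : K) :
    y ∈ Algebra.adjoin (Cf p k K) U ↔
      y ∈ IntermediateField.adjoin k ((Set.range fun b : K => b ^ p) ∪ U) := by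
  haveI := isAlgebraic_of_pow (p := p) (hF_Cf p k K)
  rw [← adjoin_Cf_eq, IntermediateField.mem_restrictScalars, ← IntermediateField.mem_toSubalgebra,
    IntermediateField.adjoin_toSubalgebra]

theorem S4521_aux :
    IsPIndependent p k x ↔
      ∀ a : ι, x a ∉ IntermediateField.adjoin k ((Set.range fun y : K => y ^ p) ∪ x '' {b | b ≠ a}) := by
  rw [isPIndependent_iff, pind_iff x (hF_Cf p k K)]
  refine forall_congr' fun a => ?_
  rw [mem_algAdjoin_Cf_iff]

end field


section field2
variable {p : ℕ} [hp : Fact p.Prime] {k K : Type u} [Field k] [Field K] [Algebra k K] [CharP K p]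

theorem image_val_ne (U : Set K) (a : U) : (Subtype.val '' {b : U | b ≠ a}) = U \ {a.1} := by
  ext y
  constructor
  · rintro ⟨b, hb, rfl⟩
    exact ⟨b.2, fun h => hb (Subtype.ext h)⟩
  · rintro ⟨hy, hne⟩
    exact ⟨⟨y, hy⟩, fun h => hne (congrArg Subtype.val h), rfl⟩

/-- `p`-independence of a subset family, in closure form over `k(K^p)` -/
theorem isPIndependent_val_iff (U : Set K) :
    IsPIndependent p k (Subtype.val : U → K) ↔ PIndSet (Cf p k K) U := by
  haveI := isAlgebraic_of_pow (p := p) (hF_Cf p k K)
  rw [isPIndependent_iff, pind_iff _ (hF_Cf p k K)]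
  constructor
  · intro h a ha hmem
    apply h ⟨a, ha⟩
    rw [image_val_ne, ← IntermediateField.adjoin_toSubalgebra, IntermediateField.mem_toSubalgebra]
    exact hmem
  · intro h a hmem
    apply h a.1 a.2
    rw [image_val_ne, ← IntermediateField.adjoin_toSubalgebra,
      IntermediateField.mem_toSubalgebra] at hmem
    exact hmem

theorem isPGenerating_val_iff (U : Set K) :
    IsPGenerating p k (Subtype.val : U → K) ↔ IntermediateField.adjoin (Cf p k K) U = ⊤ := by
  haveI := isAlgebraic_of_pow (p := p) (hF_Cf p k K)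
  rw [isPGenerating_iff, pgen_iff _ (hF_Cf p k K), Subtype.range_coe,
    ← IntermediateField.adjoin_toSubalgebra, ← IntermediateField.top_toSubalgebra,
    IntermediateField.toSubalgebra_inj]

theorem S2467_aux (S L : Set K) (hLS : L ⊆ S)
    (hS : IsPGenerating p k (Subtype.val : S → K)) (hL : IsPIndependent p k (Subtype.val : L → K)) :
    ∃ B : Set K, L ⊆ B ∧ B ⊆ S ∧ IsPBasis p k (Subtype.val : B → K) := by
  rw [isPGenerating_val_iff] at hS
  rw [isPIndependent_val_iff] at hL
  obtain ⟨B, hLB, hBS, hB1, hB2⟩ := exists_pbasis_set (hF_Cf p k K) L S hLS hS hL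
  exact ⟨B, hLB, hBS, (isPIndependent_val_iff B).2 hB1, (isPGenerating_val_iff B).2 hB2⟩

end field2



section field3
variable {p : ℕ} [hp : Fact p.Prime] {k K : Type u} [Field k] [Field K] [Algebra k K] [CharP K p]
  {ι : Type u} (x : ι → K)

theorem D_mem_span_of_mem_adjoin (U : Set K) (y : K) (hy : y ∈ Algebra.adjoin (Cf p k K) U) :
    KaehlerDifferential.D k K y ∈ Submodule.span K (KaehlerDifferential.D k K '' U) := by
  induction hy using Algebra.adjoin_induction with
  | mem y hy => exact Submodule.subset_span ⟨y, hy, rfl⟩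
  | algebraMap c =>
    have : KaehlerDifferential.D k K (c : K) = 0 :=
      der_pPower_eq_zero (p := p) (KaehlerDifferential.D k K) c.1 ((mem_Cf p k K c.1).1 c.2)
    change KaehlerDifferential.D k K (c : K) ∈ _
    rw [this]
    exact Submodule.zero_mem _
  | add y y' _ _ hy hy' => rw [map_add]; exact Submodule.add_mem _ hy hy'
  | mul y y' _ _ hy hy' =>
    rw [Derivation.leibniz]
    exact Submodule.add_mem _ (Submodule.smul_mem _ _ hy') (Submodule.smul_mem _ _ hy)

theorem isPGenerating_univ : IsPGenerating p k (Subtype.val : ↥(Set.univ : Set K) → K) := by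
  rw [isPGenerating_val_iff, eq_top_iff]
  intro y _
  exact IntermediateField.subset_adjoin _ _ (Set.mem_univ y)

theorem li_D_of_isPIndependent (h : IsPIndependent p k x) :
    LinearIndependent K (fun i => KaehlerDifferential.D k K (x i)) := by
  have h' := (S4521_aux x).1 h
  have hL : IsPIndependent p k (Subtype.val : (Set.range x) → K) := by
    rw [isPIndependent_val_iff]
    rintro _ ⟨a, rfl⟩ hmem
    apply h' a
    rw [← adjoin_Cf_eq, IntermediateField.mem_restrictScalars]
    refine IntermediateField.adjoin.mono _ _ _ ?_ hmem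
    rintro _ ⟨⟨b, rfl⟩, hb⟩
    exact ⟨b, fun hba => hb (by rw [hba]; rfl), rfl⟩
  obtain ⟨B, hLB, _, hB⟩ := S2467_aux Set.univ (Set.range x) (Set.subset_univ _)
    isPGenerating_univ hL
  obtain ⟨bB, hbB⟩ := kaehler_basis_of_pBasis hB
  let ψ : ι → B := fun i => ⟨x i, hLB ⟨i, rfl⟩⟩
  have hψ : Function.Injective ψ := by
    intro a b hab
    by_contra hne
    apply h' a
    apply IntermediateField.subset_adjoin
    right
    refine ⟨b, fun h => hne h.symm, ?_⟩
    exact (congrArg Subtype.val hab).symm
  have := bB.linearIndependent.comp ψ hψ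
  have heq : (fun i => KaehlerDifferential.D k K (x i)) = ⇑bB ∘ ψ := by
    funext i
    exact (hbB (ψ i)).symm
  rw [heq]
  exact this

theorem isPIndependent_of_li_D (h : LinearIndependent K (fun i => KaehlerDifferential.D k K (x i))) :
    IsPIndependent p k x := by
  rw [S4521_aux]
  intro a hmem
  rw [← mem_algAdjoin_Cf_iff] at hmem
  have h1 := D_mem_span_of_mem_adjoin _ _ hmem
  rw [Set.image_image] at h1
  exact h.notMem_span_image (s := {b | b ≠ a}) (by simp) h1

theorem Cf_eq_bot (G : IntermediateField (Cf p k K) K) : Cf p G K = ⊥ := by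
  unfold Cf
  rw [eq_bot_iff, IntermediateField.adjoin_le_iff]
  rintro _ ⟨b, rfl⟩
  change b ^ p ∈ (⊥ : IntermediateField G K)
  rw [IntermediateField.mem_bot]
  obtain ⟨c, hc⟩ := hF_Cf p k K b
  exact ⟨algebraMap (Cf p k K) G c, hc⟩

theorem isPGenerating_of_span_D
    (h : Submodule.span K (Set.range fun i => KaehlerDifferential.D k K (x i)) = ⊤) :
    IsPGenerating p k x := by
  haveI := isAlgebraic_of_pow (p := p) (hF_Cf p k K)
  rw [isPGenerating_iff, pgen_iff _ (hF_Cf p k K), ← IntermediateField.adjoin_toSubalgebra,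
    ← IntermediateField.top_toSubalgebra, IntermediateField.toSubalgebra_inj]
  by_contra hne
  set G : IntermediateField (Cf p k K) K := IntermediateField.adjoin (Cf p k K) (Set.range x) with hG
  obtain ⟨y, hy⟩ : ∃ y : K, y ∉ G := by
    by_contra hall
    push Not at hall
    exact hne (eq_top_iff.2 fun y _ => hall y)
  -- `{y}` is `p`-free over `G`
  have hL : IsPIndependent p G (Subtype.val : ({y} : Set K) → K) := by
    rw [isPIndependent_val_iff]
    rintro a rfl hmem
    rw [sdiff_self, Set.bot_eq_empty, IntermediateField.adjoin_empty, IntermediateField.mem_bot] at hmem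
    obtain ⟨c, hc⟩ := hmem
    obtain ⟨w, hw, hwa⟩ : ∃ w : K, w ∈ Cf p G K ∧ w = a := ⟨c, c.2, hc⟩
    rw [Cf_eq_bot, IntermediateField.mem_bot] at hw
    obtain ⟨g, hg⟩ := hw
    apply hy
    have : a = (g : K) := by rw [← hwa]; exact hg.symm
    rw [this]
    exact g.2
  obtain ⟨B, hLB, _, hB⟩ := S2467_aux (k := G) Set.univ ({y} : Set K) (Set.subset_univ _)
    isPGenerating_univ hL
  classical
  obtain ⟨d, hd⟩ := exists_coord_derivation hB (⟨y, hLB rfl⟩ : B)
  have hdy : d y = 1 := by
    have := hd ⟨y, hLB rfl⟩
    simpa using this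
  have hdG : ∀ g : K, g ∈ G → d g = 0 := by
    intro g hg
    exact d.map_algebraMap ⟨g, hg⟩
  let D₀ : Derivation k K K :=
    { toLinearMap :=
        { toFun := d
          map_add' := map_add d
          map_smul' := by
            intro c z
            rw [Algebra.smul_def, Derivation.leibniz, RingHom.id_apply,
              hdG (algebraMap k K c) (by
                have : algebraMap k K c = algebraMap (Cf p k K) K (algebraMap k (Cf p k K) c) := rfl
                rw [this]
                exact G.algebraMap_mem _),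
              smul_zero, add_zero, smul_eq_mul, Algebra.smul_def] }
      map_one_eq_zero' := d.map_one_eq_zero
      leibniz' := d.leibniz }
  have hℓ : ∀ w ∈ Submodule.span K (Set.range fun i => KaehlerDifferential.D k K (x i)),
      D₀.liftKaehlerDifferential w = 0 := by
    intro w hw
    induction hw using Submodule.span_induction with
    | mem w hw =>
      obtain ⟨i, rfl⟩ := hw
      rw [Derivation.liftKaehlerDifferential_comp_D]
      exact hdG (x i) (IntermediateField.subset_adjoin _ _ ⟨i, rfl⟩)
    | zero => exact map_zero _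
    | add w w' _ _ hw hw' => rw [map_add, hw, hw', add_zero]
    | smul c w _ hw => rw [map_smul, hw, smul_zero]
  have := hℓ (KaehlerDifferential.D k K y) (by rw [h]; trivial)
  rw [Derivation.liftKaehlerDifferential_comp_D] at this
  have h01 : (1 : K) = 0 := hdy.symm.trans this
  exact one_ne_zero h01

theorem S2468_aux :
    (IsPIndependent p k x ↔ LinearIndependent K (fun i => KaehlerDifferential.D k K (x i))) ∧
    (IsPGenerating p k x ↔ Submodule.span K (Set.range fun i => KaehlerDifferential.D k K (x i)) = ⊤) ∧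
    (IsPBasis p k x ↔ ∃ b : Module.Basis ι K (Ω[K⁄k]), ∀ i, b i = KaehlerDifferential.D k K (x i)) := by
  have h1 : IsPIndependent p k x ↔ LinearIndependent K (fun i => KaehlerDifferential.D k K (x i)) :=
    ⟨li_D_of_isPIndependent x, isPIndependent_of_li_D x⟩
  have h2 : IsPGenerating p k x ↔
      Submodule.span K (Set.range fun i => KaehlerDifferential.D k K (x i)) = ⊤ := by
    refine ⟨fun h => ?_, isPGenerating_of_span_D x⟩
    rw [eq_top_iff, ← KaehlerDifferential.span_range_derivation k K, Submodule.span_le]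
    rintro _ ⟨b, rfl⟩
    exact der_mem_span_of_gen (A := pPowerSubalgebra p k K) h
      ((KaehlerDifferential.D k K).restrictScalars ℤ)
      (fun c => der_pPower_eq_zero (KaehlerDifferential.D k K) c.1 c.2) b
  refine ⟨h1, h2, ⟨fun h => kaehler_basis_of_pBasis h, ?_⟩⟩
  rintro ⟨b, hb⟩
  have hfun : (fun i => KaehlerDifferential.D k K (x i)) = ⇑b := funext fun i => (hb i).symm
  refine ⟨h1.2 ?_, h2.2 ?_⟩
  · rw [hfun]; exact b.linearIndependent
  · rw [hfun]; exact b.span_eq

end field3


end Groth.Agent.Lib.helper25.PBasisG
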