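import Groth.Agent.Lib.helper25.PBasisA

set_option autoImplicit false
set_option linter.unusedSectionVars false
universe u

namespace Groth.Agent.Lib.helper25.PBasisC

open EGA41 Groth.Agent.Lib.helper25.PBasisA

section perfect
variable {p : ℕ} [hp : Fact p.Prime] {A B : Type u} [CommRing A] [CharP A p] [PerfectRing A p]
  [CommRing B] [Algebra A B] [CharP B p] [IsReduced B] {ι : Type u} (x : ι → B)

/-- over a perfect base, `A[B^p] = B^p`. -/
theorem exists_pow_eq_of_mem_pPower (c : B) (hc : c ∈ pPowerSubalgebra p A B) : ∃ b : B, b ^ p = c := by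
  haveI : ExpChar B p := ExpChar.prime hp.out
  haveI : ExpChar A p := ExpChar.prime hp.out
  let S₀ : Subalgebra A B :=
    { (frobenius B p).range with
      algebraMap_mem' := by
        intro a
        obtain ⟨α, hα⟩ := surjective_frobenius A p a
        refine ⟨algebraMap A B α, ?_⟩
        rw [← hα, frobenius_def, frobenius_def, map_pow] }
  have hle : pPowerSubalgebra p A B ≤ S₀ := by
    apply Algebra.adjoin_le
    rintro _ ⟨b, rfl⟩
    exact ⟨b, rfl⟩
  obtain ⟨b, hb⟩ := hle hc
  exact ⟨b, hb⟩

/-- Frobenius as a ring isomorphism `B ≃ A[B^p]` (perfect base, reduced `B`). -/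
noncomputable def frobEquiv : B ≃+* pPowerSubalgebra p A B :=
  haveI : ExpChar B p := ExpChar.prime hp.out
  RingEquiv.ofBijective
    ((frobenius B p).codRestrict (pPowerSubalgebra p A B).toSubring
      (fun b => Algebra.subset_adjoin ⟨b, rfl⟩))
    ⟨fun b b' h => frobenius_inj B p (congrArg Subtype.val h),
     fun c => by
      obtain ⟨b, hb⟩ := exists_pow_eq_of_mem_pPower (p := p) (A := A) c.1 c.2
      exact ⟨b, Subtype.ext hb⟩⟩

theorem frobEquiv_apply (b : B) : ((frobEquiv (p := p) (A := A) b : pPowerSubalgebra p A B) : B) = b ^ p := rfl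

theorem perfect_step (hx : IsPBasis p A x)
    (E : Type u) [CommRing E] [Algebra A E] (R : Ideal E) (hR : ∀ r ∈ R, r ^ p = 0)
    (v : B →ₐ[A] E ⧸ R) (z : ι → E) (hz : ∀ i, Ideal.Quotient.mk R (z i) = v (x i)) :
    ∃! w : B →ₐ[A] E, (Ideal.Quotient.mkₐ A R).comp w = v ∧ ∀ i, w (x i) = z i := by
  rcases subsingleton_or_nontrivial E with hE | hE
  · haveI : Subsingleton (E ⧸ R) := (Ideal.Quotient.mk_surjective (I := R)).subsingleton
    let w0 : B →ₐ[A] E :=
      { toFun := fun _ => 0
        map_one' := Subsingleton.elim _ _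
        map_mul' := by intros; simp
        map_zero' := rfl
        map_add' := by intros; simp
        commutes' := fun _ => Subsingleton.elim _ _ }
    exact ⟨w0, ⟨AlgHom.ext fun b => Subsingleton.elim _ _, fun i => Subsingleton.elim _ _⟩,
      fun w' _ => AlgHom.ext fun b => Subsingleton.elim _ _⟩
  · have hpE : (p : E) = 0 := by
      rw [← map_natCast (algebraMap A E), CharP.cast_eq_zero, map_zero]
    haveI : CharP E p := (CharP.charP_iff_prime_eq_zero hp.out).2 hpE
    haveI : ExpChar E p := ExpChar.prime hp.out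
    haveI : ExpChar A p := ExpChar.prime hp.out
    let ψ : E ⧸ R →+* E := Ideal.Quotient.lift R (frobenius E p) (fun r hr => hR r hr)
    have hψ : ∀ u : E, ψ (Ideal.Quotient.mk R u) = u ^ p := fun u => rfl
    have hψ' : ∀ y : E ⧸ R, Ideal.Quotient.mk R (ψ y) = y ^ p := by
      intro y
      obtain ⟨u, rfl⟩ := Ideal.Quotient.mk_surjective y
      rw [hψ, map_pow]
    have h := PB.of_isPBasis hx
    let φ := frobEquiv (p := p) (A := A) (B := B)
    let g : pPowerSubalgebra p A B →+* E := ψ.comp (v.toRingHom.comp φ.symm.toRingHom)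
    have hg : ∀ b : B, g (φ b) = ψ (v b) := by
      intro b
      simp [g]
    have hvz : ∀ k : ι →₀ ℕ, v (pMonomial x k) = Ideal.Quotient.mk R (pMonomial z k) := by
      intro k
      have h1 := map_pMonomial x v.toRingHom k
      have h2 := map_pMonomial z (Ideal.Quotient.mk R) k
      change v (pMonomial x k) = _ at h1
      rw [h1, h2]
      congr 1
      funext i
      exact (hz i).symm
    obtain ⟨w, hw1, hw2⟩ := h.exists_ringHom g z (by
      intro k c hc
      have hc' : c = φ (pMonomial x k) := Subtype.ext hc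
      rw [hc', hg, hvz, hψ])
    have hwA : ∀ a : A, w (algebraMap A B a) = algebraMap A E a := by
      intro a
      obtain ⟨α, hα⟩ := surjective_frobenius A p a
      have h1 : algebraMap A B a = algebraMap (pPowerSubalgebra p A B) B (φ (algebraMap A B α)) := by
        rw [← hα, frobenius_def, map_pow]
        rfl
      have h2 : algebraMap A (E ⧸ R) α = Ideal.Quotient.mk R (algebraMap A E α) := rfl
      rw [h1, hw1, hg, AlgHom.commutes, h2, hψ, ← map_pow, ← frobenius_def, hα]
    let w' : B →ₐ[A] E := { w with commutes' := hwA }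
    have hmk : (Ideal.Quotient.mkₐ A R).comp w' = v := by
      have : ((Ideal.Quotient.mkₐ A R).comp w').toRingHom = v.toRingHom := by
        apply h.ringHom_ext
        · intro c
          obtain ⟨b, rfl⟩ := φ.surjective c
          change Ideal.Quotient.mk R (w (algebraMap _ B (φ b))) = v (algebraMap _ B (φ b))
          rw [hw1, hg, hψ']
          change _ = v (b ^ p)
          rw [map_pow]
        · intro i
          change Ideal.Quotient.mk R (w (x i)) = v (x i)
          rw [hw2, hz]
      ext b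
      exact RingHom.congr_fun this b
    refine ⟨w', ⟨hmk, hw2⟩, ?_⟩
    rintro w₂ ⟨h21, h22⟩
    have : w₂.toRingHom = w := by
      apply h.ringHom_ext
      · intro c
        obtain ⟨b, rfl⟩ := φ.surjective c
        rw [hw1, hg]
        change w₂ (b ^ p) = _
        rw [map_pow, ← hψ, ← Ideal.Quotient.mkₐ_eq_mk A, ← AlgHom.comp_apply, h21]
      · intro i
        change w₂ (x i) = w (x i)
        rw [h22, hw2]
    ext b
    exact RingHom.congr_fun this b

end perfect


section perfect2
variable {p : ℕ} [hp : Fact p.Prime] {A B : Type u} [CommRing A] [CharP A p] [PerfectRing A p]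
  [CommRing B] [Algebra A B] [CharP B p] [IsReduced B] {ι : Type u} (x : ι → B)

theorem perfect_lift (hx : IsPBasis p A x)
    (E : Type u) [CommRing E] [Algebra A E] (R : Ideal E) (hR : IsNilpotent R) :
    ∀ (v : B →ₐ[A] E ⧸ R) (z : ι → E), (∀ i, Ideal.Quotient.mk R (z i) = v (x i)) →
      ∃! w : B →ₐ[A] E, (Ideal.Quotient.mkₐ A R).comp w = v ∧ ∀ i, w (x i) = z i := by
  revert ‹Algebra A E›
  apply Ideal.IsNilpotent.induction_on (S := E) R hR
  · intro S _ I hI _ v z hz
    apply perfect_step x hx S I _ v z hz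
    intro r hr
    have h2 : r ^ 2 = 0 := by
      have := Ideal.pow_mem_pow hr 2
      rwa [hI] at this
    obtain ⟨m, hm⟩ := Nat.exists_eq_add_of_le hp.out.two_le
    rw [hm, pow_add, h2, zero_mul]
  · intro S _ I J hIJ h₁ h₂ _ v z hz
    let θ : ((S ⧸ I) ⧸ J.map (Ideal.Quotient.mk I)) ≃ₐ[A] S ⧸ J :=
      { (DoubleQuot.quotQuotEquivQuotSup I J).trans
          (Ideal.quotEquivOfEq (sup_eq_right.mpr hIJ)) with
        commutes' := fun x => rfl }
    have hθ : ∀ s : S, θ (Ideal.Quotient.mk _ (Ideal.Quotient.mk I s)) = Ideal.Quotient.mk J s :=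
      fun s => rfl
    have hθs : ∀ s : S, θ.symm (Ideal.Quotient.mk J s) = Ideal.Quotient.mk _ (Ideal.Quotient.mk I s) := by
      intro s
      rw [← hθ, AlgEquiv.symm_apply_apply]
    obtain ⟨w', ⟨hw'1, hw'2⟩, hw'u⟩ := h₂ (θ.symm.toAlgHom.comp v) (fun i => Ideal.Quotient.mk I (z i))
      (by
        intro i
        change _ = θ.symm (v (x i))
        rw [← hz, hθs])
    obtain ⟨w, ⟨hw1, hw2⟩, hwu⟩ := h₁ w' z (fun i => (hw'2 i).symm)
    refine ⟨w, ⟨?_, hw2⟩, ?_⟩
    · ext b
      have e1 := AlgHom.congr_fun hw1 b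
      have e2 := AlgHom.congr_fun hw'1 b
      change Ideal.Quotient.mk I (w b) = w' b at e1
      change Ideal.Quotient.mk _ (w' b) = θ.symm (v b) at e2
      change Ideal.Quotient.mk J (w b) = v b
      rw [← hθ, e1, e2, AlgEquiv.apply_symm_apply]
    · rintro w₂ ⟨h21, h22⟩
      apply hwu
      refine ⟨?_, h22⟩
      apply hw'u
      refine ⟨?_, fun i => ?_⟩
      · ext b
        have e1 := AlgHom.congr_fun h21 b
        change Ideal.Quotient.mk J (w₂ b) = v b at e1
        change Ideal.Quotient.mk _ (Ideal.Quotient.mk I (w₂ b)) = θ.symm (v b)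
        rw [← e1, hθs]
      · change Ideal.Quotient.mk I (w₂ (x i)) = _
        rw [h22]

theorem S4541_aux (hx : IsPBasis p A x) :
    Algebra.FormallySmooth A B ∧
    ∀ (E : Type u) [CommRing E] [Algebra A E] (R : Ideal E), IsNilpotent R →
      ∀ (v : B →ₐ[A] E ⧸ R) (z : ι → E), (∀ i, Ideal.Quotient.mk R (z i) = v (x i)) →
        ∃! w : B →ₐ[A] E, (Ideal.Quotient.mkₐ A R).comp w = v ∧ ∀ i, w (x i) = z i := by
  refine ⟨?_, fun E _ _ R hR => perfect_lift x hx E R hR⟩
  apply Algebra.FormallySmooth.of_comp_surjective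
  intro E _ _ I hI v
  choose z hz using fun i => Ideal.Quotient.mk_surjective (v (x i))
  obtain ⟨w, ⟨hw, _⟩, _⟩ := perfect_lift x hx E I ⟨2, hI⟩ v z hz
  exact ⟨w, hw⟩

end perfect2


end Groth.Agent.Lib.helper25.PBasisC
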