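import Mathlib
import Groth.Agent.Lib.helper25.PBasisG

set_option autoImplicit false
set_option linter.unusedSectionVars false
universe u

namespace Groth.Agent.Lib.helper25.PBasisI

open EGA41 Groth.Agent.Lib.helper25.PBasisA Groth.Agent.Lib.helper25.PBasisF
  Groth.Agent.Lib.helper25.PBasisG
open scoped IntermediateField

section coeff
variable {k₀ K : Type u} [Field k₀] [Field K] [Algebra k₀ K] {E : Type*}

/-- `K`-valued formulation of linear independence on `S` over a subfield `G`. -/
def LIOn (G : IntermediateField k₀ K) (v : E → K) (S : Set E) : Prop :=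
  ∀ c : E →₀ K, (↑c.support ⊆ S) → (∀ e, c e ∈ G) → (c.sum fun e a => a * v e) = 0 → c = 0

/-- `K`-valued formulation of membership in the `G`-span of `v '' S`. -/
def InSpan (G : IntermediateField k₀ K) (v : E → K) (S : Set E) (y : K) : Prop :=
  ∃ c : E →₀ K, (↑c.support ⊆ S) ∧ (∀ e, c e ∈ G) ∧ (c.sum fun e a => a * v e) = y

open Classical in
/-- restrict a `K`-valued coefficient vector to a subfield (junk value `0` outside). -/
noncomputable def toSub (G : IntermediateField k₀ K) (c : E →₀ K) : E →₀ ↥G :=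
  c.mapRange (fun a => if h : a ∈ G then (⟨a, h⟩ : ↥G) else 0) (by rw [dif_pos G.zero_mem]; rfl)

/-- forget that coefficients lie in the subfield. -/
noncomputable def ofSub (G : IntermediateField k₀ K) (l : E →₀ ↥G) : E →₀ K :=
  l.mapRange (fun a : ↥G => (a : K)) rfl

theorem ofSub_mem (G : IntermediateField k₀ K) (l : E →₀ ↥G) (e : E) : ofSub G l e ∈ G := by
  simp [ofSub]

theorem ofSub_toSub (G : IntermediateField k₀ K) (c : E →₀ K) (h : ∀ e, c e ∈ G) :
    ofSub G (toSub G c) = c := by
  ext e
  simp [ofSub, toSub, h e]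

theorem support_ofSub (G : IntermediateField k₀ K) (l : E →₀ ↥G) :
    (ofSub G l).support = l.support := by
  ext e
  simp [ofSub]

theorem support_toSub (G : IntermediateField k₀ K) (c : E →₀ K) (h : ∀ e, c e ∈ G) :
    (toSub G c).support = c.support := by
  rw [← support_ofSub, ofSub_toSub G c h]

theorem sum_ofSub (G : IntermediateField k₀ K) (v : E → K) (l : E →₀ ↥G) :
    ((ofSub G l).sum fun e a => a * v e) = Finsupp.linearCombination ↥G v l := by
  rw [ofSub, Finsupp.sum_mapRange_index (by simp), Finsupp.linearCombination_apply]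
  refine Finsupp.sum_congr fun e _ => ?_
  rw [IntermediateField.smul_def, smul_eq_mul]

theorem liOn_iff (G : IntermediateField k₀ K) (v : E → K) (S : Set E) :
    LinearIndepOn ↥G v S ↔ LIOn G v S := by
  rw [linearIndepOn_iff]
  constructor
  · intro h c hc hG hsum
    have h1 := h (toSub G c) (by
      rw [Finsupp.mem_supported, support_toSub G c hG]; exact hc) (by
      rw [← sum_ofSub, ofSub_toSub G c hG, hsum])
    rw [← ofSub_toSub G c hG, h1]
    simp [ofSub]
  · intro h l hl hsum
    have h1 := h (ofSub G l) (by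
      rw [support_ofSub]; exact (Finsupp.mem_supported _ _).1 hl) (ofSub_mem G l) (by
      rw [sum_ofSub, hsum])
    ext e
    have := DFunLike.congr_fun h1 e
    simpa [ofSub] using this

theorem mem_span_iff (G : IntermediateField k₀ K) (v : E → K) (S : Set E) (y : K) :
    y ∈ Submodule.span ↥G (v '' S) ↔ InSpan G v S y := by
  rw [Finsupp.mem_span_image_iff_linearCombination]
  constructor
  · rintro ⟨l, hl, rfl⟩
    exact ⟨ofSub G l, by rw [support_ofSub]; exact (Finsupp.mem_supported _ _).1 hl,
      ofSub_mem G l, sum_ofSub G v l⟩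
  · rintro ⟨c, hc, hG, rfl⟩
    refine ⟨toSub G c, by rw [Finsupp.mem_supported, support_toSub G c hG]; exact hc, ?_⟩
    rw [← sum_ofSub, ofSub_toSub G c hG]

theorem LIOn.mono_field {G G' : IntermediateField k₀ K} (h : G' ≤ G) {v : E → K} {S : Set E}
    (hli : LIOn G v S) : LIOn G' v S :=
  fun c hc hG' hsum => hli c hc (fun e => h (hG' e)) hsum

theorem InSpan.mono_field {G G' : IntermediateField k₀ K} (h : G' ≤ G) {v : E → K} {S : Set E}
    {y : K} (hy : InSpan G' v S y) : InSpan G v S y := by
  obtain ⟨c, hc, hG', hsum⟩ := hy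
  exact ⟨c, hc, fun e => h (hG' e), hsum⟩

/-- Intersection commutes with spans of families independent over a member of a directed antitone
family of subfields. -/
theorem inSpan_iInf {ι : Type*} [Preorder ι] [IsDirected ι (· ≤ ·)] [Nonempty ι]
    (G : ι → IntermediateField k₀ K) (hG : Antitone G) (v : E → K) (S : Set E) (i₁ : ι)
    (hli : LIOn (G i₁) v S) (y : K) (hy : ∀ i, InSpan (G i) v S y) :
    InSpan (⨅ i, G i) v S y := by
  classical
  obtain ⟨c₁, hc₁, hG₁, hsum₁⟩ := hy i₁
  refine ⟨c₁, hc₁, fun e => ?_, hsum₁⟩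
  rw [← SetLike.mem_coe, IntermediateField.coe_iInf, Set.mem_iInter]
  intro i'
  obtain ⟨j, hj₁, hj'⟩ := exists_ge_ge i₁ i'
  obtain ⟨cj, hcj, hGj, hsumj⟩ := hy j
  have hsub : c₁ - cj = 0 := by
    apply hli (c₁ - cj)
    · intro e he
      have := Finsupp.support_sub he
      rcases Finset.mem_union.1 this with h | h
      · exact hc₁ h
      · exact hcj h
    · intro e
      rw [Finsupp.sub_apply]
      exact sub_mem (hG₁ e) (hG hj₁ (hGj e))
    · rw [Finsupp.sum_sub_index (by intro e a b; ring), hsum₁, hsumj, sub_self]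
  have hc : c₁ = cj := sub_eq_zero.1 hsub
  rw [hc]
  exact hG hj' (hGj e)

end coeff


section descend
variable {p : ℕ} [hp : Fact p.Prime] {k₀ K : Type u} [Field k₀] [Field K] [Algebra k₀ K] [CharP K p]
  {J : Type u} (x : J → K)

theorem LIOn.mono_set {E : Type*} {G : IntermediateField k₀ K} {v : E → K} {S S' : Set E}
    (h : S' ⊆ S) (hli : LIOn G v S) : LIOn G v S' :=
  fun c hc hG hsum => hli c (hc.trans h) hG hsum

theorem linearIndepOn_MT_empty (F : Type u) [Field F] [Algebra F K] :
    LinearIndepOn F (mon (p := p) x) (MT p ((∅ : Finset J) : Set J)) := by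
  have : MT p ((∅ : Finset J) : Set J) = {(⟨0, fun _ => hp.out.pos⟩ : Ered p J)} := by
    ext e
    simp only [MT, Finset.coe_empty, Set.mem_empty_iff_false, not_false_eq_true, forall_const,
      Set.mem_ofPred_eq, Set.mem_singleton_iff]
    constructor
    · intro he
      apply Subtype.ext
      ext i
      exact he i
    · rintro rfl i
      rfl
  rw [this, linearIndepOn_singleton_iff]
  unfold mon
  rw [pMonomial_zero]
  exact one_ne_zero

theorem hF_of_pow (G : IntermediateField k₀ K) (h : ∀ b : K, b ^ p ∈ G) :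
    ∀ b : K, b ^ p ∈ Set.range (algebraMap ↥G K) :=
  fun b => ⟨⟨b ^ p, h b⟩, rfl⟩

theorem mem_adjoin_iff_inSpan (G : IntermediateField k₀ K) (h : ∀ b : K, b ^ p ∈ G) (T : Set J)
    (y : K) : y ∈ Algebra.adjoin ↥G (x '' T) ↔ InSpan G (mon (p := p) x) (MT p T) y := by
  rw [← mem_span_iff, ← adjoin_eq_span x (hF_of_pow G h) T]
  rfl

variable {ι : Type*} [Preorder ι] [IsDirected ι (· ≤ ·)] [Nonempty ι]
  (G : ι → IntermediateField k₀ K) (hG : Antitone G) (hpow : ∀ i (b : K), b ^ p ∈ G i)

include hG hpow in
theorem exists_liOn_finset (T : Finset J)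
    (h : LIOn (⨅ i, G i) (mon (p := p) x) (MT p (T : Set J))) :
    ∃ i, LIOn (G i) (mon (p := p) x) (MT p (T : Set J)) := by
  classical
  have hpowInf : ∀ b : K, b ^ p ∈ ⨅ i, G i := by
    intro b
    rw [← SetLike.mem_coe, IntermediateField.coe_iInf, Set.mem_iInter]
    exact fun i => hpow i b
  induction T using Finset.induction_on with
  | empty =>
    obtain ⟨i⟩ := ‹Nonempty ι›
    exact ⟨i, (liOn_iff _ _ _).1 (linearIndepOn_MT_empty x ↥(G i))⟩
  | insert a T haT ih =>
    have haT' : a ∉ (T : Set J) := by simpa using haT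
    rw [Finset.coe_insert] at h ⊢
    have hT : LIOn (⨅ i, G i) (mon (p := p) x) (MT p (T : Set J)) :=
      h.mono_set (MT_mono (Set.subset_insert a _))
    obtain ⟨i₁, hi₁⟩ := ih hT
    -- `x a` is not in the span over the intersection
    have hxa : ¬ InSpan (⨅ i, G i) (mon (p := p) x) (MT p (T : Set J)) (x a) := by
      intro hin
      rw [← mem_span_iff, ← mon_eps (p := p) x a] at hin
      have hli : LinearIndepOn ↥(⨅ i, G i) (mon (p := p) x) (MT p (T : Set J)) :=
        (liOn_iff _ _ _).2 hT
      have hli' : LinearIndepOn ↥(⨅ i, G i) (mon (p := p) x)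
          (insert (eps p a) (MT p (T : Set J))) := by
        refine ((liOn_iff _ _ _).2 h).mono ?_
        intro e he
        rcases he with rfl | he
        · intro j hj
          simp only [eps]
          rw [Finsupp.single_apply, if_neg]
          rintro rfl
          exact hj (Set.mem_insert _ _)
        · exact MT_mono (Set.subset_insert a _) he
      have := (hli.mem_span_iff (a := eps p a)).1 hin hli'
      have h1 := this a haT'
      simp [eps] at h1
    have : ¬ ∀ i, InSpan (G i) (mon (p := p) x) (MT p (T : Set J)) (x a) :=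
      fun hall => hxa (inSpan_iInf G hG _ _ i₁ hi₁ _ hall)
    push Not at this
    obtain ⟨i₂, hi₂⟩ := this
    obtain ⟨j, hj₁, hj₂⟩ := exists_ge_ge i₁ i₂
    refine ⟨j, (liOn_iff _ _ _).1 ?_⟩
    refine pind_insert x (hF_of_pow (G j) (hpow j)) _ a haT'
      ((liOn_iff _ _ _).2 (hi₁.mono_field (hG hj₁))) ?_
    intro hmem
    rw [mem_adjoin_iff_inSpan x (G j) (hpow j)] at hmem
    exact hi₂ (hmem.mono_field (hG hj₂))

include hG hpow in
theorem exists_linearIndependent [Finite J]
    (h : LinearIndependent ↥(⨅ i, G i) (mon (p := p) x)) :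
    ∃ i, LinearIndependent ↥(G i) (mon (p := p) x) := by
  classical
  cases nonempty_fintype J
  have hMT : MT p ((Finset.univ : Finset J) : Set J) = Set.univ := by
    ext e
    simp [MT]
  have h' : LIOn (⨅ i, G i) (mon (p := p) x) (MT p ((Finset.univ : Finset J) : Set J)) := by
    rw [hMT, ← liOn_iff, linearIndepOn_univ_iff]
    exact h
  obtain ⟨i, hi⟩ := exists_liOn_finset x G hG hpow Finset.univ h'
  refine ⟨i, ?_⟩
  rw [hMT, ← liOn_iff, linearIndepOn_univ_iff] at hi
  exact hi

end descend



section main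
variable (p : ℕ) [hp : Fact p.Prime] {k₀ K : Type u} [Field k₀] [Field K] [Algebra k₀ K] [CharP K p]

theorem mem_sup_iff (L : IntermediateField k₀ K) (y : K) :
    y ∈ L ⊔ IntermediateField.adjoin k₀ (Set.range fun y : K => y ^ p) ↔ y ∈ Cf p ↥L K := by
  rw [← IntermediateField.restrictScalars_adjoin_eq_sup, IntermediateField.mem_restrictScalars]
  rfl

theorem pow_mem_sup (L : IntermediateField k₀ K) (b : K) :
    b ^ p ∈ L ⊔ IntermediateField.adjoin k₀ (Set.range fun y : K => y ^ p) :=
  (le_sup_right : _ ≤ L ⊔ _) (IntermediateField.subset_adjoin _ _ ⟨b, rfl⟩)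

theorem D_eq_zero_of_mem (L : IntermediateField k₀ K) (y : K)
    (hy : y ∈ L ⊔ IntermediateField.adjoin k₀ (Set.range fun y : K => y ^ p)) :
    KaehlerDifferential.D ↥L K y = 0 := by
  rw [mem_sup_iff] at hy
  have h1 : y ∈ Algebra.adjoin (Cf p ↥L K) (∅ : Set K) := by
    rw [Algebra.adjoin_empty]
    exact ⟨⟨y, hy⟩, rfl⟩
  have := D_mem_span_of_mem_adjoin (p := p) (k := ↥L) (K := K) ∅ y h1
  simpa using this

theorem isPIndependent_of_li_sup (L : IntermediateField k₀ K) {J : Type u} (x : J → K)
    (h : LinearIndependent ↥(L ⊔ IntermediateField.adjoin k₀ (Set.range fun y : K => y ^ p))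
      (mon (p := p) x)) :
    IsPIndependent p ↥L x := by
  rw [isPIndependent_iff]
  exact li_transfer (R := ↥(Cf p ↥L K))
    (R' := ↥(L ⊔ IntermediateField.adjoin k₀ (Set.range fun y : K => y ^ p)))
    (fun c => ⟨c.1, (mem_sup_iff p L c.1).2 c.2⟩)
    (fun r hr => Subtype.ext (by
      have h1 : ((⟨r.1, (mem_sup_iff p L r.1).2 r.2⟩ : ↥(L ⊔ IntermediateField.adjoin k₀ (Set.range fun y : K => y ^ p))) : K) = 0 := by rw [hr]; rfl
      exact h1)) (fun r m => rfl) h

theorem mem_of_D_eq_zero (y : K) (hy : KaehlerDifferential.D k₀ K y = 0) :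
    y ∈ IntermediateField.adjoin k₀ (Set.range fun y : K => y ^ p) := by
  by_contra hmem
  have hind : IsPIndependent p k₀ (fun _ : PUnit.{u+1} => y) := by
    rw [S4521_aux]
    intro a hin
    apply hmem
    refine IntermediateField.adjoin.mono k₀ _ _ ?_ hin
    rintro z (hz | ⟨b, hb, -⟩)
    · exact hz
    · exact absurd (Subsingleton.elim b a) hb
  have := (li_D_of_isPIndependent (p := p) _ hind).ne_zero PUnit.unit
  exact this hy

end main



section final
variable (p : ℕ) [hp : Fact p.Prime] {k₀ K : Type u} [Field k₀] [Field K] [Algebra k₀ K] [CharP K p]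

theorem S2475_aux {ι : Type u} [Preorder ι] [IsDirected ι (· ≤ ·)] [Nonempty ι]
    (k : ι → IntermediateField k₀ K) (hk : Antitone k) :
    (⨅ i, k i ⊔ IntermediateField.adjoin k₀ (Set.range fun y : K => y ^ p)) =
        IntermediateField.adjoin k₀ (Set.range fun y : K => y ^ p) ↔
      ∀ ω : Ω[K⁄k₀], (∀ i, KaehlerDifferential.map k₀ (k i) K K ω = 0) → ω = 0 := by
  classical
  constructor
  · intro hL ω hω
    have hempty : IsPIndependent p k₀ (Subtype.val : ↥(∅ : Set K) → K) := by
      rw [S4521_aux]
      intro a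
      exact absurd a.2 (Set.notMem_empty _)
    obtain ⟨B, -, -, hB⟩ := S2467_aux (p := p) (k := k₀) (K := K) Set.univ ∅ (Set.empty_subset _)
      isPGenerating_univ hempty
    obtain ⟨b, hb⟩ := (S2468_aux (p := p) (k := k₀) (x := (Subtype.val : B → K))).2.2.1 hB
    have hliB : LinearIndependent K (fun β : B => KaehlerDifferential.D k₀ K (β : K)) :=
      (S2468_aux (p := p) (k := k₀) (x := (Subtype.val : B → K))).1.1 hB.1
    set c := b.repr ω with hc
    let S : Finset ↥B := c.support
    let x : ↥S → K := fun s => ((s : ↥B) : K)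
    have hx : IsPIndependent p k₀ x :=
      (S2468_aux (p := p) (k := k₀) (x := x)).1.2
        (hliB.comp (Subtype.val : ↥S → ↥B) Subtype.val_injective)
    have h1 : LinearIndependent
        ↥(IntermediateField.adjoin k₀ (Set.range fun y : K => y ^ p)) (mon (p := p) x) :=
      (isPIndependent_iff x).1 hx
    rw [← hL] at h1
    obtain ⟨i, hi⟩ := exists_linearIndependent x
      (fun i => k i ⊔ IntermediateField.adjoin k₀ (Set.range fun y : K => y ^ p))
      (fun a b hab => sup_le_sup_right (hk hab) _) (fun i b => pow_mem_sup p (k i) b) h1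
    have hli : LinearIndependent K (fun s : ↥S => KaehlerDifferential.D ↥(k i) K (x s)) :=
      li_D_of_isPIndependent (p := p) x (isPIndependent_of_li_sup p (k i) x hi)
    have hω' : ω = ∑ β ∈ S, c β • KaehlerDifferential.D k₀ K (β : K) := by
      conv_lhs => rw [← b.linearCombination_repr ω, Finsupp.linearCombination_apply, Finsupp.sum]
      refine Finset.sum_congr rfl fun β _ => ?_
      rw [hb]
    have hmap : ∑ s : ↥S, c (s : ↥B) • KaehlerDifferential.D ↥(k i) K (x s) = 0 := by
      have := hω i
      rw [hω', map_sum] at this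
      simp only [map_smul, KaehlerDifferential.map_D] at this
      rw [← this, ← Finset.sum_coe_sort S]
      rfl
    have hzero := Fintype.linearIndependent_iff.1 hli (fun s => c (s : ↥B)) hmap
    have hS : S = ∅ := by
      rw [Finset.eq_empty_iff_forall_notMem]
      intro β hβ
      exact (Finsupp.mem_support_iff.1 hβ) (hzero ⟨β, hβ⟩)
    have hc0 : c = 0 := Finsupp.support_eq_empty.1 hS
    exact (LinearEquiv.map_eq_zero_iff b.repr).1 hc0
  · intro hR
    apply le_antisymm
    · intro y hy
      rw [← SetLike.mem_coe, IntermediateField.coe_iInf, Set.mem_iInter] at hy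
      apply mem_of_D_eq_zero p y
      apply hR
      intro i
      rw [KaehlerDifferential.map_D]
      exact D_eq_zero_of_mem p (k i) y (hy i)
    · exact le_iInf fun i => le_sup_right

end final


end Groth.Agent.Lib.helper25.PBasisI
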