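import Mathlib
import Groth.Agent.Lib.helper25.PBasisI

set_option autoImplicit false
set_option linter.unusedSectionVars false
universe u

namespace Groth.Agent.Lib.helper25.Adm

open EGA41 Groth.Agent.Lib.helper25.PBasisA Groth.Agent.Lib.helper25.PBasisF
  Groth.Agent.Lib.helper25.PBasisG Groth.Agent.Lib.helper25.PBasisI
open scoped IntermediateField TensorProduct

section
variable (p : ℕ) [hp : Fact p.Prime] {k₀ K : Type u} [Field k₀] [Field K] [Algebra k₀ K] [CharP K p]

/-- the subfield `k₀(K^p)(U)`. -/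
noncomputable def kU (U : Set K) : IntermediateField k₀ K :=
  IntermediateField.adjoin k₀ ((Set.range fun y : K => y ^ p) ∪ U)

theorem pow_mem_kU (U : Set K) (y : K) : y ^ p ∈ kU (k₀ := k₀) p U :=
  IntermediateField.subset_adjoin _ _ (Or.inl ⟨y, rfl⟩)

theorem restrictScalars_adjoin_kU (U T : Set K) :
    (IntermediateField.adjoin ↥(kU (k₀ := k₀) p U) T).restrictScalars k₀ =
      IntermediateField.adjoin k₀ (((Set.range fun y : K => y ^ p) ∪ U) ∪ T) :=
  IntermediateField.adjoin_adjoin_left k₀ _ T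

/-- existence of a p-basis as a set, with differentials a basis. -/
theorem exists_pbasis_with_basis :
    ∃ (B : Set K), IsPBasis p k₀ (Subtype.val : B → K) ∧
      ∃ b : Module.Basis B K (Ω[K⁄k₀]), ∀ i, b i = KaehlerDifferential.D k₀ K (i : K) := by
  have hempty : IsPIndependent p k₀ (Subtype.val : ↥(∅ : Set K) → K) := by
    rw [S4521_aux]
    intro a
    exact absurd a.2 (Set.notMem_empty _)
  obtain ⟨B, -, -, hB⟩ := S2467_aux (p := p) (k := k₀) (K := K) Set.univ ∅ (Set.empty_subset _)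
    isPGenerating_univ hempty
  exact ⟨B, hB, (S2468_aux (p := p) (k := k₀) (x := (Subtype.val : B → K))).2.2.1 hB⟩

/-- a subset `B₀` of a `p`-basis `B` over `k₀` is `p`-independent over `k₀(K^p)(B \ B₀)`. -/
theorem isPIndependent_over_kU (B B₀ : Set K) (hB₀ : B₀ ⊆ B)
    (hB : IsPIndependent p k₀ (Subtype.val : B → K)) :
    IsPIndependent p ↥(kU (k₀ := k₀) p (B \ B₀)) (Subtype.val : B₀ → K) := by
  rw [S4521_aux] at hB ⊢
  intro a hmem
  apply hB ⟨a.1, hB₀ a.2⟩
  have h1 : (a : K) ∈ (IntermediateField.adjoin ↥(kU (k₀ := k₀) p (B \ B₀))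
      ((Set.range fun y : K => y ^ p) ∪ Subtype.val '' {b : B₀ | b ≠ a})).restrictScalars k₀ := hmem
  rw [restrictScalars_adjoin_kU] at h1
  refine IntermediateField.adjoin.mono k₀ _ _ ?_ h1
  rintro y ((hy | hy) | (hy | hy))
  · exact Or.inl hy
  · exact Or.inr ⟨⟨y, hy.1⟩, fun h => hy.2 (by
      have h' : y = (a : K) := congrArg Subtype.val h
      rw [h']; exact a.2), rfl⟩
  · exact Or.inl hy
  · obtain ⟨b, hb, rfl⟩ := hy
    exact Or.inr ⟨⟨b.1, hB₀ b.2⟩, fun h => hb (Subtype.ext (by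
      have h' : ((⟨b.1, hB₀ b.2⟩ : B) : K) = ((⟨a.1, hB₀ a.2⟩ : B) : K) := congrArg Subtype.val h
      exact h')), rfl⟩

theorem finite_over_kU (B B₀ : Set K) (hB₀ : B₀ ⊆ B) (hfin : B₀.Finite)
    (hB : IsPGenerating p k₀ (Subtype.val : B → K)) :
    Module.Finite ↥(kU (k₀ := k₀) p (B \ B₀)) K := by
  have h1 : IntermediateField.adjoin ↥(kU (k₀ := k₀) p (B \ B₀)) B₀ = ⊤ := by
    have h2 : (IntermediateField.adjoin ↥(kU (k₀ := k₀) p (B \ B₀)) B₀).restrictScalars k₀ = ⊤ := by
      rw [restrictScalars_adjoin_kU]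
      rw [isPGenerating_val_iff] at hB
      have h3 := congrArg (IntermediateField.restrictScalars k₀) hB
      rw [adjoin_Cf_eq] at h3
      rw [eq_top_iff]
      have h4 : (IntermediateField.restrictScalars k₀ (⊤ : IntermediateField ↥(Cf p k₀ K) K)) = ⊤ := rfl
      rw [h4] at h3
      rw [← h3]
      refine IntermediateField.adjoin.mono k₀ _ _ ?_
      rintro y (hy | hy)
      · exact Or.inl (Or.inl hy)
      · by_cases hy0 : y ∈ B₀
        · exact Or.inr hy0
        · exact Or.inl (Or.inr ⟨hy, hy0⟩)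
    rw [eq_top_iff]
    intro y _
    have : y ∈ (IntermediateField.adjoin ↥(kU (k₀ := k₀) p (B \ B₀)) B₀).restrictScalars k₀ := by
      rw [h2]; trivial
    exact this
  haveI : Finite B₀ := hfin
  have h5 : FiniteDimensional ↥(kU (k₀ := k₀) p (B \ B₀))
      ↥(IntermediateField.adjoin ↥(kU (k₀ := k₀) p (B \ B₀)) B₀) := by
    apply IntermediateField.finiteDimensional_adjoin
    intro y _
    refine ⟨Polynomial.X ^ p - Polynomial.C (⟨y ^ p, pow_mem_kU p _ y⟩ : ↥(kU (k₀ := k₀) p (B \ B₀))),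
      Polynomial.monic_X_pow_sub_C _ hp.out.ne_zero, ?_⟩
    simp
  rw [h1] at h5
  exact Module.Finite.equiv (IntermediateField.topEquiv (F := ↥(kU (k₀ := k₀) p (B \ B₀))) (E := K)).toLinearEquiv

end


section main
variable (p : ℕ) [hp : Fact p.Prime] {k₀ K L : Type u} [Field k₀] [Field K] [Field L]
    [Algebra k₀ K] [Algebra K L] [Algebra k₀ L] [IsScalarTower k₀ K L] [CharP K p]

/-- a finitely generated `L`-subspace of `L ⊗ Ω_{K/k₀}` is injected into `L ⊗ Ω_{K/k}`
for a suitable subfield `k ⊇ k₀(K^p)` of finite codegree. -/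
theorem exists_admissible (Υ : Submodule L (L ⊗[K] Ω[K⁄k₀])) (hΥ : Υ.FG) :
    ∃ k : IntermediateField k₀ K, (∀ y : K, y ^ p ∈ k) ∧ Module.Finite k K ∧
      ∀ ω ∈ Υ, ((KaehlerDifferential.map k₀ k K K).restrictScalars K).baseChange L ω = 0 → ω = 0 := by
  classical
  obtain ⟨B, hB, bΩ, hbΩ⟩ := exists_pbasis_with_basis (k₀ := k₀) (K := K) p
  let bL : Module.Basis B L (L ⊗[K] Ω[K⁄k₀]) := bΩ.baseChange L
  obtain ⟨G, hG⟩ := hΥ
  let S : Finset B := G.biUnion (fun g => (bL.repr g).support)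
  let B₀ : Set K := Subtype.val '' (S : Set B)
  have hB₀ : B₀ ⊆ B := by
    rintro _ ⟨b, -, rfl⟩
    exact b.2
  have hfin : B₀.Finite := (Finset.finite_toSet S).image _
  have hΥle : Υ ≤ Submodule.span L (bL '' (S : Set B)) := by
    rw [← hG, Submodule.span_le]
    intro g hg
    have h1 := bL.mem_span_repr_support g
    refine Submodule.span_mono ?_ h1
    apply Set.image_mono
    intro b hb
    exact Finset.mem_biUnion.2 ⟨g, hg, hb⟩
  refine ⟨kU p (B \ B₀), pow_mem_kU p _, finite_over_kU p B B₀ hB₀ hfin hB.2, ?_⟩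
  have hind := isPIndependent_over_kU p B B₀ hB₀ hB.1
  have hli := li_D_of_isPIndependent (p := p) (k := ↥(kU (k₀ := k₀) p (B \ B₀))) _ hind
  have hliL : LinearIndependent L (fun b : B₀ =>
      (1 : L) ⊗ₜ[K] KaehlerDifferential.D ↥(kU (k₀ := k₀) p (B \ B₀)) K (b : K)) :=
    Module.Flat.linearIndependent_one_tmul hli
  set ψ := ((KaehlerDifferential.map k₀ ↥(kU (k₀ := k₀) p (B \ B₀)) K K).restrictScalars K).baseChange L
    with hψ
  intro ω hω hψω
  have h2 := hΥle hω
  rw [Finsupp.mem_span_image_iff_linearCombination] at h2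
  obtain ⟨c, hc, rfl⟩ := h2
  rw [Finsupp.mem_supported] at hc
  -- compute ψ on the basis
  have hψb : ∀ b : B, ψ (bL b) = (1 : L) ⊗ₜ[K] KaehlerDifferential.D ↥(kU (k₀ := k₀) p (B \ B₀)) K (b : K) := by
    intro b
    rw [hψ, Module.Basis.baseChange_apply, LinearMap.baseChange_tmul, hbΩ]
    congr 1
    change KaehlerDifferential.map k₀ ↥(kU (k₀ := k₀) p (B \ B₀)) K K (KaehlerDifferential.D k₀ K (b : K)) = _
    rw [KaehlerDifferential.map_D, Algebra.algebraMap_self, RingHom.id_apply]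
  rw [Finsupp.linearCombination_apply, Finsupp.sum, map_sum] at hψω
  simp only [map_smul, hψb] at hψω
  -- reindex to B₀
  have hmemB₀ : ∀ b ∈ c.support, (b : K) ∈ B₀ := fun b hb => ⟨b, hc hb, rfl⟩
  have h3 : ∑ b ∈ c.support.attach, c b.1 • ((1 : L) ⊗ₜ[K]
      KaehlerDifferential.D ↥(kU (k₀ := k₀) p (B \ B₀)) K ((b.1 : B) : K)) = 0 := by
    rw [Finset.sum_attach c.support (fun b => c b • ((1 : L) ⊗ₜ[K]
      KaehlerDifferential.D ↥(kU (k₀ := k₀) p (B \ B₀)) K ((b : B) : K)))]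
    exact hψω
  let f : {b // b ∈ c.support} → B₀ := fun b => ⟨(b.1 : K), hmemB₀ b.1 b.2⟩
  have hf : Function.Injective f := by
    intro b b' h
    apply Subtype.ext
    apply Subtype.ext
    exact congrArg (fun z : B₀ => (z : K)) h
  have h4 := (hliL.comp f hf)
  rw [linearIndependent_iff'] at h4
  have h5 := h4 c.support.attach (fun b => c b.1) h3
  have h6 : c = 0 := by
    ext b
    by_cases hb : b ∈ c.support
    · exact h5 ⟨b, hb⟩ (Finset.mem_attach _ _)
    · exact Finsupp.notMem_support_iff.1 hb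
  rw [h6, map_zero]

theorem S4549_aux [Module.Finite L (EGA41.imperfection k₀ K L)] :
    ∃ k : IntermediateField k₀ K, (∀ y : K, y ^ p ∈ k) ∧ Module.Finite k K ∧
      ∀ ω ∈ EGA41.imperfection k₀ K L,
        ((KaehlerDifferential.map k₀ k K K).restrictScalars K).baseChange L ω = 0 → ω = 0 :=
  exists_admissible p (EGA41.imperfection k₀ K L) (Module.Finite.iff_fg.1 inferInstance)

end main

end Groth.Agent.Lib.helper25.Adm
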