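import Mathlib
import Groth.Agent.Lib.helper25.PBasisI

set_option autoImplicit false
set_option linter.unusedSectionVars false
universe u

namespace Groth.Agent.Lib.helper25.PthRoot

open EGA41 Groth.Agent.Lib.helper25.PBasisA Groth.Agent.Lib.helper25.PBasisF
  Groth.Agent.Lib.helper25.PBasisG Groth.Agent.Lib.helper25.PBasisI
open scoped IntermediateField TensorProduct

/-- core: a differential vanishing over `K^p` forces a `p`-th root. -/
theorem exists_pow_of_D_fieldRange (p : ℕ) [hp : Fact p.Prime] {K : Type u} [Field K] [CharP K p] (y : K)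
    (hy : KaehlerDifferential.D ↥((frobenius K p).fieldRange) K y = 0) : ∃ b : K, b ^ p = y := by
  have h1 := mem_of_D_eq_zero p (k₀ := ↥((frobenius K p).fieldRange)) y hy
  have h2 : IntermediateField.adjoin ↥((frobenius K p).fieldRange) (Set.range fun y : K => y ^ p) ≤ ⊥ := by
    rw [IntermediateField.adjoin_le_iff]
    rintro _ ⟨b, rfl⟩
    rw [SetLike.mem_coe, IntermediateField.mem_bot]
    exact ⟨⟨b ^ p, ⟨b, rfl⟩⟩, rfl⟩
  have h3 := h2 h1
  rw [IntermediateField.mem_bot] at h3
  obtain ⟨⟨c, b, hb⟩, rfl⟩ := h3
  exact ⟨b, hb⟩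

/-- over a perfect base field: `da = 0` forces a `p`-th root. -/
theorem exists_pow_of_D_eq_zero_of_perfect {k K : Type u} [Field k] [Field K] [Algebra k K] (p : ℕ)
    [hp : Fact p.Prime] [CharP k p] [PerfectRing k p] (a : K)
    (ha : KaehlerDifferential.D k K a = 0) : ∃ b : K, b ^ p = a := by
  have : CharP K p := charP_of_injective_algebraMap (algebraMap k K).injective p
  let f : k →+* ↥((frobenius K p).fieldRange) := (algebraMap k K).codRestrict _ (fun c => by
    obtain ⟨d, hd⟩ := (PerfectRing.bijective_frobenius (R := k) (p := p)).2 c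
    refine ⟨algebraMap k K d, ?_⟩
    rw [← hd, frobenius_def]
    exact (map_pow (algebraMap k K) d p).symm)
  letI : Algebra k ↥((frobenius K p).fieldRange) := f.toAlgebra
  have : IsScalarTower k ↥((frobenius K p).fieldRange) K := IsScalarTower.of_algebraMap_eq (fun x => rfl)
  apply exists_pow_of_D_fieldRange p a
  have := congrArg (KaehlerDifferential.map k ↥((frobenius K p).fieldRange) K K) ha
  rwa [KaehlerDifferential.map_D, map_zero, Algebra.algebraMap_self, RingHom.id_apply] at this

/-- absolute version. -/
theorem exists_pow_of_D_int_eq_zero (p : ℕ) [hp : Fact p.Prime] {K : Type u} [Field K] [CharP K p] (a : K)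
    (ha : KaehlerDifferential.D ℤ K a = 0) : ∃ b : K, b ^ p = a := by
  apply exists_pow_of_D_fieldRange p a
  have := congrArg (KaehlerDifferential.map ℤ ↥((frobenius K p).fieldRange) K K) ha
  rwa [KaehlerDifferential.map_D, map_zero, Algebra.algebraMap_self, RingHom.id_apply] at this

theorem D_pow_eq_zero {R K : Type*} [CommRing R] [CommRing K] [Algebra R K] (p : ℕ) [CharP K p] (b : K) :
    KaehlerDifferential.D R K (b ^ p) = 0 := by
  rw [Derivation.leibniz_pow, ← Nat.cast_smul_eq_nsmul K, CharP.cast_eq_zero, zero_smul]

theorem S2148_aux {k K : Type u} [Field k] [Field K] [Algebra k K] (p : ℕ) [Fact p.Prime]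
    [CharP k p] [PerfectRing k p] (a : K) :
    KaehlerDifferential.D k K a = 0 ↔ ∃ b : K, b ^ p = a := by
  have : CharP K p := charP_of_injective_algebraMap (algebraMap k K).injective p
  refine ⟨exists_pow_of_D_eq_zero_of_perfect p a, ?_⟩
  rintro ⟨b, rfl⟩
  exact D_pow_eq_zero p b

theorem exists_pow_of_D_int_eq_zero_of_isFractionRing (p : ℕ) [Fact p.Prime] {A : Type u} [CommRing A]
    [IsDomain A] [IsIntegrallyClosed A] [CharP A p] (K : Type u) [Field K] [Algebra A K]
    [IsFractionRing A K] (s : A) (hs : KaehlerDifferential.D ℤ A s = 0) :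
    ∃ f : A, f ^ p = s := by
  have : CharP K p := charP_of_injective_algebraMap (IsFractionRing.injective A K) p
  have h1 : KaehlerDifferential.D ℤ K (algebraMap A K s) = 0 := by
    have := congrArg (KaehlerDifferential.map ℤ ℤ A K) hs
    rwa [KaehlerDifferential.map_D, map_zero] at this
  obtain ⟨b, hb⟩ := exists_pow_of_D_int_eq_zero p _ h1
  have hint : IsIntegral A b := by
    refine ⟨Polynomial.X ^ p - Polynomial.C s, Polynomial.monic_X_pow_sub_C s (Fact.out : p.Prime).ne_zero, ?_⟩
    simp [hb]
  obtain ⟨f, rfl⟩ := (IsIntegrallyClosed.isIntegral_iff (R := A) (K := K)).1 hint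
  refine ⟨f, IsFractionRing.injective A K ?_⟩
  rw [map_pow, hb]

theorem S13369_aux (p : ℕ) [Fact p.Prime] {A : Type u} [CommRing A] [IsDomain A]
    [IsIntegrallyClosed A] [CharP A p] (s : A) (hs : KaehlerDifferential.D ℤ A s = 0) :
    ∃ f : A, f ^ p = s :=
  exists_pow_of_D_int_eq_zero_of_isFractionRing p (FractionRing A) s hs

/-- a linear map sending a basis to a linearly independent family is injective. -/
theorem injective_of_basis_li {R M N ι : Type*} [CommRing R] [AddCommGroup M] [AddCommGroup N] [Module R M]
    [Module R N] (b : Module.Basis ι R M) (f : M →ₗ[R] N) (h : LinearIndependent R (fun i => f (b i))) :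
    Function.Injective f := by
  have hf : f = (Finsupp.linearCombination R (fun i => f (b i))) ∘ₗ b.repr.toLinearMap := by
    apply b.ext
    intro i
    simp
  have hx : ∀ z, f z = Finsupp.linearCombination R (fun i => f (b i)) (b.repr z) :=
    fun z => DFunLike.congr_fun hf z
  intro x y hxy
  rw [hx x, hx y] at hxy
  exact b.repr.injective (h hxy)

theorem S4522_aux (p : ℕ) [Fact p.Prime] {R K L : Type u} [Field R] [Field K] [Field L]
    [Algebra R K] [Algebra K L] [Algebra R L] [IsScalarTower R K L] [CharP L p]
    (hR : Set.range (algebraMap R L) = Set.range fun y : L => y ^ p) :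
    Function.Injective (KaehlerDifferential.mapBaseChange R K L) := by
  have : CharP K p := ((algebraMap K L).charP_iff (algebraMap K L).injective p).2 inferInstance
  have hempty : IsPIndependent p R (Subtype.val : ↥(∅ : Set K) → K) := by
    rw [S4521_aux]
    intro a
    exact absurd a.2 (Set.notMem_empty _)
  obtain ⟨B, -, -, hB⟩ := S2467_aux (p := p) (k := R) (K := K) Set.univ ∅ (Set.empty_subset _)
    isPGenerating_univ hempty
  obtain ⟨b, hb⟩ := (S2468_aux (p := p) (k := R) (x := (Subtype.val : B → K))).2.2.1 hB
  -- transfer p-independence to L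
  let x' : B → L := fun i => algebraMap K L i.1
  have hmon : ∀ e : Ered p B, mon (p := p) x' e = algebraMap K L (mon (p := p) (Subtype.val : B → K) e) := by
    intro e
    change pMonomial x' e.1 = algebraMap K L (pMonomial _ e.1)
    rw [map_pMonomial]
  have h1 : LinearIndependent R (mon (p := p) (Subtype.val : B → K)) := by
    have h0 : LinearIndependent (pPowerSubalgebra p R K) (mon (p := p) (Subtype.val : B → K)) := hB.1
    exact h0.restrict_scalars (R := R) (K := pPowerSubalgebra p R K) (by
      intro r s hrs
      have := congrArg Subtype.val hrs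
      simp only [Algebra.smul_def, mul_one] at this
      exact (algebraMap R K).injective this)
  have h2 : LinearIndependent R (mon (p := p) x') := by
    have := h1.map' (IsScalarTower.toAlgHom R K L).toLinearMap (by
      rw [LinearMap.ker_eq_bot]
      exact (algebraMap K L).injective)
    rwa [show mon (p := p) x' = (IsScalarTower.toAlgHom R K L).toLinearMap ∘ mon (p := p) (Subtype.val : B → K) from
      funext hmon]
  have hmem : ∀ c : pPowerSubalgebra p R L, ∃ r : R, algebraMap R L r = c.1 := by
    rintro ⟨c, hc⟩
    change c ∈ Algebra.adjoin R _ at hc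
    induction hc using Algebra.adjoin_induction with
    | mem y hy =>
      rw [← hR] at hy
      exact hy
    | algebraMap r => exact ⟨r, rfl⟩
    | add y z _ _ hy hz =>
      obtain ⟨r, hr⟩ := hy
      obtain ⟨s, hs⟩ := hz
      exact ⟨r + s, by rw [map_add, hr, hs]⟩
    | mul y z _ _ hy hz =>
      obtain ⟨r, hr⟩ := hy
      obtain ⟨s, hs⟩ := hz
      exact ⟨r * s, by rw [map_mul, hr, hs]⟩
  have h3 : IsPIndependent p R x' := by
    change LinearIndependent (pPowerSubalgebra p R L) (mon (p := p) x')
    refine li_transfer (R := pPowerSubalgebra p R L) (R' := R) (fun c => (hmem c).choose) ?_ ?_ h2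
    · intro c hc
      apply Subtype.ext
      rw [← (hmem c).choose_spec, hc, map_zero]
      rfl
    · intro c m
      change c.1 * m = (hmem c).choose • m
      rw [Algebra.smul_def, (hmem c).choose_spec]
  have h4 : LinearIndependent L (fun i => KaehlerDifferential.D R L (x' i)) :=
    li_D_of_isPIndependent x' h3
  have h5 : LinearIndependent L
      (fun i => KaehlerDifferential.mapBaseChange R K L ((b.baseChange L) i)) := by
    have h6 : (fun i => KaehlerDifferential.mapBaseChange R K L ((b.baseChange L) i)) =
        fun i => KaehlerDifferential.D R L (x' i) := by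
      funext i
      rw [Module.Basis.baseChange_apply, KaehlerDifferential.mapBaseChange_tmul, one_smul, hb,
        KaehlerDifferential.map_D]
    rw [h6]
    exact h4
  exact injective_of_basis_li (b.baseChange L) (KaehlerDifferential.mapBaseChange R K L) h5

end Groth.Agent.Lib.helper25.PthRoot
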