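import Mathlib
import Groth.Agent.Lib.helper25.PBasisI
import Groth.Agent.Lib.helper25.PthRoot
import Groth.Agent.Lib.helper25.Adm
import Groth.Agent.Lib.helper25.PBasisC
import Groth.Agent.Lib.helper14.SepGen
import Groth.Agent.Lib.helper14.SepGenReduced
import Groth.Agent.Lib.helper7.GeomRed3

set_option autoImplicit false
set_option linter.unusedSectionVars false
universe u

namespace Groth.Agent.Lib.helper25.Sep

open EGA41 Groth.Agent.Lib.helper25.PBasisA Groth.Agent.Lib.helper25.PBasisF
  Groth.Agent.Lib.helper25.PBasisG Groth.Agent.Lib.helper25.PBasisI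
open scoped IntermediateField TensorProduct

section JZ
variable (R S T : Type*) [CommRing R] [CommRing S] [CommRing T] [Algebra R S] [Algebra S T]
  [Algebra R T] [IsScalarTower R S T]

/-- Jacobi–Zariski: if `T/S` is formally smooth then `T ⊗ Ω[S/R] → Ω[T/R]` is injective. -/
theorem injective_mapBaseChange_of_formallySmooth [Algebra.FormallySmooth S T] :
    Function.Injective (KaehlerDifferential.mapBaseChange R S T) := by
  rw [injective_iff_map_eq_zero]
  intro x hx
  obtain ⟨y, rfl⟩ := (Algebra.H1Cotangent.exact_δ_mapBaseChange R S T x).1 hx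
  rw [Subsingleton.elim y 0, map_zero]

/-- Jacobi–Zariski converse: if `T/R` is formally smooth, `Ω[T/S]` projective and
`T ⊗ Ω[S/R] → Ω[T/R]` injective, then `T/S` is formally smooth. -/
theorem formallySmooth_of_injective_mapBaseChange [Algebra.FormallySmooth R T]
    [Module.Projective T (Ω[T⁄S])]
    (h : Function.Injective (KaehlerDifferential.mapBaseChange R S T)) :
    Algebra.FormallySmooth S T := by
  refine ⟨inferInstance, ?_⟩
  constructor
  intro a b
  have hδ : ∀ y, Algebra.H1Cotangent.δ R S T y = 0 := by
    intro y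
    apply h
    rw [map_zero]
    exact (Algebra.H1Cotangent.exact_δ_mapBaseChange R S T _).2 ⟨y, rfl⟩
  have hz : ∀ y : Algebra.H1Cotangent S T, y = 0 := by
    intro y
    obtain ⟨z, rfl⟩ := (Algebra.H1Cotangent.exact_map_δ R S T y).1 (hδ y)
    rw [Subsingleton.elim z 0, map_zero]
  rw [hz a, hz b]

end JZ


section macLane

/-- MacLane's criterion (Mathlib's hypothesis form): `p`-th powers of `k`-linearly independent
finite families are `k`-linearly independent. -/
def MacLane (p : ℕ) (k K : Type*) [Field k] [Field K] [Algebra k K] : Prop :=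
  ∀ s : Finset K, LinearIndepOn k id (s : Set K) → LinearIndepOn k (· ^ p) (s : Set K)

variable {p : ℕ} {k K : Type*} [Field k] [Field K] [Algebra k K]

theorem MacLane.li (H : MacLane p k K) {ι : Type*} [Finite ι] (a : ι → K)
    (ha : LinearIndependent k a) : LinearIndependent k (fun j => a j ^ p) := by
  classical
  haveI := Fintype.ofFinite ι
  have h1 : LinearIndepOn k id ((Finset.univ.image a : Finset K) : Set K) := by
    rw [Finset.coe_image, Finset.coe_univ, Set.image_univ]
    exact ha.linearIndepOn_id
  have h2 := H _ h1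
  rw [Finset.coe_image, Finset.coe_univ, Set.image_univ] at h2
  have h3 : LinearIndependent k (fun x : Set.range a => (x : K) ^ p) := h2
  exact h3.comp (fun j => ⟨a j, Set.mem_range_self j⟩) (fun i j hij => ha.injective
    (congrArg Subtype.val hij))

theorem macLane_of_li (h : ∀ (n : ℕ) (a : Fin n → K), LinearIndependent k a →
    LinearIndependent k (fun j => a j ^ p)) : MacLane p k K := by
  intro s hs
  have h1 : LinearIndependent k (fun x : (s : Set K) => (x : K)) := hs
  let e : Fin s.card ≃ (s : Set K) := s.equivFin.symm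
  have h2 : LinearIndependent k (fun j : Fin s.card => ((e j : (s : Set K)) : K)) :=
    h1.comp e e.injective
  have h3 := h _ _ h2
  have h4 : LinearIndependent k (fun x : (s : Set K) => ((e (e.symm x) : (s : Set K)) : K) ^ p) :=
    h3.comp e.symm e.symm.injective
  simp only [Equiv.apply_symm_apply] at h4
  exact h4

end macLane


section perfectBase
variable (p : ℕ) [hp : Fact p.Prime] {F k K : Type u} [Field F] [Field k] [Field K]
  [Algebra F k] [Algebra k K] [Algebra F K] [IsScalarTower F k K] [CharP F p] [CharP k p] [CharP K p]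
  [PerfectRing F p]

omit [Algebra F k] [Algebra k K] [IsScalarTower F k K] [CharP k p] [Field k] in
/-- over a perfect base, every element of `F(K^p)` is a `p`-th power. -/
theorem exists_root_of_mem_Cf (c : K) (hc : c ∈ Cf p F K) : ∃ d : K, d ^ p = c := by
  rw [mem_Cf] at hc
  induction hc using Algebra.adjoin_induction with
  | mem y hy => obtain ⟨b, rfl⟩ := hy; exact ⟨b, rfl⟩
  | algebraMap a =>
    obtain ⟨b, hb⟩ := (PerfectRing.bijective_frobenius (R := F) (p := p)).2 a
    refine ⟨algebraMap F K b, ?_⟩
    rw [← hb]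
    exact (map_pow (algebraMap F K) b p).symm
  | add a b _ _ ha hb =>
    obtain ⟨d₁, rfl⟩ := ha
    obtain ⟨d₂, rfl⟩ := hb
    exact ⟨d₁ + d₂, add_pow_char d₁ d₂ p⟩
  | mul a b _ _ ha hb =>
    obtain ⟨d₁, rfl⟩ := ha
    obtain ⟨d₂, rfl⟩ := hb
    exact ⟨d₁ * d₂, mul_pow d₁ d₂ p⟩

omit [Algebra F k] [Algebra k K] [IsScalarTower F k K] [CharP k p] [Field k] [PerfectRing F p] [CharP F p] in
theorem pow_mem_Cf (d : K) : d ^ p ∈ Cf p F K :=
  IntermediateField.subset_adjoin _ _ ⟨d, rfl⟩


omit [CharP F p] [PerfectRing F p] in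
theorem mon_map {ι : Type u} (x : ι → k) (e : Ered p ι) :
    mon (p := p) (fun i => algebraMap k K (x i)) e = algebraMap k K (mon (p := p) x e) :=
  (map_pMonomial x (algebraMap k K) e.1).symm

/-- MacLane ⇒ a `p`-independent family of `k` stays `p`-independent in `K`. -/
theorem isPIndependent_map_of_macLane (H : MacLane p k K) {ι : Type u} (x : ι → k)
    (hx : IsPIndependent p F x) : IsPIndependent p F (fun i => algebraMap k K (x i)) := by
  classical
  rw [isPIndependent_iff] at hx ⊢
  rw [linearIndependent_iff']
  intro S g hg e₀ he₀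
  have hroot : ∀ e, ∃ d : K, d ^ p = ((g e : Cf p F K) : K) :=
    fun e => exists_root_of_mem_Cf p (g e).1 (g e).2
  choose d hd using hroot
  let V : Submodule k K := Submodule.span k (d '' (S : Set (Ered p ι)))
  haveI : Module.Finite k V :=
    Module.Finite.span_of_finite k (Set.Finite.image d S.finite_toSet)
  let b := Module.finBasis k V
  let a : Fin (Module.finrank k V) → K := fun j => (b j : K)
  have ha : LinearIndependent k a :=
    b.linearIndependent.map' V.subtype (Submodule.ker_subtype V)
  have hap := H.li a ha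
  let lam : Ered p ι → Fin (Module.finrank k V) → k := fun e j =>
    if h : e ∈ S then b.repr ⟨d e, Submodule.subset_span ⟨e, h, rfl⟩⟩ j else 0
  have hde : ∀ e ∈ S, d e = ∑ j, lam e j • a j := by
    intro e he
    have h1 := b.sum_repr ⟨d e, Submodule.subset_span ⟨e, he, rfl⟩⟩
    have h2 := congrArg (Subtype.val : V → K) h1
    rw [AddSubmonoidClass.coe_finsetSum] at h2
    have h3 : d e = ∑ i, ((b.repr ⟨d e, Submodule.subset_span ⟨e, he, rfl⟩⟩ i • b i : V) : K) :=
      h2.symm
    rw [h3]
    refine Finset.sum_congr rfl (fun j _ => ?_)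
    simp only [lam, dif_pos he]
    rfl
  have hge : ∀ e ∈ S, ((g e : Cf p F K) : K) = ∑ j, (lam e j ^ p) • (a j ^ p) := by
    intro e he
    rw [← hd e, hde e he, sum_pow_char p]
    refine Finset.sum_congr rfl (fun j _ => ?_)
    rw [Algebra.smul_def, mul_pow, ← map_pow, ← Algebra.smul_def]
  have h1 : ∑ j, (∑ e ∈ S, lam e j ^ p * mon (p := p) x e) • (a j ^ p) = 0 := by
    have h2 : ∑ e ∈ S, ((g e : Cf p F K) : K) * mon (p := p) (fun i => algebraMap k K (x i)) e = 0 := hg
    rw [← h2]
    simp only [Finset.sum_smul]
    rw [Finset.sum_comm]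
    refine Finset.sum_congr rfl (fun e he => ?_)
    rw [hge e he, Finset.sum_mul]
    refine Finset.sum_congr rfl (fun j _ => ?_)
    rw [mon_map, Algebra.smul_def, Algebra.smul_def, map_mul]
    ring
  have h3 : ∀ j, ∑ e ∈ S, lam e j ^ p * mon (p := p) x e = 0 := by
    intro j
    exact (Fintype.linearIndependent_iff.1 hap) _ h1 j
  have h4 : ∀ j, ∀ e ∈ S, lam e j = 0 := by
    intro j
    have h5 := (linearIndependent_iff'.1 hx) S
      (fun e => (⟨lam e j ^ p, pow_mem_Cf p (lam e j)⟩ : Cf p F k)) (h3 j)
    intro e he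
    have h6 := congrArg (Subtype.val : Cf p F k → k) (h5 e he)
    exact pow_eq_zero_iff (hp.out.ne_zero) |>.1 h6
  have h7 : d e₀ = 0 := by
    rw [hde e₀ he₀]
    refine Finset.sum_eq_zero (fun j _ => ?_)
    rw [h4 j e₀ he₀, zero_smul]
  apply Subtype.ext
  rw [← hd e₀, h7, zero_pow hp.out.ne_zero]
  rfl


/-- a `p`-basis of `k` that stays `p`-independent in `K` ⇒ MacLane. -/
theorem macLane_of_isPIndependent_map {ι : Type u} (x : ι → k) (hgen : IsPGenerating p F x)
    (hx' : IsPIndependent p F (fun i => algebraMap k K (x i))) : MacLane p k K := by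
  classical
  apply macLane_of_li
  intro n a ha
  rw [Fintype.linearIndependent_iff]
  intro μ hμ
  rw [isPGenerating_iff] at hgen
  rw [isPIndependent_iff] at hx'
  have hexp : ∀ j, ∃ c : Ered p ι →₀ ↥(Cf p F k),
      (c.sum fun e r => r • mon (p := p) x e) = μ j := by
    intro j
    have h1 : μ j ∈ Submodule.span (↥(Cf p F k)) (Set.range (mon (p := p) x)) := by
      rw [hgen]; trivial
    exact (Finsupp.mem_span_range_iff_exists_finsupp).1 h1
  choose c hc using hexp
  let T : Finset (Ered p ι) := Finset.univ.biUnion (fun j => (c j).support)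
  have hcT : ∀ j, ∑ e ∈ T, ((c j e : Cf p F k) : k) * mon (p := p) x e = μ j := by
    intro j
    rw [← hc j, Finsupp.sum]
    symm
    refine Finset.sum_subset (fun e he => Finset.mem_biUnion.2 ⟨j, Finset.mem_univ _, he⟩) ?_
    intro e _ he
    rw [Finsupp.notMem_support_iff.1 he, zero_smul]
  have hroot : ∀ j e, ∃ ν : k, ν ^ p = ((c j e : Cf p F k) : k) :=
    fun j e => exists_root_of_mem_Cf p _ (c j e).2
  choose ν hν using hroot
  have h1 : ∑ e ∈ T, (⟨(∑ j, ν j e • a j) ^ p, pow_mem_Cf p _⟩ : Cf p F K) •
      mon (p := p) (fun i => algebraMap k K (x i)) e = 0 := by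
    have h2 : ∑ e ∈ T, (∑ j, ν j e • a j) ^ p *
        mon (p := p) (fun i => algebraMap k K (x i)) e = 0 := by
      rw [← hμ]
      simp only [sum_pow_char p, Finset.sum_mul]
      rw [Finset.sum_comm]
      refine Finset.sum_congr rfl (fun j _ => ?_)
      rw [← hcT j, Finset.sum_smul]
      refine Finset.sum_congr rfl (fun e _ => ?_)
      rw [mon_map, Algebra.smul_def, mul_pow, ← map_pow, hν, Algebra.smul_def, map_mul]
      ring
    exact h2
  have h3 := (linearIndependent_iff'.1 hx') T _ h1
  have h4 : ∀ e ∈ T, ∀ j, ν j e = 0 := by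
    intro e he
    have h5 := congrArg (Subtype.val : Cf p F K → K) (h3 e he)
    have h6 : ∑ j, ν j e • a j = 0 := pow_eq_zero_iff (hp.out.ne_zero) |>.1 h5
    exact Fintype.linearIndependent_iff.1 ha _ h6
  intro j
  rw [← hcT j]
  refine Finset.sum_eq_zero (fun e he => ?_)
  rw [← hν, h4 e he j, zero_pow hp.out.ne_zero, zero_mul]


omit [CharP F p] [PerfectRing F p] in
/-- for a `p`-basis `x` of `k` over `F`: `K ⊗ Ω[k/F] → Ω[K/F]` is injective iff `x` stays
`p`-independent in `K`. -/
theorem injective_mapBaseChange_iff {ι : Type u} (x : ι → k) (hx : IsPBasis p F x) :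
    Function.Injective (KaehlerDifferential.mapBaseChange F k K) ↔
      IsPIndependent p F (fun i => algebraMap k K (x i)) := by
  obtain ⟨bΩ, hbΩ⟩ := (S2468_aux (p := p) (k := F) (x := x)).2.2.1 hx
  let bK : Module.Basis ι K (K ⊗[k] Ω[k⁄F]) := bΩ.baseChange K
  have hub : ∀ i, KaehlerDifferential.mapBaseChange F k K (bK i) =
      KaehlerDifferential.D F K (algebraMap k K (x i)) := by
    intro i
    rw [Module.Basis.baseChange_apply, KaehlerDifferential.mapBaseChange_tmul, one_smul, hbΩ,
      KaehlerDifferential.map_D]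
  rw [(S2468_aux (p := p) (k := F) (x := fun i => algebraMap k K (x i))).1]
  constructor
  · intro hinj
    have h1 := bK.linearIndependent.map' (KaehlerDifferential.mapBaseChange F k K)
      (LinearMap.ker_eq_bot.2 hinj)
    have h2 : (⇑(KaehlerDifferential.mapBaseChange F k K) ∘ ⇑bK) =
        fun i => KaehlerDifferential.D F K (algebraMap k K (x i)) := funext hub
    rw [h2] at h1
    exact h1
  · intro hli
    apply Groth.Agent.Lib.helper25.PthRoot.injective_of_basis_li bK
    have h2 : (fun i => KaehlerDifferential.mapBaseChange F k K (bK i)) =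
        fun i => KaehlerDifferential.D F K (algebraMap k K (x i)) := funext hub
    rw [h2]
    exact hli

/-- over a perfect base `F`: injectivity of `K ⊗ Ω[k/F] → Ω[K/F]` is equivalent to MacLane's
criterion. -/
theorem injective_mapBaseChange_iff_macLane :
    Function.Injective (KaehlerDifferential.mapBaseChange F k K) ↔ MacLane p k K := by
  obtain ⟨B, hB, -⟩ := Groth.Agent.Lib.helper25.Adm.exists_pbasis_with_basis (k₀ := F) (K := k) p
  rw [injective_mapBaseChange_iff p (Subtype.val : B → k) hB]
  exact ⟨fun h => macLane_of_isPIndependent_map p _ hB.2 h,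
    fun H => isPIndependent_map_of_macLane p H _ hB.1⟩

end perfectBase


section toGR

theorem MacLane.restrict {p : ℕ} {k K : Type*} [Field k] [Field K] [Algebra k K]
    (H : MacLane p k K) (K' : IntermediateField k K) : MacLane p k K' := by
  apply macLane_of_li
  intro n a ha
  have h1 : LinearIndependent k (fun j => ((a j : K') : K)) :=
    ha.map' K'.val.toLinearMap (LinearMap.ker_eq_bot.2 K'.val.injective)
  have h2 := H.li _ h1
  have h3 : (fun j => ((a j : K') : K) ^ p) = K'.val.toLinearMap ∘ (fun j => a j ^ p) := by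
    funext j
    simp
  rw [h3] at h2
  exact LinearIndependent.of_comp _ h2

/-- MacLane ⇒ geometrically reduced. -/
theorem isGeometricallyReduced_of_macLane (p : ℕ) (hp : p.Prime) {k K : Type u} [Field k] [Field K]
    [Algebra k K] [ExpChar k p] (H : MacLane p k K) : Algebra.IsGeometricallyReduced k K := by
  apply Algebra.IsGeometricallyReduced.of_forall_fg
  rintro B ⟨s, rfl⟩
  let K' : IntermediateField k K := IntermediateField.adjoin k (s : Set K)
  haveI : Algebra.EssFiniteType k K' := IntermediateField.essFiniteType_iff.2 ⟨s, rfl⟩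
  have H' : MacLane p k K' := H.restrict K'
  obtain ⟨t, ht, hsep⟩ :=
    exists_isTranscendenceBasis_and_isSeparable_of_linearIndepOn_pow_of_essFiniteType p hp H'
  haveI : Algebra.IsSeparable (↥(IntermediateField.adjoin k (Set.range ((↑) : t → K')))) K' := by
    convert! hsep <;> simp
  haveI : Algebra.IsGeometricallyReduced k K' :=
    H14.SG.isGeometricallyReduced_of_sepGen ((↑) : t → K') ht.1
  have hle : Algebra.adjoin k (s : Set K) ≤ K'.toSubalgebra :=
    IntermediateField.algebra_adjoin_le_adjoin k _
  exact Algebra.IsGeometricallyReduced.of_injective (Subalgebra.inclusion hle)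
    (Subalgebra.inclusion_injective hle)

end toGR


section main
variable {k K : Type u} [Field k] [Field K] [Algebra k K]

/-- characteristic `p`: formally smooth ⇔ MacLane. -/
theorem formallySmooth_iff_macLane (p : ℕ) [hp : Fact p.Prime] [CharP k p] :
    Algebra.FormallySmooth k K ↔ MacLane p k K := by
  haveI : CharP K p := charP_of_injective_algebraMap (algebraMap k K).injective p
  let F := ULift.{u} (ZMod p)
  letI : Algebra F k :=
    ((ZMod.castHom (dvd_refl p) k).comp (ULift.ringEquiv : F ≃+* ZMod p).toRingHom).toAlgebra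
  letI : Algebra F K := ((algebraMap k K).comp (algebraMap F k)).toAlgebra
  haveI : IsScalarTower F k K := IsScalarTower.of_algebraMap_eq (fun _ => rfl)
  haveI : CharP F p := charP_of_injective_algebraMap (algebraMap F k).injective p |> fun h => by
    exact ((algebraMap F k).charP_iff (algebraMap F k).injective p).2 inferInstance
  haveI : PerfectRing F p := inferInstance
  haveI : Algebra.FormallySmooth F K := by
    obtain ⟨B, hB, -⟩ := Groth.Agent.Lib.helper25.Adm.exists_pbasis_with_basis (k₀ := F) (K := K) p
    exact (Groth.Agent.Lib.helper25.PBasisC.S4541_aux (p := p) (Subtype.val : B → K) hB).1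
  rw [← injective_mapBaseChange_iff_macLane p (F := F)]
  exact ⟨fun _ => injective_mapBaseChange_of_formallySmooth F k K,
    fun h => formallySmooth_of_injective_mapBaseChange F k K h⟩


/-- in characteristic zero every field extension is formally smooth. -/
theorem formallySmooth_of_charZero [CharZero k] : Algebra.FormallySmooth k K := by
  obtain ⟨s, hs⟩ := exists_isTranscendenceBasis k K
  haveI : Algebra.IsAlgebraic (IntermediateField.adjoin k (Set.range ((↑) : s → K))) K :=
    hs.isAlgebraic_field
  haveI : CharZero ↥(IntermediateField.adjoin k (Set.range ((↑) : s → K))) :=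
    charZero_of_injective_algebraMap (algebraMap k _).injective
  haveI : Algebra.IsSeparable (IntermediateField.adjoin k (Set.range ((↑) : s → K))) K :=
    inferInstance
  exact .of_algebraicIndependent_of_isSeparable hs.1

/-- EGA 0_IV 19.6.1: a field extension is formally smooth iff it is separable. -/
theorem formallySmooth_iff_isGeometricallyReduced :
    Algebra.FormallySmooth k K ↔ Algebra.IsGeometricallyReduced k K := by
  obtain _ | ⟨p, hp, hpk⟩ := CharP.exists' k
  · haveI : PerfectField k := PerfectField.ofCharZero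
    exact ⟨fun _ => Groth.Agent.Lib.helper7.GeomRed3.isGeometricallyReduced_of_perfectField k K,
      fun _ => formallySmooth_of_charZero⟩
  · haveI : ExpChar k p := .prime hp.out
    rw [formallySmooth_iff_macLane p]
    exact ⟨isGeometricallyReduced_of_macLane p hp.out, fun _ s hs =>
      Groth.Agent.H14.linearIndepOn_pow_of_isGeometricallyReduced p hp.out s hs⟩

end main

end Groth.Agent.Lib.helper25.Sep
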