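import Mathlib
import Groth.Prelude.Def_EGA41

set_option autoImplicit false
set_option linter.unusedSectionVars false
universe u u' u'' w

namespace Groth.Agent.Lib.helper25.Delta

open TensorProduct

section maps
variable {k : Type u} {k' : Type u'} {K L : Type w}
    [Field k] [Field k'] [Field K] [Field L]
    [Algebra k k'] [Algebra k K] [Algebra k' K] [IsScalarTower k k' K]
    [Algebra K L] [Algebra k L] [Algebra k' L]
    [IsScalarTower k K L] [IsScalarTower k' K L]

/-- `L ⊗_K Ω_{K/k} → L ⊗_K Ω_{K/k'}` -/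
noncomputable abbrev A : L ⊗[K] Ω[K⁄k] →ₗ[L] L ⊗[K] Ω[K⁄k'] :=
  (KaehlerDifferential.map k k' K K).baseChange L

theorem A_tmul_D (l : L) (x : K) :
    A (k := k) (k' := k') (l ⊗ₜ[K] KaehlerDifferential.D k K x) = l ⊗ₜ[K] KaehlerDifferential.D k' K x := by
  rw [A, LinearMap.baseChange_tmul, KaehlerDifferential.map_D]
  rfl

theorem A_surjective : Function.Surjective (A (k := k) (k' := k') (K := K) (L := L)) := by
  intro w
  induction w using TensorProduct.induction_on with
  | zero => exact ⟨0, map_zero _⟩
  | tmul l ω =>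
    obtain ⟨ω', rfl⟩ := KaehlerDifferential.map_surjective k k' K ω
    exact ⟨l ⊗ₜ ω', rfl⟩
  | add x y hx hy =>
    obtain ⟨x', rfl⟩ := hx
    obtain ⟨y', rfl⟩ := hy
    exact ⟨x' + y', map_add _ _ _⟩


omit [IsScalarTower k k' K] [IsScalarTower k K L] [IsScalarTower k' K L] in
theorem tower_kk'L (K : Type w) [Field K] [Algebra k K] [Algebra k' K] [IsScalarTower k k' K]
    [Algebra K L] [IsScalarTower k K L] [IsScalarTower k' K L] : IsScalarTower k k' L :=
  IsScalarTower.of_algebraMap_eq (fun x => by
    rw [IsScalarTower.algebraMap_apply k K L, IsScalarTower.algebraMap_apply k k' K,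
      ← IsScalarTower.algebraMap_apply k' K L])

theorem map_map_aux (ω : Ω[K⁄k]) :
    haveI := tower_kk'L (k := k) (k' := k') (L := L) K
    (KaehlerDifferential.map k' k' K L) ((KaehlerDifferential.map k k' K K) ω) =
      (KaehlerDifferential.map k k' L L) ((KaehlerDifferential.map k k K L) ω) := by
  haveI := tower_kk'L (k := k) (k' := k') (L := L) K
  have h := KaehlerDifferential.span_range_derivation k K
  have hω : ω ∈ Submodule.span K (Set.range (KaehlerDifferential.D k K)) := by rw [h]; trivial
  induction hω using Submodule.span_induction with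
  | mem y hy =>
    obtain ⟨x, rfl⟩ := hy
    simp only [KaehlerDifferential.map_D]
    rfl
  | zero => simp
  | add a b _ _ ha hb => simp only [map_add, ha, hb]
  | smul c a _ ha => simp only [map_smul, LinearMap.map_smul_of_tower, ha]

theorem mapBaseChange_A (z : L ⊗[K] Ω[K⁄k]) :
    haveI := tower_kk'L (k := k) (k' := k') (L := L) K
    KaehlerDifferential.mapBaseChange k' K L (A (k := k) (k' := k') z) =
      KaehlerDifferential.map k k' L L (KaehlerDifferential.mapBaseChange k K L z) := by
  haveI := tower_kk'L (k := k) (k' := k') (L := L) K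
  induction z using TensorProduct.induction_on with
  | zero => simp
  | add x y hx hy => simp only [map_add, hx, hy]
  | tmul l ω =>
    rw [A, LinearMap.baseChange_tmul, KaehlerDifferential.mapBaseChange_tmul,
      KaehlerDifferential.mapBaseChange_tmul, map_smul, map_map_aux]

/-- `L ⊗_{k'} Ω_{k'/k} → L ⊗_K Ω_{K/k}`. -/
noncomputable def theta : L ⊗[k'] Ω[k'⁄k] →ₗ[L] L ⊗[K] Ω[K⁄k] :=
  LinearMap.liftBaseChange L
    ((TensorProduct.mk K L (Ω[K⁄k]) 1).restrictScalars k' ∘ₗ
      (KaehlerDifferential.map k k k' K).restrictScalars k')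


theorem theta_tmul (l : L) (ω : Ω[k'⁄k]) :
    theta (k := k) (k' := k') (K := K) (L := L) (l ⊗ₜ ω) =
      l • ((1 : L) ⊗ₜ[K] KaehlerDifferential.map k k k' K ω) := by
  rw [theta, LinearMap.liftBaseChange_tmul]
  rfl

theorem theta_tmul_D (l : L) (a : k') :
    theta (k := k) (k' := k') (K := K) (L := L) (l ⊗ₜ KaehlerDifferential.D k k' a) =
      l ⊗ₜ[K] KaehlerDifferential.D k K (algebraMap k' K a) := by
  rw [theta_tmul, KaehlerDifferential.map_D, TensorProduct.smul_tmul', smul_eq_mul, mul_one]

/-- every element of `L ⊗ Ω_{k'/k}` is a sum of `l ⊗ D a`. -/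
theorem induction_tmul_D {P : L ⊗[k'] Ω[k'⁄k] → Prop} (h0 : P 0)
    (hD : ∀ (l : L) (a : k'), P (l ⊗ₜ KaehlerDifferential.D k k' a))
    (hadd : ∀ x y, P x → P y → P (x + y)) (ξ : L ⊗[k'] Ω[k'⁄k]) : P ξ := by
  induction ξ using TensorProduct.induction_on with
  | zero => exact h0
  | add x y hx hy => exact hadd x y hx hy
  | tmul l ω =>
    have h := KaehlerDifferential.span_range_derivation k k'
    have hω : ω ∈ Submodule.span k' (Set.range (KaehlerDifferential.D k k')) := by rw [h]; trivial
    induction hω using Submodule.span_induction generalizing l with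
    | mem y hy =>
      obtain ⟨a, rfl⟩ := hy
      exact hD l a
    | zero => rw [TensorProduct.tmul_zero]; exact h0
    | add a b _ _ ha hb => rw [TensorProduct.tmul_add]; exact hadd _ _ (ha l) (hb l)
    | smul c a _ ha =>
      rw [TensorProduct.tmul_smul, TensorProduct.smul_tmul']
      exact ha (c • l)

theorem A_theta (ξ : L ⊗[k'] Ω[k'⁄k]) :
    A (k := k) (k' := k') (theta (k := k) (k' := k') (K := K) (L := L) ξ) = 0 := by
  induction ξ using induction_tmul_D with
  | h0 => simp
  | hadd x y hx hy => rw [map_add, map_add, hx, hy, add_zero]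
  | hD l a =>
    rw [theta_tmul_D, A_tmul_D, Derivation.map_algebraMap, TensorProduct.tmul_zero]

theorem mapBaseChange_theta (ξ : L ⊗[k'] Ω[k'⁄k]) :
    haveI := tower_kk'L (k := k) (k' := k') (L := L) K
    KaehlerDifferential.mapBaseChange k K L (theta (k := k) (k' := k') (K := K) (L := L) ξ) =
      KaehlerDifferential.mapBaseChange k k' L ξ := by
  haveI := tower_kk'L (k := k) (k' := k') (L := L) K
  induction ξ using induction_tmul_D with
  | h0 => simp
  | hadd x y hx hy => rw [map_add, map_add, map_add, hx, hy]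
  | hD l a =>
    rw [theta_tmul_D, KaehlerDifferential.mapBaseChange_tmul, KaehlerDifferential.mapBaseChange_tmul,
      KaehlerDifferential.map_D, KaehlerDifferential.map_D, ← IsScalarTower.algebraMap_apply]

end maps


section lift
variable {k : Type u} {k' : Type u'} {K L : Type w}
    [Field k] [Field k'] [Field K] [Field L]
    [Algebra k k'] [Algebra k K] [Algebra k' K] [IsScalarTower k k' K]
    [Algebra K L] [Algebra k L] [Algebra k' L]
    [IsScalarTower k K L] [IsScalarTower k' K L]

theorem A_mem_imperfection (z : L ⊗[K] Ω[K⁄k]) (hz : z ∈ EGA41.imperfection k K L) :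
    A (k := k) (k' := k') z ∈ EGA41.imperfection k' K L := by
  change KaehlerDifferential.mapBaseChange k' K L _ = 0
  rw [mapBaseChange_A]
  have : KaehlerDifferential.mapBaseChange k K L z = 0 := hz
  rw [this, map_zero]

theorem exists_lift_imperfection (w : L ⊗[K] Ω[K⁄k']) (hw : w ∈ EGA41.imperfection k' K L) :
    ∃ z : L ⊗[K] Ω[K⁄k], z ∈ EGA41.imperfection k K L ∧ A (k := k) (k' := k') z = w := by
  haveI := tower_kk'L (k := k) (k' := k') (L := L) K
  obtain ⟨z₀, rfl⟩ := A_surjective (k := k) (k' := k') (K := K) (L := L) w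
  have h1 : KaehlerDifferential.map k k' L L (KaehlerDifferential.mapBaseChange k K L z₀) = 0 := by
    rw [← mapBaseChange_A]
    exact hw
  obtain ⟨ξ, hξ⟩ := (KaehlerDifferential.exact_mapBaseChange_map k k' L _).1 h1
  refine ⟨z₀ - theta ξ, ?_, ?_⟩
  · change KaehlerDifferential.mapBaseChange k K L _ = 0
    rw [map_sub, mapBaseChange_theta, hξ, sub_self]
  · rw [map_sub, A_theta, sub_zero]

end lift

section three
variable {k : Type u} {k' : Type u'} {k'' : Type u''} {K L : Type w}
    [Field k] [Field k'] [Field k''] [Field K] [Field L]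
    [Algebra k k'] [Algebra k k''] [Algebra k' k''] [IsScalarTower k k' k'']
    [Algebra k K] [Algebra k' K] [Algebra k'' K] [IsScalarTower k k' K] [IsScalarTower k' k'' K]
    [IsScalarTower k k'' K] [Algebra K L] [Algebra k L] [Algebra k' L] [Algebra k'' L]
    [IsScalarTower k K L] [IsScalarTower k' K L] [IsScalarTower k'' K L]

theorem A_comp (z : L ⊗[K] Ω[K⁄k]) :
    A (k := k') (k' := k'') (A (k := k) (k' := k') z) = A (k := k) (k' := k'') z := by
  induction z using induction_tmul_D (k := k) (k' := K) (L := L) with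
  | h0 => simp
  | hadd x y hx hy => simp only [map_add, hx, hy]
  | hD l a => rw [A_tmul_D, A_tmul_D, A_tmul_D]

theorem S5836_aux :
    (∀ w : L ⊗[K] Ω[K⁄k'], w ∈ EGA41.imperfection k' K L →
        (KaehlerDifferential.map k' k'' K K).baseChange L w = 0 →
          ∃ z : L ⊗[K] Ω[K⁄k], z ∈ EGA41.imperfection k K L ∧
            (KaehlerDifferential.map k k'' K K).baseChange L z = 0 ∧
              (KaehlerDifferential.map k k' K K).baseChange L z = w) ∧
      Module.rank L ↥(EGA41.imperfection k K L ⊓
            LinearMap.ker ((KaehlerDifferential.map k k'' K K).baseChange L)) =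
        Module.rank L ↥(EGA41.imperfection k' K L ⊓
              LinearMap.ker ((KaehlerDifferential.map k' k'' K K).baseChange L)) +
          Module.rank L ↥(EGA41.imperfection k K L ⊓
              LinearMap.ker ((KaehlerDifferential.map k k' K K).baseChange L)) := by
  have hlift : ∀ w : L ⊗[K] Ω[K⁄k'], w ∈ EGA41.imperfection k' K L →
        A (k := k') (k' := k'') w = 0 →
          ∃ z : L ⊗[K] Ω[K⁄k], z ∈ EGA41.imperfection k K L ∧
            A (k := k) (k' := k'') z = 0 ∧ A (k := k) (k' := k') z = w := by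
    intro w hw hw0
    obtain ⟨z, hz, rfl⟩ := exists_lift_imperfection (k := k) w hw
    exact ⟨z, hz, by rw [← A_comp (k' := k'), hw0], rfl⟩
  refine ⟨hlift, ?_⟩
  set D2 := EGA41.imperfection k K L ⊓ LinearMap.ker (A (k := k) (k' := k'') (K := K) (L := L)) with hD2
  set D1 := EGA41.imperfection k K L ⊓ LinearMap.ker (A (k := k) (k' := k') (K := K) (L := L)) with hD1
  set D3 := EGA41.imperfection k' K L ⊓ LinearMap.ker (A (k := k') (k' := k'') (K := K) (L := L)) with hD3
  change Module.rank L ↥D2 = Module.rank L ↥D3 + Module.rank L ↥D1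
  have h12 : D1 ≤ D2 := by
    intro z hz
    refine ⟨hz.1, ?_⟩
    change A (k := k) (k' := k'') z = 0
    have hz2 : A (k := k) (k' := k') z = 0 := hz.2
    rw [← A_comp (k' := k'), hz2, map_zero]
  let f : ↥D2 →ₗ[L] L ⊗[K] Ω[K⁄k'] := (A (k := k) (k' := k') (K := K) (L := L)).domRestrict D2
  have hrange : LinearMap.range f = D3 := by
    ext w
    constructor
    · rintro ⟨⟨z, hz⟩, rfl⟩
      refine ⟨A_mem_imperfection z hz.1, ?_⟩
      change A (k := k') (k' := k'') (A (k := k) (k' := k') z) = 0
      rw [A_comp]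
      exact hz.2
    · intro hw
      obtain ⟨z, hz, hz0, rfl⟩ := hlift w hw.1 hw.2
      exact ⟨⟨z, ⟨hz, hz0⟩⟩, rfl⟩
  have hker : LinearMap.ker f = Submodule.comap D2.subtype D1 := by
    ext z
    rw [LinearMap.mem_ker, Submodule.mem_comap]
    constructor
    · intro hz
      exact ⟨z.2.1, hz⟩
    · intro hz
      exact hz.2
  have h := LinearMap.rank_range_add_rank_ker (R := L) (M := ↥D2) (M₁ := L ⊗[K] Ω[K⁄k']) f
  rw [hrange, hker] at h
  rw [← h, (Submodule.comapSubtypeEquivOfLe h12).rank_eq]

end three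

end Groth.Agent.Lib.helper25.Delta
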