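import Mathlib
import Groth.Agent.Lib.helper25.Sep1

set_option autoImplicit false
set_option linter.unusedSectionVars false
universe u

namespace Groth.Agent.Lib.helper25.Sep

open EGA41
open scoped IntermediateField TensorProduct

section bridge
variable (R F K : Type*) [CommRing R] [CommRing F] [CommRing K] [Algebra R F] [Algebra F K]
  [Algebra R K] [IsScalarTower R F K]

theorem injective_map_of_surjective (h : Function.Surjective (algebraMap R F)) :
    Function.Injective (KaehlerDifferential.map R F K K) := by
  rw [injective_iff_map_eq_zero]
  intro x hx
  obtain ⟨t, rfl⟩ := (KaehlerDifferential.exact_mapBaseChange_map R F K x).1 hx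
  haveI := KaehlerDifferential.subsingleton_of_surjective R F h
  rw [Subsingleton.elim t 0, map_zero]

end bridge

section bridge2
variable (R F k K : Type*) [CommRing R] [CommRing F] [CommRing k] [CommRing K] [Algebra R F]
  [Algebra F k] [Algebra R k] [IsScalarTower R F k] [Algebra k K] [Algebra F K] [Algebra R K]
  [IsScalarTower R F K] [IsScalarTower F k K] [IsScalarTower R k K]

/-- if `R → F` is surjective, injectivity of `K ⊗ Ω[k/R] → Ω[K/R]` implies that of
`K ⊗ Ω[k/F] → Ω[K/F]`. -/
theorem injective_mapBaseChange_of_surjective (h : Function.Surjective (algebraMap R F))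
    (hinj : Function.Injective (KaehlerDifferential.mapBaseChange R k K)) :
    Function.Injective (KaehlerDifferential.mapBaseChange F k K) := by
  have hmK := injective_map_of_surjective R F K h
  have hsq : ∀ t : K ⊗[k] Ω[k⁄R], KaehlerDifferential.mapBaseChange F k K
      (((KaehlerDifferential.map R F k k).baseChange K) t) =
      KaehlerDifferential.map R F K K (KaehlerDifferential.mapBaseChange R k K t) := by
    intro t
    induction t using TensorProduct.induction_on with
    | zero => simp
    | tmul c w =>
      rw [LinearMap.baseChange_tmul, KaehlerDifferential.mapBaseChange_tmul,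
        KaehlerDifferential.mapBaseChange_tmul, map_smul]
      congr 1
      have hw : w ∈ Submodule.span k (Set.range (KaehlerDifferential.D R k)) := by
        rw [KaehlerDifferential.span_range_derivation]; trivial
      refine Submodule.span_induction ?_ ?_ ?_ ?_ hw
      · rintro _ ⟨a, rfl⟩
        simp
      · simp
      · intro x y _ _ hx hy
        simp only [map_add, hx, hy]
      · intro a x _ hx
        rw [map_smul, map_smul, map_smul, hx, ← algebraMap_smul K a
          ((KaehlerDifferential.map R R k K) x), map_smul, algebraMap_smul]
    | add x y hx hy => simp only [map_add, hx, hy]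
  have hsurj : Function.Surjective ((KaehlerDifferential.map R F k k).baseChange K) := by
    rw [LinearMap.baseChange_eq_ltensor]
    exact LinearMap.lTensor_surjective K (KaehlerDifferential.map_surjective R F k)
  rw [injective_iff_map_eq_zero]
  intro y hy
  obtain ⟨t, rfl⟩ := hsurj y
  rw [hsq] at hy
  have h1 : KaehlerDifferential.mapBaseChange R k K t = 0 := hmK (by rw [hy, map_zero])
  have h2 : t = 0 := hinj (by rw [h1, map_zero])
  rw [h2, map_zero]

end bridge2


section charp
variable {k K : Type u} [Field k] [Field K] [Algebra k K]

/-- the prime field (in the universe of `k`) as a perfect base. -/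
theorem exists_perfect_base (p : ℕ) [hp : Fact p.Prime] [CharP k p] :
    ∃ (F : Type u) (_ : Field F) (_ : Algebra F k) (_ : Algebra F K) (_ : IsScalarTower F k K)
      (_ : CharP F p) (_ : PerfectRing F p), Function.Surjective (algebraMap ℤ F) := by
  let F := ULift.{u} (ZMod p)
  letI : Algebra F k :=
    ((ZMod.castHom (dvd_refl p) k).comp (ULift.ringEquiv : F ≃+* ZMod p).toRingHom).toAlgebra
  letI : Algebra F K := ((algebraMap k K).comp (algebraMap F k)).toAlgebra
  haveI : IsScalarTower F k K := IsScalarTower.of_algebraMap_eq (fun _ => rfl)
  haveI : CharP F p := ((algebraMap F k).charP_iff (algebraMap F k).injective p).2 inferInstance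
  refine ⟨F, inferInstance, inferInstance, inferInstance, inferInstance, inferInstance,
    inferInstance, ?_⟩
  intro x
  obtain ⟨n, hn⟩ := ZMod.intCast_surjective x.down
  refine ⟨n, ?_⟩
  apply ULift.ext
  rw [← hn]
  rfl

theorem injective_int_iff_macLane (p : ℕ) [hp : Fact p.Prime] [CharP k p] :
    Function.Injective (KaehlerDifferential.mapBaseChange ℤ k K) ↔ MacLane p k K := by
  constructor
  · intro hinj
    haveI : CharP K p := charP_of_injective_algebraMap (algebraMap k K).injective p
    obtain ⟨F, _, _, _, _, _, _, hsurj⟩ := exists_perfect_base (k := k) (K := K) p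
    rw [← injective_mapBaseChange_iff_macLane p (F := F)]
    exact injective_mapBaseChange_of_surjective ℤ F k K hsurj hinj
  · intro H
    haveI : Algebra.FormallySmooth k K := (formallySmooth_iff_macLane p).2 H
    exact injective_mapBaseChange_of_formallySmooth ℤ k K

theorem S2117_aux (p : ℕ) [hp : Fact p.Prime] [CharP k p] :
    Algebra.IsGeometricallyReduced k K ↔
      Function.Injective (KaehlerDifferential.mapBaseChange ℤ k K) := by
  rw [← formallySmooth_iff_isGeometricallyReduced, formallySmooth_iff_macLane p,
    injective_int_iff_macLane p]

/-- any characteristic. -/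
theorem isGeometricallyReduced_iff_injective_int :
    Algebra.IsGeometricallyReduced k K ↔
      Function.Injective (KaehlerDifferential.mapBaseChange ℤ k K) := by
  obtain _ | ⟨p, hp, hpk⟩ := CharP.exists' k
  · haveI : PerfectField k := PerfectField.ofCharZero
    haveI : Algebra.FormallySmooth k K := formallySmooth_of_charZero
    exact ⟨fun _ => injective_mapBaseChange_of_formallySmooth ℤ k K,
      fun _ => formallySmooth_iff_isGeometricallyReduced.1 inferInstance⟩
  · exact S2117_aux p

end charp

section tower
variable {K E F : Type u} [Field K] [Field E] [Field F] [Algebra K E] [Algebra E F] [Algebra K F]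
  [IsScalarTower K E F]

theorem S2484_aux :
    (Algebra.IsGeometricallyReduced E F →
      Function.Injective (KaehlerDifferential.mapBaseChange K E F)) ∧
    (Algebra.IsGeometricallyReduced K F →
      Function.Injective (KaehlerDifferential.mapBaseChange K E F) →
        Algebra.IsGeometricallyReduced E F) := by
  constructor
  · intro h
    haveI : Algebra.FormallySmooth E F := formallySmooth_iff_isGeometricallyReduced.2 h
    exact injective_mapBaseChange_of_formallySmooth K E F
  · intro h hinj
    haveI : Algebra.FormallySmooth K F := formallySmooth_iff_isGeometricallyReduced.2 h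
    exact formallySmooth_iff_isGeometricallyReduced.1
      (formallySmooth_of_injective_mapBaseChange K E F hinj)

end tower

end Groth.Agent.Lib.helper25.Sep
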