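import Mathlib
import Groth.Agent.Lib.helper25.Sep2
import Groth.Agent.Lib.helper25.Delta

set_option autoImplicit false
set_option linter.unusedSectionVars false
universe u v w u'

namespace Groth.Agent.Lib.helper25.Sep

open EGA41
open scoped IntermediateField TensorProduct

section der
variable {k K : Type u} [Field k] [Field K] [Algebra k K]

theorem derivation_extends_of_injective
    (hinj : Function.Injective (KaehlerDifferential.mapBaseChange ℤ k K))
    (D : Derivation ℤ k K) : ∃ D' : Derivation ℤ K K, ∀ a : k, D' (algebraMap k K a) = D a := by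
  obtain ⟨r, hr⟩ := LinearMap.exists_leftInverse_of_injective
    (KaehlerDifferential.mapBaseChange ℤ k K) (LinearMap.ker_eq_bot.2 hinj)
  let φ : K ⊗[k] Ω[k⁄ℤ] →ₗ[K] K := LinearMap.liftBaseChange K D.liftKaehlerDifferential
  refine ⟨(φ ∘ₗ r).compDer (KaehlerDifferential.D ℤ K), ?_⟩
  intro a
  have h1 : KaehlerDifferential.D ℤ K (algebraMap k K a) =
      KaehlerDifferential.mapBaseChange ℤ k K ((1 : K) ⊗ₜ[k] KaehlerDifferential.D ℤ k a) := by
    rw [KaehlerDifferential.mapBaseChange_tmul, one_smul, KaehlerDifferential.map_D]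
  have h2 : r (KaehlerDifferential.mapBaseChange ℤ k K
      ((1 : K) ⊗ₜ[k] KaehlerDifferential.D ℤ k a)) = (1 : K) ⊗ₜ[k] KaehlerDifferential.D ℤ k a :=
    LinearMap.congr_fun hr _
  change φ (r (KaehlerDifferential.D ℤ K (algebraMap k K a))) = D a
  rw [h1, h2]
  simp [φ]

theorem injective_of_derivation_extends
    (h : ∀ D : Derivation ℤ k K, ∃ D' : Derivation ℤ K K, ∀ a : k, D' (algebraMap k K a) = D a) :
    Function.Injective (KaehlerDifferential.mapBaseChange ℤ k K) := by
  rw [injective_iff_map_eq_zero]
  intro ω hω
  rw [← Module.forall_dual_apply_eq_zero_iff K]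
  intro φ
  -- the derivation `a ↦ φ (1 ⊗ D a)`
  let ψ₀ : Ω[k⁄ℤ] →ₗ[k] K :=
    (φ.restrictScalars k) ∘ₗ (TensorProduct.mk k K (Ω[k⁄ℤ]) 1)
  obtain ⟨D', hD'⟩ := h (ψ₀.compDer (KaehlerDifferential.D ℤ k))
  have hkey : ∀ t : K ⊗[k] Ω[k⁄ℤ],
      D'.liftKaehlerDifferential (KaehlerDifferential.mapBaseChange ℤ k K t) = φ t := by
    intro t
    induction t using TensorProduct.induction_on with
    | zero => simp
    | tmul c w =>
      have hc : c ⊗ₜ[k] w = c • ((1 : K) ⊗ₜ[k] w) := by
        rw [TensorProduct.smul_tmul', smul_eq_mul, mul_one]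
      rw [hc, map_smul, map_smul, map_smul]
      congr 1
      have hw : w ∈ Submodule.span k (Set.range (KaehlerDifferential.D ℤ k)) := by
        rw [KaehlerDifferential.span_range_derivation]; trivial
      refine Submodule.span_induction ?_ ?_ ?_ ?_ hw
      · rintro _ ⟨a, rfl⟩
        rw [KaehlerDifferential.mapBaseChange_tmul, one_smul, KaehlerDifferential.map_D,
          Derivation.liftKaehlerDifferential_comp_D, hD']
        rfl
      · simp
      · intro x y _ _ hx hy
        rw [TensorProduct.tmul_add, map_add, map_add, map_add, hx, hy]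
      · intro a x _ hx
        rw [TensorProduct.tmul_smul, ← algebraMap_smul K a ((1 : K) ⊗ₜ[k] x), map_smul, map_smul,
          map_smul, hx]
    | add x y hx hy => rw [map_add, map_add, map_add, hx, hy]
  rw [← hkey, hω, map_zero]

end der


section s4523
variable {k K : Type u} [Field k] [Field K] [Algebra k K]

theorem S4523_aux :
    (Algebra.IsGeometricallyReduced k K ↔ EGA41.imperfection ℤ k K = ⊥) ∧
    (Algebra.IsGeometricallyReduced k K ↔
      ∀ D : Derivation ℤ k K, ∃ D' : Derivation ℤ K K, ∀ a : k, D' (algebraMap k K a) = D a) := by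
  constructor
  · rw [isGeometricallyReduced_iff_injective_int, EGA41.imperfection, LinearMap.ker_eq_bot]
  · rw [isGeometricallyReduced_iff_injective_int]
    exact ⟨derivation_extends_of_injective, injective_of_derivation_extends⟩

end s4523

section univ
variable {k : Type v} {L : Type w} [Field k] [Field L] [Algebra k L]

theorem formallySmooth_of_charZero' [CharZero k] : Algebra.FormallySmooth k L := by
  obtain ⟨s, hs⟩ := exists_isTranscendenceBasis k L
  haveI : Algebra.IsAlgebraic (IntermediateField.adjoin k (Set.range ((↑) : s → L))) L :=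
    hs.isAlgebraic_field
  haveI : CharZero ↥(IntermediateField.adjoin k (Set.range ((↑) : s → L))) :=
    charZero_of_injective_algebraMap (algebraMap k _).injective
  haveI : Algebra.IsSeparable (IntermediateField.adjoin k (Set.range ((↑) : s → L))) L :=
    inferInstance
  exact .of_algebraicIndependent_of_isSeparable hs.1

/-- universe-polymorphic: separable ⇒ formally smooth. -/
theorem formallySmooth_of_isGeometricallyReduced' [Algebra.IsGeometricallyReduced k L] :
    Algebra.FormallySmooth k L := by
  obtain _ | ⟨p, hp, hpk⟩ := CharP.exists' k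
  · exact formallySmooth_of_charZero'
  · haveI : ExpChar k p := .prime hp.out
    have H : MacLane p k L := fun s hs =>
      Groth.Agent.H14.linearIndepOn_pow_of_isGeometricallyReduced p hp.out s hs
    let k' : Subfield L := (algebraMap k L).fieldRange
    letI : Algebra k k' := (algebraMap k L).rangeRestrictField.toAlgebra
    haveI : IsScalarTower k k' L := IsScalarTower.of_algebraMap_eq (fun x => rfl)
    have hbij : Function.Bijective (algebraMap k k') := (algebraMap k L).rangeRestrictField_bijective
    have hsm : ∀ (r : k) (m : L), r • m = (algebraMap k k' r) • m := fun r m =>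
      (algebraMap_smul k' r m).symm
    have H' : MacLane p k' L := by
      apply macLane_of_li
      intro n a ha
      have h1 : LinearIndependent k a :=
        Groth.Agent.Lib.helper25.PBasisG.li_transfer (algebraMap k k')
          (fun r hr => hbij.1 (by rw [hr, map_zero])) hsm ha
      have h2 := H.li a h1
      refine Groth.Agent.Lib.helper25.PBasisG.li_transfer (Function.surjInv hbij.2)
        (fun r hr => ?_) (fun r m => ?_) h2
      · rw [← Function.surjInv_eq hbij.2 r, hr, map_zero]
      · rw [hsm, Function.surjInv_eq hbij.2 r]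
    haveI : CharP k' p := ((algebraMap k k').charP_iff hbij.1 p).1 inferInstance
    haveI : Algebra.FormallySmooth k' L := (formallySmooth_iff_macLane p).2 H'
    haveI : Algebra.FormallySmooth k k' :=
      .of_equiv (AlgEquiv.ofBijective (Algebra.ofId k k') hbij)
    exact Algebra.FormallySmooth.comp k k' L

end univ

section kerA
open Groth.Agent.Lib.helper25.Delta
variable {k : Type u} {k' : Type u'} {K L : Type w}
    [Field k] [Field k'] [Field K] [Field L]
    [Algebra k k'] [Algebra k K] [Algebra k' K] [IsScalarTower k k' K]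
    [Algebra K L] [Algebra k L] [Algebra k' L]
    [IsScalarTower k K L] [IsScalarTower k' K L]

theorem exists_theta_of_A_eq_zero (z : L ⊗[K] Ω[K⁄k]) (hz : A (k := k) (k' := k') z = 0) :
    ∃ ξ : L ⊗[k'] Ω[k'⁄k], theta (k := k) (k' := k') (K := K) (L := L) ξ = z := by
  have hex := lTensor_exact L (KaehlerDifferential.exact_mapBaseChange_map k k' K)
    (KaehlerDifferential.map_surjective k k' K)
  have hz' : (LinearMap.lTensor L (KaehlerDifferential.map k k' K K)) z = 0 := hz
  have hw : ∀ w : L ⊗[K] (K ⊗[k'] Ω[k'⁄k]), ∃ ξ : L ⊗[k'] Ω[k'⁄k],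
      theta (k := k) (k' := k') (K := K) (L := L) ξ =
        LinearMap.lTensor L (KaehlerDifferential.mapBaseChange k k' K) w := by
    intro w
    induction w using TensorProduct.induction_on with
    | zero => exact ⟨0, by simp⟩
    | tmul l t =>
      induction t using TensorProduct.induction_on with
      | zero => exact ⟨0, by simp⟩
      | tmul c ω =>
        refine ⟨(c • l) ⊗ₜ ω, ?_⟩
        rw [theta_tmul, LinearMap.lTensor_tmul, KaehlerDifferential.mapBaseChange_tmul,
          TensorProduct.smul_tmul', smul_eq_mul, mul_one, TensorProduct.smul_tmul]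
      | add x y hx hy =>
        obtain ⟨ξ, hξ⟩ := hx
        obtain ⟨η, hη⟩ := hy
        exact ⟨ξ + η, by rw [map_add, hξ, hη, TensorProduct.tmul_add, map_add]⟩
    | add x y hx hy =>
      obtain ⟨ξ, hξ⟩ := hx
      obtain ⟨η, hη⟩ := hy
      exact ⟨ξ + η, by rw [map_add, hξ, hη, map_add]⟩
  obtain ⟨w, rfl⟩ := (hex z).1 hz'
  exact hw w

end kerA


section s5835
open Groth.Agent.Lib.helper25.Delta
variable {k : Type v} {k₀ K L : Type w}
    [Field k₀] [Field k] [Field K] [Field L] [Algebra k₀ k] [Algebra k₀ K] [Algebra k₀ L] [Algebra k K]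
    [Algebra k L] [Algebra K L] [IsScalarTower k₀ k K] [IsScalarTower k₀ k L] [IsScalarTower k₀ K L]
    [IsScalarTower k K L]

theorem injective_map_of_le_pPower (p : ℕ) [hp : Fact p.Prime] [CharP K p]
    (h3 : ∀ x : k, algebraMap k K x ∈ EGA41.pPowerSubalgebra p k₀ K) :
    Function.Injective (KaehlerDifferential.map k₀ k K K) := by
  have hs : ∀ s : Ω[k⁄k₀], KaehlerDifferential.map k₀ k₀ k K s = 0 := by
    intro s
    have hs' : s ∈ Submodule.span k (Set.range (KaehlerDifferential.D k₀ k)) := by
      rw [KaehlerDifferential.span_range_derivation]; trivial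
    refine Submodule.span_induction ?_ ?_ ?_ ?_ hs'
    · rintro _ ⟨a, rfl⟩
      rw [KaehlerDifferential.map_D]
      exact Groth.Agent.Lib.helper25.PBasisA.der_pPower_eq_zero (p := p)
        (KaehlerDifferential.D k₀ K) _ (h3 a)
    · rw [map_zero]
    · intro x y _ _ hx hy
      rw [map_add, hx, hy, add_zero]
    · intro c x _ hx
      rw [map_smul, hx, smul_zero]
  have ht : ∀ t, KaehlerDifferential.mapBaseChange k₀ k K t = 0 := by
    intro t
    induction t using TensorProduct.induction_on with
    | zero => rw [map_zero]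
    | tmul c s => rw [KaehlerDifferential.mapBaseChange_tmul, hs, smul_zero]
    | add x y hx hy => rw [map_add, hx, hy, add_zero]
  rw [injective_iff_map_eq_zero]
  intro x hx
  obtain ⟨t, rfl⟩ := (KaehlerDifferential.exact_mapBaseChange_map k₀ k K x).1 hx
  exact ht t

theorem S5835_aux (p : ℕ) [ExpChar K p]
    (h : Algebra.IsGeometricallyReduced k L ∨ Algebra.IsGeometricallyReduced K L ∨
      ∀ x : k, algebraMap k K x ∈ EGA41.pPowerSubalgebra p k₀ K) :
    ∀ z : L ⊗[K] Ω[K⁄k₀], z ∈ EGA41.imperfection k₀ K L →
      (KaehlerDifferential.map k₀ k K K).baseChange L z = 0 → z = 0 := by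
  intro z hz hAz
  have case2 : Algebra.IsGeometricallyReduced K L → z = 0 := by
    intro h2
    haveI : Algebra.FormallySmooth K L := formallySmooth_iff_isGeometricallyReduced.2 h2
    have hz0 : KaehlerDifferential.mapBaseChange k₀ K L z = 0 := hz
    exact injective_mapBaseChange_of_formallySmooth k₀ K L (by rw [hz0, map_zero])
  rcases h with h1 | h2 | h3
  · haveI := h1
    haveI : Algebra.FormallySmooth k L := formallySmooth_of_isGeometricallyReduced'
    have hinj := injective_mapBaseChange_of_formallySmooth k₀ k L
    obtain ⟨ξ, rfl⟩ := exists_theta_of_A_eq_zero (k := k₀) (k' := k) z hAz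
    have h4 : KaehlerDifferential.mapBaseChange k₀ k L ξ = 0 := by
      rw [← mapBaseChange_theta (K := K)]; exact hz
    have : ξ = 0 := hinj (by rw [h4, map_zero])
    rw [this, map_zero]
  · exact case2 h2
  · cases ‹ExpChar K p› with
    | zero =>
      haveI : PerfectField K := PerfectField.ofCharZero
      exact case2 (Groth.Agent.Lib.helper7.GeomRed3.isGeometricallyReduced_of_perfectField K L)
    | prime hp =>
      haveI : Fact p.Prime := ⟨hp⟩
      have hinj := injective_map_of_le_pPower (k₀ := k₀) (k := k) (K := K) p h3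
      have hinjL : Function.Injective ((KaehlerDifferential.map k₀ k K K).baseChange L) :=
        Module.Flat.lTensor_preserves_injective_linearMap (M := L) _ hinj
      exact hinjL (by rw [hAz, map_zero])

end s5835

end Groth.Agent.Lib.helper25.Sep
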