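import Mathlib
import Groth.Agent.Lib.helper25.Sep3
import Groth.Prelude.Def_CAlgX

set_option autoImplicit false
set_option linter.unusedSectionVars false
universe u

namespace Groth.Agent.Lib.helper25.Sep

open scoped TensorProduct

section der
variable {k K κ : Type u} [Field k] [Field K] [Algebra k K] [Field κ] [Algebra K κ] [Algebra k κ]
  [IsScalarTower k K κ]

/-- variant with values in an extension field `κ` of `K`. -/
theorem injective_of_derivation_extends'
    (h : ∀ D : Derivation ℤ k κ, ∃ D' : Derivation ℤ K κ, ∀ a : k, D' (algebraMap k K a) = D a) :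
    Function.Injective (KaehlerDifferential.mapBaseChange ℤ k K) := by
  rw [injective_iff_map_eq_zero]
  intro ω hω
  rw [← Module.forall_dual_apply_eq_zero_iff K]
  intro φ
  let ι : K →ₗ[K] κ := Algebra.linearMap K κ
  let ψ₀ : Ω[k⁄ℤ] →ₗ[k] κ :=
    ((ι ∘ₗ φ).restrictScalars k) ∘ₗ (TensorProduct.mk k K (Ω[k⁄ℤ]) 1)
  obtain ⟨D', hD'⟩ := h (ψ₀.compDer (KaehlerDifferential.D ℤ k))
  have hkey : ∀ t : K ⊗[k] Ω[k⁄ℤ],
      D'.liftKaehlerDifferential (KaehlerDifferential.mapBaseChange ℤ k K t) = ι (φ t) := by
    intro t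
    induction t using TensorProduct.induction_on with
    | zero => simp
    | tmul c w =>
      have hc : c ⊗ₜ[k] w = c • ((1 : K) ⊗ₜ[k] w) := by
        rw [TensorProduct.smul_tmul', smul_eq_mul, mul_one]
      rw [hc, map_smul, map_smul, map_smul, map_smul]
      congr 1
      have hw : w ∈ Submodule.span k (Set.range (KaehlerDifferential.D ℤ k)) := by
        rw [KaehlerDifferential.span_range_derivation]; trivial
      refine Submodule.span_induction ?_ ?_ ?_ ?_ hw
      · rintro _ ⟨a, rfl⟩
        rw [KaehlerDifferential.mapBaseChange_tmul, one_smul, KaehlerDifferential.map_D,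
          Derivation.liftKaehlerDifferential_comp_D, hD']
        rfl
      · simp
      · intro x y _ _ hx hy
        rw [TensorProduct.tmul_add, map_add, map_add, map_add, map_add, hx, hy]
      · intro a x _ hx
        rw [TensorProduct.tmul_smul, ← algebraMap_smul K a ((1 : K) ⊗ₜ[k] x), map_smul, map_smul,
          map_smul, map_smul, hx]
    | add x y hx hy => rw [map_add, map_add, map_add, map_add, hx, hy]
  have h1 : ι (φ ω) = 0 := by rw [← hkey, hω, map_zero]
  exact (algebraMap K κ).injective (by rw [map_zero]; exact h1)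

end der


section twist
variable {k κ : Type u} [Field k] [Field κ] [Algebra k κ]

/-- the ring map `k → κ[ε]`, `c ↦ c + D(c) ε`. -/
noncomputable def twist (D : Derivation ℤ k κ) : k →+* DualNumber κ where
  toFun c := TrivSqZeroExt.inl (algebraMap k κ c) + TrivSqZeroExt.inr (D c)
  map_one' := by
    ext
    · simp only [TrivSqZeroExt.fst_add, TrivSqZeroExt.fst_inl, TrivSqZeroExt.fst_inr, map_one,
        add_zero, TrivSqZeroExt.fst_one]
    · simp only [TrivSqZeroExt.snd_add, TrivSqZeroExt.snd_inl, TrivSqZeroExt.snd_inr,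
        Derivation.map_one_eq_zero, add_zero, TrivSqZeroExt.snd_one]
  map_mul' a b := by
    ext
    · simp only [TrivSqZeroExt.fst_add, TrivSqZeroExt.fst_inl, TrivSqZeroExt.fst_inr, map_mul,
        add_zero, TrivSqZeroExt.fst_mul]
    · simp only [TrivSqZeroExt.snd_add, TrivSqZeroExt.snd_inl, TrivSqZeroExt.snd_inr,
        TrivSqZeroExt.fst_add, TrivSqZeroExt.fst_inl, TrivSqZeroExt.fst_inr,
        add_zero, zero_add, TrivSqZeroExt.snd_mul, Derivation.leibniz, Algebra.smul_def,
        MulOpposite.smul_eq_mul_unop, MulOpposite.unop_op, Algebra.algebraMap_self,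
        RingHom.id_apply]
      ring
  map_zero' := by
    ext
    · simp only [TrivSqZeroExt.fst_add, TrivSqZeroExt.fst_inl, TrivSqZeroExt.fst_inr, map_zero,
        add_zero, TrivSqZeroExt.fst_zero]
    · simp only [TrivSqZeroExt.snd_add, TrivSqZeroExt.snd_inl, TrivSqZeroExt.snd_inr,
        map_zero, add_zero, TrivSqZeroExt.snd_zero]
  map_add' a b := by
    ext
    · simp only [TrivSqZeroExt.fst_add, TrivSqZeroExt.fst_inl, TrivSqZeroExt.fst_inr, map_add,
        add_zero]
    · simp only [TrivSqZeroExt.snd_add, TrivSqZeroExt.snd_inl, TrivSqZeroExt.snd_inr,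
        map_add, zero_add]

theorem twist_fst (D : Derivation ℤ k κ) (c : k) : (twist D c).fst = algebraMap k κ c := by
  change (TrivSqZeroExt.inl (algebraMap k κ c) + TrivSqZeroExt.inr (D c) : DualNumber κ).fst = _
  simp only [TrivSqZeroExt.fst_add, TrivSqZeroExt.fst_inl, TrivSqZeroExt.fst_inr, add_zero]

theorem twist_snd (D : Derivation ℤ k κ) (c : k) : (twist D c).snd = D c := by
  change (TrivSqZeroExt.inl (algebraMap k κ c) + TrivSqZeroExt.inr (D c) : DualNumber κ).snd = _
  simp only [TrivSqZeroExt.snd_add, TrivSqZeroExt.snd_inl, TrivSqZeroExt.snd_inr, zero_add]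

end twist


section adic
open IsLocalRing
variable {k A : Type u} [Field k] [CommRing A] [IsLocalRing A] [Algebra k A]

theorem exists_derivation_of_adicFormallySmooth
    (h : CAlgX.IsAdicFormallySmooth k A (maximalIdeal A)) (D : Derivation ℤ k (ResidueField A)) :
    ∃ δ : A → ResidueField A, (∀ a b, δ (a + b) = δ a + δ b) ∧
      (∀ a b, δ (a * b) = residue A a * δ b + residue A b * δ a) ∧
      (∀ c : k, δ (algebraMap k A c) = D c) := by
  let κ := ResidueField A
  let E := DualNumber κ
  let g : k →+* E := twist D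
  letI algE : Algebra k E := g.toAlgebra
  let J : Ideal E := RingHom.ker (TrivSqZeroExt.fstHom κ κ κ : E →ₐ[κ] κ).toRingHom
  have hJmem : ∀ x : E, x ∈ J ↔ x.fst = 0 := fun x => RingHom.mem_ker
  have hJ : J ^ 2 = ⊥ := by
    rw [eq_bot_iff, pow_two, Ideal.mul_le]
    intro x hx y hy
    rw [hJmem] at hx hy
    rw [Ideal.mem_bot]
    ext
    · rw [TrivSqZeroExt.fst_mul, hx, zero_mul, TrivSqZeroExt.fst_zero]
    · rw [TrivSqZeroExt.snd_mul, hx, hy, zero_smul, MulOpposite.op_zero, zero_smul, add_zero,
        TrivSqZeroExt.snd_zero]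
  let ψ₀ : A →+* E ⧸ J :=
    (Ideal.Quotient.mk J).comp ((TrivSqZeroExt.inlHom κ κ).comp (residue A))
  let ψ : A →ₐ[k] E ⧸ J :=
    { ψ₀ with
      commutes' := by
        intro c
        change Ideal.Quotient.mk J (TrivSqZeroExt.inl (residue A (algebraMap k A c))) =
          Ideal.Quotient.mk J (g c)
        rw [Ideal.Quotient.eq, hJmem, TrivSqZeroExt.fst_sub, TrivSqZeroExt.fst_inl, twist_fst,
          sub_eq_zero]
        rfl }
  have hψ : ∃ n : ℕ, ∀ x ∈ maximalIdeal A ^ n, ψ x = 0 := by
    refine ⟨1, fun x hx => ?_⟩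
    rw [pow_one] at hx
    change Ideal.Quotient.mk J (TrivSqZeroExt.inl (residue A x)) = 0
    rw [(residue_eq_zero_iff x).2 hx, TrivSqZeroExt.inl_zero, map_zero]
  obtain ⟨χ, hχ⟩ := h E J hJ ψ hψ
  have hfst : ∀ a : A, (χ a).fst = residue A a := by
    intro a
    have h1 : Ideal.Quotient.mk J (χ a) = Ideal.Quotient.mk J (TrivSqZeroExt.inl (residue A a)) :=
      AlgHom.congr_fun hχ a
    rw [Ideal.Quotient.eq, hJmem, TrivSqZeroExt.fst_sub, TrivSqZeroExt.fst_inl, sub_eq_zero] at h1
    exact h1
  refine ⟨fun a => (χ a).snd, ?_, ?_, ?_⟩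
  · intro a b
    change (χ (a + b)).snd = _
    rw [map_add, TrivSqZeroExt.snd_add]
  · intro a b
    change (χ (a * b)).snd = _
    rw [map_mul, TrivSqZeroExt.snd_mul, hfst, hfst, MulOpposite.smul_eq_mul_unop,
      MulOpposite.unop_op, smul_eq_mul, mul_comm ((χ a).snd)]
  · intro c
    change (χ (algebraMap k A c)).snd = _
    rw [χ.commutes]
    exact twist_snd D c

end adic


section s4513
open IsLocalRing

theorem S4513_aux {k A K : Type u} [Field k] [CommRing A] [IsLocalRing A] [Algebra k A]
    (h : CAlgX.IsAdicFormallySmooth k A (maximalIdeal A))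
    [Field K] [Algebra k K] [Algebra K A] [IsScalarTower k K A] :
    Algebra.IsGeometricallyReduced k K := by
  rw [isGeometricallyReduced_iff_injective_int]
  haveI : IsScalarTower k K (ResidueField A) := IsScalarTower.of_algebraMap_eq (fun c => by
    change residue A (algebraMap k A c) = residue A (algebraMap K A (algebraMap k K c))
    rw [← IsScalarTower.algebraMap_apply])
  apply injective_of_derivation_extends' (κ := ResidueField A)
  intro D
  obtain ⟨δ, hadd, hmul, hc⟩ := exists_derivation_of_adicFormallySmooth h D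
  have h0 : δ 0 = 0 := by
    have := hadd 0 0
    rw [add_zero] at this
    exact left_eq_add.1 this
  let D₀ : K →+ ResidueField A :=
    { toFun := fun x => δ (algebraMap K A x)
      map_zero' := by rw [map_zero, h0]
      map_add' := fun a b => by rw [map_add, hadd] }
  refine ⟨Derivation.mk' D₀.toIntLinearMap ?_, ?_⟩
  · intro a b
    change δ (algebraMap K A (a * b)) = a • δ (algebraMap K A b) + b • δ (algebraMap K A a)
    rw [map_mul, hmul, Algebra.smul_def, Algebra.smul_def]
    rfl
  · intro c
    change δ (algebraMap K A (algebraMap k K c)) = D c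
    rw [← IsScalarTower.algebraMap_apply, hc]

end s4513

end Groth.Agent.Lib.helper25.Sep
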