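import Mathlib

set_option autoImplicit false
set_option linter.unusedSectionVars false
universe u

namespace Groth.Agent.Lib.helper25.PB

open TensorProduct KaehlerDifferential IsLocalRing

section defs
variable {A : Type u} [CommRing A] (p : ℕ) {r : ℕ} (f : Fin r → A)

/-- the ideal `(T_i^p - f_i)`. -/
noncomputable abbrev Iq : Ideal (MvPolynomial (Fin r) A) :=
  Ideal.span (Set.range fun i => MvPolynomial.X i ^ p - MvPolynomial.C (f i))

/-- `B = A[T_1..T_r]/(T_i^p - f_i)`. -/
abbrev Bq : Type u := MvPolynomial (Fin r) A ⧸ Iq p f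

/-- the class of `T_i`. -/
noncomputable def tq (i : Fin r) : Bq p f := Ideal.Quotient.mk _ (MvPolynomial.X i)

theorem algebraMap_Bq (a : A) :
    algebraMap A (Bq p f) a = Ideal.Quotient.mk _ (MvPolynomial.C a) := rfl

theorem tq_pow (i : Fin r) : tq p f i ^ p = algebraMap A (Bq p f) (f i) := by
  rw [tq, algebraMap_Bq, ← map_pow, ← sub_eq_zero, ← map_sub, Ideal.Quotient.eq_zero_iff_mem]
  exact Ideal.subset_span ⟨i, rfl⟩

end defs

section local_
variable {A : Type u} [CommRing A] [IsLocalRing A] (p : ℕ) [hp : Fact p.Prime] [CharP A p]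
  {r : ℕ} (f : Fin r → A)

theorem nontrivial_Bq : Nontrivial (Bq p f) := by
  let Kb := AlgebraicClosure (ResidueField A)
  let φ₀ : A →+* Kb := (algebraMap (ResidueField A) Kb).comp (residue A)
  have hy : ∀ i, ∃ y : Kb, y ^ p = φ₀ (f i) := fun i =>
    IsAlgClosed.exists_pow_nat_eq _ hp.out.pos
  choose y hy using hy
  let φ : MvPolynomial (Fin r) A →+* Kb := MvPolynomial.eval₂Hom φ₀ y
  apply Ideal.Quotient.nontrivial_iff.mpr
  intro htop
  have h1 : (1 : MvPolynomial (Fin r) A) ∈ Iq p f := by rw [htop]; trivial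
  have hle : Iq p f ≤ RingHom.ker φ := by
    rw [Ideal.span_le]
    rintro _ ⟨i, rfl⟩
    show φ _ = 0
    simp only [φ, map_sub, map_pow, MvPolynomial.coe_eval₂Hom, MvPolynomial.eval₂_X,
      MvPolynomial.eval₂_C, hy, sub_self]
  have := hle h1
  rw [RingHom.mem_ker, map_one] at this
  exact one_ne_zero this

theorem natCast_Bq_eq_zero : (p : Bq p f) = 0 := by
  rw [← map_natCast (algebraMap A (Bq p f)), CharP.cast_eq_zero, map_zero]

theorem charP_Bq : CharP (Bq p f) p := by
  haveI := nontrivial_Bq p f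
  exact (CharP.charP_iff_prime_eq_zero hp.out).mpr (natCast_Bq_eq_zero p f)

theorem pow_mem_range (b : Bq p f) : ∃ a : A, b ^ p = algebraMap A (Bq p f) a := by
  haveI := charP_Bq p f
  obtain ⟨q, rfl⟩ := Ideal.Quotient.mk_surjective b
  induction q using MvPolynomial.induction_on with
  | C a => exact ⟨a ^ p, by rw [algebraMap_Bq, map_pow, map_pow]⟩
  | add x y hx hy =>
    obtain ⟨a, ha⟩ := hx
    obtain ⟨b, hb⟩ := hy
    exact ⟨a + b, by rw [map_add, add_pow_char, ha, hb, map_add]⟩
  | mul_X x i hx =>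
    obtain ⟨a, ha⟩ := hx
    refine ⟨a * f i, ?_⟩
    rw [map_mul, mul_pow, ha, map_mul]
    congr 1
    exact tq_pow p f i

variable (hm : maximalIdeal A ^ 2 = ⊥)
include hm

theorem sq_eq_zero_of_mem {a : A} (ha : a ∈ maximalIdeal A) : a ^ 2 = 0 := by
  have : a ^ 2 ∈ maximalIdeal A ^ 2 := Ideal.pow_mem_pow ha 2
  rwa [hm, Ideal.mem_bot] at this

theorem isLocalRing_Bq : IsLocalRing (Bq p f) := by
  haveI := nontrivial_Bq p f
  apply IsLocalRing.of_isUnit_or_isUnit_one_sub_self
  intro b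
  obtain ⟨a, ha⟩ := pow_mem_range p f b
  by_cases hu : IsUnit a
  · left
    have : IsUnit (b ^ p) := by rw [ha]; exact hu.map _
    exact (isUnit_pow_iff hp.out.ne_zero).mp this
  · right
    have ham : a ∈ maximalIdeal A := (IsLocalRing.mem_maximalIdeal a).mpr hu
    have h2 : (b ^ p) ^ 2 = 0 := by
      rw [ha, ← map_pow, sq_eq_zero_of_mem hm ham, map_zero]
    have hnil : IsNilpotent b := ⟨p * 2, by rw [pow_mul, h2]⟩
    exact hnil.isUnit_one_sub

theorem isLocalHom_Bq : IsLocalHom (algebraMap A (Bq p f)) := by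
  haveI := nontrivial_Bq p f
  constructor
  intro a ha
  by_contra hu
  have ham : a ∈ maximalIdeal A := (IsLocalRing.mem_maximalIdeal a).mpr hu
  have h2 : (algebraMap A (Bq p f) a) ^ 2 = 0 := by
    rw [← map_pow, sq_eq_zero_of_mem hm ham, map_zero]
  have : IsUnit ((algebraMap A (Bq p f) a) ^ 2) := ha.pow 2
  rw [h2] at this
  exact not_isUnit_zero this

omit hm in
theorem isIntegral_Bq : Algebra.IsIntegral A (Bq p f) := by
  constructor
  intro b
  obtain ⟨a, ha⟩ := pow_mem_range p f b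
  refine ⟨Polynomial.X ^ p - Polynomial.C a, Polynomial.monic_X_pow_sub_C a hp.out.ne_zero, ?_⟩
  simp [ha]

omit hm in
theorem finite_Bq : Module.Finite A (Bq p f) := by
  haveI := isIntegral_Bq p f
  exact Algebra.IsIntegral.finite

end local_

end Groth.Agent.Lib.helper25.PB
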