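import Mathlib

set_option autoImplicit false
set_option linter.unusedSectionVars false
universe u

namespace Groth.Agent.Lib.helper25.Cart

section fredholm
variable {L U V W : Type*} [Field L] [AddCommGroup U] [AddCommGroup V] [AddCommGroup W]
  [Module L U] [Module L V] [Module L W]

/-- kernel and cokernel are finite-dimensional. -/
def IsFred (f : U →ₗ[L] V) : Prop :=
  Module.Finite L (LinearMap.ker f) ∧ Module.Finite L (V ⧸ LinearMap.range f)

/-- `dim coker − dim ker`. -/
noncomputable def chi (f : U →ₗ[L] V) : ℤ :=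
  (Module.finrank L (V ⧸ LinearMap.range f) : ℤ) - Module.finrank L (LinearMap.ker f)

theorem finite_and_finrank_of_ker_range {X Y : Type*} [AddCommGroup X] [AddCommGroup Y] [Module L X]
    [Module L Y] (φ : X →ₗ[L] Y) [Module.Finite L (LinearMap.ker φ)]
    [Module.Finite L (LinearMap.range φ)] :
    Module.Finite L X ∧
      Module.finrank L X = Module.finrank L (LinearMap.range φ) + Module.finrank L (LinearMap.ker φ) := by
  have hfin : Module.Finite L X :=
    Module.Finite.of_exact (f := (LinearMap.ker φ).subtype) (g := φ.rangeRestrict)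
      (by
        intro x
        constructor
        · intro hx
          have hx' : φ x = 0 := congrArg Subtype.val hx
          exact ⟨⟨x, hx'⟩, rfl⟩
        · rintro ⟨y, rfl⟩
          exact Subtype.ext y.2)
      φ.surjective_rangeRestrict
  exact ⟨hfin, (LinearMap.finrank_range_add_finrank_ker φ).symm⟩

theorem isFred_comp_and_chi (f : U →ₗ[L] V) (g : V →ₗ[L] W) (hf : IsFred f) (hg : IsFred g) :
    IsFred (g ∘ₗ f) ∧ chi (g ∘ₗ f) = chi f + chi g := by
  obtain ⟨hf1, hf2⟩ := hf
  obtain ⟨hg1, hg2⟩ := hg
  -- the four maps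
  let φ₁ : LinearMap.ker (g ∘ₗ f) →ₗ[L] LinearMap.ker g :=
    LinearMap.codRestrict (LinearMap.ker g) (f ∘ₗ (LinearMap.ker (g ∘ₗ f)).subtype)
      (fun x => by
        have := x.2
        rw [LinearMap.mem_ker] at this ⊢
        exact this)
  let φ₂ : LinearMap.ker g →ₗ[L] V ⧸ LinearMap.range f :=
    (LinearMap.range f).mkQ ∘ₗ (LinearMap.ker g).subtype
  have h3 : LinearMap.range f ≤ Submodule.comap g (LinearMap.range (g ∘ₗ f)) := by
    rintro _ ⟨u, rfl⟩
    exact ⟨u, rfl⟩
  let φ₃ : (V ⧸ LinearMap.range f) →ₗ[L] W ⧸ LinearMap.range (g ∘ₗ f) :=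
    Submodule.mapQ (LinearMap.range f) (LinearMap.range (g ∘ₗ f)) g h3
  have h4 : LinearMap.range (g ∘ₗ f) ≤ Submodule.comap LinearMap.id (LinearMap.range g) := by
    rintro _ ⟨u, rfl⟩
    exact ⟨f u, rfl⟩
  let φ₄ : (W ⧸ LinearMap.range (g ∘ₗ f)) →ₗ[L] W ⧸ LinearMap.range g :=
    Submodule.mapQ (LinearMap.range (g ∘ₗ f)) (LinearMap.range g) LinearMap.id h4
  -- exactness
  have hle : LinearMap.ker f ≤ LinearMap.ker (g ∘ₗ f) := by
    intro x hx
    rw [LinearMap.mem_ker] at hx ⊢
    rw [LinearMap.comp_apply, hx, map_zero]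
  have e1 : LinearMap.ker φ₁ =
      Submodule.comap (LinearMap.ker (g ∘ₗ f)).subtype (LinearMap.ker f) := by
    ext x
    rw [LinearMap.mem_ker, Submodule.mem_comap, LinearMap.mem_ker]
    constructor
    · intro h
      exact congrArg Subtype.val h
    · intro h
      exact Subtype.ext h
  have e2 : LinearMap.range φ₁ = LinearMap.ker φ₂ := by
    ext y
    rw [LinearMap.mem_ker]
    change _ ↔ (LinearMap.range f).mkQ (y : V) = 0
    rw [Submodule.mkQ_apply, Submodule.Quotient.mk_eq_zero]
    constructor
    · rintro ⟨x, rfl⟩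
      exact ⟨x.1, rfl⟩
    · rintro ⟨u, hu⟩
      have hy : g (y : V) = 0 := y.2
      refine ⟨⟨u, ?_⟩, Subtype.ext hu⟩
      rw [LinearMap.mem_ker, LinearMap.comp_apply, hu, hy]
  have e3 : LinearMap.range φ₂ = LinearMap.ker φ₃ := by
    ext z
    obtain ⟨v, rfl⟩ := Submodule.Quotient.mk_surjective _ z
    rw [LinearMap.mem_ker]
    change _ ↔ Submodule.Quotient.mk (g v) = 0
    rw [Submodule.Quotient.mk_eq_zero]
    constructor
    · rintro ⟨y, hy⟩
      have hy' : Submodule.Quotient.mk (y : V) = (Submodule.Quotient.mk v : V ⧸ LinearMap.range f) := hy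
      rw [Submodule.Quotient.eq] at hy'
      obtain ⟨u, hu⟩ := hy'
      refine ⟨-u, ?_⟩
      have hyg : g (y : V) = 0 := y.2
      rw [LinearMap.comp_apply, map_neg, hu, neg_sub, map_sub, hyg, sub_zero]
    · rintro ⟨u, hu⟩
      have hker : v - f u ∈ LinearMap.ker g := by
        rw [LinearMap.mem_ker, map_sub, ← hu, LinearMap.comp_apply, sub_self]
      refine ⟨⟨v - f u, hker⟩, ?_⟩
      change Submodule.Quotient.mk (v - f u) = (Submodule.Quotient.mk v : V ⧸ LinearMap.range f)
      rw [Submodule.Quotient.eq]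
      exact ⟨-u, by rw [map_neg]; abel⟩
  have e4 : LinearMap.range φ₃ = LinearMap.ker φ₄ := by
    ext z
    obtain ⟨w, rfl⟩ := Submodule.Quotient.mk_surjective _ z
    rw [LinearMap.mem_ker]
    change _ ↔ Submodule.Quotient.mk w = (0 : W ⧸ LinearMap.range g)
    rw [Submodule.Quotient.mk_eq_zero]
    constructor
    · rintro ⟨z', hz'⟩
      obtain ⟨v, rfl⟩ := Submodule.Quotient.mk_surjective _ z'
      have h' : Submodule.Quotient.mk (g v) =
          (Submodule.Quotient.mk w : W ⧸ LinearMap.range (g ∘ₗ f)) := hz'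
      rw [Submodule.Quotient.eq] at h'
      obtain ⟨u, hu⟩ := h'
      refine ⟨v - f u, ?_⟩
      rw [map_sub, ← LinearMap.comp_apply, hu]
      abel
    · rintro ⟨v, rfl⟩
      exact ⟨Submodule.Quotient.mk v, rfl⟩
  have s4 : Function.Surjective φ₄ := by
    intro z
    obtain ⟨w, rfl⟩ := Submodule.Quotient.mk_surjective _ z
    exact ⟨Submodule.Quotient.mk w, rfl⟩
  -- finiteness and dimension count
  haveI := hf1
  haveI := hf2
  haveI := hg1
  haveI := hg2
  haveI : Module.Finite L (LinearMap.ker φ₁) := by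
    rw [e1]
    exact Module.Finite.equiv (Submodule.comapSubtypeEquivOfLe hle).symm
  have d1 := finite_and_finrank_of_ker_range φ₁
  have k1 : Module.finrank L (LinearMap.ker φ₁) = Module.finrank L (LinearMap.ker f) := by
    rw [e1]
    exact (Submodule.comapSubtypeEquivOfLe hle).finrank_eq
  have d2 := LinearMap.finrank_range_add_finrank_ker φ₂
  have d3 := LinearMap.finrank_range_add_finrank_ker φ₃
  haveI : Module.Finite L (LinearMap.ker φ₄) := by
    rw [← e4]
    infer_instance
  haveI : Module.Finite L (LinearMap.range φ₄) := by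
    rw [LinearMap.range_eq_top.2 s4]
    exact Module.Finite.equiv (Submodule.topEquiv (R := L) (M := W ⧸ LinearMap.range g)).symm
  have d4 := finite_and_finrank_of_ker_range φ₄
  have k4 : Module.finrank L (LinearMap.range φ₄) = Module.finrank L (W ⧸ LinearMap.range g) := by
    rw [LinearMap.range_eq_top.2 s4, finrank_top]
  refine ⟨⟨d1.1, d4.1⟩, ?_⟩
  unfold chi
  rw [d1.2, d4.2, k1, k4, ← e4]
  rw [← e2] at d2
  rw [← e3] at d3
  omega

end fredholm


section iso
variable {L U V W : Type*} [Field L] [AddCommGroup U] [AddCommGroup V] [AddCommGroup W]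
  [Module L U] [Module L V] [Module L W]

theorem isFred_equiv (e : U ≃ₗ[L] V) : IsFred e.toLinearMap ∧ chi e.toLinearMap = 0 := by
  have hk : LinearMap.ker e.toLinearMap = ⊥ := LinearMap.ker_eq_bot.2 e.injective
  have hr : LinearMap.range e.toLinearMap = ⊤ := LinearMap.range_eq_top.2 e.surjective
  haveI : Subsingleton (V ⧸ LinearMap.range e.toLinearMap) := by
    rw [hr]; infer_instance
  haveI : Subsingleton (LinearMap.ker e.toLinearMap) := by
    rw [hk]; infer_instance
  refine ⟨⟨inferInstance, inferInstance⟩, ?_⟩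
  unfold chi
  rw [Module.finrank_zero_of_subsingleton, Module.finrank_zero_of_subsingleton]
  simp

theorem isFred_comp_equiv_left (e : V ≃ₗ[L] W) (f : U →ₗ[L] V) (hf : IsFred f) :
    IsFred (e.toLinearMap ∘ₗ f) ∧ chi (e.toLinearMap ∘ₗ f) = chi f := by
  have h := isFred_comp_and_chi f e.toLinearMap hf (isFred_equiv e).1
  rw [(isFred_equiv e).2, add_zero] at h
  exact h

theorem isFred_comp_equiv_right (e : U ≃ₗ[L] V) (g : V →ₗ[L] W) (hg : IsFred g) :
    IsFred (g ∘ₗ e.toLinearMap) ∧ chi (g ∘ₗ e.toLinearMap) = chi g := by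
  have h := isFred_comp_and_chi e.toLinearMap g (isFred_equiv e).1 hg
  rw [(isFred_equiv e).2, zero_add] at h
  exact h

end iso

section baseChange
open TensorProduct
variable {L M X Y : Type*} [Field L] [Field M] [Algebra L M] [AddCommGroup X] [AddCommGroup Y]
  [Module L X] [Module L Y]

theorem isFred_baseChange (h : X →ₗ[L] Y) (hh : IsFred h) :
    IsFred (h.baseChange M) ∧ chi (h.baseChange M) = chi h := by
  obtain ⟨h1, h2⟩ := hh
  haveI := h1
  haveI := h2
  -- kernel
  let ek : M ⊗[L] LinearMap.ker h ≃ₗ[M] LinearMap.ker (h.baseChange M) :=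
    LinearMap.tensorKerEquiv M M h
  -- cokernel
  have hex : Function.Exact (h.baseChange M) ((LinearMap.range h).mkQ.baseChange M) := by
    have := lTensor_exact M (LinearMap.exact_map_mkQ_range h) (Submodule.mkQ_surjective _)
    exact this
  have hsurj : Function.Surjective ((LinearMap.range h).mkQ.baseChange M) := by
    have := LinearMap.lTensor_surjective M (Submodule.mkQ_surjective (LinearMap.range h))
    exact this
  let ec : ((M ⊗[L] Y) ⧸ LinearMap.range (h.baseChange M)) ≃ₗ[M] M ⊗[L] (Y ⧸ LinearMap.range h) :=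
    hex.linearEquivOfSurjective hsurj
  refine ⟨⟨Module.Finite.equiv ek, Module.Finite.equiv ec.symm⟩, ?_⟩
  unfold chi
  rw [← ek.finrank_eq, ec.finrank_eq, Module.finrank_baseChange, Module.finrank_baseChange]

end baseChange


section tower
open TensorProduct KaehlerDifferential
variable (R : Type*) [CommRing R] {K L M : Type*} [Field K] [Field L] [Field M]
  [Algebra R K] [Algebra R L] [Algebra R M] [Algebra K L] [Algebra L M] [Algebra K M]
  [IsScalarTower R K L] [IsScalarTower R L M] [IsScalarTower R K M] [IsScalarTower K L M]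

theorem map_map_tower (ω : Ω[K⁄R]) :
    KaehlerDifferential.map R R L M (KaehlerDifferential.map R R K L ω) =
      KaehlerDifferential.map R R K M ω := by
  have hω : ω ∈ Submodule.span K (Set.range (KaehlerDifferential.D R K)) := by
    rw [KaehlerDifferential.span_range_derivation]; trivial
  refine Submodule.span_induction ?_ ?_ ?_ ?_ hω
  · rintro _ ⟨a, rfl⟩
    rw [KaehlerDifferential.map_D, KaehlerDifferential.map_D, KaehlerDifferential.map_D,
      ← IsScalarTower.algebraMap_apply]
  · simp
  · intro x y _ _ hx hy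
    rw [map_add, map_add, map_add, hx, hy]
  · intro c x _ hx
    rw [map_smul (KaehlerDifferential.map R R K L), map_smul (KaehlerDifferential.map R R K M),
      ← hx, ← algebraMap_smul L c (KaehlerDifferential.map R R K L x),
      map_smul (KaehlerDifferential.map R R L M), algebraMap_smul]

theorem u_tower (t : M ⊗[K] Ω[K⁄R]) :
    mapBaseChange R L M ((mapBaseChange R K L).baseChange M
      ((AlgebraTensorModule.cancelBaseChange K L M M Ω[K⁄R]).symm t)) = mapBaseChange R K M t := by
  induction t using TensorProduct.induction_on with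
  | zero => simp
  | tmul m ω =>
    rw [AlgebraTensorModule.cancelBaseChange_symm_tmul, LinearMap.baseChange_tmul,
      mapBaseChange_tmul, mapBaseChange_tmul, one_smul, mapBaseChange_tmul, map_map_tower]
  | add x y hx hy => simp only [map_add, hx, hy]

theorem isFred_tower (h1 : IsFred (mapBaseChange R K L)) (h2 : IsFred (mapBaseChange R L M)) :
    IsFred (mapBaseChange R K M) ∧
      chi (mapBaseChange R K M) = chi (mapBaseChange R K L) + chi (mapBaseChange R L M) := by
  have hb := isFred_baseChange (M := M) (mapBaseChange R K L) h1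
  have hc := isFred_comp_and_chi ((mapBaseChange R K L).baseChange M) (mapBaseChange R L M) hb.1 h2
  have hd := isFred_comp_equiv_right (AlgebraTensorModule.cancelBaseChange K L M M Ω[K⁄R]).symm
    (mapBaseChange R L M ∘ₗ (mapBaseChange R K L).baseChange M) hc.1
  have heq : (mapBaseChange R L M ∘ₗ (mapBaseChange R K L).baseChange M) ∘ₗ
      (AlgebraTensorModule.cancelBaseChange K L M M Ω[K⁄R]).symm.toLinearMap =
      mapBaseChange R K M := by
    apply LinearMap.ext
    intro t
    exact u_tower R t
  rw [heq] at hd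
  refine ⟨hd.1, ?_⟩
  rw [hd.2, hc.2, hb.2]

end tower

end Groth.Agent.Lib.helper25.Cart
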