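import Mathlib
import Groth.Agent.Lib.helper25.Cart1
import Groth.Agent.Lib.helper25.Sep3

set_option autoImplicit false
set_option linter.unusedSectionVars false
universe u

namespace Groth.Agent.Lib.helper25.Cart

open TensorProduct KaehlerDifferential Algebra

section simpleAlg
variable {E L : Type u} [Field E] [Field L] [Algebra E L]

/-- for a simple algebraic extension, `dim H¹(L_{L/E}) = dim Ω[L/E]` (both finite). -/
theorem finrank_h1Cotangent_eq_of_simple_algebraic (x : L) (hx : IsAlgebraic E x)
    (htop : Algebra.adjoin E {x} = ⊤) :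
    Module.Finite L (Algebra.H1Cotangent E L) ∧ Module.Finite L (Ω[L⁄E]) ∧
      Module.finrank L (Algebra.H1Cotangent E L) = Module.finrank L (Ω[L⁄E]) := by
  have hsurj : Function.Surjective (MvPolynomial.aeval (R := E) (fun _ : Unit => x)) := by
    intro y
    have hy : y ∈ Algebra.adjoin E {x} := by rw [htop]; trivial
    have h1 : Algebra.adjoin E {x} = (MvPolynomial.aeval (R := E) (fun _ : Unit => x)).range := by
      rw [← Algebra.adjoin_range_eq_range_aeval]
      congr 1
      ext z
      simp
    rw [h1] at hy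
    exact hy
  let P : Algebra.Generators E L Unit := Algebra.Generators.ofSurjective (fun _ : Unit => x) hsurj
  let Q := P.toExtension
  haveI : IsDomain (MvPolynomial Unit E) := inferInstance
  haveI : IsPrincipalIdealRing (MvPolynomial Unit E) :=
    IsPrincipalIdealRing.of_surjective
      (MvPolynomial.uniqueAlgEquiv E Unit).symm.toRingEquiv.toRingHom
      (MvPolynomial.uniqueAlgEquiv E Unit).symm.surjective
  let I : Ideal (MvPolynomial Unit E) := Q.ker
  obtain ⟨g, hg⟩ := (IsPrincipalIdealRing.principal I).principal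
  have hg' : I = Ideal.span {g} := hg
  have hgmem : g ∈ I := by rw [hg']; exact Ideal.mem_span_singleton_self g
  have hmemker : ∀ y : MvPolynomial Unit E,
      y ∈ I ↔ MvPolynomial.aeval (R := E) (fun _ : Unit => x) y = 0 := by
    intro y
    have h1 : y ∈ I ↔ algebraMap P.Ring L y = 0 := Iff.rfl
    rw [h1, Algebra.Generators.algebraMap_apply]
    rfl
  have hne_top : I ≠ ⊤ := by
    intro h
    have h1 : (1 : MvPolynomial Unit E) ∈ I := by rw [h]; trivial
    have h2 := (hmemker 1).1 h1
    rw [map_one] at h2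
    exact one_ne_zero h2
  have hg0 : g ≠ 0 := by
    intro h0
    obtain ⟨q, hq0, hq⟩ := hx
    have h1 : Polynomial.aeval (MvPolynomial.X () : MvPolynomial Unit E) q ∈ I := by
      rw [hmemker, ← Polynomial.aeval_algHom_apply, MvPolynomial.aeval_X, hq]
    rw [hg', h0, Ideal.span_singleton_zero, Ideal.mem_bot] at h1
    have htr : Transcendental E (MvPolynomial.X () : MvPolynomial Unit E) :=
      (MvPolynomial.algebraicIndependent_X Unit E).transcendental ()
    exact hq0 ((transcendental_iff.1 htr) q h1)
  have hsq : g ∉ I ^ 2 := by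
    intro h
    rw [hg', Ideal.span_singleton_pow, Ideal.mem_span_singleton'] at h
    obtain ⟨a, ha⟩ := h
    have h1 : g * (a * g - 1) = 0 := by
      have : g * (a * g - 1) = a * g ^ 2 - g := by ring
      rw [this, ha, sub_self]
    have h2 : a * g = 1 := by
      rcases mul_eq_zero.1 h1 with h | h
      · exact absurd h hg0
      · exact sub_eq_zero.1 h
    apply hne_top
    rw [hg', Ideal.eq_top_iff_one, Ideal.mem_span_singleton']
    exact ⟨a, h2⟩
  let v : Q.Cotangent := Algebra.Extension.Cotangent.mk (P := Q) ⟨g, hgmem⟩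
  have hv : v ≠ 0 := by
    intro h
    rw [Algebra.Extension.Cotangent.mk_eq_zero_iff] at h
    exact hsq h
  have hspan : ∀ w : Q.Cotangent, ∃ c : L, c • v = w := by
    intro w
    obtain ⟨⟨y, hy⟩, rfl⟩ := Algebra.Extension.Cotangent.mk_surjective w
    have hy' : (y : MvPolynomial Unit E) ∈ I := hy
    rw [hg'] at hy'
    obtain ⟨a, ha⟩ := Ideal.mem_span_singleton'.1 hy'
    refine ⟨algebraMap Q.Ring L a, ?_⟩
    have h3 : (⟨y, hy⟩ : Q.ker) = a • (⟨g, hgmem⟩ : Q.ker) := Subtype.ext ha.symm
    rw [h3, map_smul, algebraMap_smul]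
  have h1 : Module.finrank L Q.Cotangent = 1 := (finrank_eq_one_iff_of_nonzero' v hv).2 hspan
  have h2 : Module.finrank L Q.CotangentSpace = 1 := by
    rw [Module.finrank_eq_card_basis P.cotangentSpaceBasis]
    simp
  haveI : Module.Finite L Q.Cotangent := Module.finite_of_finrank_pos (by rw [h1]; exact one_pos)
  haveI : Module.Finite L Q.CotangentSpace := Module.Finite.of_basis P.cotangentSpaceBasis
  let c : Q.Cotangent →ₗ[L] Q.CotangentSpace := Q.cotangentComplex
  let eΩ : (Q.CotangentSpace ⧸ LinearMap.range c) ≃ₗ[L] Ω[L⁄E] :=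
    (Q.exact_cotangentComplex_toKaehler).linearEquivOfSurjective Q.toKaehler_surjective
  let eH : (LinearMap.ker c) ≃ₗ[L] Algebra.H1Cotangent E L := P.equivH1Cotangent
  have d1 := LinearMap.finrank_range_add_finrank_ker c
  have d2 := Submodule.finrank_quotient_add_finrank (LinearMap.range c)
  refine ⟨Module.Finite.equiv eH, Module.Finite.equiv eΩ, ?_⟩
  rw [← eH.finrank_eq, ← eΩ.finrank_eq]
  omega

end simpleAlg


section kerCoker
variable (R : Type*) [CommRing R] (E L : Type*) [Field E] [Field L] [Algebra R E] [Algebra E L]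
  [Algebra R L] [IsScalarTower R E L]

/-- `coker(L ⊗ Ω[E/R] → Ω[L/R]) ≅ Ω[L/E]`. -/
noncomputable def cokerEquiv :
    (Ω[L⁄R] ⧸ LinearMap.range (mapBaseChange R E L)) ≃ₗ[L] Ω[L⁄E] :=
  (KaehlerDifferential.exact_mapBaseChange_map R E L).linearEquivOfSurjective
    (KaehlerDifferential.map_surjective R E L)

/-- when `L/R` is formally smooth, `ker(L ⊗ Ω[E/R] → Ω[L/R]) ≅ H¹(L_{L/E})`. -/
noncomputable def kerEquiv [Algebra.FormallySmooth R L] :
    Algebra.H1Cotangent E L ≃ₗ[L] LinearMap.ker (mapBaseChange R E L) := by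
  have hinj : Function.Injective (Algebra.H1Cotangent.δ R E L) := by
    rw [injective_iff_map_eq_zero]
    intro y hy
    obtain ⟨z, rfl⟩ := (Algebra.H1Cotangent.exact_map_δ R E L y).1 hy
    rw [Subsingleton.elim z 0, map_zero]
  have hrange : LinearMap.ker (mapBaseChange R E L) = LinearMap.range (Algebra.H1Cotangent.δ R E L) :=
    LinearMap.exact_iff.1 (Algebra.H1Cotangent.exact_δ_mapBaseChange R E L)
  exact (LinearEquiv.ofInjective _ hinj).trans (LinearEquiv.ofEq _ _ hrange.symm)

end kerCoker

section simpleAlgStep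
variable (R : Type*) [CommRing R] {E L : Type u} [Field E] [Field L] [Algebra R E] [Algebra E L]
  [Algebra R L] [IsScalarTower R E L]

theorem isFred_of_simple_algebraic [Algebra.FormallySmooth R L] (x : L) (hx : IsAlgebraic E x)
    (htop : Algebra.adjoin E {x} = ⊤) :
    IsFred (mapBaseChange R E L) ∧ chi (mapBaseChange R E L) = 0 := by
  obtain ⟨f1, f2, heq⟩ := finrank_h1Cotangent_eq_of_simple_algebraic x hx htop
  haveI := f1
  haveI := f2
  refine ⟨⟨Module.Finite.equiv (kerEquiv R E L), Module.Finite.equiv (cokerEquiv R E L).symm⟩, ?_⟩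
  unfold chi
  rw [(cokerEquiv R E L).finrank_eq, ← (kerEquiv R E L).finrank_eq, heq, sub_self]

end simpleAlgStep


section simpleTr
open Polynomial
variable (R : Type*) [CommRing R] {E L : Type u} [Field E] [Field L] [Algebra R E] [Algebra E L]
  [Algebra R L] [IsScalarTower R E L]

theorem finrank_kaehler_of_simple_transcendental (x : L) (hx : Transcendental E x)
    (htop : IntermediateField.adjoin E {x} = ⊤) :
    Module.Finite L (Ω[L⁄E]) ∧ Module.finrank L (Ω[L⁄E]) = 1 := by
  letI : Algebra E[X] L := (Polynomial.aeval x).toRingHom.toAlgebra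
  haveI : IsScalarTower E E[X] L := IsScalarTower.of_algebraMap_eq (fun c => by
    change algebraMap E L c = Polynomial.aeval x (Polynomial.C c)
    rw [Polynomial.aeval_C])
  have hinj : Function.Injective (algebraMap E[X] L) := by
    rw [injective_iff_map_eq_zero]
    intro q hq
    exact (transcendental_iff.1 hx) q hq
  haveI : FaithfulSMul E[X] L := (faithfulSMul_iff_algebraMap_injective E[X] L).2 hinj
  haveI : IsFractionRing E[X] L := IsFractionRing.of_field (R := E[X]) (K := L) (fun z => by
    have hz : z ∈ IntermediateField.adjoin E {x} := by rw [htop]; trivial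
    obtain ⟨r, s, hrs⟩ := (IntermediateField.mem_adjoin_simple_iff E z).1 hz
    exact ⟨r, s, hrs⟩)
  haveI : Algebra.FormallyEtale E[X] L :=
    Algebra.FormallyEtale.of_isLocalization (nonZeroDivisors E[X])
  let e1 : L ⊗[E[X]] Ω[E[X]⁄E] ≃ₗ[L] Ω[L⁄E] :=
    KaehlerDifferential.tensorKaehlerEquivOfFormallyEtale E E[X] L
  let e2 : L ⊗[E[X]] Ω[E[X]⁄E] ≃ₗ[L] L ⊗[E[X]] E[X] :=
    (KaehlerDifferential.polynomialEquiv E).baseChange E[X] L _ _
  let e3 : L ⊗[E[X]] E[X] ≃ₗ[L] L := TensorProduct.AlgebraTensorModule.rid E[X] L L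
  let e : L ≃ₗ[L] Ω[L⁄E] := (e3.symm.trans e2.symm).trans e1
  exact ⟨Module.Finite.equiv e, by rw [← e.finrank_eq, Module.finrank_self]⟩

theorem isFred_of_simple_transcendental (x : L) (hx : Transcendental E x)
    (htop : IntermediateField.adjoin E {x} = ⊤) :
    IsFred (mapBaseChange R E L) ∧ chi (mapBaseChange R E L) = 1 := by
  obtain ⟨f2, h2⟩ := finrank_kaehler_of_simple_transcendental x hx htop
  haveI := f2
  have hai : AlgebraicIndependent E (fun _ : Unit => x) := by
    rw [algebraicIndependent_unique_type_iff]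
    exact hx
  haveI : Algebra.IsSeparable (↥(IntermediateField.adjoin E (Set.range (fun _ : Unit => x)))) L := by
    have hr : Set.range (fun _ : Unit => x) = {x} := by
      ext z; simp
    rw [hr, htop]
    constructor
    intro z
    exact isSeparable_algebraMap (⟨z, trivial⟩ : (⊤ : IntermediateField E L))
  haveI : Algebra.FormallySmooth E L := .of_algebraicIndependent_of_isSeparable hai
  have hker : LinearMap.ker (mapBaseChange R E L) = ⊥ :=
    LinearMap.ker_eq_bot.2 (Groth.Agent.Lib.helper25.Sep.injective_mapBaseChange_of_formallySmooth R E L)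
  haveI : Subsingleton (LinearMap.ker (mapBaseChange R E L)) := by
    rw [hker]; infer_instance
  refine ⟨⟨inferInstance, Module.Finite.equiv (cokerEquiv R E L).symm⟩, ?_⟩
  unfold chi
  rw [(cokerEquiv R E L).finrank_eq, h2, Module.finrank_zero_of_subsingleton]
  simp

end simpleTr

end Groth.Agent.Lib.helper25.Cart
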