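import Mathlib
import Groth.Agent.Lib.helper25.Cart1
import Groth.Agent.Lib.helper25.Cart2
import Groth.Agent.Lib.helper25.Sep2

set_option autoImplicit false
set_option linter.unusedSectionVars false
universe u

namespace Groth.Agent.Lib.helper25.Cart

open TensorProduct KaehlerDifferential Algebra

section trdeg
variable {K L : Type u} [Field K] [Field L] [Algebra K L]

theorem isAlgebraic_of_simple_algebraic (x : L) (hx : IsAlgebraic K x)
    (htop : IntermediateField.adjoin K {x} = ⊤) : Algebra.IsAlgebraic K L := by
  haveI := IntermediateField.isAlgebraic_adjoin_simple hx.isIntegral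
  refine ⟨fun y => ?_⟩
  have hy : y ∈ IntermediateField.adjoin K {x} := by rw [htop]; trivial
  have := Algebra.IsAlgebraic.isAlgebraic (R := K) (⟨y, hy⟩ : IntermediateField.adjoin K {x})
  exact (IntermediateField.isAlgebraic_iff).1 this

theorem adjoin_eq_top_of_simple_algebraic (x : L) (hx : IsAlgebraic K x)
    (htop : IntermediateField.adjoin K {x} = ⊤) : Algebra.adjoin K {x} = ⊤ := by
  rw [← IntermediateField.adjoin_simple_toSubalgebra_of_isAlgebraic hx, htop]
  rfl

theorem trdeg_simple_transcendental (x : L) (hx : Transcendental K x)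
    (htop : IntermediateField.adjoin K {x} = ⊤) : Algebra.trdeg K L = 1 := by
  have hai : AlgebraicIndependent K (fun _ : PUnit.{u+1} => x) := by
    rw [algebraicIndependent_unique_type_iff]
    exact hx
  have hr : Set.range (fun _ : PUnit.{u+1} => x) = {x} := by
    ext y; simp [eq_comm]
  have hb : IsTranscendenceBasis K (fun _ : PUnit.{u+1} => x) := by
    rw [hai.isTranscendenceBasis_iff_isAlgebraic, hr]
    refine ⟨fun y => ?_⟩
    have hy : y ∈ IntermediateField.adjoin K {x} := by rw [htop]; trivial
    obtain ⟨r, hr, s, hs, rfl⟩ := IntermediateField.mem_adjoin_iff_div.1 hy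
    have h1 : IsAlgebraic (Algebra.adjoin K {x}) r :=
      isAlgebraic_algebraMap (⟨r, hr⟩ : Algebra.adjoin K {x})
    have h2 : IsAlgebraic (Algebra.adjoin K {x}) s :=
      isAlgebraic_algebraMap (⟨s, hs⟩ : Algebra.adjoin K {x})
    rw [div_eq_mul_inv]
    exact h1.mul h2.inv
  rw [← hb.cardinalMk_eq_trdeg]
  simp

end trdeg

section simple
variable (R : Type*) [CommRing R] {K L : Type u} [Field K] [Field L] [Algebra R K] [Algebra K L]
  [Algebra R L] [IsScalarTower R K L]

theorem isFred_of_simple [Algebra.FormallySmooth R L] (x : L)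
    (htop : IntermediateField.adjoin K {x} = ⊤) :
    ∃ n : ℕ, Algebra.trdeg K L = n ∧ IsFred (mapBaseChange R K L) ∧
      chi (mapBaseChange R K L) = n := by
  by_cases hx : IsAlgebraic K x
  · refine ⟨0, ?_, ?_⟩
    · haveI := isAlgebraic_of_simple_algebraic x hx htop
      simpa using trdeg_eq_zero (R := K) (A := L)
    · simpa using isFred_of_simple_algebraic R x hx (adjoin_eq_top_of_simple_algebraic x hx htop)
  · refine ⟨1, ?_, ?_⟩
    · simpa using trdeg_simple_transcendental x hx htop
    · simpa using isFred_of_simple_transcendental R x hx htop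

end simple

section main

theorem cartier (R : Type*) [CommRing R]
    (hFS : ∀ (E : Type u) [Field E] [Algebra R E], Algebra.FormallySmooth R E) :
    ∀ (n : ℕ) (K L : Type u) [Field K] [Field L] [Algebra R K] [Algebra K L] [Algebra R L]
      [IsScalarTower R K L] (a : Fin n → L), IntermediateField.adjoin K (Set.range a) = ⊤ →
      ∃ m : ℕ, Algebra.trdeg K L = m ∧ IsFred (mapBaseChange R K L) ∧
        chi (mapBaseChange R K L) = m := by
  intro n
  induction n with
  | zero =>
    intro K L _ _ _ _ _ _ a ha
    haveI := hFS L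
    refine isFred_of_simple R (0 : L) ?_
    rw [IntermediateField.adjoin_zero, ← ha, Set.range_eq_empty, IntermediateField.adjoin_empty]
  | succ n ih =>
    intro K L _ _ _ _ _ _ a ha
    let E : IntermediateField K L := IntermediateField.adjoin K {a 0}
    haveI : IsScalarTower R K E := inferInstance
    haveI : IsScalarTower R E L := IsScalarTower.of_algebraMap_eq (fun _ => rfl)
    haveI := hFS E
    have hgen : IntermediateField.adjoin K {IntermediateField.AdjoinSimple.gen K (a 0)} = ⊤ := by
      apply IntermediateField.lift_injective E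
      rw [IntermediateField.lift_adjoin_simple, IntermediateField.lift_top]
      rfl
    obtain ⟨m1, ht1, hf1, hc1⟩ := isFred_of_simple R (K := K) (L := E) _ hgen
    have htop2 : IntermediateField.adjoin E (Set.range (a ∘ Fin.succ)) = ⊤ := by
      apply IntermediateField.restrictScalars_injective K
      rw [IntermediateField.adjoin_adjoin_left, IntermediateField.restrictScalars_top, ← top_le_iff,
        ← ha, IntermediateField.adjoin_le_iff]
      rintro _ ⟨i, rfl⟩
      refine Fin.cases ?_ (fun j => ?_) i
      · exact IntermediateField.subset_adjoin _ _ (Or.inl rfl)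
      · exact IntermediateField.subset_adjoin _ _ (Or.inr ⟨j, rfl⟩)
    obtain ⟨m2, ht2, hf2, hc2⟩ := ih E L (a ∘ Fin.succ) htop2
    have hT := isFred_tower R (K := K) (L := E) (M := L) hf1 hf2
    refine ⟨m1 + m2, ?_, hT.1, ?_⟩
    · rw [← trdeg_add_eq (R := K) (S := E) (A := L), ht1, ht2]
      push_cast; rfl
    · rw [hT.2, hc1, hc2]; push_cast; rfl

end main

section perfectFS

/-- every field extension of a perfect field of characteristic `p` is formally smooth. -/
theorem formallySmooth_of_perfect (p : ℕ) [hp : Fact p.Prime] {F E : Type u} [Field F] [Field E]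
    [Algebra F E] [CharP F p] [PerfectRing F p] : Algebra.FormallySmooth F E := by
  haveI : CharP E p := charP_of_injective_algebraMap (algebraMap F E).injective p
  obtain ⟨B, hB, -⟩ := Groth.Agent.Lib.helper25.Adm.exists_pbasis_with_basis (k₀ := F) (K := E) p
  exact (Groth.Agent.Lib.helper25.PBasisC.S4541_aux (p := p) (Subtype.val : B → E) hB).1

end perfectFS

section transfer
variable (R F : Type*) [CommRing R] [CommRing F] [Algebra R F] [Algebra.FormallyUnramified R F]

section one
variable (K : Type*) [Field K] [Algebra R K] [Algebra F K] [IsScalarTower R F K]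

theorem bijective_map_of_formallyUnramified :
    Function.Bijective (KaehlerDifferential.map R F K K) := by
  refine ⟨?_, KaehlerDifferential.map_surjective R F K⟩
  rw [injective_iff_map_eq_zero]
  intro x hx
  obtain ⟨t, rfl⟩ := (KaehlerDifferential.exact_mapBaseChange_map R F K x).1 hx
  haveI : Subsingleton (Ω[F⁄R]) := inferInstance
  rw [Subsingleton.elim t 0, map_zero]

/-- `Ω[K/R] ≃ Ω[K/F]` when `F/R` is formally unramified. -/
noncomputable def mapEquiv : Ω[K⁄R] ≃ₗ[K] Ω[K⁄F] :=
  LinearEquiv.ofBijective (KaehlerDifferential.map R F K K)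
    (bijective_map_of_formallyUnramified R F K)

end one

variable {K L : Type*} [Field K] [Field L] [Algebra R K] [Algebra F K] [IsScalarTower R F K]
  [Algebra K L] [Algebra R L] [Algebra F L] [IsScalarTower R K L] [IsScalarTower F K L]
  [IsScalarTower R F L]

theorem transfer_square (t : L ⊗[K] Ω[K⁄R]) :
    mapBaseChange F K L (((mapEquiv R F K).toLinearMap.baseChange L) t) =
      mapEquiv R F L (mapBaseChange R K L t) := by
  induction t using TensorProduct.induction_on with
  | zero => simp
  | tmul c ω =>
    have hω : ω ∈ Submodule.span K (Set.range (KaehlerDifferential.D R K)) := by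
      rw [KaehlerDifferential.span_range_derivation]; trivial
    revert c
    refine Submodule.span_induction ?_ ?_ ?_ ?_ hω
    · rintro _ ⟨a, rfl⟩ c
      simp [mapEquiv]
    · simp
    · intro x y _ _ hx hy c
      rw [TensorProduct.tmul_add, map_add, map_add, map_add, map_add, hx, hy]
    · intro a x _ hx c
      rw [← TensorProduct.smul_tmul]
      exact hx (a • c)
  | add x y hx hy => rw [map_add, map_add, map_add, map_add, hx, hy]

theorem isFred_transfer (h : IsFred (mapBaseChange F K L)) :
    IsFred (mapBaseChange R K L) ∧ chi (mapBaseChange R K L) = chi (mapBaseChange F K L) := by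
  let e1 : L ⊗[K] Ω[K⁄R] ≃ₗ[L] L ⊗[K] Ω[K⁄F] := (mapEquiv R F K).baseChange K L _ _
  let e2 : Ω[L⁄R] ≃ₗ[L] Ω[L⁄F] := mapEquiv R F L
  have heq : mapBaseChange R K L =
      e2.symm.toLinearMap ∘ₗ (mapBaseChange F K L ∘ₗ e1.toLinearMap) := by
    apply LinearMap.ext
    intro t
    change _ = e2.symm (mapBaseChange F K L (e1 t))
    rw [LinearEquiv.eq_symm_apply]
    exact (transfer_square R F t).symm
  rw [heq]
  have h1 := isFred_comp_equiv_right e1 (mapBaseChange F K L) h
  have h2 := isFred_comp_equiv_left e2.symm _ h1.1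
  exact ⟨h2.1, h2.2.trans h1.2⟩

end transfer

section final
variable {K L : Type u} [Field K] [Field L] [Algebra K L] [Algebra.EssFiniteType K L]

theorem exists_fin_generators : ∃ (n : ℕ) (a : Fin n → L),
    IntermediateField.adjoin K (Set.range a) = ⊤ := by
  obtain ⟨t, ht⟩ := IntermediateField.fg_top_iff.2 (inferInstance : Algebra.EssFiniteType K L)
  refine ⟨t.card, fun i => (t.equivFin.symm i : L), ?_⟩
  rw [← ht]
  congr 1
  ext y
  constructor
  · rintro ⟨i, rfl⟩
    exact (t.equivFin.symm i).2
  · intro hy
    exact ⟨t.equivFin ⟨y, hy⟩, by simp⟩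

/-- Cartier's equality over the base `ℤ`. -/
theorem cartier_int : ∃ m : ℕ, Algebra.trdeg K L = m ∧ IsFred (mapBaseChange ℤ K L) ∧
    chi (mapBaseChange ℤ K L) = m := by
  obtain ⟨n, a, ha⟩ := exists_fin_generators (K := K) (L := L)
  obtain _ | ⟨p, hp, hpk⟩ := CharP.exists' K
  · -- characteristic zero: base ℚ
    haveI : CharZero L := charZero_of_injective_algebraMap (algebraMap K L).injective
    haveI : IsScalarTower ℚ K L := IsScalarTower.of_algebraMap_eq (fun q => by
      rw [eq_ratCast, eq_ratCast, map_ratCast])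
    haveI : Algebra.FormallyUnramified ℤ ℚ :=
      Algebra.FormallyUnramified.of_isLocalization (nonZeroDivisors ℤ)
    obtain ⟨m, h1, h2, h3⟩ := cartier ℚ
      (fun E _ _ => Groth.Agent.Lib.helper25.Sep.formallySmooth_of_charZero') n K L a ha
    have ht := isFred_transfer ℤ ℚ (K := K) (L := L) h2
    exact ⟨m, h1, ht.1, ht.2.trans h3⟩
  · haveI : CharP L p := charP_of_injective_algebraMap (algebraMap K L).injective p
    obtain ⟨F, _, _, _, _, _, _, hsurj⟩ :=
      Groth.Agent.Lib.helper25.Sep.exists_perfect_base (k := K) (K := L) p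
    haveI : Algebra.FormallyUnramified ℤ F := Algebra.FormallyUnramified.of_surjective
      (Algebra.ofId ℤ F) hsurj
    obtain ⟨m, h1, h2, h3⟩ := cartier F
      (fun E _ _ => formallySmooth_of_perfect p) n K L a ha
    have ht := isFred_transfer ℤ F (K := K) (L := L) h2
    exact ⟨m, h1, ht.1, ht.2.trans h3⟩

theorem S2469_aux :
    Module.Finite L (Ω[L⁄K]) ∧ Module.Finite L (LinearMap.ker (mapBaseChange ℤ K L)) ∧
      (Module.finrank L (Ω[L⁄K]) : ℤ) - Module.finrank L (LinearMap.ker (mapBaseChange ℤ K L)) =
        Cardinal.toNat (Algebra.trdeg K L) := by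
  obtain ⟨m, h1, ⟨hk, hc⟩, h3⟩ := cartier_int (K := K) (L := L)
  haveI := hk
  haveI := hc
  refine ⟨Module.Finite.equiv (cokerEquiv ℤ K L), hk, ?_⟩
  rw [h1, Cardinal.toNat_natCast, ← (cokerEquiv ℤ K L).finrank_eq, ← h3]
  rfl

end final

end Groth.Agent.Lib.helper25.Cart
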