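import Mathlib
import Groth.Agent.Lib.helper25.KerCotU
import Groth.Agent.Lib.helper25.Cart3

set_option autoImplicit false
set_option linter.unusedSectionVars false
universe u

namespace Groth.Agent.Lib.helper25.PB

open TensorProduct KaehlerDifferential IsLocalRing Groth.Agent.Lib.helper25.Cart

section L1
variable {R : Type u} [CommRing R] [IsLocalRing R] (p : ℕ) [hp : Fact p.Prime]
  [CharP (ResidueField R) p]

theorem natCast_mem_maximalIdeal : (p : R) ∈ maximalIdeal R := by
  rw [← IsLocalRing.residue_eq_zero_iff, map_natCast]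
  exact CharP.cast_eq_zero _ p

theorem ker_algebraMap_residueField :
    RingHom.ker (algebraMap R (ResidueField R)) = maximalIdeal R := IsLocalRing.ker_residue

/-- If `x ∈ m` and `1 ⊗ dx = 0` in `κ ⊗ Ω_{R/ℤ}` then `x ∈ m² + (p)`. -/
theorem mem_sq_sup_of_tmul_D_eq_zero (x : R) (hx : x ∈ maximalIdeal R)
    (h : (1 : ResidueField R) ⊗ₜ[R] D ℤ R x = 0) :
    x ∈ maximalIdeal R ^ 2 ⊔ Ideal.span {(p : R)} := by
  letI : Field (ℤ ⧸ Ideal.span {(p : ℤ)}) := Ideal.Quotient.field _
  letI : Algebra (ℤ ⧸ Ideal.span {(p : ℤ)}) (ResidueField R) :=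
    (Ideal.Quotient.lift (Ideal.span {(p : ℤ)}) (algebraMap ℤ (ResidueField R)) (by
      intro a ha
      obtain ⟨b, rfl⟩ := Ideal.mem_span_singleton'.mp ha
      rw [map_mul, map_natCast, CharP.cast_eq_zero, mul_zero])).toAlgebra
  haveI := IsScalarTower.of_algebraMap_eq (R := ℤ) (S := ℤ ⧸ Ideal.span {(p : ℤ)})
    (A := ResidueField R) (fun x => rfl)
  haveI : Finite (ℤ ⧸ Ideal.span {(p : ℤ)}) :=
    Finite.of_equiv _ (Int.quotientSpanNatEquivZMod p).symm.toEquiv
  haveI : PerfectField (ℤ ⧸ Ideal.span {(p : ℤ)}) := PerfectField.ofFinite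
  haveI : Algebra.IsGeometricallyReduced (ℤ ⧸ Ideal.span {(p : ℤ)}) (ResidueField R) :=
    Groth.Agent.Lib.helper7.GeomRed3.isGeometricallyReduced_of_perfectField _ _
  haveI : Algebra.FormallySmooth (ℤ ⧸ Ideal.span {(p : ℤ)}) (ResidueField R) :=
    Groth.Agent.Lib.helper25.Sep.formallySmooth_of_isGeometricallyReduced'
  have hpk : (p : R) ∈ RingHom.ker (algebraMap R (ResidueField R)) := by
    rw [ker_algebraMap_residueField]; exact natCast_mem_maximalIdeal p
  have hxk : x ∈ RingHom.ker (algebraMap R (ResidueField R)) := by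
    rw [ker_algebraMap_residueField]; exact hx
  have := Groth.Agent.Lib.helper25.KerCotU.mem_K_of_kerToTensor (Λ := ℤ) (A := R)
    (C := ResidueField R) p hpk IsLocalRing.residue_surjective ⟨x, hxk⟩ (by
      rw [kerCotangentToTensor_toCotangent]; exact h)
  have h2 : x ∈ RingHom.ker (algebraMap R (ResidueField R)) ^ 2 ⊔ Ideal.span {(p : R)} := this
  rwa [ker_algebraMap_residueField] at h2

/-- the conormal map `m/m² → κ ⊗ Ω_{R/ℤ}` as a `κ`-linear map. -/
noncomputable def cotMap : CotangentSpace R →ₗ[ResidueField R] ResidueField R ⊗[R] Ω[R⁄ℤ] :=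
  LinearMap.extendScalarsOfSurjective IsLocalRing.residue_surjective
    ((kerCotangentToTensor ℤ R (ResidueField R)) ∘ₗ
      (Ideal.mapCotangent (maximalIdeal R) (RingHom.ker (algebraMap R (ResidueField R)))
        (AlgHom.id R R) (by rw [ker_algebraMap_residueField]; exact le_rfl)))

theorem cotMap_toCotangent (x : maximalIdeal R) :
    cotMap ((maximalIdeal R).toCotangent x) = (1 : ResidueField R) ⊗ₜ[R] D ℤ R (x : R) := by
  rw [cotMap]
  simp only [LinearMap.extendScalarsOfSurjective_apply, LinearMap.comp_apply]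
  rw [Ideal.mapCotangent_toCotangent, kerCotangentToTensor_toCotangent]
  rfl

theorem cotMap_injective (hp2 : (p : R) ∈ maximalIdeal R ^ 2) :
    Function.Injective (cotMap (R := R)) := by
  rw [injective_iff_map_eq_zero]
  intro y hy
  obtain ⟨x, rfl⟩ := Ideal.toCotangent_surjective _ y
  rw [cotMap_toCotangent] at hy
  have h1 := mem_sq_sup_of_tmul_D_eq_zero p (x : R) x.2 hy
  have h2 : maximalIdeal R ^ 2 ⊔ Ideal.span {(p : R)} ≤ maximalIdeal R ^ 2 :=
    sup_le le_rfl (by rw [Ideal.span_le, Set.singleton_subset_iff]; exact hp2)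
  exact (Ideal.toCotangent_eq_zero _ _).mpr (h2 h1)

theorem range_cotMap :
    LinearMap.range (cotMap (R := R)) = LinearMap.ker (mapBaseChange ℤ R (ResidueField R)) := by
  apply le_antisymm
  · rintro _ ⟨y, rfl⟩
    obtain ⟨x, rfl⟩ := Ideal.toCotangent_surjective _ y
    rw [cotMap_toCotangent, LinearMap.mem_ker, mapBaseChange_tmul, one_smul, map_D]
    have : algebraMap R (ResidueField R) (x : R) = 0 :=
      (IsLocalRing.residue_eq_zero_iff _).mpr x.2
    rw [this, map_zero]
  · intro z hz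
    have hex := KaehlerDifferential.exact_kerCotangentToTensor_mapBaseChange ℤ R (ResidueField R)
      IsLocalRing.residue_surjective
    obtain ⟨c, rfl⟩ := (hex z).mp hz
    obtain ⟨x, rfl⟩ := Ideal.toCotangent_surjective _ c
    have hxm : (x : R) ∈ maximalIdeal R := by
      rw [← ker_algebraMap_residueField]; exact x.2
    refine ⟨(maximalIdeal R).toCotangent ⟨x, hxm⟩, ?_⟩
    rw [cotMap_toCotangent, kerCotangentToTensor_toCotangent]

/-- `ρ_R : κ ⊗ Ω_{R/ℤ} → Ω_{κ/ℤ}` is Fredholm of index `-edim R`. -/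
theorem isFred_rho [IsNoetherianRing R] (hp2 : (p : R) ∈ maximalIdeal R ^ 2) :
    IsFred (mapBaseChange ℤ R (ResidueField R)) ∧
      chi (mapBaseChange ℤ R (ResidueField R)) =
        -(Module.finrank (ResidueField R) (CotangentSpace R) : ℤ) := by
  have hsurj : Function.Surjective (mapBaseChange ℤ R (ResidueField R)) :=
    KaehlerDifferential.mapBaseChange_surjective ℤ R (ResidueField R)
      IsLocalRing.residue_surjective
  have hr : LinearMap.range (mapBaseChange ℤ R (ResidueField R)) = ⊤ :=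
    LinearMap.range_eq_top.mpr hsurj
  have e : CotangentSpace R ≃ₗ[ResidueField R]
      LinearMap.ker (mapBaseChange ℤ R (ResidueField R)) :=
    (LinearEquiv.ofInjective cotMap (cotMap_injective p hp2)).trans
      (LinearEquiv.ofEq _ _ range_cotMap)
  haveI : Subsingleton (Ω[ResidueField R⁄ℤ] ⧸ LinearMap.range (mapBaseChange ℤ R (ResidueField R))) := by
    rw [hr]; infer_instance
  refine ⟨⟨Module.Finite.equiv e, inferInstance⟩, ?_⟩
  have hz : Module.finrank (ResidueField R)
      (Ω[ResidueField R⁄ℤ] ⧸ LinearMap.range (mapBaseChange ℤ R (ResidueField R))) = 0 :=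
    Module.finrank_zero_of_subsingleton
  rw [chi, hz, ← e.finrank_eq]
  simp

end L1

end Groth.Agent.Lib.helper25.PB
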