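import Mathlib
import Groth.Agent.Lib.helper25.PB2
import Groth.Agent.Lib.helper25.Cart1

set_option autoImplicit false
set_option linter.unusedSectionVars false
universe u

namespace Groth.Agent.Lib.helper25.PB

open TensorProduct KaehlerDifferential

section Tr
variable (R : Type*) [CommRing R] {K L M : Type*} [CommRing K] [CommRing L] [CommRing M]
  [Algebra R K] [Algebra R L] [Algebra R M] [Algebra K L] [Algebra L M] [Algebra K M]
  [IsScalarTower R K L] [IsScalarTower R L M] [IsScalarTower R K M] [IsScalarTower K L M]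

/-- the transition map `M ⊗_K Ω[K/R] → M ⊗_L Ω[L/R]` (rings). -/
noncomputable def Tr : M ⊗[K] Ω[K⁄R] →ₗ[M] M ⊗[L] Ω[L⁄R] :=
  (mapBaseChange R K L).baseChange M ∘ₗ
    (AlgebraTensorModule.cancelBaseChange K L M M Ω[K⁄R]).symm.toLinearMap

theorem Tr_tmul (m : M) (ω : Ω[K⁄R]) :
    Tr R (L := L) (m ⊗ₜ[K] ω) = m ⊗ₜ[L] KaehlerDifferential.map R R K L ω := by
  rw [Tr, LinearMap.comp_apply, LinearEquiv.coe_coe, AlgebraTensorModule.cancelBaseChange_symm_tmul,
    LinearMap.baseChange_tmul, mapBaseChange_tmul, one_smul]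

theorem Tr_tmul_D (m : M) (x : K) :
    Tr R (L := L) (m ⊗ₜ[K] D R K x) = m ⊗ₜ[L] D R L (algebraMap K L x) := by
  rw [Tr_tmul, KaehlerDifferential.map_D]

theorem map_map_tower' (ω : Ω[K⁄R]) :
    KaehlerDifferential.map R R L M (KaehlerDifferential.map R R K L ω) =
      KaehlerDifferential.map R R K M ω := by
  have hω : ω ∈ Submodule.span K (Set.range (KaehlerDifferential.D R K)) := by
    rw [KaehlerDifferential.span_range_derivation]; trivial
  refine Submodule.span_induction ?_ ?_ ?_ ?_ hω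
  · rintro _ ⟨a, rfl⟩
    rw [KaehlerDifferential.map_D, KaehlerDifferential.map_D, KaehlerDifferential.map_D,
      ← IsScalarTower.algebraMap_apply]
  · simp
  · intro x y _ _ hx hy
    rw [map_add, map_add, map_add, hx, hy]
  · intro c x _ hx
    rw [map_smul (KaehlerDifferential.map R R K L), map_smul (KaehlerDifferential.map R R K M),
      ← hx, ← algebraMap_smul L c (KaehlerDifferential.map R R K L x),
      map_smul (KaehlerDifferential.map R R L M), algebraMap_smul]

theorem mapBaseChange_Tr (t : M ⊗[K] Ω[K⁄R]) :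
    mapBaseChange R L M (Tr R (L := L) t) = mapBaseChange R K M t := by
  induction t using TensorProduct.induction_on with
  | zero => simp
  | tmul m ω =>
    rw [Tr_tmul, mapBaseChange_tmul, mapBaseChange_tmul, map_map_tower']
  | add x y hx hy => simp only [map_add, hx, hy]

/-- two `M`-linear maps out of `M ⊗_K Ω[K/R]` agreeing on `1 ⊗ dx` are equal. -/
theorem ext_tmul_D {N : Type*} [AddCommGroup N] [Module M N]
    (g h : M ⊗[K] Ω[K⁄R] →ₗ[M] N)
    (H : ∀ x : K, g ((1 : M) ⊗ₜ[K] D R K x) = h ((1 : M) ⊗ₜ[K] D R K x)) : g = h := by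
  apply LinearMap.ext
  intro t
  induction t using TensorProduct.induction_on with
  | zero => simp
  | add x y hx hy => rw [map_add, map_add, hx, hy]
  | tmul m ω =>
    have hω : ω ∈ Submodule.span K (Set.range (KaehlerDifferential.D R K)) := by
      rw [KaehlerDifferential.span_range_derivation]; trivial
    induction hω using Submodule.span_induction generalizing m with
    | mem y hy =>
      obtain ⟨x, rfl⟩ := hy
      have : m ⊗ₜ[K] D R K x = m • ((1 : M) ⊗ₜ[K] D R K x) := by
        rw [TensorProduct.smul_tmul', smul_eq_mul, mul_one]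
      rw [this, map_smul, map_smul, H]
    | zero => simp
    | add a b _ _ ha hb =>
      rw [TensorProduct.tmul_add, map_add, map_add, ha, hb]
    | smul c a _ ha =>
      rw [← TensorProduct.smul_tmul]
      exact ha (c • m)

end Tr

section ret
attribute [local instance] MvPolynomial.algebraMvPolynomial

variable {A : Type u} [CommRing A]

/-- coefficientwise derivation on a polynomial ring. -/
theorem exists_derivation_mvPolynomial {σ : Type*} {N : Type*} [AddCommGroup N]
    [Module (MvPolynomial σ A) N] [Module A N] [IsScalarTower A (MvPolynomial σ A) N]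
    (φ : Ω[A⁄ℤ] →ₗ[A] N) :
    ∃ δ : Derivation ℤ (MvPolynomial σ A) N,
      (∀ a, δ (MvPolynomial.C a) = φ (D ℤ A a)) ∧ ∀ i, δ (MvPolynomial.X i) = 0 := by
  let e := tensorKaehlerEquiv ℤ (MvPolynomial σ ℤ) A (MvPolynomial σ A)
  let δ₀ : Derivation (MvPolynomial σ ℤ) (MvPolynomial σ A) (MvPolynomial σ A ⊗[A] Ω[A⁄ℤ]) :=
    e.symm.toLinearMap.compDer (D (MvPolynomial σ ℤ) (MvPolynomial σ A))
  let ψ : MvPolynomial σ A ⊗[A] Ω[A⁄ℤ] →ₗ[MvPolynomial σ A] N :=
    LinearMap.liftBaseChange (MvPolynomial σ A) φ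
  refine ⟨ψ.compDer (δ₀.restrictScalars ℤ), ?_, ?_⟩
  · intro a
    have h1 : e ((1 : MvPolynomial σ A) ⊗ₜ[A] D ℤ A a) =
        D (MvPolynomial σ ℤ) (MvPolynomial σ A) (MvPolynomial.C a) := by
      rw [tensorKaehlerEquiv_tmul_D, one_smul]
      rfl
    have h2 : e.symm (D (MvPolynomial σ ℤ) (MvPolynomial σ A) (MvPolynomial.C a)) =
        (1 : MvPolynomial σ A) ⊗ₜ[A] D ℤ A a := by
      rw [← h1, LinearEquiv.symm_apply_apply]
    show ψ (e.symm (D (MvPolynomial σ ℤ) (MvPolynomial σ A) (MvPolynomial.C a))) = _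
    rw [h2, LinearMap.liftBaseChange_tmul, one_smul]
  · intro i
    have h1 : (MvPolynomial.X i : MvPolynomial σ A) =
        algebraMap (MvPolynomial σ ℤ) (MvPolynomial σ A) (MvPolynomial.X i) := by
      rw [MvPolynomial.algebraMap_def, MvPolynomial.map_X]
    show ψ (e.symm (D (MvPolynomial σ ℤ) (MvPolynomial σ A) (MvPolynomial.X i))) = _
    rw [h1, Derivation.map_algebraMap, map_zero, map_zero]

end ret


section descend
variable {P B : Type*} [CommRing P] [CommRing B] (π : P →+* B) (hπ : Function.Surjective π)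
  {N : Type*} [AddCommGroup N] [Module P N] [Module B N]

include hπ in
theorem exists_derivation_of_surjective (hPB : ∀ (x : P) (n : N), x • n = π x • n)
    (δ : Derivation ℤ P N) (h : ∀ x, π x = 0 → δ x = 0) :
    ∃ δ' : Derivation ℤ B N, ∀ x, δ' (π x) = δ x := by
  let s : B → P := Function.surjInv hπ
  have hs : ∀ y, π (s y) = y := Function.surjInv_eq hπ
  have key : ∀ x y : P, π x = π y → δ x = δ y := by
    intro x y hxy
    have h1 : π (x - y) = 0 := by rw [map_sub, hxy, sub_self]
    have h2 := h _ h1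
    rwa [map_sub, sub_eq_zero] at h2
  have hmk : ∀ x, δ (s (π x)) = δ x := fun x => key _ _ (hs _)
  refine ⟨{ toLinearMap :=
              { toFun := fun y => δ (s y)
                map_add' := ?_
                map_smul' := ?_ }
            map_one_eq_zero' := ?_
            leibniz' := ?_ }, hmk⟩
  · intro y₁ y₂
    show δ (s (y₁ + y₂)) = δ (s y₁) + δ (s y₂)
    rw [← map_add]
    apply key
    rw [hs, map_add, hs, hs]
  · intro n y
    show δ (s (n • y)) = n • δ (s y)
    rw [← map_zsmul]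
    apply key
    rw [hs, map_zsmul, hs]
  · show δ (s 1) = 0
    rw [← δ.map_one_eq_zero]
    apply key
    rw [hs, map_one]
  · intro a b
    show δ (s (a * b)) = a • δ (s b) + b • δ (s a)
    have h1 : δ (s (a * b)) = δ (s a * s b) := by
      apply key
      rw [hs, map_mul, hs, hs]
    rw [h1, δ.leibniz, hPB, hPB, hs, hs]

end descend

section abs
variable {A : Type u} [CommRing A] (p : ℕ) {r : ℕ} (f : Fin r → A)
  {B : Type*} [CommRing B] [Algebra A B] [Algebra (MvPolynomial (Fin r) A) B]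
  [IsScalarTower A (MvPolynomial (Fin r) A) B]
  (hπ : Function.Surjective (algebraMap (MvPolynomial (Fin r) A) B))
  (hker : ∀ x, algebraMap (MvPolynomial (Fin r) A) B x = 0 ↔ x ∈ Iq p f)

/-- the class of `T_i` in `B`. -/
noncomputable def tB (B : Type*) [CommRing B] [Algebra (MvPolynomial (Fin r) A) B] (i : Fin r) : B :=
  algebraMap (MvPolynomial (Fin r) A) B (MvPolynomial.X i)

include hker in
theorem tB_pow (i : Fin r) : tB (A := A) B i ^ p = algebraMap A B (f i) := by
  have h1 : algebraMap (MvPolynomial (Fin r) A) B (MvPolynomial.X i ^ p - MvPolynomial.C (f i)) = 0 :=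
    (hker _).mpr (Ideal.subset_span ⟨i, rfl⟩)
  rw [map_sub, sub_eq_zero, map_pow] at h1
  rw [tB, h1, ← MvPolynomial.algebraMap_eq, ← IsScalarTower.algebraMap_apply]

include hπ hker in
theorem exists_derivation_B {N : Type*} [AddCommGroup N] [Module B N] [Module A N]
    [IsScalarTower A B N] (φ : Ω[A⁄ℤ] →ₗ[A] N) (hφ : ∀ i, φ (D ℤ A (f i)) = 0) :
    ∃ δ' : Derivation ℤ B N, ∀ a, δ' (algebraMap A B a) = φ (D ℤ A a) := by
  letI : Module (MvPolynomial (Fin r) A) N :=
    Module.compHom N (algebraMap (MvPolynomial (Fin r) A) B)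
  have hsm : ∀ (x : MvPolynomial (Fin r) A) (n : N),
      x • n = (algebraMap (MvPolynomial (Fin r) A) B x) • n := fun _ _ => rfl
  haveI : IsScalarTower A (MvPolynomial (Fin r) A) N := ⟨fun a x n => by
    rw [hsm, hsm, Algebra.smul_def, map_mul, ← IsScalarTower.algebraMap_apply, mul_smul,
      algebraMap_smul]⟩
  obtain ⟨δ, hC, hX⟩ := exists_derivation_mvPolynomial (σ := Fin r) φ
  have hI : ∀ x ∈ Iq p f, δ x = 0 := by
    intro x hx
    induction hx using Submodule.span_induction with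
    | mem y hy =>
      obtain ⟨i, rfl⟩ := hy
      rw [map_sub, Derivation.leibniz_pow, hX, smul_zero, smul_zero, hC, hφ, sub_zero]
    | zero => exact map_zero _
    | add a b _ _ ha hb => rw [map_add, ha, hb, add_zero]
    | smul a x hx ih =>
      rw [smul_eq_mul, δ.leibniz, ih, smul_zero, zero_add, hsm]
      have : algebraMap (MvPolynomial (Fin r) A) B x = 0 := (hker x).mpr hx
      rw [this]
      exact zero_smul B (δ a)
  obtain ⟨δ', hδ'⟩ := exists_derivation_of_surjective
    (algebraMap (MvPolynomial (Fin r) A) B) hπ hsm δ (fun x hx => hI x ((hker x).mp hx))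
  refine ⟨δ', fun a => ?_⟩
  have h1 : algebraMap A B a = algebraMap (MvPolynomial (Fin r) A) B (MvPolynomial.C a) := by
    rw [← MvPolynomial.algebraMap_eq, ← IsScalarTower.algebraMap_apply]
  rw [h1]
  exact (hδ' (MvPolynomial.C a)).trans (hC a)

variable (Q : Type*) [CommRing Q] [Algebra A Q] [Algebra B Q] [IsScalarTower A B Q]

/-- the family `1 ⊗ d f_i ∈ Q ⊗_A Ω_A`. -/
noncomputable def wq (i : Fin r) : Q ⊗[A] Ω[A⁄ℤ] := (1 : Q) ⊗ₜ[A] D ℤ A (f i)

include hker in
theorem Tr_wq (hpA : (p : A) = 0) (i : Fin r) :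
    Tr ℤ (K := A) (L := B) (M := Q) (wq f Q i) = 0 := by
  have hp0 : (p : B) = 0 := by
    rw [← map_natCast (algebraMap A B), hpA, map_zero]
  have h0 : D ℤ B (tB (A := A) B i ^ p) = 0 := by
    rw [Derivation.leibniz_pow, ← Nat.cast_smul_eq_nsmul B, hp0]
    exact zero_smul B (tB (A := A) B i ^ (p - 1) • D ℤ B (tB (A := A) B i))
  rw [wq, Tr_tmul_D, ← tB_pow p f hker, h0, TensorProduct.tmul_zero]

include hπ hker in
theorem exists_retraction {N : Type*} [AddCommGroup N] [Module Q N] [Module B N]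
    [IsScalarTower B Q N] [Module A N] [IsScalarTower A B N] [IsScalarTower A Q N]
    (q : Q ⊗[A] Ω[A⁄ℤ] →ₗ[Q] N) (hq : ∀ i, q (wq f Q i) = 0) :
    ∃ σ : Q ⊗[B] Ω[B⁄ℤ] →ₗ[Q] N,
      σ ∘ₗ Tr ℤ (K := A) (L := B) (M := Q) = q := by
  let φ : Ω[A⁄ℤ] →ₗ[A] N := (q.restrictScalars A) ∘ₗ (TensorProduct.mk A Q Ω[A⁄ℤ] 1)
  obtain ⟨δ', hδ'⟩ := exists_derivation_B p f hπ hker φ (fun i => hq i)
  refine ⟨LinearMap.liftBaseChange Q δ'.liftKaehlerDifferential, ?_⟩
  apply ext_tmul_D ℤ
  intro a
  rw [LinearMap.comp_apply, Tr_tmul_D, LinearMap.liftBaseChange_tmul, one_smul,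
    Derivation.liftKaehlerDifferential_comp_D, hδ']
  rfl

include hπ hker in
theorem mem_span_of_Tr_eq_zero (x : Q ⊗[A] Ω[A⁄ℤ])
    (hx : Tr ℤ (K := A) (L := B) (M := Q) x = 0) :
    x ∈ Submodule.span Q (Set.range (wq f Q)) := by
  obtain ⟨σ, hσ⟩ := exists_retraction p f hπ hker Q (Submodule.span Q (Set.range (wq f Q))).mkQ
    (fun i => (Submodule.Quotient.mk_eq_zero _).mpr (Submodule.subset_span ⟨i, rfl⟩))
  have h1 : (Submodule.span Q (Set.range (wq f Q))).mkQ x = 0 := by
    rw [← hσ, LinearMap.comp_apply, hx, map_zero]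
  exact (Submodule.Quotient.mk_eq_zero _).mp h1

include hπ hker in
theorem ker_Tr (hpA : (p : A) = 0) :
    LinearMap.ker (Tr ℤ (K := A) (L := B) (M := Q)) =
      Submodule.span Q (Set.range (wq f Q)) := by
  apply le_antisymm
  · intro x hx
    exact mem_span_of_Tr_eq_zero p f hπ hker Q x hx
  · rw [Submodule.span_le]
    rintro _ ⟨i, rfl⟩
    exact Tr_wq p f hker Q hpA i

end abs

end Groth.Agent.Lib.helper25.PB
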