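import Mathlib
import Groth.Agent.Lib.helper25.PB3

set_option autoImplicit false
set_option linter.unusedSectionVars false
universe u

namespace Groth.Agent.Lib.helper25.PB

open TensorProduct KaehlerDifferential Groth.Agent.Lib.helper25.Cart

section coker
variable {A : Type u} [CommRing A] (p : ℕ) {r : ℕ} (f : Fin r → A)
  {B : Type*} [CommRing B] [Algebra A B] [Algebra (MvPolynomial (Fin r) A) B]
  [IsScalarTower A (MvPolynomial (Fin r) A) B]
  (hπ : Function.Surjective (algebraMap (MvPolynomial (Fin r) A) B))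
  (hker : ∀ x, algebraMap (MvPolynomial (Fin r) A) B x = 0 ↔ x ∈ Iq p f)

include hker in
theorem tmul_D_eq_zero_of_mem (hpA : (p : A) = 0) (x : MvPolynomial (Fin r) A)
    (hx : x ∈ Iq p f) :
    (1 : B) ⊗ₜ[MvPolynomial (Fin r) A] D A (MvPolynomial (Fin r) A) x = 0 := by
  induction hx using Submodule.span_induction with
  | mem y hy =>
    obtain ⟨i, rfl⟩ := hy
    have hp0 : (p : MvPolynomial (Fin r) A) = 0 := by
      rw [← map_natCast (algebraMap A (MvPolynomial (Fin r) A)), hpA, map_zero]
    have h0 : D A (MvPolynomial (Fin r) A) (MvPolynomial.X i ^ p) = 0 := by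
      rw [Derivation.leibniz_pow, ← Nat.cast_smul_eq_nsmul (MvPolynomial (Fin r) A), hp0]
      exact zero_smul (MvPolynomial (Fin r) A)
        (MvPolynomial.X i ^ (p - 1) • D A (MvPolynomial (Fin r) A) (MvPolynomial.X i))
    have h1 : D A (MvPolynomial (Fin r) A) (MvPolynomial.C (f i)) = 0 := by
      rw [← MvPolynomial.algebraMap_eq, Derivation.map_algebraMap]
    rw [map_sub, h0, h1, sub_zero, TensorProduct.tmul_zero]
  | zero => rw [map_zero, TensorProduct.tmul_zero]
  | add a b _ _ ha hb => rw [map_add, TensorProduct.tmul_add, ha, hb, add_zero]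
  | smul a x hx ih =>
    rw [smul_eq_mul, Derivation.leibniz, TensorProduct.tmul_add, TensorProduct.tmul_smul,
      TensorProduct.tmul_smul, ih, smul_zero, zero_add, TensorProduct.smul_tmul']
    have : x • (1 : B) = 0 := by
      rw [Algebra.smul_def, mul_one]
      exact (hker x).mpr hx
    rw [this, TensorProduct.zero_tmul]

include hπ hker in
theorem mapBaseChange_P_bijective (hpA : (p : A) = 0) :
    Function.Bijective (mapBaseChange A (MvPolynomial (Fin r) A) B) := by
  refine ⟨?_, mapBaseChange_surjective A (MvPolynomial (Fin r) A) B hπ⟩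
  rw [injective_iff_map_eq_zero]
  intro z hz
  have hex := KaehlerDifferential.exact_kerCotangentToTensor_mapBaseChange A
    (MvPolynomial (Fin r) A) B hπ
  obtain ⟨c, rfl⟩ := (hex z).mp hz
  obtain ⟨x, rfl⟩ := Ideal.toCotangent_surjective _ c
  rw [kerCotangentToTensor_toCotangent]
  apply tmul_D_eq_zero_of_mem p f hker hpA
  have := x.2
  rw [RingHom.mem_ker] at this
  exact (hker _).mp this

/-- `Ω[B/A]` is free on `dT_i`. -/
noncomputable def basisOmega (hpA : (p : A) = 0) :
    Module.Basis (Fin r) B Ω[B⁄A] :=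
  ((KaehlerDifferential.mvPolynomialBasis A (Fin r)).baseChange B).map
    (LinearEquiv.ofBijective (mapBaseChange A (MvPolynomial (Fin r) A) B)
      (mapBaseChange_P_bijective p f hπ hker hpA))

variable (Q : Type*) [Field Q] [Algebra A Q] [Algebra B Q] [IsScalarTower A B Q]

include hπ hker in
theorem finrank_tensor_omega (hpA : (p : A) = 0) :
    Module.Finite Q (Q ⊗[B] Ω[B⁄A]) ∧ Module.finrank Q (Q ⊗[B] Ω[B⁄A]) = r := by
  let b := (basisOmega p f hπ hker hpA).baseChange Q
  refine ⟨Module.Finite.of_basis b, ?_⟩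
  rw [Module.finrank_eq_card_basis b, Fintype.card_fin]

omit [Algebra (MvPolynomial (Fin r) A) B] [IsScalarTower A (MvPolynomial (Fin r) A) B] in
theorem range_Tr :
    LinearMap.range (Tr ℤ (K := A) (L := B) (M := Q)) =
      LinearMap.ker ((KaehlerDifferential.map ℤ A B B).baseChange Q) := by
  have hex : Function.Exact ((mapBaseChange ℤ A B).baseChange Q)
      ((KaehlerDifferential.map ℤ A B B).baseChange Q) :=
    lTensor_exact Q (KaehlerDifferential.exact_mapBaseChange_map ℤ A B)
      (KaehlerDifferential.map_surjective ℤ A B)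
  rw [LinearMap.exact_iff.mp hex, Tr, LinearMap.range_comp_of_range_eq_top]
  exact LinearEquiv.range _

include hπ hker in
theorem isFred_Tr (hpA : (p : A) = 0) :
    IsFred (Tr ℤ (K := A) (L := B) (M := Q)) ∧
      chi (Tr ℤ (K := A) (L := B) (M := Q)) =
        (r : ℤ) - Module.finrank Q (Submodule.span Q (Set.range (wq f Q))) := by
  have hsurj : Function.Surjective ((KaehlerDifferential.map ℤ A B B).baseChange Q) :=
    LinearMap.lTensor_surjective Q (KaehlerDifferential.map_surjective ℤ A B)
  have ec : ((Q ⊗[B] Ω[B⁄ℤ]) ⧸ LinearMap.range (Tr ℤ (K := A) (L := B) (M := Q)))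
      ≃ₗ[Q] Q ⊗[B] Ω[B⁄A] :=
    (Submodule.quotEquivOfEq _ _ (range_Tr Q)).trans
      (LinearMap.quotKerEquivOfSurjective _ hsurj)
  have ek : LinearMap.ker (Tr ℤ (K := A) (L := B) (M := Q)) ≃ₗ[Q]
      Submodule.span Q (Set.range (wq f Q)) := LinearEquiv.ofEq _ _ (ker_Tr p f hπ hker Q hpA)
  obtain ⟨hfin, hrk⟩ := finrank_tensor_omega p f hπ hker Q hpA
  haveI : Module.Finite Q (Submodule.span Q (Set.range (wq f Q))) :=
    Module.Finite.span_of_finite Q (Set.finite_range _)
  refine ⟨⟨Module.Finite.equiv ek.symm, Module.Finite.equiv ec.symm⟩, ?_⟩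
  rw [chi, ec.finrank_eq, hrk, ek.finrank_eq]

end coker

end Groth.Agent.Lib.helper25.PB
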