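import Mathlib
import Groth.Agent.Lib.helper25.PB1
import Groth.Agent.Lib.helper25.PB4
import Groth.Agent.Lib.helper25.Cart3

set_option autoImplicit false
set_option linter.unusedSectionVars false
universe u

namespace Groth.Agent.Lib.helper25.PB

open TensorProduct KaehlerDifferential IsLocalRing Groth.Agent.Lib.helper25.Cart

section LI
variable {A : Type*} [CommRing A] {K K' : Type*} [Field K] [Field K'] [Algebra A K]
  [Algebra A K'] [Algebra K K'] [IsScalarTower A K K'] {V : Type*} [AddCommGroup V] [Module A V]
  {ι : Type*}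

theorem linearIndependent_tmul_iff (v : ι → V) :
    LinearIndependent K' (fun i => (1 : K') ⊗ₜ[A] v i) ↔
      LinearIndependent K (fun i => (1 : K) ⊗ₜ[A] v i) := by
  constructor
  · intro h
    have h1 : LinearIndependent K (fun i => (1 : K') ⊗ₜ[A] v i) := h.restrict_scalars' K
    let j : K ⊗[A] V →ₗ[K] K' ⊗[A] V :=
      AlgebraTensorModule.map (Algebra.linearMap K K') (LinearMap.id : V →ₗ[A] V)
    have hj : (fun i => (1 : K') ⊗ₜ[A] v i) = j ∘ (fun i => (1 : K) ⊗ₜ[A] v i) := by
      funext i
      simp [j]
    rw [hj] at h1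
    exact h1.of_comp
  · intro h
    have h1 : LinearIndependent K' (fun i => (1 : K') ⊗ₜ[K] ((1 : K) ⊗ₜ[A] v i)) :=
      Module.Flat.linearIndependent_one_tmul (S := K') h
    let e := AlgebraTensorModule.cancelBaseChange A K K' K' V
    have h2 := h1.map' e.toLinearMap e.ker
    have he : (e.toLinearMap ∘ fun i => (1 : K') ⊗ₜ[K] ((1 : K) ⊗ₜ[A] v i)) =
        fun i => (1 : K') ⊗ₜ[A] v i := by
      funext i
      simp [e]
    rwa [he] at h2

end LI

section towers
variable {A B : Type u} [CommRing A] [CommRing B] [IsLocalRing A] [IsLocalRing B] [Algebra A B]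
  [IsLocalHom (algebraMap A B)]

omit [IsLocalRing A] [IsLocalHom (algebraMap A B)] in
theorem tower_e1 :
    mapBaseChange ℤ B (ResidueField B) ∘ₗ Tr ℤ (K := A) (L := B) (M := ResidueField B) =
      mapBaseChange ℤ A (ResidueField B) := by
  apply LinearMap.ext
  intro t
  rw [LinearMap.comp_apply]
  exact mapBaseChange_Tr ℤ t

theorem tower_e2 : mapBaseChange ℤ (ResidueField A) (ResidueField B) ∘ₗ
      ((mapBaseChange ℤ A (ResidueField A)).baseChange (ResidueField B) ∘ₗ
        (AlgebraTensorModule.cancelBaseChange A (ResidueField A) (ResidueField B)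
          (ResidueField B) Ω[A⁄ℤ]).symm.toLinearMap) =
      mapBaseChange ℤ A (ResidueField B) := by
  apply LinearMap.ext
  intro t
  rw [LinearMap.comp_apply]
  exact mapBaseChange_Tr ℤ (K := A) (L := ResidueField A) t

end towers

section abstract_
variable {A B : Type u} [CommRing A] [CommRing B] [IsLocalRing A] [IsLocalRing B] [Algebra A B]
  [IsLocalHom (algebraMap A B)] [Module.Finite A B] [IsNoetherianRing A] [IsNoetherianRing B]
  (p : ℕ) [hp : Fact p.Prime] {r : ℕ} (f : Fin r → A)

theorem charP_residueField_of_natCast_eq_zero {R : Type*} [CommRing R] [IsLocalRing R]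
    (h : (p : R) = 0) : CharP (ResidueField R) p := by
  apply (CharP.charP_iff_prime_eq_zero hp.out).mpr
  rw [← map_natCast (algebraMap R (ResidueField R)), h, map_zero]

theorem main_abstract (hpA : (p : A) = 0)
    (hβ : IsFred (Tr ℤ (K := A) (L := B) (M := ResidueField B)) ∧
      chi (Tr ℤ (K := A) (L := B) (M := ResidueField B)) =
        (r : ℤ) - Module.finrank (ResidueField B)
          (Submodule.span (ResidueField B) (Set.range (wq f (ResidueField B))))) :
    (Module.finrank (ResidueField A) (CotangentSpace A) =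
        Module.finrank (ResidueField B) (CotangentSpace B) ↔
      LinearIndependent (ResidueField A)
        (fun i => (1 : ResidueField A) ⊗ₜ[A] KaehlerDifferential.D ℤ A (f i))) := by
  have hpB : (p : B) = 0 := by rw [← map_natCast (algebraMap A B), hpA, map_zero]
  haveI : CharP (ResidueField A) p := charP_residueField_of_natCast_eq_zero p hpA
  haveI : CharP (ResidueField B) p := charP_residueField_of_natCast_eq_zero p hpB
  have hρA := isFred_rho (R := A) p (by rw [hpA]; exact zero_mem _)
  have hρB := isFred_rho (R := B) p (by rw [hpB]; exact zero_mem _)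
  -- the residue field extension
  obtain ⟨m, hm1, hu, hm3⟩ := cartier_int (K := ResidueField A) (L := ResidueField B)
  have hm0 : m = 0 := by
    have h0 : Algebra.trdeg (ResidueField A) (ResidueField B) = 0 := trdeg_eq_zero
    rw [h0] at hm1
    exact_mod_cast hm1.symm
  subst hm0
  -- T_AK
  have hb := isFred_baseChange (M := ResidueField B) (mapBaseChange ℤ A (ResidueField A)) hρA.1
  have hT := isFred_comp_equiv_right
    (AlgebraTensorModule.cancelBaseChange A (ResidueField A) (ResidueField B)
      (ResidueField B) Ω[A⁄ℤ]).symm _ hb.1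
  have h1 := isFred_comp_and_chi _ (mapBaseChange ℤ B (ResidueField B)) hβ.1 hρB.1
  have h2 := isFred_comp_and_chi _ (mapBaseChange ℤ (ResidueField A) (ResidueField B)) hT.1 hu
  have e1 := tower_e1 (A := A) (B := B)
  have e2 := tower_e2 (A := A) (B := B)
  rw [e1] at h1
  rw [e2] at h2
  have key := h1.2.symm.trans h2.2
  have hm3' : chi (mapBaseChange ℤ (ResidueField A) (ResidueField B)) = ((0 : ℕ) : ℤ) := hm3
  rw [hβ.2, hρB.2, hT.2, hb.2, hρA.2, hm3'] at key
  rw [← linearIndependent_tmul_iff (K' := ResidueField B)]
  have hLI := linearIndependent_iff_card_eq_finrank_span (R := ResidueField B)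
    (b := wq f (ResidueField B))
  rw [Fintype.card_fin] at hLI
  change _ ↔ LinearIndependent (ResidueField B) (wq f (ResidueField B))
  rw [hLI]
  unfold Set.finrank
  push_cast at key
  omega

end abstract_

end Groth.Agent.Lib.helper25.PB
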