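import Mathlib
import Groth.Agent.Lib.helper25.PB3

set_option autoImplicit false
set_option linter.unusedSectionVars false
universe u

namespace Groth.Agent.Lib.helper25.PC

open TensorProduct KaehlerDifferential Groth.Agent.Lib.helper25.PB

section descend
variable {R P B : Type*} [CommRing R] [CommRing P] [CommRing B] [Algebra R P] [Algebra R B]
  (π : P →ₐ[R] B) (hπ : Function.Surjective π)
  {N : Type*} [AddCommGroup N] [Module P N] [Module B N] [Module R N] [IsScalarTower R P N]
  [IsScalarTower R B N]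

include hπ in
theorem exists_derivation_of_surjective (hPB : ∀ (x : P) (n : N), x • n = π x • n)
    (δ : Derivation R P N) (h : ∀ x, π x = 0 → δ x = 0) :
    ∃ δ' : Derivation R B N, ∀ x, δ' (π x) = δ x := by
  let s : B → P := Function.surjInv hπ
  have hs : ∀ y, π (s y) = y := Function.surjInv_eq hπ
  have key : ∀ x y : P, π x = π y → δ x = δ y := by
    intro x y hxy
    have h1 : π (x - y) = 0 := by rw [map_sub, hxy, sub_self]
    have h2 := h _ h1
    rwa [map_sub, sub_eq_zero] at h2
  have hmk : ∀ x, δ (s (π x)) = δ x := fun x => key _ _ (hs _)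
  refine ⟨{ toLinearMap :=
              { toFun := fun y => δ (s y)
                map_add' := ?_
                map_smul' := ?_ }
            map_one_eq_zero' := ?_
            leibniz' := ?_ }, hmk⟩
  · intro y₁ y₂
    show δ (s (y₁ + y₂)) = δ (s y₁) + δ (s y₂)
    rw [← map_add]
    apply key
    rw [hs, map_add, hs, hs]
  · intro c y
    show δ (s (c • y)) = c • δ (s y)
    rw [← δ.map_smul]
    apply key
    rw [hs, map_smul, hs]
  · show δ (s 1) = 0
    rw [← δ.map_one_eq_zero]
    apply key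
    rw [hs, map_one]
  · intro a b
    show δ (s (a * b)) = a • δ (s b) + b • δ (s a)
    have h1 : δ (s (a * b)) = δ (s a * s b) := by
      apply key
      rw [hs, map_mul, hs, hs]
    rw [h1, δ.leibniz, hPB, hPB, hs, hs]

end descend

section gen
variable {A : Type u} [CommRing A] (p : ℕ) {r : ℕ} (f : Fin r → A)
  (G : Fin r → MvPolynomial (Fin r) A)

/-- `F_i = T_i^p + p G_i - f_i`. -/
noncomputable abbrev Fg (i : Fin r) : MvPolynomial (Fin r) A :=
  MvPolynomial.X i ^ p + (p : MvPolynomial (Fin r) A) * G i - MvPolynomial.C (f i)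

/-- the ideal `(F_i)`. -/
noncomputable abbrev Jg : Ideal (MvPolynomial (Fin r) A) := Ideal.span (Set.range (Fg p f G))

variable {B : Type*} [CommRing B] [Algebra A B] [Algebra (MvPolynomial (Fin r) A) B]
  [IsScalarTower A (MvPolynomial (Fin r) A) B]
  (hπ : Function.Surjective (algebraMap (MvPolynomial (Fin r) A) B))
  (hker : ∀ x, algebraMap (MvPolynomial (Fin r) A) B x = 0 ↔ x ∈ Jg p f G)

include hker in
theorem algebraMap_f (i : Fin r) :
    algebraMap A B (f i) = tB (A := A) B i ^ p +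
      (p : B) * algebraMap (MvPolynomial (Fin r) A) B (G i) := by
  have h1 : algebraMap (MvPolynomial (Fin r) A) B (Fg p f G i) = 0 :=
    (hker _).mpr (Ideal.subset_span ⟨i, rfl⟩)
  rw [map_sub, sub_eq_zero, map_add, map_pow, map_mul, map_natCast] at h1
  rw [tB, h1, ← MvPolynomial.algebraMap_eq, ← IsScalarTower.algebraMap_apply]

include hπ hker in
theorem exists_derivation_B {N : Type*} [AddCommGroup N] [Module B N] [Module A N]
    [IsScalarTower A B N] (hpN : ∀ n : N, (p : B) • n = 0)
    (φ : Ω[A⁄ℤ] →ₗ[A] N) (hφ : ∀ i, φ (D ℤ A (f i)) = 0) :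
    ∃ δ' : Derivation ℤ B N, ∀ a, δ' (algebraMap A B a) = φ (D ℤ A a) := by
  letI : Module (MvPolynomial (Fin r) A) N :=
    Module.compHom N (algebraMap (MvPolynomial (Fin r) A) B)
  have hsm : ∀ (x : MvPolynomial (Fin r) A) (n : N),
      x • n = (algebraMap (MvPolynomial (Fin r) A) B x) • n := fun _ _ => rfl
  haveI : IsScalarTower A (MvPolynomial (Fin r) A) N := ⟨fun a x n => by
    rw [hsm, hsm, Algebra.smul_def, map_mul, ← IsScalarTower.algebraMap_apply, mul_smul,
      algebraMap_smul]⟩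
  obtain ⟨δ, hC, hX⟩ := exists_derivation_mvPolynomial (σ := Fin r) φ
  have hI : ∀ x ∈ Jg p f G, δ x = 0 := by
    intro x hx
    induction hx using Submodule.span_induction with
    | mem y hy =>
      obtain ⟨i, rfl⟩ := hy
      have h1 : δ (MvPolynomial.X i ^ p) = 0 := by
        rw [Derivation.leibniz_pow, hX, smul_zero, smul_zero]
      have h2 : δ ((p : MvPolynomial (Fin r) A) * G i) = 0 := by
        rw [δ.leibniz, Derivation.map_natCast, smul_zero, add_zero, hsm, map_natCast]
        exact hpN _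
      rw [map_sub, map_add, h1, h2, hC, hφ, add_zero, sub_zero]
    | zero => exact map_zero _
    | add a b _ _ ha hb => rw [map_add, ha, hb, add_zero]
    | smul a x hx ih =>
      rw [smul_eq_mul, δ.leibniz, ih, smul_zero, zero_add, hsm]
      have : algebraMap (MvPolynomial (Fin r) A) B x = 0 := (hker x).mpr hx
      rw [this]
      exact zero_smul B (δ a)
  obtain ⟨δ', hδ'⟩ := PB.exists_derivation_of_surjective
    (algebraMap (MvPolynomial (Fin r) A) B) hπ hsm δ (fun x hx => hI x ((hker x).mp hx))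
  refine ⟨δ', fun a => ?_⟩
  have h1 : algebraMap A B a = algebraMap (MvPolynomial (Fin r) A) B (MvPolynomial.C a) := by
    rw [← MvPolynomial.algebraMap_eq, ← IsScalarTower.algebraMap_apply]
  rw [h1]
  exact (hδ' (MvPolynomial.C a)).trans (hC a)

variable (Q : Type*) [CommRing Q] [Algebra A Q] [Algebra B Q] [IsScalarTower A B Q]

include hker in
theorem Tr_wq (hpQ : (p : Q) = 0) (i : Fin r) :
    Tr ℤ (K := A) (L := B) (M := Q) (wq f Q i) = 0 := by
  have h0 : D ℤ B (algebraMap A B (f i)) =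
      p • (tB (A := A) B i ^ (p - 1) • D ℤ B (tB (A := A) B i) +
        D ℤ B (algebraMap (MvPolynomial (Fin r) A) B (G i))) := by
    rw [algebraMap_f p f G hker, map_add, Derivation.leibniz_pow, Derivation.leibniz,
      Derivation.map_natCast, smul_zero, add_zero, Nat.cast_smul_eq_nsmul B, ← smul_add]
  have h1 : p • (1 : Q) = 0 := by
    rw [nsmul_eq_mul, hpQ, zero_mul]
  rw [wq, Tr_tmul_D, h0, ← TensorProduct.smul_tmul, h1, TensorProduct.zero_tmul]

include hπ hker in
theorem exists_retraction (hpQ : (p : Q) = 0) {N : Type*} [AddCommGroup N] [Module Q N]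
    [Module B N] [IsScalarTower B Q N] [Module A N] [IsScalarTower A B N] [IsScalarTower A Q N]
    (q : Q ⊗[A] Ω[A⁄ℤ] →ₗ[Q] N) (hq : ∀ i, q (wq f Q i) = 0) :
    ∃ σ : Q ⊗[B] Ω[B⁄ℤ] →ₗ[Q] N,
      σ ∘ₗ Tr ℤ (K := A) (L := B) (M := Q) = q := by
  let φ : Ω[A⁄ℤ] →ₗ[A] N := (q.restrictScalars A) ∘ₗ (TensorProduct.mk A Q Ω[A⁄ℤ] 1)
  have hpN : ∀ n : N, (p : B) • n = 0 := by
    intro n
    rw [← algebraMap_smul Q (p : B) n, map_natCast, hpQ, zero_smul]
  obtain ⟨δ', hδ'⟩ := exists_derivation_B p f G hπ hker hpN φ (fun i => hq i)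
  refine ⟨LinearMap.liftBaseChange Q δ'.liftKaehlerDifferential, ?_⟩
  apply ext_tmul_D ℤ
  intro a
  rw [LinearMap.comp_apply, Tr_tmul_D, LinearMap.liftBaseChange_tmul, one_smul,
    Derivation.liftKaehlerDifferential_comp_D, hδ']
  rfl

include hπ hker in
theorem mem_span_of_Tr_eq_zero (hpQ : (p : Q) = 0) (x : Q ⊗[A] Ω[A⁄ℤ])
    (hx : Tr ℤ (K := A) (L := B) (M := Q) x = 0) :
    x ∈ Submodule.span Q (Set.range (wq f Q)) := by
  obtain ⟨σ, hσ⟩ := exists_retraction p f G hπ hker Q hpQ
    (Submodule.span Q (Set.range (wq f Q))).mkQ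
    (fun i => (Submodule.Quotient.mk_eq_zero _).mpr (Submodule.subset_span ⟨i, rfl⟩))
  have h1 : (Submodule.span Q (Set.range (wq f Q))).mkQ x = 0 := by
    rw [← hσ, LinearMap.comp_apply, hx, map_zero]
  exact (Submodule.Quotient.mk_eq_zero _).mp h1

include hπ hker in
theorem ker_Tr (hpQ : (p : Q) = 0) :
    LinearMap.ker (Tr ℤ (K := A) (L := B) (M := Q)) =
      Submodule.span Q (Set.range (wq f Q)) := by
  apply le_antisymm
  · intro x hx
    exact mem_span_of_Tr_eq_zero p f G hπ hker Q hpQ x hx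
  · rw [Submodule.span_le]
    rintro _ ⟨i, rfl⟩
    exact Tr_wq p f G hker Q hpQ i

end gen

end Groth.Agent.Lib.helper25.PC
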