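import Mathlib
import Groth.Agent.Lib.helper25.PC3
import Groth.Agent.Lib.helper25.PB4

set_option autoImplicit false
set_option linter.unusedSectionVars false
universe u

namespace Groth.Agent.Lib.helper25.PC

open TensorProduct KaehlerDifferential Groth.Agent.Lib.helper25.PB Groth.Agent.Lib.helper25.Cart

section coker
variable {A : Type u} [CommRing A] (p : ℕ) {r : ℕ} (f : Fin r → A)
  (G : Fin r → MvPolynomial (Fin r) A)
  {B : Type*} [CommRing B] [Algebra A B] [Algebra (MvPolynomial (Fin r) A) B]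
  [IsScalarTower A (MvPolynomial (Fin r) A) B]
  (hπ : Function.Surjective (algebraMap (MvPolynomial (Fin r) A) B))
  (hker : ∀ x, algebraMap (MvPolynomial (Fin r) A) B x = 0 ↔ x ∈ Jg p f G)
  (Q : Type*) [Field Q] [Algebra A Q] [Algebra B Q] [IsScalarTower A B Q]
  [Algebra (MvPolynomial (Fin r) A) Q] [IsScalarTower (MvPolynomial (Fin r) A) B Q]
  [IsScalarTower A (MvPolynomial (Fin r) A) Q]

include hker in
theorem tmul_D_eq_zero_of_mem (hpQ : (p : Q) = 0) (x : MvPolynomial (Fin r) A)
    (hx : x ∈ Jg p f G) :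
    (1 : Q) ⊗ₜ[MvPolynomial (Fin r) A] D A (MvPolynomial (Fin r) A) x = 0 := by
  induction hx using Submodule.span_induction with
  | mem y hy =>
    obtain ⟨i, rfl⟩ := hy
    have h0 : D A (MvPolynomial (Fin r) A) (Fg p f G i) =
        p • ((MvPolynomial.X i : MvPolynomial (Fin r) A) ^ (p - 1) •
            D A (MvPolynomial (Fin r) A) (MvPolynomial.X i) +
          D A (MvPolynomial (Fin r) A) (G i)) := by
      have h1 : D A (MvPolynomial (Fin r) A) (MvPolynomial.C (f i)) = 0 :=
        Derivation.map_algebraMap (D A (MvPolynomial (Fin r) A)) (f i)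
      rw [map_sub, map_add, h1, sub_zero, Derivation.leibniz_pow, Derivation.leibniz,
        Derivation.map_natCast, smul_zero, add_zero,
        Nat.cast_smul_eq_nsmul (MvPolynomial (Fin r) A), ← smul_add]
    have h1 : p • (1 : Q) = 0 := by
      rw [nsmul_eq_mul, hpQ, zero_mul]
    rw [h0, ← TensorProduct.smul_tmul, h1, TensorProduct.zero_tmul]
  | zero => rw [map_zero, TensorProduct.tmul_zero]
  | add a b _ _ ha hb => rw [map_add, TensorProduct.tmul_add, ha, hb, add_zero]
  | smul a x hx ih =>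
    rw [smul_eq_mul, Derivation.leibniz, TensorProduct.tmul_add, TensorProduct.tmul_smul,
      ih, smul_zero, zero_add, ← TensorProduct.smul_tmul]
    have : x • (1 : Q) = 0 := by
      rw [Algebra.smul_def, mul_one, IsScalarTower.algebraMap_apply (MvPolynomial (Fin r) A) B Q,
        (hker x).mpr hx, map_zero]
    rw [this, TensorProduct.zero_tmul]

include hπ hker in
theorem Tr_A_bijective (hpQ : (p : Q) = 0) :
    Function.Bijective (Tr A (K := MvPolynomial (Fin r) A) (L := B) (M := Q)) := by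
  constructor
  · -- retraction
    let δ : Derivation A (MvPolynomial (Fin r) A) (Q ⊗[MvPolynomial (Fin r) A] Ω[MvPolynomial (Fin r) A⁄A]) :=
      (TensorProduct.mk (MvPolynomial (Fin r) A) Q Ω[MvPolynomial (Fin r) A⁄A] 1).compDer
        (D A (MvPolynomial (Fin r) A))
    have hδ : ∀ x, δ x = (1 : Q) ⊗ₜ[MvPolynomial (Fin r) A] D A (MvPolynomial (Fin r) A) x :=
      fun x => rfl
    have hπ' : Function.Surjective (IsScalarTower.toAlgHom A (MvPolynomial (Fin r) A) B) := hπ
    obtain ⟨δ', hδ'⟩ := exists_derivation_of_surjective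
      (IsScalarTower.toAlgHom A (MvPolynomial (Fin r) A) B) hπ'
      (fun x n => (algebraMap_smul B x n).symm) δ
      (fun x hx => by
        rw [hδ]
        exact tmul_D_eq_zero_of_mem p f G hker Q hpQ x ((hker x).mp hx))
    let σ : Q ⊗[B] Ω[B⁄A] →ₗ[Q] Q ⊗[MvPolynomial (Fin r) A] Ω[MvPolynomial (Fin r) A⁄A] :=
      LinearMap.liftBaseChange Q δ'.liftKaehlerDifferential
    have hσ : σ ∘ₗ Tr A (K := MvPolynomial (Fin r) A) (L := B) (M := Q) = LinearMap.id := by
      apply ext_tmul_D A
      intro x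
      rw [LinearMap.comp_apply, Tr_tmul_D, LinearMap.liftBaseChange_tmul, one_smul,
        Derivation.liftKaehlerDifferential_comp_D, LinearMap.id_apply]
      exact (hδ' x).trans (hδ x)
    intro x y hxy
    have := congrArg σ hxy
    rwa [← LinearMap.comp_apply, ← LinearMap.comp_apply, hσ] at this
  · have h1 : Function.Surjective
        ((mapBaseChange A (MvPolynomial (Fin r) A) B).baseChange Q) :=
      LinearMap.lTensor_surjective Q (mapBaseChange_surjective A (MvPolynomial (Fin r) A) B hπ)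
    exact h1.comp (LinearEquiv.surjective _)

include hπ hker in
theorem finrank_tensor_omega (hpQ : (p : Q) = 0) :
    Module.Finite Q (Q ⊗[B] Ω[B⁄A]) ∧ Module.finrank Q (Q ⊗[B] Ω[B⁄A]) = r := by
  let b := ((KaehlerDifferential.mvPolynomialBasis A (Fin r)).baseChange Q).map
    (LinearEquiv.ofBijective _ (Tr_A_bijective p f G hπ hker Q hpQ))
  refine ⟨Module.Finite.of_basis b, ?_⟩
  rw [Module.finrank_eq_card_basis b, Fintype.card_fin]

include hπ hker in
theorem isFred_Tr (hpQ : (p : Q) = 0) :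
    IsFred (Tr ℤ (K := A) (L := B) (M := Q)) ∧
      chi (Tr ℤ (K := A) (L := B) (M := Q)) =
        (r : ℤ) - Module.finrank Q (Submodule.span Q (Set.range (wq f Q))) := by
  have hsurj : Function.Surjective ((KaehlerDifferential.map ℤ A B B).baseChange Q) :=
    LinearMap.lTensor_surjective Q (KaehlerDifferential.map_surjective ℤ A B)
  have ec : ((Q ⊗[B] Ω[B⁄ℤ]) ⧸ LinearMap.range (Tr ℤ (K := A) (L := B) (M := Q)))
      ≃ₗ[Q] Q ⊗[B] Ω[B⁄A] :=
    (Submodule.quotEquivOfEq _ _ (PB.range_Tr Q)).trans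
      (LinearMap.quotKerEquivOfSurjective _ hsurj)
  have ek : LinearMap.ker (Tr ℤ (K := A) (L := B) (M := Q)) ≃ₗ[Q]
      Submodule.span Q (Set.range (wq f Q)) :=
    LinearEquiv.ofEq _ _ (ker_Tr p f G hπ hker Q hpQ)
  obtain ⟨hfin, hrk⟩ := finrank_tensor_omega p f G hπ hker Q hpQ
  haveI : Module.Finite Q (Submodule.span Q (Set.range (wq f Q))) :=
    Module.Finite.span_of_finite Q (Set.finite_range _)
  refine ⟨⟨Module.Finite.equiv ek.symm, Module.Finite.equiv ec.symm⟩, ?_⟩
  rw [chi, ec.finrank_eq, hrk, ek.finrank_eq]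

end coker

end Groth.Agent.Lib.helper25.PC
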