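import Mathlib
import Groth.Agent.Lib.helper25.PB5
import Groth.Agent.Lib.helper25.PC4

set_option autoImplicit false
set_option linter.unusedSectionVars false
universe u

namespace Groth.Agent.Lib.helper25.PC

open TensorProduct KaehlerDifferential IsLocalRing Groth.Agent.Lib.helper25.Cart
  Groth.Agent.Lib.helper25.PB

section abstract_
variable {A B : Type u} [CommRing A] [CommRing B] [IsLocalRing A] [IsLocalRing B] [Algebra A B]
  [IsLocalHom (algebraMap A B)] [Module.Finite A B] [IsNoetherianRing A] [IsNoetherianRing B]
  (p : ℕ) [hp : Fact p.Prime] [CharP (ResidueField A) p] {r : ℕ} (f : Fin r → A)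

omit [Module.Finite A B] [IsNoetherianRing A] [IsNoetherianRing B] hp [CharP (ResidueField A) p] in
theorem natCast_mem_sq (hp2 : (p : A) ∈ maximalIdeal A ^ 2) : (p : B) ∈ maximalIdeal B ^ 2 := by
  have h1 : (p : B) ∈ Ideal.map (algebraMap A B) (maximalIdeal A ^ 2) := by
    rw [← map_natCast (algebraMap A B)]
    exact Ideal.mem_map_of_mem _ hp2
  rw [Ideal.map_pow] at h1
  have h2 : Ideal.map (algebraMap A B) (maximalIdeal A) ≤ maximalIdeal B :=
    IsLocalRing.map_maximalIdeal_le (algebraMap A B)
  exact Ideal.pow_right_mono h2 2 h1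

theorem main_abstract (hp2 : (p : A) ∈ maximalIdeal A ^ 2)
    (hβ : IsFred (Tr ℤ (K := A) (L := B) (M := ResidueField B)) ∧
      chi (Tr ℤ (K := A) (L := B) (M := ResidueField B)) =
        (r : ℤ) - Module.finrank (ResidueField B)
          (Submodule.span (ResidueField B) (Set.range (wq f (ResidueField B))))) :
    (Module.finrank (ResidueField A) (CotangentSpace A) =
        Module.finrank (ResidueField B) (CotangentSpace B) ↔
      LinearIndependent (ResidueField A)
        (fun i => (1 : ResidueField A) ⊗ₜ[A] KaehlerDifferential.D ℤ A (f i))) := by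
  haveI : CharP (ResidueField B) p :=
    charP_of_injective_algebraMap (algebraMap (ResidueField A) (ResidueField B)).injective p
  have hρA := isFred_rho (R := A) p hp2
  have hρB := isFred_rho (R := B) p (natCast_mem_sq p hp2)
  -- the residue field extension
  obtain ⟨m, hm1, hu, hm3⟩ := cartier_int (K := ResidueField A) (L := ResidueField B)
  have hm0 : m = 0 := by
    have h0 : Algebra.trdeg (ResidueField A) (ResidueField B) = 0 := trdeg_eq_zero
    rw [h0] at hm1
    exact_mod_cast hm1.symm
  subst hm0
  -- T_AK
  have hb := isFred_baseChange (M := ResidueField B) (mapBaseChange ℤ A (ResidueField A)) hρA.1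
  have hT := isFred_comp_equiv_right
    (AlgebraTensorModule.cancelBaseChange A (ResidueField A) (ResidueField B)
      (ResidueField B) Ω[A⁄ℤ]).symm _ hb.1
  have h1 := isFred_comp_and_chi _ (mapBaseChange ℤ B (ResidueField B)) hβ.1 hρB.1
  have h2 := isFred_comp_and_chi _ (mapBaseChange ℤ (ResidueField A) (ResidueField B)) hT.1 hu
  have e1 := tower_e1 (A := A) (B := B)
  have e2 := tower_e2 (A := A) (B := B)
  rw [e1] at h1
  rw [e2] at h2
  have key := h1.2.symm.trans h2.2
  have hm3' : chi (mapBaseChange ℤ (ResidueField A) (ResidueField B)) = ((0 : ℕ) : ℤ) := hm3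
  rw [hβ.2, hρB.2, hT.2, hb.2, hρA.2, hm3'] at key
  rw [← linearIndependent_tmul_iff (K' := ResidueField B)]
  have hLI := linearIndependent_iff_card_eq_finrank_span (R := ResidueField B)
    (b := wq f (ResidueField B))
  rw [Fintype.card_fin] at hLI
  change _ ↔ LinearIndependent (ResidueField B) (wq f (ResidueField B))
  rw [hLI]
  unfold Set.finrank
  push_cast at key
  omega

end abstract_

end Groth.Agent.Lib.helper25.PC
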