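import Mathlib
import Groth.Agent.Lib.helper25.PC5

set_option autoImplicit false
set_option linter.unusedSectionVars false
universe u

namespace Groth.Agent.Lib.helper25.PC

open TensorProduct KaehlerDifferential IsLocalRing Groth.Agent.Lib.helper25.PB

section integral
variable {A : Type u} [CommRing A] (p : ℕ) [hp : Fact p.Prime] {r : ℕ} (f : Fin r → A)
  (G : Fin r → MvPolynomial (Fin r) A)
  {B : Type*} [CommRing B] [Algebra A B] [Algebra (MvPolynomial (Fin r) A) B]
  [IsScalarTower A (MvPolynomial (Fin r) A) B]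
  (hπ : Function.Surjective (algebraMap (MvPolynomial (Fin r) A) B))
  (hker : ∀ x, algebraMap (MvPolynomial (Fin r) A) B x = 0 ↔ x ∈ Jg p f G)
  (g : Fin r → Polynomial A) (hg : ∀ i, (g i).Monic)
  (hFg : ∀ i, Fg p f G i = Polynomial.aeval (MvPolynomial.X i : MvPolynomial (Fin r) A) (g i))

include hker hFg in
theorem aeval_tB (i : Fin r) : Polynomial.aeval (tB (A := A) B i) (g i) = 0 := by
  have h1 : algebraMap (MvPolynomial (Fin r) A) B (Fg p f G i) = 0 :=
    (hker _).mpr (Ideal.subset_span ⟨i, rfl⟩)
  rw [hFg] at h1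
  have h2 := Polynomial.aeval_algHom_apply (IsScalarTower.toAlgHom A (MvPolynomial (Fin r) A) B)
    (MvPolynomial.X i) (g i)
  rw [tB]
  exact h2.trans h1

include hker hFg hg in
theorem isIntegral_tB (i : Fin r) : IsIntegral A (tB (A := A) B i) :=
  ⟨g i, hg i, aeval_tB p f G hker g hFg i⟩

include hπ hker hFg hg in
theorem isIntegral_B : Algebra.IsIntegral A B := by
  constructor
  intro b
  have h1 : Algebra.adjoin A (Set.range (tB (A := A) (r := r) B)) = ⊤ := by
    have h2 := MvPolynomial.adjoin_range_X (R := A) (σ := Fin r)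
    have h3 := congrArg (Subalgebra.map (IsScalarTower.toAlgHom A (MvPolynomial (Fin r) A) B)) h2
    rw [AlgHom.map_adjoin, Algebra.map_top, ← Set.range_comp] at h3
    have h4 : (IsScalarTower.toAlgHom A (MvPolynomial (Fin r) A) B).range = ⊤ :=
      (AlgHom.range_eq_top _).mpr hπ
    rw [h4] at h3
    exact h3
  have h5 : Algebra.adjoin A (Set.range (tB (A := A) (r := r) B)) ≤ integralClosure A B := by
    apply Algebra.adjoin_le
    rintro _ ⟨i, rfl⟩
    exact isIntegral_tB p f G hker g hg hFg i
  rw [h1] at h5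
  exact h5 (Algebra.mem_top)

include hπ hker hFg hg in
theorem finite_B : Module.Finite A B := by
  haveI := isIntegral_B p f G hπ hker g hg hFg
  haveI : Algebra.FiniteType A B :=
    Algebra.FiniteType.of_surjective (IsScalarTower.toAlgHom A (MvPolynomial (Fin r) A) B) hπ
  exact Algebra.IsIntegral.finite

include hker hFg in
theorem injective_algebraMap [IsDomain A] (hgd : ∀ i, (g i).degree ≠ 0) :
    Function.Injective (algebraMap A B) := by
  let L := AlgebraicClosure (FractionRing A)
  have hinj : Function.Injective (algebraMap A L) := by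
    rw [IsScalarTower.algebraMap_eq A (FractionRing A) L]
    exact (algebraMap (FractionRing A) L).injective.comp (IsFractionRing.injective A (FractionRing A))
  have hy : ∀ i, ∃ y : L, Polynomial.aeval y (g i) = 0 := fun i =>
    IsAlgClosed.exists_aeval_eq_zero_of_injective L hinj (g i) (hgd i)
  choose y hy using hy
  let ev : MvPolynomial (Fin r) A →ₐ[A] L := MvPolynomial.aeval y
  have hle : Jg p f G ≤ RingHom.ker ev.toRingHom := by
    rw [Ideal.span_le]
    rintro _ ⟨i, rfl⟩
    show ev (Fg p f G i) = 0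
    rw [hFg, ← Polynomial.aeval_algHom_apply]
    simp only [ev, MvPolynomial.aeval_X, hy]
  rw [injective_iff_map_eq_zero]
  intro a ha
  have h1 : algebraMap (MvPolynomial (Fin r) A) B (MvPolynomial.C a) = 0 := by
    rw [← MvPolynomial.algebraMap_eq, ← IsScalarTower.algebraMap_apply]
    exact ha
  have h2 : ev (MvPolynomial.C a) = 0 := hle ((hker _).mp h1)
  have h3 : algebraMap A L a = 0 := by
    rw [← h2]
    simp [ev]
  exact hinj (by rw [h3, map_zero])

variable [IsLocalRing A] [CharP (ResidueField A) p]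

include hπ hker hFg hg in
theorem map_maximalIdeal_le_jacobson :
    Ideal.map (algebraMap A B) (maximalIdeal A) ≤ Ideal.jacobson ⊥ := by
  haveI := isIntegral_B p f G hπ hker g hg hFg
  apply le_sInf
  rintro M ⟨-, hM⟩
  haveI := hM
  have h1 : (M.comap (algebraMap A B)).IsMaximal :=
    Ideal.isMaximal_comap_of_isIntegral_of_isMaximal M
  rw [Ideal.map_le_iff_le_comap, IsLocalRing.eq_maximalIdeal h1]

include hπ hker in
theorem pow_sub_mem (b : B) :
    ∃ a : A, b ^ p - algebraMap A B a ∈ Ideal.map (algebraMap A B) (maximalIdeal A) := by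
  have hpn : (p : B) ∈ Ideal.map (algebraMap A B) (maximalIdeal A) := by
    rw [← map_natCast (algebraMap A B)]
    exact Ideal.mem_map_of_mem _ (natCast_mem_maximalIdeal p)
  obtain ⟨q, rfl⟩ := hπ b
  induction q using MvPolynomial.induction_on with
  | C a =>
    refine ⟨a ^ p, ?_⟩
    rw [← MvPolynomial.algebraMap_eq, ← IsScalarTower.algebraMap_apply, map_pow, sub_self]
    exact zero_mem _
  | add x y hx hy =>
    obtain ⟨a, ha⟩ := hx
    obtain ⟨b, hb⟩ := hy
    refine ⟨a + b, ?_⟩
    rw [map_add, add_pow_prime_eq hp.out, map_add]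
    have : algebraMap (MvPolynomial (Fin r) A) B x ^ p + algebraMap (MvPolynomial (Fin r) A) B y ^ p +
        (p : B) * algebraMap (MvPolynomial (Fin r) A) B x * algebraMap (MvPolynomial (Fin r) A) B y *
          ∑ k ∈ Finset.Ioo 0 p, algebraMap (MvPolynomial (Fin r) A) B x ^ (k - 1) *
            algebraMap (MvPolynomial (Fin r) A) B y ^ (p - k - 1) * ((p.choose k / p : ℕ) : B) -
        (algebraMap A B a + algebraMap A B b) =
        (algebraMap (MvPolynomial (Fin r) A) B x ^ p - algebraMap A B a) +
        (algebraMap (MvPolynomial (Fin r) A) B y ^ p - algebraMap A B b) +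
        (p : B) * (algebraMap (MvPolynomial (Fin r) A) B x * algebraMap (MvPolynomial (Fin r) A) B y *
          ∑ k ∈ Finset.Ioo 0 p, algebraMap (MvPolynomial (Fin r) A) B x ^ (k - 1) *
            algebraMap (MvPolynomial (Fin r) A) B y ^ (p - k - 1) * ((p.choose k / p : ℕ) : B)) := by
      ring
    rw [this]
    exact Ideal.add_mem _ (Ideal.add_mem _ ha hb) (Ideal.mul_mem_right _ _ hpn)
  | mul_X x i hx =>
    obtain ⟨a, ha⟩ := hx
    refine ⟨a * f i, ?_⟩
    have h1 := algebraMap_f p f G hker i
    have : (algebraMap (MvPolynomial (Fin r) A) B (x * MvPolynomial.X i)) ^ p -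
        algebraMap A B (a * f i) =
        (algebraMap (MvPolynomial (Fin r) A) B x ^ p - algebraMap A B a) * tB (A := A) B i ^ p -
        (p : B) * (algebraMap A B a * algebraMap (MvPolynomial (Fin r) A) B (G i)) := by
      rw [map_mul, map_mul, h1, mul_pow]
      rw [tB]
      ring
    rw [this]
    exact Ideal.sub_mem _ (Ideal.mul_mem_right _ _ ha) (Ideal.mul_mem_right _ _ hpn)

include hπ hker hFg hg in
theorem isLocalRing_B [Nontrivial B] : IsLocalRing B := by
  apply IsLocalRing.of_isUnit_or_isUnit_one_sub_self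
  intro b
  have hjac := map_maximalIdeal_le_jacobson p f G hπ hker g hg hFg
  obtain ⟨a, ha⟩ := pow_sub_mem p f G hπ hker b
  by_cases hu : IsUnit a
  · left
    have hu' : IsUnit (algebraMap A B a) := hu.map _
    obtain ⟨u, hu''⟩ := hu'
    have h1 := Ideal.mem_jacobson_bot.mp (hjac ha) (↑u⁻¹ : B)
    have h2 : b ^ p = ((b ^ p - algebraMap A B a) * (↑u⁻¹ : B) + 1) * u := by
      rw [add_mul, mul_assoc, Units.inv_mul, mul_one, one_mul, hu'']
      ring
    have h3 : IsUnit (b ^ p) := by
      rw [h2]
      exact h1.mul u.isUnit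
    exact (isUnit_pow_iff hp.out.ne_zero).mp h3
  · right
    have ham : a ∈ maximalIdeal A := (IsLocalRing.mem_maximalIdeal a).mpr hu
    have h1 : b ^ p ∈ Ideal.map (algebraMap A B) (maximalIdeal A) := by
      have := Ideal.add_mem _ ha (Ideal.mem_map_of_mem (algebraMap A B) ham)
      rwa [sub_add_cancel] at this
    have h2 : b ∈ Ideal.jacobson (⊥ : Ideal B) := by
      rw [Ideal.jacobson, Ideal.mem_sInf]
      rintro M ⟨hM1, hM2⟩
      have h3 : b ^ p ∈ M := by
        have := hjac h1
        rw [Ideal.jacobson, Ideal.mem_sInf] at this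
        exact this ⟨hM1, hM2⟩
      exact hM2.isPrime.mem_of_pow_mem p h3
    have h4 := Ideal.mem_jacobson_bot.mp h2 (-1)
    have h5 : b * -1 + 1 = 1 - b := by ring
    rwa [h5] at h4

include hπ hker hFg hg in
theorem isLocalHom_B [Nontrivial B] : IsLocalHom (algebraMap A B) := by
  constructor
  intro a ha
  by_contra hu
  have ham : a ∈ maximalIdeal A := (IsLocalRing.mem_maximalIdeal a).mpr hu
  have hjac := map_maximalIdeal_le_jacobson p f G hπ hker g hg hFg
  have h1 : algebraMap A B a ∈ Ideal.jacobson (⊥ : Ideal B) :=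
    hjac (Ideal.mem_map_of_mem _ ham)
  obtain ⟨u, hu'⟩ := ha
  have h2 := Ideal.mem_jacobson_bot.mp h1 (-(↑u⁻¹ : B))
  rw [← hu', mul_neg, Units.mul_inv, neg_add_cancel] at h2
  exact not_isUnit_zero h2

end integral

end Groth.Agent.Lib.helper25.PC
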