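import Mathlib
import Groth.Agent.Lib.helper25.PC6
import Groth.Agent.Lib.helper6.SerreConvE
import Groth.Agent.Lib.helper9.IntegralDim
import Groth.Agent.Lib.helper5.RegLoc

set_option autoImplicit false
set_option linter.unusedSectionVars false
universe u

namespace Groth.Agent.Lib.helper25.PC

open TensorProduct KaehlerDifferential IsLocalRing Groth.Agent.Lib.helper25.PB

section spec
variable {A : Type u} [CommRing A] (p : ℕ) [hp : Fact p.Prime] {r : ℕ}
  (c : Fin r → Fin p → A) (f : Fin r → A)

/-- `G_i = Σ_{j ≥ 1} c_{ij} T_i^{p-j}`. -/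
noncomputable def Gs (i : Fin r) : MvPolynomial (Fin r) A :=
  Finset.univ.sum fun j : Fin p =>
    if (j : ℕ) = 0 then 0 else MvPolynomial.C (c i j) * MvPolynomial.X i ^ (p - (j : ℕ))

/-- the lower-order part of the one-variable polynomial. -/
noncomputable def qs (i : Fin r) : Polynomial A :=
  Polynomial.C (p : A) * (Finset.univ.sum fun j : Fin p =>
    if (j : ℕ) = 0 then 0 else Polynomial.C (c i j) * Polynomial.X ^ (p - (j : ℕ))) -
    Polynomial.C (f i)

/-- the one-variable monic polynomial. -/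
noncomputable def gs (i : Fin r) : Polynomial A := Polynomial.X ^ p + qs p c f i

theorem degree_qs_lt (i : Fin r) : (qs p c f i).degree < p := by
  rw [Polynomial.degree_lt_iff_coeff_zero]
  intro m hm
  have hm0 : m ≠ 0 := by
    have := hp.out.pos
    omega
  rw [qs, Polynomial.coeff_sub, Polynomial.coeff_C_mul, Polynomial.finsetSum_coeff,
    Polynomial.coeff_C_of_ne_zero hm0, sub_zero]
  have : ∀ j ∈ (Finset.univ : Finset (Fin p)),
      (if (j : ℕ) = 0 then (0 : Polynomial A)
        else Polynomial.C (c i j) * Polynomial.X ^ (p - (j : ℕ))).coeff m = 0 := by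
    intro j _
    split_ifs with h
    · exact Polynomial.coeff_zero m
    · rw [Polynomial.coeff_C_mul, Polynomial.coeff_X_pow, if_neg (by omega), mul_zero]
  rw [Finset.sum_eq_zero this, mul_zero]

theorem gs_monic (i : Fin r) : (gs p c f i).Monic :=
  Polynomial.monic_X_pow_add (degree_qs_lt p c f i)

theorem gs_degree [Nontrivial A] (i : Fin r) : (gs p c f i).degree ≠ 0 := by
  rw [gs, Polynomial.degree_add_eq_left_of_degree_lt
    (by rw [Polynomial.degree_X_pow]; exact degree_qs_lt p c f i), Polynomial.degree_X_pow]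
  exact_mod_cast hp.out.ne_zero

theorem Fg_eq_aeval (i : Fin r) :
    Fg p f (Gs p c) i =
      Polynomial.aeval (MvPolynomial.X i : MvPolynomial (Fin r) A) (gs p c f i) := by
  simp only [gs, qs, map_add, map_sub, map_mul, map_pow, Polynomial.aeval_X,
    Polynomial.aeval_C, map_sum, apply_ite (Polynomial.aeval (MvPolynomial.X i :
      MvPolynomial (Fin r) A)), map_zero, map_natCast, MvPolynomial.algebraMap_eq]
  unfold Gs
  exact add_sub_assoc _ _ _

end spec

section final
variable {A : Type u} [CommRing A] [IsRegularLocalRing A] (p : ℕ) [hp : Fact p.Prime]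
  [CharP (ResidueField A) p] {r : ℕ} (c : Fin r → Fin p → A) (f : Fin r → A)

theorem S2473_aux (hp2 : (p : A) ∈ maximalIdeal A ^ 2) :
    IsLocalRing (MvPolynomial (Fin r) A ⧸ Jg p f (Gs p c)) ∧
      (IsRegularRing (MvPolynomial (Fin r) A ⧸ Jg p f (Gs p c)) ↔
        LinearIndependent (ResidueField A)
          (fun i => (1 : ResidueField A) ⊗ₜ[A] KaehlerDifferential.D ℤ A (f i))) := by
  have hπ : Function.Surjective (algebraMap (MvPolynomial (Fin r) A)
      (MvPolynomial (Fin r) A ⧸ Jg p f (Gs p c))) := Ideal.Quotient.mk_surjective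
  have hker : ∀ x, algebraMap (MvPolynomial (Fin r) A)
      (MvPolynomial (Fin r) A ⧸ Jg p f (Gs p c)) x = 0 ↔ x ∈ Jg p f (Gs p c) :=
    fun x => Ideal.Quotient.eq_zero_iff_mem
  haveI : IsDomain A := Groth.Agent.H5.RegLoc.isDomain A
  have hFg := Fg_eq_aeval p c f
  have hg := gs_monic p c f
  have hinj := injective_algebraMap p f (Gs p c) hker (gs p c f) hFg (gs_degree p c f)
  haveI : Nontrivial (MvPolynomial (Fin r) A ⧸ Jg p f (Gs p c)) := hinj.nontrivial
  haveI hloc : IsLocalRing (MvPolynomial (Fin r) A ⧸ Jg p f (Gs p c)) :=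
    isLocalRing_B p f (Gs p c) hπ hker (gs p c f) hg hFg
  haveI : IsLocalHom (algebraMap A (MvPolynomial (Fin r) A ⧸ Jg p f (Gs p c))) :=
    isLocalHom_B p f (Gs p c) hπ hker (gs p c f) hg hFg
  haveI : Module.Finite A (MvPolynomial (Fin r) A ⧸ Jg p f (Gs p c)) :=
    finite_B p f (Gs p c) hπ hker (gs p c f) hg hFg
  haveI : Algebra.IsIntegral A (MvPolynomial (Fin r) A ⧸ Jg p f (Gs p c)) :=
    isIntegral_B p f (Gs p c) hπ hker (gs p c f) hg hFg
  haveI : IsNoetherianRing (MvPolynomial (Fin r) A ⧸ Jg p f (Gs p c)) := inferInstance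
  refine ⟨hloc, ?_⟩
  have hdim := Groth.Agent.Lib.helper9.IntegralDim.ringKrullDim_eq_of_isIntegral_of_injective A
    (MvPolynomial (Fin r) A ⧸ Jg p f (Gs p c)) hinj
  haveI : CharP (ResidueField (MvPolynomial (Fin r) A ⧸ Jg p f (Gs p c))) p :=
    charP_of_injective_algebraMap (algebraMap (ResidueField A)
      (ResidueField (MvPolynomial (Fin r) A ⧸ Jg p f (Gs p c)))).injective p
  have hpQ : (p : ResidueField (MvPolynomial (Fin r) A ⧸ Jg p f (Gs p c))) = 0 :=
    CharP.cast_eq_zero _ p
  have hmain := main_abstract (A := A) (B := MvPolynomial (Fin r) A ⧸ Jg p f (Gs p c)) p f hp2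
    (isFred_Tr p f (Gs p c) hπ hker
      (ResidueField (MvPolynomial (Fin r) A ⧸ Jg p f (Gs p c))) hpQ)
  have hA : (Module.finrank (ResidueField A) (CotangentSpace A) : WithBot ℕ∞) = ringKrullDim A :=
    (IsRegularLocalRing.iff_finrank_cotangentSpace A).mp inferInstance
  rw [← hmain]
  constructor
  · intro h
    haveI := h
    have h1 : IsRegularLocalRing (MvPolynomial (Fin r) A ⧸ Jg p f (Gs p c)) :=
      IsRegularLocalRing.of_isRegularRing_of_isLocalRing _
    have h2 := (IsRegularLocalRing.iff_finrank_cotangentSpace _).mp h1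
    rw [← hdim, ← hA] at h2
    exact_mod_cast h2.symm
  · intro h
    have h1 : IsRegularLocalRing (MvPolynomial (Fin r) A ⧸ Jg p f (Gs p c)) := by
      rw [IsRegularLocalRing.iff_finrank_cotangentSpace, ← hdim, ← hA, h]
    rw [isRegularRing_iff]
    intro q hq
    exact Groth.Agent.Lib.helper6.SerreConvE.regular_localization _ q

end final

end Groth.Agent.Lib.helper25.PC
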