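import Mathlib

set_option autoImplicit false
universe u v

namespace Groth.Agent.Lib.helper25.AdicCmp

open Submodule AdicCompletion

section
variable {R R' : Type*} [CommRing R] [CommRing R'] (I : Ideal R) (J : Ideal R')
  {M N : Type*} [AddCommGroup M] [Module R M] [AddCommGroup N] [Module R' N]
  (φ : M →+ N)
  (h1 : ∀ n, ∀ x ∈ (I ^ n • ⊤ : Submodule R M), φ x ∈ (J ^ n • ⊤ : Submodule R' N))

/-- the map on quotients. -/
def qmap (n : ℕ) : M ⧸ (I ^ n • ⊤ : Submodule R M) → N ⧸ (J ^ n • ⊤ : Submodule R' N) :=
  Quotient.map' φ (fun x y hxy => by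
    rw [Submodule.quotientRel_def] at hxy ⊢
    rw [← map_sub]
    exact h1 n _ hxy)

theorem qmap_mk (n : ℕ) (x : M) :
    qmap I J φ h1 n (Submodule.Quotient.mk x) = Submodule.Quotient.mk (φ x) := rfl

/-- the induced map on completions. -/
def compMap : AdicCompletion I M → AdicCompletion J N := fun x =>
  ⟨fun n => qmap I J φ h1 n (x.val n), by
    intro m n hmn
    have hx := x.property hmn
    obtain ⟨a, ha⟩ := Submodule.Quotient.mk_surjective _ (x.val n)
    show AdicCompletion.transitionMap J N hmn (qmap I J φ h1 n (x.val n)) = qmap I J φ h1 m (x.val m)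
    rw [← hx, ← ha]
    rfl⟩

theorem compMap_val (x : AdicCompletion I M) (n : ℕ) :
    (compMap I J φ h1 x).val n = qmap I J φ h1 n (x.val n) := rfl

theorem compMap_mk_val (c : AdicCauchySequence I M) (n : ℕ) :
    (compMap I J φ h1 (AdicCompletion.mk I M c)).val n = Submodule.Quotient.mk (φ (c n)) := rfl

theorem compMap_add (x y : AdicCompletion I M) :
    compMap I J φ h1 (x + y) = compMap I J φ h1 x + compMap I J φ h1 y := by
  induction x using AdicCompletion.induction_on with | h c =>
  induction y using AdicCompletion.induction_on with | h c' =>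
  rw [← map_add]
  ext n
  rw [AdicCompletion.val_add_apply, compMap_mk_val, compMap_mk_val, compMap_mk_val,
    AdicCauchySequence.add_apply, map_add]
  rfl

theorem compMap_injective
    (h2 : ∀ n, ∃ k, ∀ y : M, φ y ∈ (J ^ k • ⊤ : Submodule R' N) → y ∈ (I ^ n • ⊤ : Submodule R M)) :
    Function.Injective (compMap I J φ h1) := by
  intro x y hxy
  induction x using AdicCompletion.induction_on with | h c =>
  induction y using AdicCompletion.induction_on with | h c' =>
  ext n
  change (Submodule.Quotient.mk (c n) : M ⧸ (I ^ n • ⊤ : Submodule R M)) = Submodule.Quotient.mk (c' n)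
  rw [Submodule.Quotient.eq]
  obtain ⟨k, hk⟩ := h2 n
  have hkk : φ (c (max n k) - c' (max n k)) ∈ (J ^ k • ⊤ : Submodule R' N) := by
    have := congrArg (fun z => z.val (max n k)) hxy
    simp only [compMap_mk_val] at this
    rw [Submodule.Quotient.eq, ← map_sub] at this
    exact Submodule.smul_mono_left (Ideal.pow_le_pow_right (le_max_right n k)) this
  have h3 := hk _ hkk
  have h4 : c n - c (max n k) ∈ (I ^ n • ⊤ : Submodule R M) :=
    (Submodule.Quotient.eq _).1 (c.property (le_max_left n k))
  have h5 : c' n - c' (max n k) ∈ (I ^ n • ⊤ : Submodule R M) :=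
    (Submodule.Quotient.eq _).1 (c'.property (le_max_left n k))
  have : c n - c' n = (c n - c (max n k)) + (c (max n k) - c' (max n k)) - (c' n - c' (max n k)) := by
    abel
  rw [this]
  exact Submodule.sub_mem _ (Submodule.add_mem _ h4 h3) h5

theorem compMap_surjective (hφ : Function.Surjective φ)
    (h2 : ∀ n, ∃ k, ∀ y : M, φ y ∈ (J ^ k • ⊤ : Submodule R' N) → y ∈ (I ^ n • ⊤ : Submodule R M)) :
    Function.Surjective (compMap I J φ h1) := by
  intro y
  induction y using AdicCompletion.induction_on with | h d =>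
  choose k hk using h2
  choose e he using hφ
  let K : ℕ → ℕ := fun n => n + (Finset.range (n + 1)).sup k
  have hKn : ∀ n, n ≤ K n := fun n => Nat.le_add_right _ _
  have hKk : ∀ n, k n ≤ K n := fun n =>
    le_trans (Finset.le_sup (f := k) (Finset.mem_range.2 (Nat.lt_succ_self n))) (Nat.le_add_left _ _)
  have hKmono : Monotone K := by
    intro m n hmn
    refine add_le_add hmn (Finset.sup_mono ?_)
    exact Finset.range_subset_range.2 (Nat.succ_le_succ hmn)
  let c : AdicCauchySequence I M := ⟨fun n => e (d (K n)), by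
    intro m n hmn
    rw [SModEq, Submodule.Quotient.eq]
    apply hk m
    rw [map_sub, he, he]
    have := d.property (hKmono hmn)
    rw [SModEq, Submodule.Quotient.eq] at this
    exact Submodule.smul_mono_left (Ideal.pow_le_pow_right (hKk m)) this⟩
  refine ⟨AdicCompletion.mk I M c, ?_⟩
  ext n
  rw [compMap_mk_val]
  change (Submodule.Quotient.mk (φ (e (d (K n)))) : N ⧸ (J ^ n • ⊤ : Submodule R' N)) =
    Submodule.Quotient.mk (d n)
  rw [he]
  exact (d.property (hKn n)).symm

end

end Groth.Agent.Lib.helper25.AdicCmp
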