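import Mathlib
import Groth.Agent.Lib.helper7.GeomRed2
import Groth.Agent.Lib.helper7.GeomRed3

/-! Descent of the nilradical to a finite purely inseparable extension (S2514, S4677, S5061)
(helper25). -/

namespace Groth.Agent.Lib.helper25.GRed

set_option linter.style.haveILetI false
universe u
open TensorProduct
open scoped IntermediateField

section descent

variable (k P A : Type u) [Field k] [Field P] [Algebra k P] [CommRing A] [Algebra k A]

/-- the natural map `E ⊗ A → P ⊗ A` -/
noncomputable abbrev iota (E : IntermediateField k P) : E ⊗[k] A →ₐ[k] P ⊗[k] A :=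
  Algebra.TensorProduct.map E.val (AlgHom.id k A)

variable {k P A}

theorem iota_injective (E : IntermediateField k P) : Function.Injective (iota k P A E) := by
  have h := Module.Flat.rTensor_preserves_injective_linearMap (M := A) E.val.toLinearMap
    Subtype.val_injective
  exact h

theorem range_mono {E E' : IntermediateField k P} (h : E ≤ E') :
    (iota k P A E).range ≤ (iota k P A E').range := by
  rintro _ ⟨x, rfl⟩
  refine ⟨Algebra.TensorProduct.map (IntermediateField.inclusion h) (AlgHom.id k A) x, ?_⟩
  have : (iota k P A E').comp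
      (Algebra.TensorProduct.map (IntermediateField.inclusion h) (AlgHom.id k A)) =
      iota k P A E := by
    apply Algebra.TensorProduct.ext'
    intro a b
    simp
  exact AlgHom.congr_fun this x

theorem exists_finite_mem_range [Algebra.IsAlgebraic k P] (x : P ⊗[k] A) :
    ∃ E : IntermediateField k P, FiniteDimensional k E ∧ x ∈ (iota k P A E).range := by
  induction x using TensorProduct.induction_on with
  | zero => exact ⟨⊥, inferInstance, zero_mem _⟩
  | tmul c a =>
    have hc : IsIntegral k c := (Algebra.IsAlgebraic.isAlgebraic c).isIntegral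
    refine ⟨k⟮c⟯, IntermediateField.adjoin.finiteDimensional hc,
      ⟨(⟨c, IntermediateField.mem_adjoin_simple_self k c⟩ : k⟮c⟯) ⊗ₜ a, ?_⟩⟩
    simp
  | add x y hx hy =>
    obtain ⟨E1, h1, hx1⟩ := hx
    obtain ⟨E2, h2, hx2⟩ := hy
    haveI := h1
    haveI := h2
    exact ⟨E1 ⊔ E2, inferInstance,
      add_mem (range_mono le_sup_left hx1) (range_mono le_sup_right hx2)⟩

theorem exists_finite_forall_mem_range [Algebra.IsAlgebraic k P] (s : Finset (P ⊗[k] A)) :
    ∃ E : IntermediateField k P, FiniteDimensional k E ∧ ∀ x ∈ s, x ∈ (iota k P A E).range := by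
  classical
  induction s using Finset.induction_on with
  | empty => exact ⟨⊥, inferInstance, by simp⟩
  | insert a s ha ih =>
    obtain ⟨E1, h1, hx1⟩ := ih
    obtain ⟨E2, h2, hx2⟩ := exists_finite_mem_range (k := k) (P := P) (A := A) a
    haveI := h1
    haveI := h2
    refine ⟨E1 ⊔ E2, inferInstance, ?_⟩
    intro x hx
    rcases Finset.mem_insert.mp hx with rfl | hx
    · exact range_mono le_sup_right hx2
    · exact range_mono le_sup_left (hx1 x hx)

end descent

end Groth.Agent.Lib.helper25.GRed
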