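import Mathlib
import Groth.Agent.Lib.helper25.GRed1

/-! Descent of the nilradical: main lemma (helper25). -/

namespace Groth.Agent.Lib.helper25.GRed

set_option linter.style.haveILetI false
universe u
open TensorProduct
open scoped IntermediateField

/-- Over a perfect field, `Ω ⊗ R` is reduced for reduced `R` and any field extension `Ω`. -/
theorem isReduced_tensor_of_perfect (P Ω R : Type u) [Field P] [PerfectField P] [Field Ω]
    [Algebra P Ω] [CommRing R] [Algebra P R] [IsReduced R] : IsReduced (Ω ⊗[P] R) := by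
  haveI : Algebra.IsGeometricallyReduced P Ω :=
    Groth.Agent.Lib.helper7.GeomRed3.isGeometricallyReduced_of_perfectField P Ω
  exact Groth.Agent.Lib.helper7.GeomRed2.isReduced_tensorProduct (k := P) Ω R

/-- geometric reducedness can be tested on one algebraically closed extension -/
theorem geomReduced_of_isReduced_tensor (E Ω Q : Type u) [Field E] [Field Ω] [Algebra E Ω]
    [IsAlgClosed Ω] [CommRing Q] [Algebra E Q] (h : IsReduced (Ω ⊗[E] Q)) :
    Algebra.IsGeometricallyReduced E Q := by
  rw [Algebra.isGeometricallyReduced_field_iff]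
  exact isReduced_of_injective
    (Algebra.TensorProduct.map ((IsAlgClosed.lift : AlgebraicClosure E →ₐ[E] Ω)) 1)
    (Module.Flat.rTensor_preserves_injective_linearMap _ (RingHom.injective _))

/-- if `P ⊗ Q` is reduced for a perfect extension `P` of `E`, then `Q` is geometrically reduced -/
theorem geomReduced_of_isReduced_perfect (E P Q : Type u) [Field E] [Field P] [Algebra E P]
    [PerfectField P] [CommRing Q] [Algebra E Q] (h : IsReduced (P ⊗[E] Q)) :
    Algebra.IsGeometricallyReduced E Q := by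
  have h3 : IsReduced (AlgebraicClosure P ⊗[P] (P ⊗[E] Q)) :=
    isReduced_tensor_of_perfect P (AlgebraicClosure P) _
  let c2 : AlgebraicClosure P ⊗[P] (P ⊗[E] Q) ≃ₐ[AlgebraicClosure P]
      AlgebraicClosure P ⊗[E] Q :=
    Algebra.TensorProduct.cancelBaseChange E P (AlgebraicClosure P) (AlgebraicClosure P) _
  have h4 : IsReduced (AlgebraicClosure P ⊗[E] Q) :=
    isReduced_of_injective c2.symm.toRingEquiv.toRingHom c2.symm.injective
  exact geomReduced_of_isReduced_tensor E (AlgebraicClosure P) _ h4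

set_option synthInstance.maxHeartbeats 400000 in
set_option maxHeartbeats 1600000 in
theorem geomReduced_aux (k E P A : Type u) [Field k] [Field E] [Field P] [Algebra k E]
    [Algebra k P] [Algebra E P] [IsScalarTower k E P] [CommRing A]
    [Algebra k A] [PerfectField P]
    (s : Finset (P ⊗[k] A)) (hs : Ideal.span (s : Set (P ⊗[k] A)) = nilradical (P ⊗[k] A))
    (hsE : ∀ x ∈ s, x ∈ (Algebra.TensorProduct.map (IsScalarTower.toAlgHom k E P)
      (AlgHom.id k A)).range) :
    Algebra.IsGeometricallyReduced E ((E ⊗[k] A) ⧸ nilradical (E ⊗[k] A)) := by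
  classical
  let ι : E ⊗[k] A →ₐ[k] P ⊗[k] A :=
    Algebra.TensorProduct.map (IsScalarTower.toAlgHom k E P) (AlgHom.id k A)
  have hι : Function.Injective ι := by
    have h := Module.Flat.rTensor_preserves_injective_linearMap (M := A)
      (IsScalarTower.toAlgHom k E P).toLinearMap (algebraMap E P).injective
    exact h
  let N' : Ideal (E ⊗[k] A) := Ideal.span {y | ι y ∈ (s : Set (P ⊗[k] A))}
  have hN'map : N'.map ι.toRingHom = nilradical (P ⊗[k] A) := by
    rw [Ideal.map_span, ← hs]
    congr 1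
    ext x
    constructor
    · rintro ⟨y, hy, rfl⟩
      exact hy
    · intro hx
      obtain ⟨y, rfl⟩ := hsE x hx
      exact ⟨y, hx, rfl⟩
  have hN'le : N' ≤ nilradical (E ⊗[k] A) := by
    rw [Ideal.span_le]
    intro y hy
    have h1 : ι y ∈ nilradical (P ⊗[k] A) := by
      rw [← hs]
      exact Ideal.subset_span hy
    obtain ⟨n, hn⟩ := h1
    refine ⟨n, hι ?_⟩
    rw [map_pow, hn, map_zero]
  -- the base change to `P`
  let c : P ⊗[E] (E ⊗[k] A) ≃ₐ[P] P ⊗[k] A := Algebra.TensorProduct.cancelBaseChange k E P P A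
  let J : Ideal (P ⊗[E] (E ⊗[k] A)) :=
    N'.map (Algebra.TensorProduct.includeRight (R := E) (A := P) (B := E ⊗[k] A))
  have hcι : ∀ t : E ⊗[k] A, c ((1 : P) ⊗ₜ[E] t) = ι t := by
    intro t
    induction t using TensorProduct.induction_on with
    | zero => simp
    | tmul e a =>
      rw [Algebra.TensorProduct.cancelBaseChange_tmul]
      simp only [ι, Algebra.TensorProduct.map_tmul, AlgHom.coe_id, id_eq]
      congr 1
      rw [Algebra.smul_def, mul_one]
      rfl
    | add x y hx hy => rw [TensorProduct.tmul_add, map_add, hx, hy, map_add]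
  have hJ : nilradical (P ⊗[k] A) = J.map c.toRingEquiv.toRingHom := by
    have hJ' : J = N'.map
        (Algebra.TensorProduct.includeRight (R := E) (A := P) (B := E ⊗[k] A)).toRingHom := rfl
    rw [hJ', Ideal.map_map, ← hN'map]
    congr 1
    exact RingHom.ext (fun t => (hcι t).symm)
  let e1 : P ⊗[E] ((E ⊗[k] A) ⧸ N') ≃ₐ[P] (P ⊗[E] (E ⊗[k] A)) ⧸ J :=
    Algebra.TensorProduct.tensorQuotientEquiv (R := E) P (E ⊗[k] A) P N'
  let e2 : ((P ⊗[E] (E ⊗[k] A)) ⧸ J) ≃+* ((P ⊗[k] A) ⧸ nilradical (P ⊗[k] A)) :=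
    Ideal.quotientEquiv J (nilradical (P ⊗[k] A)) c.toRingEquiv hJ
  haveI : IsReduced ((P ⊗[k] A) ⧸ nilradical (P ⊗[k] A)) :=
    (Ideal.isRadical_iff_quotient_reduced _).mp (Ideal.radical_isRadical _)
  haveI hR : IsReduced (P ⊗[E] ((E ⊗[k] A) ⧸ N')) :=
    isReduced_of_injective (e2.toRingHom.comp e1.toRingEquiv.toRingHom)
      (e2.injective.comp e1.injective)
  have h5 : Algebra.IsGeometricallyReduced E ((E ⊗[k] A) ⧸ N') :=
    geomReduced_of_isReduced_perfect E P _ hR
  have h6 : IsReduced ((E ⊗[k] A) ⧸ N') := Algebra.isReduced_of_isGeometricallyReduced E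
  have hN'rad : N'.IsRadical := (Ideal.isRadical_iff_quotient_reduced _).mpr h6
  have hN' : N' = nilradical (E ⊗[k] A) := by
    apply le_antisymm hN'le
    intro x hx
    obtain ⟨n, hn⟩ := hx
    exact hN'rad ⟨n, by rw [hn]; exact zero_mem _⟩
  exact hN' ▸ h5

theorem exists_geomReduced (k P A : Type u) [Field k] [Field P] [Algebra k P] [CommRing A]
    [Algebra k A] [PerfectField P] [IsPurelyInseparable k P]
    (hfg : (nilradical (P ⊗[k] A)).FG) :
    ∃ (k' : Type u) (_ : Field k') (_ : Algebra k k'), FiniteDimensional k k' ∧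
      IsPurelyInseparable k k' ∧
      Algebra.IsGeometricallyReduced k' ((k' ⊗[k] A) ⧸ nilradical (k' ⊗[k] A)) := by
  obtain ⟨s, hs⟩ := hfg
  obtain ⟨E, hE, hsE⟩ := exists_finite_forall_mem_range (k := k) (P := P) (A := A) s
  refine ⟨E, inferInstance, inferInstance, hE, IsPurelyInseparable.tower_bot k E P, ?_⟩
  exact geomReduced_aux k E P A s hs hsE

end Groth.Agent.Lib.helper25.GRed
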