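import Mathlib
import Groth.Agent.Lib.helper20.SepNormal2
import Groth.Agent.Lib.helper20.NormalDescent

/-! Pointwise normality under field base change (helper25). -/

namespace Groth.Agent.Lib.helper25.GeomNor

set_option linter.style.haveILetI false
universe u
open TensorProduct IsLocalRing

/-- Transport of normality of a local ring along a localization of the ambient ring. -/
theorem nor_atPrime_of_localization (A B : Type u) [CommRing A] [CommRing B] [Algebra A B]
    (M : Submonoid A) [IsLocalization M B] (Q : Ideal A) [hQ : Q.IsPrime]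
    (hd : Disjoint (M : Set A) (Q : Set A))
    (h : ∀ (P : Ideal B) [P.IsPrime],
      IsDomain (Localization.AtPrime P) ∧ IsIntegrallyClosed (Localization.AtPrime P)) :
    IsDomain (Localization.AtPrime Q) ∧ IsIntegrallyClosed (Localization.AtPrime Q) := by
  haveI hQ' : (Q.map (algebraMap A B)).IsPrime :=
    IsLocalization.isPrime_of_isPrime_disjoint M B Q hQ hd
  have hcomap : (Q.map (algebraMap A B)).comap (algebraMap A B) = Q :=
    IsLocalization.under_map_of_isPrime_disjoint M B hQ hd
  obtain ⟨h1, h2⟩ := h (Q.map (algebraMap A B))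
  let T := Localization.AtPrime (Q.map (algebraMap A B))
  haveI : IsLocalization.AtPrime T ((Q.map (algebraMap A B)).comap (algebraMap A B)) :=
    IsLocalization.isLocalization_isLocalization_atPrime_isLocalization M T (Q.map (algebraMap A B))
  let e : Localization.AtPrime ((Q.map (algebraMap A B)).comap (algebraMap A B)) ≃ₐ[A] T :=
    IsLocalization.algEquiv ((Q.map (algebraMap A B)).comap (algebraMap A B)).primeCompl _ _
  haveI : IsDomain (Localization.AtPrime ((Q.map (algebraMap A B)).comap (algebraMap A B))) :=
    e.toRingEquiv.toMulEquiv.isDomain T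
  have hr : IsDomain (Localization.AtPrime ((Q.map (algebraMap A B)).comap (algebraMap A B))) ∧
      IsIntegrallyClosed
        (Localization.AtPrime ((Q.map (algebraMap A B)).comap (algebraMap A B))) :=
    ⟨inferInstance, IsIntegrallyClosed.of_equiv e.symm.toRingEquiv⟩
  exact Groth.Agent.Lib.helper20.NormalDescent.transport hcomap hr

/-- an integrally closed domain is a normal ring -/
theorem nor_of_ic (R : Type u) [CommRing R] [IsDomain R] [IsIntegrallyClosed R] :
    ∀ (p : Ideal R) [p.IsPrime],
      IsDomain (Localization.AtPrime p) ∧ IsIntegrallyClosed (Localization.AtPrime p) := by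
  intro p hp
  haveI : IsDomain (Localization.AtPrime p) :=
    IsLocalization.isDomain_localization p.primeCompl_le_nonZeroDivisors
  exact ⟨inferInstance, isIntegrallyClosed_of_isLocalization (Localization.AtPrime p)
    p.primeCompl p.primeCompl_le_nonZeroDivisors⟩

theorem S4748_aux (k S k' : Type u) [Field k] [CommRing S] [Algebra k S]
    [Field k'] [Algebra k k'] (q' : Ideal (S ⊗[k] k')) [q'.IsPrime] :
    ((IsDomain (Localization.AtPrime q') ∧ IsIntegrallyClosed (Localization.AtPrime q')) →
        (IsDomain (Localization.AtPrime (q'.comap (algebraMap S (S ⊗[k] k')))) ∧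
          IsIntegrallyClosed (Localization.AtPrime (q'.comap (algebraMap S (S ⊗[k] k')))))) ∧
      (Algebra.IsGeometricallyReduced k k' →
        (IsDomain (Localization.AtPrime (q'.comap (algebraMap S (S ⊗[k] k')))) ∧
          IsIntegrallyClosed (Localization.AtPrime (q'.comap (algebraMap S (S ⊗[k] k'))))) →
          (IsDomain (Localization.AtPrime q') ∧ IsIntegrallyClosed (Localization.AtPrime q'))) := by
  constructor
  · rintro ⟨h1, h2⟩
    haveI := h1
    haveI := h2
    exact Groth.Agent.Lib.helper20.NormalDescent.normal_local_descent S (S ⊗[k] k') q'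
  · rintro hred ⟨h1, h2⟩
    haveI := hred
    haveI := h1
    haveI := h2
    set q : Ideal S := q'.comap (algebraMap S (S ⊗[k] k')) with hq
    let R := Localization.AtPrime q
    let D := R ⊗[k] k'
    letI : Algebra (S ⊗[k] k') D :=
      (Algebra.TensorProduct.map (IsScalarTower.toAlgHom k S R) (AlgHom.id k k')).toAlgebra
    haveI : IsScalarTower S (S ⊗[k] k') D := .of_algebraMap_eq <| by
      intro x
      rw [RingHom.algebraMap_toAlgebra]
      change _ = (Algebra.TensorProduct.map (IsScalarTower.toAlgHom k S R) (AlgHom.id k k'))
        (x ⊗ₜ[k] 1)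
      rw [Algebra.TensorProduct.map_tmul, map_one, Algebra.TensorProduct.algebraMap_apply]
      rfl
    haveI : IsLocalization (Algebra.algebraMapSubmonoid (S ⊗[k] k') q.primeCompl) D :=
      IsLocalization.tensorProduct_tensorProduct k k' q.primeCompl R
        (by ext; simp [RingHom.algebraMap_toAlgebra])
    have hD := Groth.Agent.Lib.helper20.SepNormal.normal_tensor_of_geomReduced k R k' (nor_of_ic R)
    have hdisj : Disjoint
        ((Algebra.algebraMapSubmonoid (S ⊗[k] k') q.primeCompl : Submonoid _) : Set (S ⊗[k] k'))
        (q' : Set (S ⊗[k] k')) := by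
      rw [Set.disjoint_left]
      rintro _ ⟨s, hs, rfl⟩ hsq
      exact hs hsq
    exact nor_atPrime_of_localization (S ⊗[k] k') D
      (Algebra.algebraMapSubmonoid (S ⊗[k] k') q.primeCompl) q' hdisj hD

end Groth.Agent.Lib.helper25.GeomNor
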