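import Mathlib
import Groth.Prelude.Def_EGA4b
import Groth.Agent.Lib.helper20.SepNormal2
import Groth.Agent.Lib.helper20.NormalDescent
import Groth.Agent.Lib.helper20.FiberLoc
import Groth.Agent.Lib.helper7.GeomRed3
import Groth.Agent.Lib.helper25.GeomNor1

/-! Geometric normality: reduction to purely inseparable extensions (helper25). -/

namespace Groth.Agent.Lib.helper25.GeomNor

set_option linter.style.haveILetI false
universe u
open TensorProduct IsLocalRing
open scoped IntermediateField

/-- normality of `S ⊗[k] F` from finite subextensions, `F/k` algebraic. -/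
theorem nor_tensor_of_finite_subfields (k S F : Type u) [Field k] [CommRing S] [Algebra k S]
    [Field F] [Algebra k F] [Algebra.IsAlgebraic k F]
    (h : ∀ E : IntermediateField k F, FiniteDimensional k E → EGA4.IsNormalRing (S ⊗[k] E)) :
    EGA4.IsNormalRing (S ⊗[k] F) := by
  classical
  let ι := {E : IntermediateField k F // FiniteDimensional k E}
  haveI : Nonempty ι := ⟨⟨⊥, inferInstance⟩⟩
  haveI : IsDirected ι (· ≤ ·) := by
    refine ⟨fun E1 E2 => ?_⟩
    haveI := E1.2
    haveI := E2.2
    exact ⟨⟨E1.1 ⊔ E2.1, inferInstance⟩, le_sup_left (a := E1.1), le_sup_right (a := E1.1)⟩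
  let G : ι → Type u := fun E => S ⊗[k] E.1
  let f : ∀ i j : ι, i ≤ j → G i →+* G j := fun i j h =>
    (Algebra.TensorProduct.map (AlgHom.id S S)
      (IntermediateField.inclusion (show i.1 ≤ j.1 from h))).toRingHom
  let φ : ∀ i : ι, G i →+* S ⊗[k] F := fun i =>
    (Algebra.TensorProduct.map (AlgHom.id S S) i.1.val).toRingHom
  have hf_tmul : ∀ (i j : ι) (h : i ≤ j) (a : S) (b : i.1),
      f i j h (a ⊗ₜ b) = a ⊗ₜ (IntermediateField.inclusion (show i.1 ≤ j.1 from h) b) := by
    intro i j h a b
    exact Algebra.TensorProduct.map_tmul _ _ _ _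
  have hφ_tmul : ∀ (i : ι) (a : S) (b : i.1), φ i (a ⊗ₜ b) = a ⊗ₜ (b : F) := by
    intro i a b
    exact Algebra.TensorProduct.map_tmul _ _ _ _
  have hfunct : ∀ i j l (h1 : i ≤ j) (h2 : j ≤ l) x,
      f j l h2 (f i j h1 x) = f i l (h1.trans h2) x := by
    intro i j l h1 h2 x
    induction x using TensorProduct.induction_on with
    | zero => simp only [map_zero]
    | tmul a b => rw [hf_tmul i j h1, hf_tmul j l h2, hf_tmul i l (h1.trans h2)]; rfl
    | add x y hx hy => simp only [map_add, hx, hy]
  have hcompat : ∀ i j (h : i ≤ j) x, φ j (f i j h x) = φ i x := by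
    intro i j h x
    induction x using TensorProduct.induction_on with
    | zero => simp only [map_zero]
    | tmul a b => rw [hf_tmul i j h, hφ_tmul, hφ_tmul]; rfl
    | add x y hx hy => simp only [map_add, hx, hy]
  have hsurj : ∀ r : S ⊗[k] F, ∃ i x, φ i x = r := by
    intro r
    induction r using TensorProduct.induction_on with
    | zero => exact ⟨Classical.arbitrary ι, 0, map_zero _⟩
    | tmul a c =>
      have hc : IsIntegral k c := (Algebra.IsAlgebraic.isAlgebraic c).isIntegral
      exact ⟨⟨k⟮c⟯, IntermediateField.adjoin.finiteDimensional hc⟩,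
        a ⊗ₜ ⟨c, IntermediateField.mem_adjoin_simple_self k c⟩, hφ_tmul _ _ _⟩
    | add x y hx hy =>
      obtain ⟨i1, x1, h1⟩ := hx
      obtain ⟨i2, x2, h2⟩ := hy
      obtain ⟨l, hl1, hl2⟩ := exists_ge_ge i1 i2
      exact ⟨l, f i1 l hl1 x1 + f i2 l hl2 x2,
        by rw [map_add, hcompat i1 l hl1, hcompat i2 l hl2, h1, h2]⟩
  have hinj : ∀ i : ι, Function.Injective (φ i) := by
    intro i
    have h := Module.Flat.lTensor_preserves_injective_linearMap (M := S) i.1.val.toLinearMap
      Subtype.val_injective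
    intro x y hxy
    apply h
    have hx : ∀ z : G i, (LinearMap.lTensor S i.1.val.toLinearMap) z = φ i z := by
      intro z
      induction z using TensorProduct.induction_on with
      | zero => simp only [map_zero]
      | tmul a b => rw [hφ_tmul]; rfl
      | add x y hx hy => simp only [map_add, hx, hy]
    rw [hx, hx, hxy]
  have hker : ∀ i x, φ i x = 0 → ∃ j, ∃ h : i ≤ j, f i j h x = 0 := by
    intro i x hx
    have : x = 0 := hinj i (hx.trans (map_zero _).symm)
    exact ⟨i, le_rfl, by rw [this, map_zero]⟩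
  exact Groth.Agent.Lib.helper20.ColimNormal.normal_of_directed G (S ⊗[k] F) f φ
    hfunct hcompat hsurj hker (fun i => h i.1 i.2)

theorem nor_tensor_field_of_perfect (k S : Type u) [Field k] [CommRing S] [Algebra k S]
    (K F L : Type u) [Field K] [Algebra k K] [Field F] [Algebra k F] [Field L] [Algebra k L]
    [Algebra K L] [Algebra F L] [IsScalarTower k K L] [IsScalarTower k F L] [PerfectField F]
    (h1' : EGA4.IsNormalRing (F ⊗[k] S)) : EGA4.IsNormalRing (K ⊗[k] S) := by
  haveI : Algebra.IsGeometricallyReduced F L :=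
    Groth.Agent.Lib.helper7.GeomRed3.isGeometricallyReduced_of_perfectField F L
  have h2 : EGA4.IsNormalRing ((F ⊗[k] S) ⊗[F] L) :=
    Groth.Agent.Lib.helper20.SepNormal.normal_tensor_of_geomReduced F (F ⊗[k] S) L h1'
  let e1 : (F ⊗[k] S) ⊗[F] L ≃+* L ⊗[F] (F ⊗[k] S) :=
    (Algebra.TensorProduct.comm F (F ⊗[k] S) L).toRingEquiv
  let e2 : L ⊗[F] (F ⊗[k] S) ≃+* L ⊗[k] S :=
    (Algebra.TensorProduct.cancelBaseChange k F F L S).toRingEquiv
  let e3 : L ⊗[k] S ≃+* L ⊗[K] (K ⊗[k] S) :=
    (Algebra.TensorProduct.cancelBaseChange k K K L S).symm.toRingEquiv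
  let e4 : L ⊗[K] (K ⊗[k] S) ≃+* (K ⊗[k] S) ⊗[K] L :=
    (Algebra.TensorProduct.comm K L (K ⊗[k] S)).toRingEquiv
  have h3 : EGA4.IsNormalRing ((K ⊗[k] S) ⊗[K] L) :=
    Groth.Agent.Lib.helper20.FiberLoc.normal_of_ringEquiv
      (((e1.trans e2).trans e3).trans e4) h2
  exact Groth.Agent.Lib.helper20.NormalDescent.normal_of_faithfullyFlat (K ⊗[k] S)
    ((K ⊗[k] S) ⊗[K] L) h3

theorem nor_tensor_field_of_pi_aux (k S : Type u) [Field k] [CommRing S] [Algebra k S]
    (hb : ∀ (k' : Type u) [Field k'] [Algebra k k'], Module.Finite k k' → IsPurelyInseparable k k' →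
      EGA4.IsNormalRing (k' ⊗[k] S))
    (K L : Type u) [Field K] [Algebra k K] [Field L] [Algebra k L] [Algebra K L]
    [IsScalarTower k K L] [PerfectField L] : EGA4.IsNormalRing (K ⊗[k] S) := by
  have h1 : EGA4.IsNormalRing (S ⊗[k] (perfectClosure k L)) :=
    nor_tensor_of_finite_subfields k S (perfectClosure k L) (fun E hE => by
      haveI := hE
      haveI : IsPurelyInseparable k E := IsPurelyInseparable.tower_bot k E (perfectClosure k L)
      exact Groth.Agent.Lib.helper20.FiberLoc.normal_of_ringEquiv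
        (Algebra.TensorProduct.comm k E S).toRingEquiv (hb E inferInstance inferInstance))
  have h1' : EGA4.IsNormalRing ((perfectClosure k L) ⊗[k] S) :=
    Groth.Agent.Lib.helper20.FiberLoc.normal_of_ringEquiv
      (Algebra.TensorProduct.comm k S (perfectClosure k L)).toRingEquiv h1
  exact nor_tensor_field_of_perfect k S K (perfectClosure k L) L h1'

/-- If `S` is normal after every finite purely inseparable extension of `k`, then `K ⊗[k] S` is
normal for every field extension `K` of `k`. -/
theorem nor_tensor_field_of_pi (k S : Type u) [Field k] [CommRing S] [Algebra k S]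
    (hb : ∀ (k' : Type u) [Field k'] [Algebra k k'], Module.Finite k k' → IsPurelyInseparable k k' →
      EGA4.IsNormalRing (k' ⊗[k] S))
    (K : Type u) [Field K] [Algebra k K] : EGA4.IsNormalRing (K ⊗[k] S) :=
  nor_tensor_field_of_pi_aux k S hb K (AlgebraicClosure K)

end Groth.Agent.Lib.helper25.GeomNor
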