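import Mathlib
import Groth.Prelude.Def_Found
import Groth.Agent.Lib.helper14.FSJacC
import Groth.Agent.Lib.helper6.SmoothRegPt
import Groth.Agent.Lib.helper20.RegQuot6
import Groth.Agent.Lib.helper20.SmoothRegHom

/-! Geometrically regular finite type algebras over a field are smooth (helper25). -/

namespace Groth.Agent.Lib.helper25.GeomReg

set_option linter.style.haveILetI false
universe u
open TensorProduct

/-- Geometric regularity passes to localizations. -/
theorem isGeometricallyRegular_localization (κ F : Type u) [Field κ] [CommRing F] [Algebra κ F]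
    (h : CAlg.IsGeometricallyRegular κ F) (M : Submonoid F) (B : Type u) [CommRing B]
    [Algebra κ B] [Algebra F B] [IsScalarTower κ F B] [IsLocalization M B] :
    CAlg.IsGeometricallyRegular κ B := by
  intro k' _ _ hfin
  haveI := h k' hfin
  let M' := M.map (Algebra.TensorProduct.includeRight (R := κ) (A := k') (B := F))
  haveI : IsRegularRing (Localization M') :=
    Groth.Agent.Lib.helper20.RegQuot.isRegularRing_localization M'
  exact IsRegularRing.of_ringEquiv
    (IsLocalization.tensorProductEquivOfMapIncludeRight κ k' M B (Localization M')).symm.toRingEquiv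

/-- A geometrically regular finite type algebra over a field is smooth at every prime. -/
theorem isSmoothAt_of_geomReg (κ F : Type u) [Field κ] [CommRing F] [Algebra κ F]
    [Algebra.FiniteType κ F] (h : CAlg.IsGeometricallyRegular κ F) (q : Ideal F) [q.IsPrime] :
    Algebra.IsSmoothAt κ q := by
  haveI : IsNoetherianRing F := Algebra.FiniteType.isNoetherianRing κ F
  have hq := isGeometricallyRegular_localization κ F h q.primeCompl (Localization.AtPrime q)
  obtain ⟨p, hp⟩ := ExpChar.exists κ
  apply Groth.Agent.Lib.helper6.SmoothRegPt.isSmoothAt_of_adic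
  exact H14.PRoot.fs_of_regular_baseChange p (fun k' _ _ hfin _ => hq k' hfin)

/-- A geometrically regular finite type algebra over a field is smooth. -/
theorem smooth_of_geomReg (κ F : Type u) [Field κ] [CommRing F] [Algebra κ F]
    [Algebra.FiniteType κ F] (h : CAlg.IsGeometricallyRegular κ F) :
    Algebra.Smooth κ F := by
  haveI : Algebra.FinitePresentation κ F :=
    (Algebra.FinitePresentation.of_finiteType).mp inferInstance
  refine ⟨?_, inferInstance⟩
  rw [← Algebra.smoothLocus_eq_univ_iff]
  ext q
  simp only [Set.mem_univ, iff_true]
  exact isSmoothAt_of_geomReg κ F h q.asIdeal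

theorem S4996_aux (A B : Type u) [CommRing A] [CommRing B]
    [Algebra A B] [Algebra.FinitePresentation A B] :
    Algebra.Smooth A B ↔
      Module.Flat A B ∧ ∀ (p : Ideal A) [p.IsPrime],
        CAlg.IsGeometricallyRegular p.ResidueField (p.Fiber B) := by
  constructor
  · intro h
    have := Groth.Agent.Lib.helper20.SmoothReg.isRegularHom_of_smooth A B
    exact ⟨this.1, fun p _ => (this.2 p).2⟩
  · rintro ⟨hflat, h⟩
    refine Algebra.Smooth.of_formallySmooth_fiber (fun I _ => ?_)
    haveI : Algebra.FiniteType I.ResidueField (I.Fiber B) := inferInstance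
    exact (smooth_of_geomReg _ _ (h I)).1

end Groth.Agent.Lib.helper25.GeomReg
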