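import Mathlib
import Groth.Prelude.Def_Found
import Groth.Agent.Lib.helper14.FSJacC
import Groth.Agent.Lib.helper14.FSField
import Groth.Agent.Lib.helper20.RegQuot6
import Groth.Agent.Lib.helper20.RegAscent
import Groth.Agent.Lib.helper25.GeomReg

/-! Geometric regularity: base change to arbitrary field extensions (helper25). -/

namespace Groth.Agent.Lib.helper25.GeomReg

set_option linter.style.haveILetI false
universe u
open TensorProduct IsLocalRing

/-- Transport of regularity of a local ring along a localization of the ambient ring. -/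
theorem regular_atPrime_of_localization (A B : Type u) [CommRing A] [CommRing B] [Algebra A B]
    (M : Submonoid A) [IsLocalization M B] (Q : Ideal A) [hQ : Q.IsPrime]
    (hd : Disjoint (M : Set A) (Q : Set A))
    (h : ∀ [(Q.map (algebraMap A B)).IsPrime],
      IsRegularLocalRing (Localization.AtPrime (Q.map (algebraMap A B)))) :
    IsRegularLocalRing (Localization.AtPrime Q) := by
  haveI hQ' : (Q.map (algebraMap A B)).IsPrime := IsLocalization.isPrime_of_isPrime_disjoint M B Q hQ hd
  have hcomap : (Q.map (algebraMap A B)).comap (algebraMap A B) = Q :=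
    IsLocalization.under_map_of_isPrime_disjoint M B hQ hd
  haveI := h
  let T := Localization.AtPrime (Q.map (algebraMap A B))
  haveI : IsLocalization.AtPrime T ((Q.map (algebraMap A B)).comap (algebraMap A B)) :=
    IsLocalization.isLocalization_isLocalization_atPrime_isLocalization M T (Q.map (algebraMap A B))
  have hr : IsRegularLocalRing
      (Localization.AtPrime ((Q.map (algebraMap A B)).comap (algebraMap A B))) :=
    IsRegularLocalRing.of_ringEquiv (R := T)
      (IsLocalization.algEquiv ((Q.map (algebraMap A B)).comap (algebraMap A B)).primeCompl T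
        (Localization.AtPrime ((Q.map (algebraMap A B)).comap (algebraMap A B)))).toRingEquiv
  exact Groth.Agent.Lib.helper20.RegAscent.transport hcomap hr

/-- If all local rings of `S` are adically formally smooth over the field `k`, then `K ⊗ S` is
regular for any field extension `K` with `K ⊗ S` Noetherian. -/
theorem isRegularRing_tensor_of_locFS (k S K : Type u) [Field k] [Field K] [Algebra k K]
    [CommRing S] [Algebra k S] [IsNoetherianRing (K ⊗[k] S)]
    (h : ∀ (q : Ideal S) [q.IsPrime], CAlgX.IsAdicFormallySmooth k (Localization.AtPrime q)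
      (maximalIdeal (Localization.AtPrime q))) : IsRegularRing (K ⊗[k] S) := by
  rw [isRegularRing_iff]
  intro Q hQ
  let ι : S →ₐ[k] K ⊗[k] S := Algebra.TensorProduct.includeRight
  let q : Ideal S := Q.comap ι.toRingHom
  haveI : q.IsPrime := Ideal.comap_isPrime _ _
  let Sq := Localization.AtPrime q
  let B := K ⊗[k] Sq
  have h1 := H14.FSField.baseChange (k' := K) (maximalIdeal Sq) (h q)
  letI : Algebra (K ⊗[k] S) B :=
    (Algebra.TensorProduct.map (AlgHom.id k K) (IsScalarTower.toAlgHom k S Sq)).toAlgebra
  haveI : IsScalarTower K (K ⊗[k] S) B :=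
    .of_algebraMap_eq <| by
      intro x
      rw [RingHom.algebraMap_toAlgebra]
      change _ = (Algebra.TensorProduct.map (AlgHom.id k K) (IsScalarTower.toAlgHom k S Sq))
        (x ⊗ₜ[k] 1)
      rw [Algebra.TensorProduct.map_tmul, map_one, Algebra.TensorProduct.algebraMap_apply]
      rfl
  let M' : Submonoid (K ⊗[k] S) := q.primeCompl.map ι
  haveI : IsLocalization M' B :=
    IsLocalization.tensorProduct_tensorProduct_right k K q.primeCompl Sq
      (by ext; simp [RingHom.algebraMap_toAlgebra])
  haveI : IsNoetherianRing B := IsLocalization.isNoetherianRing M' B inferInstance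
  have hdisj : Disjoint (M' : Set (K ⊗[k] S)) (Q : Set (K ⊗[k] S)) := by
    rw [Set.disjoint_left]
    rintro _ ⟨s, hs, rfl⟩ hsQ
    exact hs hsQ
  apply regular_atPrime_of_localization (K ⊗[k] S) B M' Q hdisj
  intro hQ'
  have hle : (maximalIdeal Sq).map
      (Algebra.TensorProduct.includeRight : Sq →ₐ[k] K ⊗[k] Sq).toRingHom ≤
      Q.map (algebraMap (K ⊗[k] S) B) := by
    rw [← Localization.AtPrime.map_eq_maximalIdeal, Ideal.map_map]
    have hcomp : ((Algebra.TensorProduct.includeRight : Sq →ₐ[k] K ⊗[k] Sq).toRingHom).comp
        (algebraMap S Sq) = (algebraMap (K ⊗[k] S) B).comp ι.toRingHom := by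
      ext s
      simp [RingHom.algebraMap_toAlgebra, ι]
    rw [hcomp, ← Ideal.map_map]
    exact Ideal.map_mono (Ideal.map_comap_le)
  have h2 := H14.FSField.localization _ (Q.map (algebraMap (K ⊗[k] S) B)) hle h1
  exact H14.FSField.isRegularLocalRing_of_fs h2

end Groth.Agent.Lib.helper25.GeomReg
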