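import Mathlib
import Groth.Prelude.Def_Found
import Groth.Agent.Lib.helper20.RegSmoothPt
import Groth.Agent.Lib.helper25.GeomReg2

/-! Geometric regularity: equivalent definitions and base change (helper25). -/

namespace Groth.Agent.Lib.helper25.GeomReg

set_option linter.style.haveILetI false
universe u
open TensorProduct IsLocalRing

/-- Regularity descends along faithfully flat maps. -/
theorem isRegularRing_of_faithfullyFlat (C D : Type u) [CommRing C] [CommRing D] [Algebra C D]
    [IsNoetherianRing C] [Module.FaithfullyFlat C D] [IsRegularRing D] : IsRegularRing C := by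
  rw [isRegularRing_iff]
  intro q hq
  obtain ⟨Q, hQ⟩ := PrimeSpectrum.comap_surjective_of_faithfullyFlat (A := C) (B := D) ⟨q, hq⟩
  have hQ' : Q.asIdeal.comap (algebraMap C D) = q := congrArg PrimeSpectrum.asIdeal hQ
  have := Groth.Agent.Lib.helper20.RegSmoothPt.regular_descent_at_prime C D Q.asIdeal inferInstance
  exact Groth.Agent.Lib.helper20.RegAscent.transport hQ' this

/-- `k' ⊗ F` regular implies `k' ⊗ F_M` regular. -/
theorem isRegularRing_tensor_localization (κ k' F : Type u) [CommRing κ] [CommRing k'] [Algebra κ k']
    [CommRing F] [Algebra κ F]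
    [IsRegularRing (k' ⊗[κ] F)] (M : Submonoid F) (B : Type u) [CommRing B]
    [Algebra κ B] [Algebra F B] [IsScalarTower κ F B] [IsLocalization M B] :
    IsRegularRing (k' ⊗[κ] B) := by
  let M' := M.map (Algebra.TensorProduct.includeRight (R := κ) (A := k') (B := F))
  haveI : IsRegularRing (Localization M') :=
    Groth.Agent.Lib.helper20.RegQuot.isRegularRing_localization M'
  exact IsRegularRing.of_ringEquiv
    (IsLocalization.tensorProductEquivOfMapIncludeRight κ k' M B (Localization M')).symm.toRingEquiv

/-- Regularity after height-one purely inseparable base changes gives adic formal smoothness of all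
local rings. -/
theorem locFS_of_regular_baseChange (k S : Type u) [Field k] [CommRing S] [Algebra k S]
    [IsNoetherianRing S] (p : ℕ) [ExpChar k p]
    (hyp : ∀ (k' : Type u) [Field k'] [Algebra k k'], Module.Finite k k' →
      (∀ x : k', x ^ p ∈ (algebraMap k k').range) → IsRegularRing (k' ⊗[k] S))
    (q : Ideal S) [q.IsPrime] :
    CAlgX.IsAdicFormallySmooth k (Localization.AtPrime q)
      (maximalIdeal (Localization.AtPrime q)) := by
  apply H14.PRoot.fs_of_regular_baseChange p
  intro k' _ _ hfin hx
  haveI := hyp k' hfin hx
  exact isRegularRing_tensor_localization k k' S q.primeCompl (Localization.AtPrime q)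

/-- Geometric regularity gives regularity after arbitrary Noetherian field base change. -/
theorem isRegularRing_tensor_of_geomReg (k S K : Type u) [Field k] [Field K] [Algebra k K]
    [CommRing S] [Algebra k S] [IsNoetherianRing S] [IsNoetherianRing (K ⊗[k] S)]
    (h : CAlg.IsGeometricallyRegular k S) : IsRegularRing (K ⊗[k] S) := by
  obtain ⟨p, hp⟩ := ExpChar.exists k
  apply isRegularRing_tensor_of_locFS
  intro q _
  exact locFS_of_regular_baseChange k S p (fun k' _ _ hfin _ => h k' hfin) q

theorem isNoetherianRing_tensor_of_essFiniteType (k S K : Type u) [Field k] [Field K] [Algebra k K]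
    [CommRing S] [Algebra k S] [IsNoetherianRing S] [Algebra.EssFiniteType k K] :
    IsNoetherianRing (K ⊗[k] S) := by
  haveI : Algebra.EssFiniteType S (S ⊗[k] K) := inferInstance
  haveI : IsNoetherianRing (S ⊗[k] K) := Algebra.EssFiniteType.isNoetherianRing S _
  exact isNoetherianRing_of_ringEquiv (S ⊗[k] K) (Algebra.TensorProduct.comm k S K).toRingEquiv

open TensorProduct in
theorem S2672_aux (k S : Type u) [Field k] [CommRing S] [Algebra k S] [IsNoetherianRing S] :
    (CAlg.IsGeometricallyRegular k S ↔
        ∀ (k' : Type u) [Field k'] [Algebra k k'], Module.Finite k k' → IsPurelyInseparable k k' →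
          IsRegularRing (k' ⊗[k] S)) ∧
      (CAlg.IsGeometricallyRegular k S ↔
        ∀ (K : Type u) [Field K] [Algebra k K], Algebra.EssFiniteType k K →
          IsRegularRing (K ⊗[k] S)) := by
  constructor
  · constructor
    · intro h k' _ _ hfin _
      exact h k' hfin
    · intro h k' _ _ hfin
      obtain ⟨p, hp⟩ := ExpChar.exists k
      haveI : Module.Finite k k' := hfin
      haveI : IsNoetherianRing (k' ⊗[k] S) := isNoetherianRing_tensor_of_essFiniteType k S k'
      apply isRegularRing_tensor_of_locFS
      intro q _
      refine locFS_of_regular_baseChange k S p (fun k'' _ _ hfin' hx => ?_) q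
      refine h k'' hfin' ?_
      rw [isPurelyInseparable_iff_pow_mem k p]
      intro x
      exact ⟨1, by simpa using hx x⟩
  · constructor
    · intro h K _ _ hK
      haveI := hK
      haveI : IsNoetherianRing (K ⊗[k] S) := isNoetherianRing_tensor_of_essFiniteType k S K
      exact isRegularRing_tensor_of_geomReg k S K h
    · intro h k' _ _ hfin
      haveI : Module.Finite k k' := hfin
      exact h k' inferInstance

end Groth.Agent.Lib.helper25.GeomReg
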