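import Mathlib
import Groth.Prelude.Def_EGA4b
import Groth.Agent.Lib.helper17.FlatNormal
import Groth.Agent.Lib.helper25.GeomReg3
import Groth.Agent.Lib.helper25.GeomNor2

/-! Geometric normality: characterizations, base change, tensor products (helper25). -/

namespace Groth.Agent.Lib.helper25.GeomNor

set_option linter.style.haveILetI false
universe u
open TensorProduct IsLocalRing

theorem S2673_aux (k S : Type u) [Field k] [CommRing S] [Algebra k S] :
    (EGA4.IsGeomNormal k S ↔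
        ∀ (k' : Type u) [Field k'] [Algebra k k'], Module.Finite k k' → IsPurelyInseparable k k' →
          EGA4.IsNormalRing (k' ⊗[k] S)) ∧
      (EGA4.IsGeomNormal k S ↔
        ∀ (K : Type u) [Field K] [Algebra k K], Algebra.EssFiniteType k K →
          EGA4.IsNormalRing (K ⊗[k] S)) := by
  refine ⟨⟨fun h k' _ _ hf _ => h k' hf, fun hb k' _ _ _ => nor_tensor_field_of_pi k S hb k'⟩,
    ⟨fun h K _ _ _ => nor_tensor_field_of_pi k S (fun k' _ _ hf _ => h k' hf) K,
      fun hc k' _ _ hf => hc k' ?_⟩⟩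
  haveI := hf
  infer_instance

/-- geometrically normal ⟹ normal after any field extension -/
theorem nor_tensor_field (k S : Type u) [Field k] [CommRing S] [Algebra k S]
    (h : EGA4.IsGeomNormal k S) (K : Type u) [Field K] [Algebra k K] :
    EGA4.IsNormalRing (K ⊗[k] S) :=
  nor_tensor_field_of_pi k S (fun k' _ _ hf _ => h k' hf) K

theorem geomNor_baseChange (k S : Type u) [Field k] [CommRing S] [Algebra k S]
    (K : Type u) [Field K] [Algebra k K]
    (h : EGA4.IsGeomNormal k S) : EGA4.IsGeomNormal K (K ⊗[k] S) := by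
  intro K' _ _ hfin
  letI : Algebra k K' := ((algebraMap K K').comp (algebraMap k K)).toAlgebra
  haveI : IsScalarTower k K K' := IsScalarTower.of_algebraMap_eq (fun _ => rfl)
  have h1 := nor_tensor_field k S h K'
  exact Groth.Agent.Lib.helper20.FiberLoc.normal_of_ringEquiv
    (Algebra.TensorProduct.cancelBaseChange k K K' K' S).symm.toRingEquiv h1

theorem geomNor_of_baseChange (k S : Type u) [Field k] [CommRing S] [Algebra k S]
    (K : Type u) [Field K] [Algebra k K]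
    (h : EGA4.IsGeomNormal K (K ⊗[k] S)) : EGA4.IsGeomNormal k S := by
  intro k' _ _ hfin
  haveI : Module.Finite k k' := hfin
  let R := K ⊗[k] k'
  obtain ⟨m, hm⟩ := Ideal.exists_maximal R
  letI : Field (R ⧸ m) := Ideal.Quotient.field m
  haveI : Module.Finite K (R ⧸ m) :=
    Module.Finite.of_surjective (Ideal.Quotient.mkₐ K m).toLinearMap
      (Ideal.Quotient.mkₐ_surjective K m)
  letI : Algebra k' (R ⧸ m) := ((Ideal.Quotient.mk m).comp
    (Algebra.TensorProduct.includeRight : k' →ₐ[k] R).toRingHom).toAlgebra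
  haveI : IsScalarTower k k' (R ⧸ m) := IsScalarTower.of_algebraMap_eq (fun x => by
    change Ideal.Quotient.mk m (algebraMap k R x) =
      Ideal.Quotient.mk m ((1 : K) ⊗ₜ[k] algebraMap k k' x)
    congr 1
    rw [Algebra.TensorProduct.algebraMap_apply, Algebra.algebraMap_eq_smul_one,
      Algebra.algebraMap_eq_smul_one (A := k'), TensorProduct.smul_tmul])
  have hreg : EGA4.IsNormalRing ((R ⧸ m) ⊗[K] (K ⊗[k] S)) := h (R ⧸ m) inferInstance
  let e1 : (R ⧸ m) ⊗[K] (K ⊗[k] S) ≃ₐ[R ⧸ m] (R ⧸ m) ⊗[k] S :=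
    Algebra.TensorProduct.cancelBaseChange k K (R ⧸ m) (R ⧸ m) S
  let e2 : (R ⧸ m) ⊗[k'] (k' ⊗[k] S) ≃ₐ[R ⧸ m] (R ⧸ m) ⊗[k] S :=
    Algebra.TensorProduct.cancelBaseChange k k' (R ⧸ m) (R ⧸ m) S
  let e3 : (k' ⊗[k] S) ⊗[k'] (R ⧸ m) ≃ₐ[k'] (R ⧸ m) ⊗[k'] (k' ⊗[k] S) :=
    Algebra.TensorProduct.comm k' (k' ⊗[k] S) (R ⧸ m)
  have h3 : EGA4.IsNormalRing ((k' ⊗[k] S) ⊗[k'] (R ⧸ m)) :=
    Groth.Agent.Lib.helper20.FiberLoc.normal_of_ringEquiv
      ((e1.toRingEquiv.trans e2.symm.toRingEquiv).trans e3.symm.toRingEquiv) hreg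
  haveI : Module.FaithfullyFlat k' (R ⧸ m) := inferInstance
  haveI : Module.FaithfullyFlat (k' ⊗[k] S) ((k' ⊗[k] S) ⊗[k'] (R ⧸ m)) := inferInstance
  exact Groth.Agent.Lib.helper20.NormalDescent.normal_of_faithfullyFlat (k' ⊗[k] S)
    ((k' ⊗[k] S) ⊗[k'] (R ⧸ m)) h3

theorem S2675_aux (k S : Type u) [Field k] [CommRing S] [Algebra k S]
    (K : Type u) [Field K] [Algebra k K] :
    EGA4.IsGeomNormal k S ↔ EGA4.IsGeomNormal K (K ⊗[k] S) :=
  ⟨geomNor_baseChange k S K, geomNor_of_baseChange k S K⟩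

/-- Normal ⊗ geometrically normal is normal. -/
theorem isNormalRing_tensor (k S T : Type u) [Field k] [CommRing S] [CommRing T] [Algebra k S]
    [Algebra k T] [IsNoetherianRing S] [IsNoetherianRing (S ⊗[k] T)]
    (hS : EGA4.IsNormalRing S) (hT : EGA4.IsGeomNormal k T) : EGA4.IsNormalRing (S ⊗[k] T) := by
  apply Groth.Agent.Lib.helper17.FlatNormal.isNormalRing_of_flat (A := S) (B := S ⊗[k] T) hS
  intro p _
  have h1 := nor_tensor_field k T hT p.ResidueField
  exact Groth.Agent.Lib.helper20.FiberLoc.normal_of_ringEquiv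
    (Algebra.TensorProduct.cancelBaseChange k S S p.ResidueField T).symm.toRingEquiv h1

theorem S2693_aux (k S T : Type u) [Field k] [CommRing S] [CommRing T] [Algebra k S] [Algebra k T]
    [IsNoetherianRing S] [IsNoetherianRing T]
    (hft : Algebra.FiniteType k S ∨ Algebra.FiniteType k T) [IsNoetherianRing (S ⊗[k] T)] :
    (EGA4.IsNormalRing S → EGA4.IsGeomNormal k T → EGA4.IsNormalRing (S ⊗[k] T)) ∧
      (EGA4.IsGeomNormal k S → EGA4.IsGeomNormal k T → EGA4.IsGeomNormal k (S ⊗[k] T)) := by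
  refine ⟨isNormalRing_tensor k S T, ?_⟩
  intro hS hT k' _ _ hfin
  haveI : Module.Finite k k' := hfin
  have hS' : EGA4.IsNormalRing (k' ⊗[k] S) := hS k' hfin
  haveI : IsNoetherianRing (k' ⊗[k] S) :=
    Groth.Agent.Lib.helper25.GeomReg.isNoetherianRing_tensor_of_essFiniteType k S k'
  let e : (k' ⊗[k] S) ⊗[k] T ≃ₐ[k] k' ⊗[k] (S ⊗[k] T) :=
    Algebra.TensorProduct.assoc k k k k' S T
  haveI : IsNoetherianRing (k' ⊗[k] (S ⊗[k] T)) :=
    Groth.Agent.Lib.helper25.GeomReg.isNoetherianRing_tensor_of_essFiniteType k (S ⊗[k] T) k'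
  haveI : IsNoetherianRing ((k' ⊗[k] S) ⊗[k] T) :=
    isNoetherianRing_of_ringEquiv _ e.symm.toRingEquiv
  have := isNormalRing_tensor k (k' ⊗[k] S) T hS' hT
  exact Groth.Agent.Lib.helper20.FiberLoc.normal_of_ringEquiv e.toRingEquiv this

end Groth.Agent.Lib.helper25.GeomNor
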