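import Mathlib
import Groth.Prelude.Def_Curv2
import Groth.Prelude.Def_Pi1
import Groth.Prelude.Def_EGA4b
import Groth.Agent.Lib.helper7.StalkBC
import Groth.Agent.Lib.helper25.GeomNor3
import Groth.Agent.Lib.helper25.GeomReg3
import Groth.Agent.Lib.helper25.GRed2
import Groth.Agent.Lib.helper20.RegQuot4

/-! Base change of varieties: points of `X_K` over `x` versus maximal ideals of `𝒪_{X,x} ⊗ K`
(helper25), building on helper7's `StalkBC`. -/

universe u

open AlgebraicGeometry CategoryTheory Limits TensorProduct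

namespace Groth.Agent.Lib.helper25.VarBC

set_option linter.style.haveILetI false

section F

variable {k : Type u} [Field k] {X : Scheme.{u}} (s : X ⟶ Spec (CommRingCat.of k)) (x : X)
  [Algebra k (X.presheaf.stalk x)]
  (hφ : Spec.map (CommRingCat.ofHom (algebraMap k (X.presheaf.stalk x))) = X.fromSpecStalk x ≫ s)

include hφ in
/-- If `K/k` is algebraic, every maximal ideal `Q` of `𝒪_{X,x} ⊗_k K` comes from a point of `X_K`
over `x` whose local ring is the localization at `Q`. -/
theorem exists_point_equiv_localization (K : Type u) [Field K] [Algebra k K]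
    [Algebra.IsAlgebraic k K]
    (Q : Ideal ((X.presheaf.stalk x) ⊗[k] K)) (hQ : Q.IsMaximal) :
    ∃ x' : ↥(pullback s (Spec.map (CommRingCat.ofHom (algebraMap k K)))),
      pullback.fst s (Spec.map (CommRingCat.ofHom (algebraMap k K))) x' = x ∧
      Nonempty (((pullback s (Spec.map (CommRingCat.ofHom (algebraMap k K)))).presheaf.stalk x') ≃+*
        Localization.AtPrime Q) := by
  let O := X.presheaf.stalk x
  let q := Spec.map (CommRingCat.ofHom (algebraMap k K))
  let j := X.fromSpecStalk x
  haveI : Flat j := Groth.Agent.Lib.helper7.StalkBC.flat_fromSpecStalk X x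
  let P := pullback j (pullback.fst s q)
  let p2 : P ⟶ pullback s q := pullback.snd j (pullback.fst s q)
  let E : P ≅ Spec (CommRingCat.of (O ⊗[k] K)) :=
    pullbackRightPullbackFstIso s q j ≪≫ pullback.congrHom hφ.symm rfl ≪≫ pullbackSpecIso k O K
  have hE : E.inv ≫ pullback.fst j (pullback.fst s q) =
      Spec.map (CommRingCat.ofHom (algebraMap O (O ⊗[k] K))) := by
    simp only [E, Iso.trans_inv, Category.assoc, pullbackRightPullbackFstIso_inv_fst,
      pullback.congrHom_inv]
    erw [pullback.lift_fst]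
    rw [Category.comp_id]
    exact pullbackSpecIso_inv_fst' k O K
  haveI : Algebra.IsIntegral k K := Algebra.IsAlgebraic.isIntegral
  haveI : Algebra.IsIntegral O (O ⊗[k] K) := Algebra.IsIntegral.tensorProduct k O K
  haveI := hQ.isPrime
  let Qp : Spec (CommRingCat.of (O ⊗[k] K)) := ⟨Q, hQ.isPrime⟩
  let t : P := E.inv Qp
  have hfst : pullback.fst j (pullback.fst s q) t = IsLocalRing.closedPoint O := by
    show pullback.fst j (pullback.fst s q) (E.inv Qp) = _
    rw [← Scheme.Hom.comp_apply, hE]
    have hmax : (Q.comap (algebraMap O (O ⊗[k] K))).IsMaximal :=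
      Ideal.isMaximal_comap_of_isIntegral_of_isMaximal Q
    apply PrimeSpectrum.ext
    show Q.comap (algebraMap O (O ⊗[k] K)) = IsLocalRing.maximalIdeal O
    exact IsLocalRing.eq_maximalIdeal hmax
  have hx' : pullback.fst s q (p2 t) = x := by
    rw [← Scheme.Hom.comp_apply]
    show (pullback.snd j (pullback.fst s q) ≫ pullback.fst s q) t = x
    rw [← pullback.condition, Scheme.Hom.comp_apply, hfst]
    exact Scheme.fromSpecStalk_closedPoint
  have hbij := Groth.Agent.Lib.helper7.StalkBC.bijective_stalkMap p2 t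
  let e1 : (pullback s q).presheaf.stalk (p2 t) ≃+* P.presheaf.stalk t :=
    RingEquiv.ofBijective (p2.stalkMap t).hom hbij
  let e2 : P.presheaf.stalk t ≃+* (Spec (CommRingCat.of (O ⊗[k] K))).presheaf.stalk Qp :=
    RingEquiv.ofBijective (E.inv.stalkMap Qp).hom
      (ConcreteCategory.bijective_of_isIso (E.inv.stalkMap Qp))
  letI alg : Algebra (O ⊗[k] K) ((Spec (CommRingCat.of (O ⊗[k] K))).presheaf.stalk Qp) :=
    StructureSheaf.stalkAlgebra (O ⊗[k] K) Qp
  haveI : IsLocalization.AtPrime ((Spec (CommRingCat.of (O ⊗[k] K))).presheaf.stalk Qp) Q :=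
    StructureSheaf.IsLocalization.to_stalk (O ⊗[k] K) Qp
  let e3 : Localization.AtPrime Q ≃+*
      (Spec (CommRingCat.of (O ⊗[k] K))).presheaf.stalk Qp :=
    (IsLocalization.algEquiv Q.primeCompl (Localization.AtPrime Q)
      ((Spec (CommRingCat.of (O ⊗[k] K))).presheaf.stalk Qp)).toRingEquiv
  exact ⟨p2 t, hx', ⟨e1.trans (e2.trans e3.symm)⟩⟩

end F

/-- normality can be checked at maximal ideals -/
theorem normal_of_maximal (R : Type u) [CommRing R]
    (h : ∀ (Q : Ideal R) [Q.IsMaximal],
      IsDomain (Localization.AtPrime Q) ∧ IsIntegrallyClosed (Localization.AtPrime Q)) :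
    EGA4.IsNormalRing R := by
  intro p hp
  obtain ⟨Q, hQ, hpQ⟩ := Ideal.exists_le_maximal p hp.ne_top
  haveI := hQ
  obtain ⟨h1, h2⟩ := h Q
  refine Groth.Agent.Lib.helper25.GeomNor.nor_atPrime_of_localization R (Localization.AtPrime Q)
    Q.primeCompl p ?_ (Groth.Agent.Lib.helper25.GeomNor.nor_of_ic _)
  rw [Set.disjoint_left]
  intro a ha hap
  exact ha (hpQ hap)

end Groth.Agent.Lib.helper25.VarBC
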