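import Mathlib
import Groth.Prelude.Def_Curv2
import Groth.Prelude.Def_Pi1
import Groth.Prelude.Def_EGA4b
import Groth.Agent.Lib.helper25.VarBC1

/-! Base change of varieties: normality and regularity (S1668, S1669) (helper25). -/

universe u

open AlgebraicGeometry CategoryTheory Limits TensorProduct

namespace Groth.Agent.Lib.helper25.VarBC

set_option linter.style.haveILetI false
attribute [local instance] Curv2.stalkAlgebra

theorem hφ_stalk (k : Type u) [Field k] (X : Scheme.{u}) [X.Over (Spec (CommRingCat.of k))]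
    (x : X) :
    Spec.map (CommRingCat.ofHom (algebraMap k (X.presheaf.stalk x))) =
      X.fromSpecStalk x ≫ (X ↘ Spec (CommRingCat.of k)) :=
  (Groth.Agent.Lib.helper7.StalkBC.fromSpecStalk_comp (X ↘ Spec (CommRingCat.of k)) x).symm

/-- If `K/k` is algebraic and the local rings of `X_K` at the points over `x` are integrally closed
domains, then `𝒪_{X,x} ⊗ K` is a normal ring. -/
theorem normal_tensor_of_stalks (k : Type u) [Field k] (X : Scheme.{u})
    [X.Over (Spec (CommRingCat.of k))] (x : X) (K : Type u) [Field K] [Algebra k K]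
    [Algebra.IsAlgebraic k K]
    (H : ∀ x' : Curv2.bc k X K, Curv2.bcFst k X K x' = x →
      IsDomain ((Curv2.bc k X K).presheaf.stalk x') ∧
        IsIntegrallyClosed ((Curv2.bc k X K).presheaf.stalk x')) :
    EGA4.IsNormalRing ((X.presheaf.stalk x) ⊗[k] K) := by
  apply normal_of_maximal
  intro Q hQ
  obtain ⟨x', hx', ⟨e⟩⟩ := exists_point_equiv_localization (X ↘ Spec (CommRingCat.of k)) x
    (hφ_stalk k X x) K Q hQ
  obtain ⟨h1, h2⟩ := H x' hx'
  haveI : IsDomain (Localization.AtPrime Q) := e.symm.toMulEquiv.isDomain _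
  exact ⟨inferInstance, IsIntegrallyClosed.of_equiv e⟩

theorem S1668_aux (k : Type u) [Field k] (X : Scheme.{u}) [X.Over (Spec (CommRingCat.of k))]
    (h : ∀ (k' : Type u) [Field k'] [Algebra k k'] [FiniteDimensional k k']
      [IsPurelyInseparable k k'], Pi1.IsNormalScheme (Curv2.bc k X k'))
    (K : Type u) [Field K] [Algebra k K] : Pi1.IsNormalScheme (Curv2.bc k X K) := by
  intro z
  let x := Curv2.bcFst k X K z
  obtain ⟨Q, hQ, ⟨e⟩⟩ := Groth.Agent.Lib.helper7.StalkBC.exists_equiv_localization
    (X ↘ Spec (CommRingCat.of k)) x (hφ_stalk k X x) K z specializes_rfl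
  have hb : ∀ (k' : Type u) [Field k'] [Algebra k k'], Module.Finite k k' →
      IsPurelyInseparable k k' → EGA4.IsNormalRing (k' ⊗[k] (X.presheaf.stalk x)) := by
    intro k' _ _ hfin hpi
    haveI := hfin
    haveI := hpi
    have h1 := normal_tensor_of_stalks k X x k' (fun x' _ => h k' x')
    exact Groth.Agent.Lib.helper20.FiberLoc.normal_of_ringEquiv
      (Algebra.TensorProduct.comm k (X.presheaf.stalk x) k').toRingEquiv h1
  have hN : EGA4.IsNormalRing ((X.presheaf.stalk x) ⊗[k] K) :=
    Groth.Agent.Lib.helper20.FiberLoc.normal_of_ringEquiv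
      (Algebra.TensorProduct.comm k K (X.presheaf.stalk x)).toRingEquiv
      (Groth.Agent.Lib.helper25.GeomNor.nor_tensor_field_of_pi k _ hb K)
  obtain ⟨h1, h2⟩ := hN Q
  haveI : IsDomain ((Curv2.bc k X K).presheaf.stalk z) := e.toMulEquiv.isDomain _
  exact ⟨inferInstance, IsIntegrallyClosed.of_equiv e.symm⟩

theorem S1669_aux (k : Type u) [Field k] (X : Scheme.{u}) [X.Over (Spec (CommRingCat.of k))]
    [IsLocallyNoetherian X]
    (h : ∀ (k' : Type u) [Field k'] [Algebra k k'] [FiniteDimensional k k']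
      [IsPurelyInseparable k k'] (x' : Curv2.bc k X k'),
      IsRegularLocalRing ((Curv2.bc k X k').presheaf.stalk x'))
    (x : X) : Curv2.IsGeomRegularAt k X x := by
  intro K _ _ hK z hz
  haveI : Algebra.EssFiniteType k K := IntermediateField.fg_top_iff.mp hK
  obtain ⟨Q, hQ, ⟨e⟩⟩ := Groth.Agent.Lib.helper7.StalkBC.exists_equiv_localization
    (X ↘ Spec (CommRingCat.of k)) x (hφ_stalk k X x) K z (hz ▸ specializes_rfl)
  have hb : ∀ (k' : Type u) [Field k'] [Algebra k k'], Module.Finite k k' →
      IsPurelyInseparable k k' → IsRegularRing (k' ⊗[k] (X.presheaf.stalk x)) := by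
    intro k' _ _ hfin hpi
    haveI := hfin
    haveI := hpi
    haveI : Module.Finite (X.presheaf.stalk x) ((X.presheaf.stalk x) ⊗[k] k') := inferInstance
    haveI : IsNoetherianRing ((X.presheaf.stalk x) ⊗[k] k') :=
      Algebra.FiniteType.isNoetherianRing (X.presheaf.stalk x) _
    haveI h1 : IsRegularRing ((X.presheaf.stalk x) ⊗[k] k') := by
      apply Groth.Agent.Lib.helper20.RegQuot.isRegularRing_of_maximal
      intro Q' hQ'
      obtain ⟨x', hx', ⟨e'⟩⟩ := exists_point_equiv_localization (X ↘ Spec (CommRingCat.of k)) x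
        (hφ_stalk k X x) k' Q' hQ'
      haveI := h k' x'
      exact IsRegularLocalRing.of_ringEquiv e'
    exact IsRegularRing.of_ringEquiv (Algebra.TensorProduct.comm k (X.presheaf.stalk x) k').toRingEquiv
  have hgr : CAlg.IsGeometricallyRegular k (X.presheaf.stalk x) :=
    (Groth.Agent.Lib.helper25.GeomReg.S2672_aux k (X.presheaf.stalk x)).1.mpr hb
  haveI hK' : IsRegularRing (K ⊗[k] (X.presheaf.stalk x)) :=
    (Groth.Agent.Lib.helper25.GeomReg.S2672_aux k (X.presheaf.stalk x)).2.mp hgr K inferInstance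
  haveI hK'' : IsRegularRing ((X.presheaf.stalk x) ⊗[k] K) :=
    IsRegularRing.of_ringEquiv (Algebra.TensorProduct.comm k K (X.presheaf.stalk x)).toRingEquiv
  haveI : IsRegularLocalRing (Localization.AtPrime Q) := (isRegularRing_iff.mp hK'') Q
  exact IsRegularLocalRing.of_ringEquiv e.symm

end Groth.Agent.Lib.helper25.VarBC
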