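import Mathlib
import Groth.Prelude.Def_CAlgX
import Groth.Prelude.Def_Found
import Groth.Agent.S4530
import Groth.Agent.Lib.helper19.AdicJacLocal
import Groth.Agent.Lib.helper19.JacLocal
import Groth.Agent.Lib.helper14.FSJacD
import Groth.Agent.Lib.helper14.FSField
import Groth.Agent.Lib.helper25.GeomReg2

/-! Formal smoothness of finite type algebras over a separable extension of the base field
(EGA 0_IV 22.6.7-ish; S4578, S4579) — helper25. -/

namespace Groth.Agent.Lib.helper25.FSLoc

set_option linter.style.haveILetI false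
universe u
open TensorProduct IsLocalRing KaehlerDifferential

/-- transfer adic formal smoothness along a surjective change of base ring -/
theorem adic_of_surjective (R R' S : Type u) [CommRing R] [CommRing R'] [CommRing S]
    [Algebra R R'] [Algebra R S] [Algebra R' S] [IsScalarTower R R' S]
    (hs : Function.Surjective (algebraMap R R')) (𝔫 : Ideal S)
    (h : CAlgX.IsAdicFormallySmooth R S 𝔫) : CAlgX.IsAdicFormallySmooth R' S 𝔫 := by
  intro A _ _ J hJ ψ hψ
  letI : Algebra R A := ((algebraMap R' A).comp (algebraMap R R')).toAlgebra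
  haveI : IsScalarTower R R' A := IsScalarTower.of_algebraMap_eq (fun _ => rfl)
  haveI : IsScalarTower R R' (A ⧸ J) := IsScalarTower.of_algebraMap_eq (fun _ => rfl)
  obtain ⟨χ₀, hχ₀⟩ := h A J hJ (ψ.restrictScalars R) hψ
  refine ⟨{ χ₀.toRingHom with commutes' := ?_ }, ?_⟩
  · intro r'
    obtain ⟨r, rfl⟩ := hs r'
    have := χ₀.commutes r
    rw [IsScalarTower.algebraMap_apply R R' S] at this
    exact this
  · ext x
    exact AlgHom.congr_fun hχ₀ x

theorem surjective_algebraMap_atPrime_field (k₀ : Type u) [Field k₀] (r : Ideal k₀) [r.IsPrime] :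
    Function.Surjective (algebraMap k₀ (Localization.AtPrime r)) := by
  intro x
  obtain ⟨a, s, rfl⟩ := IsLocalization.exists_mk'_eq r.primeCompl x
  have hs0 : (s : k₀) ≠ 0 := fun h => s.2 (h ▸ r.zero_mem)
  refine ⟨a * (s : k₀)⁻¹, ?_⟩
  rw [IsLocalization.eq_mk'_iff_mul_eq, ← map_mul, inv_mul_cancel_right₀ hs0]

section setup

variable {k₀ k C : Type u} [Field k₀] [Field k] [Algebra k₀ k]
    [Algebra.FormallySmooth k₀ k] [CommRing C] [Algebra k C] [Algebra k₀ C] [IsScalarTower k₀ k C]

/-- The core of S4578 with a chosen presentation. -/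
theorem tfae_of_surj (n : ℕ) [Algebra (MvPolynomial (Fin n) k) C]
    [IsScalarTower k (MvPolynomial (Fin n) k) C]
    (hsurj : Function.Surjective (algebraMap (MvPolynomial (Fin n) k) C))
    (p : Ideal C) [p.IsPrime] :
    [Algebra.FormallySmooth k₀ (Localization.AtPrime p),
     CAlgX.IsAdicFormallySmooth k₀ (Localization.AtPrime p) (maximalIdeal (Localization.AtPrime p)),
     ∃ f : C, f ∉ p ∧ Algebra.FormallySmooth k₀ (Localization.Away f),
     CAlg.IsGeometricallyRegular k₀ (Localization.AtPrime p)].TFAE := by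
  classical
  haveI : IsScalarTower k₀ (MvPolynomial (Fin n) k) C := by
    refine IsScalarTower.of_algebraMap_eq (fun x => ?_)
    rw [IsScalarTower.algebraMap_apply k₀ k C, IsScalarTower.algebraMap_apply k₀ k (MvPolynomial (Fin n) k),
      ← IsScalarTower.algebraMap_apply k (MvPolynomial (Fin n) k) C]
  haveI : Algebra.FormallySmooth k (MvPolynomial (Fin n) k) := inferInstance
  haveI : Algebra.FormallySmooth k₀ (MvPolynomial (Fin n) k) :=
    Algebra.FormallySmooth.comp k₀ k _
  haveI : IsNoetherianRing (MvPolynomial (Fin n) k) := inferInstance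
  haveI : IsNoetherianRing C := isNoetherianRing_of_surjective _ _ _ hsurj
  haveI : IsNoetherianRing (Localization.AtPrime p) :=
    IsLocalization.isNoetherianRing p.primeCompl _ inferInstance
  haveI : Module.Finite (MvPolynomial (Fin n) k) (RingHom.ker (algebraMap (MvPolynomial (Fin n) k) C)) :=
    Module.Finite.of_fg (IsNoetherian.noetherian _)
  haveI : Module.Finite (MvPolynomial (Fin n) k)
      (RingHom.ker (algebraMap (MvPolynomial (Fin n) k) C)).Cotangent :=
    Module.Finite.of_surjective _ (Ideal.toCotangent_surjective _)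
  have T := Groth.Agent.Lib.helper19.JacLocal.main2463 (A := k₀) hsurj p
  tfae_have 1 ↔ 3 := T.out 0 2
  tfae_have 1 → 2 := fun h =>
    haveI := h
    Groth.Agent.Lib.helper19.AdicSmoothAt.adic_of_formallySmooth _ _ _
  tfae_have 2 → 1 := by
    intro h
    refine (T.out 1 0).mp ?_
    letI alg : Algebra (Localization.AtPrime (p.comap (algebraMap k₀ C))) (Localization.AtPrime p) :=
      (Localization.localRingHom (p.comap (algebraMap k₀ C)) p (algebraMap k₀ C) rfl).toAlgebra
    haveI : IsScalarTower k₀ (Localization.AtPrime (p.comap (algebraMap k₀ C)))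
        (Localization.AtPrime p) := by
      refine IsScalarTower.of_algebraMap_eq' ?_
      ext a
      rw [RingHom.comp_apply, RingHom.algebraMap_toAlgebra, Localization.localRingHom_to_map,
        ← IsScalarTower.algebraMap_apply]
    refine Groth.Agent.Lib.helper19.AdicJacLocal.injective_of_adic (A := k₀) hsurj p ?_
    exact adic_of_surjective k₀ _ _ (surjective_algebraMap_atPrime_field k₀ _) _ h
  tfae_have 2 → 4 := fun h => H14.FSField.isGeometricallyRegular_of_fs h
  tfae_have 4 → 2 := by
    intro h
    obtain ⟨q, hq⟩ := ExpChar.exists k₀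
    exact H14.PRoot.fs_of_regular_baseChange q (fun k' _ _ hfin _ => h k' hfin)
  tfae_finish

end setup

theorem S4578_aux {k₀ k C : Type u} [Field k₀] [Field k] [Algebra k₀ k]
    [Algebra.FormallySmooth k₀ k] [CommRing C] [Algebra k C] [Algebra k₀ C] [IsScalarTower k₀ k C]
    [Algebra.FiniteType k C]
    (p : Ideal C) [p.IsPrime] :
    [Algebra.FormallySmooth k₀ (Localization.AtPrime p),
     CAlgX.IsAdicFormallySmooth k₀ (Localization.AtPrime p) (maximalIdeal (Localization.AtPrime p)),
     ∃ f : C, f ∉ p ∧ Algebra.FormallySmooth k₀ (Localization.Away f),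
     CAlg.IsGeometricallyRegular k₀ (Localization.AtPrime p)].TFAE := by
  obtain ⟨n, f, hf⟩ := Algebra.FiniteType.iff_quotient_mvPolynomial''.mp ‹Algebra.FiniteType k C›
  letI : Algebra (MvPolynomial (Fin n) k) C := f.toRingHom.toAlgebra
  haveI : IsScalarTower k (MvPolynomial (Fin n) k) C :=
    IsScalarTower.of_algebraMap_eq (fun x => (f.commutes x).symm)
  exact tfae_of_surj n hf p

end Groth.Agent.Lib.helper25.FSLoc
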