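import Mathlib
import Groth.Agent.Lib.helper25.Cart3

set_option autoImplicit false
set_option linter.unusedSectionVars false
universe u

namespace Groth.Agent.Lib.helper25.Cart

open TensorProduct KaehlerDifferential Algebra

section towerSurj
variable (Λ A B C : Type*) [CommRing Λ] [CommRing A] [CommRing B] [CommRing C]
    [Algebra Λ A] [Algebra Λ B] [Algebra Λ C] [Algebra A B] [Algebra A C] [Algebra B C]
    [IsScalarTower Λ A B] [IsScalarTower Λ A C] [IsScalarTower Λ B C] [IsScalarTower A B C]

theorem tower_square (η : C ⊗[B] Ω[B⁄Λ]) :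
    KaehlerDifferential.map Λ A C C (KaehlerDifferential.mapBaseChange Λ B C η) =
      KaehlerDifferential.mapBaseChange A B C ((KaehlerDifferential.map Λ A B B).baseChange C η) := by
  induction η using TensorProduct.induction_on with
  | zero => simp
  | add x y hx hy => rw [map_add, map_add, hx, hy, map_add, map_add]
  | tmul c x =>
    rw [KaehlerDifferential.mapBaseChange_tmul, LinearMap.baseChange_tmul,
      KaehlerDifferential.mapBaseChange_tmul, map_smul]
    congr 1
    have hx : x ∈ Submodule.span B (Set.range (KaehlerDifferential.D Λ B)) := by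
      rw [KaehlerDifferential.span_range_derivation]; exact Submodule.mem_top
    induction hx using Submodule.span_induction with
    | mem y hy =>
      obtain ⟨b, rfl⟩ := hy
      simp
    | zero => simp
    | add y z _ _ hy hz => rw [map_add, map_add, hy, hz, map_add, map_add]
    | smul b y _ hy =>
      rw [map_smul (KaehlerDifferential.map Λ Λ B C), map_smul (KaehlerDifferential.map Λ A B B),
        map_smul (KaehlerDifferential.map A A B C), LinearMap.map_smul_of_tower, hy]

/-- universe-generalised version of S3435 (helper5): `Υ_{C/B/Λ} → Υ_{C/B/A}` is onto. -/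
theorem ker_map_surjective (ω : C ⊗[B] Ω[B⁄A]) (hω : KaehlerDifferential.mapBaseChange A B C ω = 0) :
    ∃ η : C ⊗[B] Ω[B⁄Λ], KaehlerDifferential.mapBaseChange Λ B C η = 0 ∧
      (KaehlerDifferential.map Λ A B B).baseChange C η = ω := by
  classical
  have hsurj : Function.Surjective ((KaehlerDifferential.map Λ A B B).baseChange C) := by
    rw [LinearMap.baseChange_eq_ltensor]
    exact LinearMap.lTensor_surjective C (KaehlerDifferential.map_surjective Λ A B)
  obtain ⟨η₀, hη₀⟩ := hsurj ω
  have hζ : KaehlerDifferential.map Λ A C C (KaehlerDifferential.mapBaseChange Λ B C η₀) = 0 := by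
    rw [tower_square, hη₀, hω]
  obtain ⟨θ, hθ⟩ := (KaehlerDifferential.exact_mapBaseChange_map Λ A C _).mp hζ
  have hkey : ∀ θ : TensorProduct A C (Ω[A⁄Λ]), ∃ η₁ : TensorProduct B C (Ω[B⁄Λ]),
      KaehlerDifferential.mapBaseChange Λ B C η₁ = KaehlerDifferential.mapBaseChange Λ A C θ ∧
      (KaehlerDifferential.map Λ A B B).baseChange C η₁ = 0 := by
    intro θ
    induction θ using TensorProduct.induction_on with
    | zero => exact ⟨0, by simp, by simp⟩
    | add x y hx hy =>
      obtain ⟨η₁, h1, h2⟩ := hx
      obtain ⟨η₂, h3, h4⟩ := hy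
      exact ⟨η₁ + η₂, by rw [map_add, map_add, h1, h3], by rw [map_add, h2, h4, add_zero]⟩
    | tmul c x =>
      have hx : x ∈ Submodule.span A (Set.range (KaehlerDifferential.D Λ A)) := by
        rw [KaehlerDifferential.span_range_derivation]; exact Submodule.mem_top
      induction hx using Submodule.span_induction generalizing c with
      | mem y hy =>
        obtain ⟨a, rfl⟩ := hy
        refine ⟨c ⊗ₜ[B] KaehlerDifferential.D Λ B (algebraMap A B a), ?_, ?_⟩
        · rw [KaehlerDifferential.mapBaseChange_tmul, KaehlerDifferential.mapBaseChange_tmul,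
            KaehlerDifferential.map_D, KaehlerDifferential.map_D,
            ← IsScalarTower.algebraMap_apply A B C]
        · rw [LinearMap.baseChange_tmul, KaehlerDifferential.map_D, Algebra.algebraMap_self,
            RingHom.id_apply, Derivation.map_algebraMap, TensorProduct.tmul_zero]
      | zero => exact ⟨0, by simp, by simp⟩
      | add y z _ _ hy hz =>
        obtain ⟨η₁, h1, h2⟩ := hy c
        obtain ⟨η₂, h3, h4⟩ := hz c
        refine ⟨η₁ + η₂, ?_, ?_⟩
        · rw [TensorProduct.tmul_add, map_add, map_add, h1, h3]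
        · rw [map_add, h2, h4, add_zero]
      | smul a y _ hy =>
        obtain ⟨η₁, h1, h2⟩ := hy (a • c)
        refine ⟨η₁, ?_, h2⟩
        rw [h1, TensorProduct.smul_tmul]
  obtain ⟨η₁, h1, h2⟩ := hkey θ
  refine ⟨η₀ - η₁, ?_, ?_⟩
  · rw [map_sub, h1, hθ, sub_self]
  · rw [map_sub, hη₀, h2, sub_zero]

/-- the induced surjection on kernels. -/
theorem exists_surjective_ker :
    ∃ φ : LinearMap.ker (KaehlerDifferential.mapBaseChange Λ B C) →ₗ[C]
      LinearMap.ker (KaehlerDifferential.mapBaseChange A B C), Function.Surjective φ := by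
  refine ⟨LinearMap.restrict ((KaehlerDifferential.map Λ A B B).baseChange C) (fun η hη => ?_), ?_⟩
  · rw [LinearMap.mem_ker] at hη ⊢
    rw [← tower_square, hη, map_zero]
  · rintro ⟨ω, hω⟩
    obtain ⟨η, h1, h2⟩ := ker_map_surjective Λ A B C ω hω
    exact ⟨⟨η, h1⟩, Subtype.ext h2⟩

end towerSurj

section s4525
variable {k K L : Type u} [Field k] [Field K] [Field L]
    [Algebra k K] [Algebra K L] [Algebra k L] [IsScalarTower k K L] [Algebra.EssFiniteType K L]

theorem S4525_aux :
    Module.Finite L (Ω[L⁄K]) ∧ Module.Finite L (LinearMap.ker (mapBaseChange k K L)) ∧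
      (Cardinal.toNat (Algebra.trdeg K L) : ℤ) ≤
        (Module.finrank L (Ω[L⁄K]) : ℤ) - Module.finrank L (LinearMap.ker (mapBaseChange k K L)) := by
  obtain ⟨h1, h2, h3⟩ := S2469_aux (K := K) (L := L)
  haveI := h1
  haveI := h2
  obtain ⟨φ, hφ⟩ := exists_surjective_ker ℤ k K L
  haveI : Module.Finite L (LinearMap.ker (mapBaseChange k K L)) := Module.Finite.of_surjective φ hφ
  refine ⟨h1, inferInstance, ?_⟩
  have hle : Module.finrank L (LinearMap.ker (mapBaseChange k K L)) ≤
      Module.finrank L (LinearMap.ker (mapBaseChange ℤ K L)) :=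
    LinearMap.finrank_le_finrank_of_surjective hφ
  rw [← h3]
  have : (Module.finrank L (LinearMap.ker (mapBaseChange k K L)) : ℤ) ≤
      Module.finrank L (LinearMap.ker (mapBaseChange ℤ K L)) := by exact_mod_cast hle
  linarith

end s4525

section s4526
variable {k K L : Type u} [Field k] [Field K] [Field L]
    [Algebra k K] [Algebra K L] [Algebra k L] [IsScalarTower k K L] [Algebra.EssFiniteType k L]

theorem finite_of_finite_baseChange {K L M : Type*} [Field K] [Field L] [Algebra K L]
    [AddCommGroup M] [Module K M] [Module.Finite L (L ⊗[K] M)] : Module.Finite K M := by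
  rw [← Module.rank_lt_aleph0_iff]
  have h1 : Module.rank L (L ⊗[K] M) < Cardinal.aleph0 := Module.rank_lt_aleph0_iff.2 inferInstance
  rw [Module.rank_baseChange] at h1
  exact Cardinal.lift_lt_aleph0.1 h1

theorem S4526_aux :
    Module.Finite L (Ω[L⁄k]) ∧ Module.Finite K (Ω[K⁄k]) ∧
      (Cardinal.toNat (Algebra.trdeg K L) : ℤ) ≤
        (Module.finrank L (Ω[L⁄k]) : ℤ) - Module.finrank K (Ω[K⁄k]) := by
  haveI : Algebra.EssFiniteType K L := Algebra.EssFiniteType.of_comp k K L
  obtain ⟨h1, h2, h3⟩ := S4525_aux (k := k) (K := K) (L := L)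
  haveI := h1
  haveI := h2
  haveI : Module.Finite L (Ω[L⁄k]) := inferInstance
  haveI : Module.Finite L (LinearMap.range (mapBaseChange k K L)) := inferInstance
  obtain ⟨hU, hUr⟩ := finite_and_finrank_of_ker_range (mapBaseChange k K L)
  haveI := hU
  haveI : Module.Finite K (Ω[K⁄k]) := finite_of_finite_baseChange (K := K) (L := L)
  refine ⟨inferInstance, inferInstance, ?_⟩
  have d2 := Submodule.finrank_quotient_add_finrank (LinearMap.range (mapBaseChange k K L))
  rw [(cokerEquiv k K L).finrank_eq] at d2
  rw [Module.finrank_baseChange] at hUr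
  omega

end s4526

end Groth.Agent.Lib.helper25.Cart
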