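import Mathlib
import Groth.Agent.Lib.helper25.Cart4
import Groth.Agent.S9319

set_option autoImplicit false
set_option linter.unusedSectionVars false
universe u

namespace Groth.Agent.Lib.helper25.Cart

open TensorProduct KaehlerDifferential Algebra

section abstractZ
variable {L Q R S T U : Type*} [Field L] [AddCommGroup Q] [AddCommGroup R] [AddCommGroup S]
  [AddCommGroup T] [AddCommGroup U] [Module L Q] [Module L R] [Module L S] [Module L T] [Module L U]

/-- Exact `Q →φ R →b S →c T →ψ U` with `ker φ`, `S`, `coker ψ` finite: both `φ`, `ψ` are Fredholm and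
`χ(φ) − χ(ψ) = dim S − dim ker φ − dim coker ψ`. -/
theorem isFred_pair_of_exact (φ : Q →ₗ[L] R) (b : R →ₗ[L] S) (c : S →ₗ[L] T) (ψ : T →ₗ[L] U)
    (h1 : Function.Exact φ b) (h2 : Function.Exact b c) (h3 : Function.Exact c ψ)
    [Module.Finite L (LinearMap.ker φ)] [Module.Finite L S]
    [Module.Finite L (U ⧸ LinearMap.range ψ)] :
    IsFred φ ∧ IsFred ψ ∧
      chi φ - chi ψ = (Module.finrank L S : ℤ) - Module.finrank L (LinearMap.ker φ) -
        Module.finrank L (U ⧸ LinearMap.range ψ) := by
  have e1 : LinearMap.ker b = LinearMap.range φ := LinearMap.exact_iff.1 h1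
  have e2 : LinearMap.ker c = LinearMap.range b := LinearMap.exact_iff.1 h2
  have e3 : LinearMap.ker ψ = LinearMap.range c := LinearMap.exact_iff.1 h3
  let E1 : (R ⧸ LinearMap.range φ) ≃ₗ[L] LinearMap.ker c :=
    (Submodule.quotEquivOfEq _ _ e1.symm) ≪≫ₗ (LinearMap.quotKerEquivRange b) ≪≫ₗ
      (LinearEquiv.ofEq _ _ e2.symm)
  let E2 : LinearMap.ker ψ ≃ₗ[L] LinearMap.range c := LinearEquiv.ofEq _ _ e3
  have hf1 : Module.Finite L (R ⧸ LinearMap.range φ) := Module.Finite.equiv E1.symm
  have hf2 : Module.Finite L (LinearMap.ker ψ) := Module.Finite.equiv E2.symm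
  refine ⟨⟨inferInstance, hf1⟩, ⟨hf2, inferInstance⟩, ?_⟩
  unfold chi
  rw [E1.finrank_eq, E2.finrank_eq]
  have := LinearMap.finrank_range_add_finrank_ker c
  omega

end abstractZ

section h1
variable {K L : Type u} [Field K] [Field L] [Algebra K L] [Algebra.EssFiniteType K L]

theorem cartier_h1_of_base (F : Type*) [CommRing F] [Algebra F K] [Algebra F L] [IsScalarTower F K L]
    (hFS : ∀ (E : Type u) [Field E] [Algebra F E], Algebra.FormallySmooth F E) :
    Module.Finite L (Algebra.H1Cotangent K L) ∧ Module.Finite L (Ω[L⁄K]) ∧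
      (Module.finrank L (Ω[L⁄K]) : ℤ) - Module.finrank L (Algebra.H1Cotangent K L) =
        Cardinal.toNat (Algebra.trdeg K L) := by
  obtain ⟨n, a, ha⟩ := exists_fin_generators (K := K) (L := L)
  obtain ⟨m, h1, ⟨hk, hc⟩, h3⟩ := cartier F hFS n K L a ha
  haveI := hFS L
  haveI := hk
  haveI := hc
  refine ⟨Module.Finite.equiv (kerEquiv F K L).symm, Module.Finite.equiv (cokerEquiv F K L), ?_⟩
  rw [h1, Cardinal.toNat_natCast, ← (cokerEquiv F K L).finrank_eq, (kerEquiv F K L).finrank_eq, ← h3]
  rfl

/-- Cartier's equality in `H₁` form: `dim Ω[L/K] − dim H₁(L_{L/K}) = trdeg_K L`. -/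
theorem cartier_h1 :
    Module.Finite L (Algebra.H1Cotangent K L) ∧ Module.Finite L (Ω[L⁄K]) ∧
      (Module.finrank L (Ω[L⁄K]) : ℤ) - Module.finrank L (Algebra.H1Cotangent K L) =
        Cardinal.toNat (Algebra.trdeg K L) := by
  obtain _ | ⟨p, hp, hpk⟩ := CharP.exists' K
  · haveI : CharZero L := charZero_of_injective_algebraMap (algebraMap K L).injective
    haveI : IsScalarTower ℚ K L := IsScalarTower.of_algebraMap_eq (fun q => by
      rw [eq_ratCast, eq_ratCast, map_ratCast])
    exact cartier_h1_of_base ℚ (fun E _ _ => Groth.Agent.Lib.helper25.Sep.formallySmooth_of_charZero')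
  · haveI : CharP L p := charP_of_injective_algebraMap (algebraMap K L).injective p
    obtain ⟨F, _, _, _, _, _, _, hsurj⟩ :=
      Groth.Agent.Lib.helper25.Sep.exists_perfect_base (k := K) (K := L) p
    exact cartier_h1_of_base F (fun E _ _ => formallySmooth_of_perfect p)

end h1

section square
variable {k k' K K' : Type u} [Field k] [Field k'] [Field K] [Field K']
  [Algebra k k'] [Algebra k K] [Algebra k K'] [Algebra k' K'] [Algebra K K']
  [IsScalarTower k k' K'] [IsScalarTower k K K']

theorem kaehler_map_comp (ω : Ω[K⁄k]) :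
    KaehlerDifferential.map k k' K' K' (KaehlerDifferential.map k k K K' ω) =
      KaehlerDifferential.map k k' K K' ω := by
  have hω : ω ∈ Submodule.span K (Set.range (KaehlerDifferential.D k K)) := by
    rw [KaehlerDifferential.span_range_derivation]; trivial
  refine Submodule.span_induction ?_ ?_ ?_ ?_ hω
  · rintro _ ⟨a, rfl⟩
    simp
  · simp
  · intro x y _ _ hx hy
    rw [map_add, map_add, map_add, hx, hy]
  · intro a x _ hx
    have e1 : KaehlerDifferential.map k k K K' (a • x) =
        algebraMap K K' a • KaehlerDifferential.map k k K K' x := by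
      rw [map_smul, algebraMap_smul]
    have e2 : KaehlerDifferential.map k k' K K' (a • x) =
        algebraMap K K' a • KaehlerDifferential.map k k' K K' x := by
      rw [map_smul, algebraMap_smul]
    rw [e1, e2, map_smul, hx]

theorem alpha_eq :
    (KaehlerDifferential.map k k' K K').liftBaseChange K' =
      (KaehlerDifferential.map k k' K' K') ∘ₗ (mapBaseChange k K K') := by
  apply LinearMap.ext
  intro t
  induction t using TensorProduct.induction_on with
  | zero => simp
  | tmul c ω =>
    rw [LinearMap.liftBaseChange_tmul, LinearMap.comp_apply, mapBaseChange_tmul, map_smul,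
      kaehler_map_comp]
  | add x y hx hy => rw [map_add, map_add, hx, hy]

theorem h1_map_comp (h : Algebra.H1Cotangent k K) :
    Algebra.H1Cotangent.map k k' K' K' (Algebra.H1Cotangent.map k k K K' h) =
      Algebra.H1Cotangent.map k k' K K' h := by
  unfold Algebra.H1Cotangent.map
  rw [← Algebra.Extension.H1Cotangent.map_comp_apply]
  rw [Algebra.Extension.H1Cotangent.map_eq]

theorem beta_eq :
    (Algebra.H1Cotangent.map k k' K K').liftBaseChange K' =
      (Algebra.H1Cotangent.map k k' K' K') ∘ₗ ((Algebra.H1Cotangent.map k k K K').liftBaseChange K') := by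
  apply LinearMap.ext
  intro t
  induction t using TensorProduct.induction_on with
  | zero => simp
  | tmul c ω =>
    rw [LinearMap.liftBaseChange_tmul, LinearMap.comp_apply, LinearMap.liftBaseChange_tmul, map_smul,
      h1_map_comp]
  | add x y hx hy => rw [map_add, map_add, hx, hy]

variable [Algebra.EssFiniteType k k'] [Algebra.EssFiniteType K K']

/-- tower `k → K → K'`. -/
theorem towerA :
    IsFred ((Algebra.H1Cotangent.map k k K K').liftBaseChange K') ∧ IsFred (mapBaseChange k K K') ∧
      chi ((Algebra.H1Cotangent.map k k K K').liftBaseChange K') - chi (mapBaseChange k K K') =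
        - (Cardinal.toNat (Algebra.trdeg K K') : ℤ) := by
  obtain ⟨f1, f2, hc⟩ := cartier_h1 (K := K) (L := K')
  haveI := f1
  haveI := f2
  have hinj : Function.Injective ((Algebra.H1Cotangent.map k k K K').liftBaseChange K') :=
    Groth.Agent.S9319.result
  have hker : LinearMap.ker ((Algebra.H1Cotangent.map k k K K').liftBaseChange K') = ⊥ :=
    LinearMap.ker_eq_bot.2 hinj
  haveI : Module.Finite K' (LinearMap.ker ((Algebra.H1Cotangent.map k k K K').liftBaseChange K')) := by
    rw [hker]; infer_instance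
  haveI : Module.Finite K' (Ω[K'⁄k] ⧸ LinearMap.range (mapBaseChange k K K')) :=
    Module.Finite.equiv (cokerEquiv k K K').symm
  obtain ⟨h1, h2, h3⟩ := isFred_pair_of_exact
    ((Algebra.H1Cotangent.map k k K K').liftBaseChange K') (Algebra.H1Cotangent.map k K K' K')
    (Algebra.H1Cotangent.δ k K K') (mapBaseChange k K K')
    (Algebra.H1Cotangent.exact_liftBaseChange_map_of_flat k K K')
    (Algebra.H1Cotangent.exact_map_δ k K K') (Algebra.H1Cotangent.exact_δ_mapBaseChange k K K')
  refine ⟨h1, h2, ?_⟩
  rw [h3, (cokerEquiv k K K').finrank_eq, hker, finrank_bot]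
  push_cast
  linarith

/-- tower `k → k' → K'`. -/
theorem towerB :
    IsFred (Algebra.H1Cotangent.map k k' K' K') ∧ IsFred (KaehlerDifferential.map k k' K' K') ∧
      chi (Algebra.H1Cotangent.map k k' K' K') - chi (KaehlerDifferential.map k k' K' K') =
        (Cardinal.toNat (Algebra.trdeg k k') : ℤ) := by
  obtain ⟨f1, f2, hc⟩ := cartier_h1 (K := k) (L := k')
  haveI := f1
  haveI := f2
  let γ := (Algebra.H1Cotangent.map k k k' K').liftBaseChange K'
  have hinj : Function.Injective γ := Groth.Agent.S9319.result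
  have hex : Function.Exact γ (Algebra.H1Cotangent.map k k' K' K') :=
    Algebra.H1Cotangent.exact_liftBaseChange_map_of_flat k k' K'
  have hker : LinearMap.ker (Algebra.H1Cotangent.map k k' K' K') = LinearMap.range γ :=
    LinearMap.exact_iff.1 hex
  let eγ : (K' ⊗[k'] Algebra.H1Cotangent k k') ≃ₗ[K'] LinearMap.range γ :=
    LinearEquiv.ofInjective γ hinj
  let eK : (K' ⊗[k'] Algebra.H1Cotangent k k') ≃ₗ[K'] LinearMap.ker (Algebra.H1Cotangent.map k k' K' K') :=
    eγ ≪≫ₗ LinearEquiv.ofEq _ _ hker.symm
  haveI : Module.Finite K' (LinearMap.ker (Algebra.H1Cotangent.map k k' K' K')) :=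
    Module.Finite.equiv eK
  have hsurj : Function.Surjective (KaehlerDifferential.map k k' K' K') :=
    KaehlerDifferential.map_surjective k k' K'
  have hrange : LinearMap.range (KaehlerDifferential.map k k' K' K') = ⊤ :=
    LinearMap.range_eq_top.2 hsurj
  haveI : Subsingleton (Ω[K'⁄k'] ⧸ LinearMap.range (KaehlerDifferential.map k k' K' K')) := by
    rw [hrange]; infer_instance
  haveI : Module.Finite K' (Ω[K'⁄k'] ⧸ LinearMap.range (KaehlerDifferential.map k k' K' K')) :=
    inferInstance
  obtain ⟨h1, h2, h3⟩ := isFred_pair_of_exact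
    (Algebra.H1Cotangent.map k k' K' K') (Algebra.H1Cotangent.δ k k' K')
    (mapBaseChange k k' K') (KaehlerDifferential.map k k' K' K')
    (Algebra.H1Cotangent.exact_map_δ k k' K') (Algebra.H1Cotangent.exact_δ_mapBaseChange k k' K')
    (KaehlerDifferential.exact_mapBaseChange_map k k' K')
  refine ⟨h1, h2, ?_⟩
  have hz : Module.finrank K' (Ω[K'⁄k'] ⧸ LinearMap.range (KaehlerDifferential.map k k' K' K')) = 0 :=
    Module.finrank_zero_of_subsingleton
  have hd1 : Module.finrank K' (K' ⊗[k'] Ω[k'⁄k]) = Module.finrank k' (Ω[k'⁄k]) :=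
    Module.finrank_baseChange
  have hd2 : Module.finrank K' (K' ⊗[k'] Algebra.H1Cotangent k k') =
      Module.finrank k' (Algebra.H1Cotangent k k') := Module.finrank_baseChange
  rw [h3, ← eK.finrank_eq, hd1, hd2, hz]
  push_cast
  linarith

theorem S9320_aux :
    Module.Finite K' (LinearMap.ker ((KaehlerDifferential.map k k' K K').liftBaseChange K')) ∧
      Module.Finite K' (Ω[K'⁄k'] ⧸ LinearMap.range ((KaehlerDifferential.map k k' K K').liftBaseChange K')) ∧
      Module.Finite K' (LinearMap.ker ((Algebra.H1Cotangent.map k k' K K').liftBaseChange K')) ∧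
      Module.Finite K' (Algebra.H1Cotangent k' K' ⧸ LinearMap.range ((Algebra.H1Cotangent.map k k' K K').liftBaseChange K')) ∧
      ((Module.finrank K' (LinearMap.ker ((KaehlerDifferential.map k k' K K').liftBaseChange K')) : ℤ)
          - Module.finrank K' (Ω[K'⁄k'] ⧸ LinearMap.range ((KaehlerDifferential.map k k' K K').liftBaseChange K'))
          - Module.finrank K' (LinearMap.ker ((Algebra.H1Cotangent.map k k' K K').liftBaseChange K'))
          + Module.finrank K' (Algebra.H1Cotangent k' K' ⧸ LinearMap.range ((Algebra.H1Cotangent.map k k' K K').liftBaseChange K'))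
        = (Cardinal.toNat (Algebra.trdeg k k') : ℤ) - Cardinal.toNat (Algebra.trdeg K K')) := by
  obtain ⟨a1, a2, a3⟩ := towerA (k := k) (K := K) (K' := K')
  obtain ⟨b1, b2, b3⟩ := towerB (k := k) (k' := k') (K' := K')
  obtain ⟨hα, hαc⟩ := isFred_comp_and_chi _ _ a2 b2
  obtain ⟨hβ, hβc⟩ := isFred_comp_and_chi _ _ a1 b1
  rw [← alpha_eq] at hα hαc
  rw [← beta_eq] at hβ hβc
  refine ⟨hα.1, hα.2, hβ.1, hβ.2, ?_⟩
  unfold chi at hαc hβc a3 b3
  linarith

end square

end Groth.Agent.Lib.helper25.Cart
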