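import Mathlib

set_option autoImplicit false
set_option linter.unusedSectionVars false
universe u

namespace Groth.Agent.Lib.helper25.Semi

open TensorProduct

section field
variable {A : Type*} [CommRing A] {M : Type*} [AddCommGroup M] [Module A M]
  (F : Type*) [Field F] [Algebra A F]

theorem span_one_tmul_eq_top :
    Submodule.span F (Set.range fun m : M => (1 : F) ⊗ₜ[A] m) = ⊤ := by
  rw [eq_top_iff]
  intro x hx
  clear hx
  induction x using TensorProduct.induction_on with
  | zero => exact Submodule.zero_mem _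
  | tmul f m =>
    have : f ⊗ₜ[A] m = f • ((1 : F) ⊗ₜ[A] m) := by
      rw [TensorProduct.smul_tmul', smul_eq_mul, mul_one]
    rw [this]
    exact Submodule.smul_mem _ _ (Submodule.subset_span ⟨m, rfl⟩)
  | add x y hx hy => exact Submodule.add_mem _ hx hy

/-- if `1 ⊗ mᵢ` span `F ⊗ M` then `F ⊗ (M / ⟨mᵢ⟩) = 0`. -/
theorem subsingleton_quotient_of_span {ι : Type*} (m : ι → M)
    (h : Submodule.span F (Set.range fun i => (1 : F) ⊗ₜ[A] m i) = ⊤) :
    Subsingleton (F ⊗[A] (M ⧸ Submodule.span A (Set.range m))) := by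
  set N := Submodule.span A (Set.range m)
  let g : F ⊗[A] M →ₗ[F] F ⊗[A] (M ⧸ N) := LinearMap.baseChange F N.mkQ
  have hg : Function.Surjective g := by
    have : Function.Surjective (N.mkQ.lTensor F) := LinearMap.lTensor_surjective F N.mkQ_surjective
    exact this
  have hker : LinearMap.ker g = ⊤ := by
    rw [eq_top_iff, ← h, Submodule.span_le]
    rintro _ ⟨i, rfl⟩
    show g ((1 : F) ⊗ₜ[A] m i) = 0
    rw [LinearMap.baseChange_tmul]
    have : N.mkQ (m i) = 0 := by
      rw [Submodule.mkQ_apply, Submodule.Quotient.mk_eq_zero]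
      exact Submodule.subset_span ⟨i, rfl⟩
    rw [this, tmul_zero]
  refine ⟨fun x y => ?_⟩
  obtain ⟨x', rfl⟩ := hg x
  obtain ⟨y', rfl⟩ := hg y
  have hx : x' ∈ LinearMap.ker g := by rw [hker]; trivial
  have hy : y' ∈ LinearMap.ker g := by rw [hker]; trivial
  rw [LinearMap.mem_ker.1 hx, LinearMap.mem_ker.1 hy]

/-- if `F ⊗ (M / ⟨mᵢ⟩) = 0` then the `1 ⊗ mᵢ` span `F ⊗ M`. -/
theorem span_of_subsingleton_quotient {ι : Type*} (m : ι → M)
    (h : Subsingleton (F ⊗[A] (M ⧸ Submodule.span A (Set.range m)))) :
    Submodule.span F (Set.range fun i => (1 : F) ⊗ₜ[A] m i) = ⊤ := by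
  set N := Submodule.span A (Set.range m)
  set W := Submodule.span F (Set.range fun i => (1 : F) ⊗ₜ[A] m i)
  have hex := lTensor_exact F (LinearMap.exact_subtype_mkQ N) N.mkQ_surjective
  rw [eq_top_iff]
  intro x hx0
  clear hx0
  have hx : N.mkQ.lTensor F x = 0 := Subsingleton.elim _ _
  obtain ⟨y, rfl⟩ := (hex x).1 hx
  clear hx
  induction y using TensorProduct.induction_on with
  | zero => rw [map_zero]; exact Submodule.zero_mem _
  | tmul f n =>
    rw [LinearMap.lTensor_tmul]
    have hn : (n : M) ∈ N := n.2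
    have : f ⊗ₜ[A] (N.subtype n) = f • ((1 : F) ⊗ₜ[A] (n : M)) := by
      rw [TensorProduct.smul_tmul', smul_eq_mul, mul_one]; rfl
    rw [this]
    apply Submodule.smul_mem
    -- 1 ⊗ n ∈ W for n ∈ N
    have key : ∀ n ∈ N, (1 : F) ⊗ₜ[A] n ∈ W := by
      intro n hn
      induction hn using Submodule.span_induction with
      | mem x hx =>
        obtain ⟨i, rfl⟩ := hx
        exact Submodule.subset_span ⟨i, rfl⟩
      | zero => rw [tmul_zero]; exact Submodule.zero_mem _
      | add x y _ _ hx hy => rw [tmul_add]; exact Submodule.add_mem _ hx hy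
      | smul a x _ hx =>
        have : (1 : F) ⊗ₜ[A] (a • x) = (algebraMap A F a) • ((1 : F) ⊗ₜ[A] x) := by
          rw [TensorProduct.smul_tmul', smul_eq_mul, mul_one, ← TensorProduct.smul_tmul,
            Algebra.smul_def, mul_one]
        rw [this]
        exact Submodule.smul_mem _ _ hx
    exact key _ hn
  | add x y hx hy => rw [map_add]; exact Submodule.add_mem _ hx hy

end field

section semicont
variable {A : Type u} [CommRing A] (M : Type u) [AddCommGroup M] [Module A M] [Module.Finite A M]

theorem subsingleton_of_le (P q : Ideal A) [P.IsPrime] [q.IsPrime] (hqP : q ≤ P)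
    (h : Subsingleton (P.ResidueField ⊗[A] M)) : Subsingleton (q.ResidueField ⊗[A] M) := by
  by_contra hne
  rw [not_subsingleton_iff_nontrivial] at hne
  have h1 := (Module.mem_support_iff_nontrivial_residueField_tensorProduct (R := A) (M := M)
    ⟨q, inferInstance⟩).2 hne
  rw [Module.mem_support_iff_of_finite] at h1
  have h2 : (⟨P, inferInstance⟩ : PrimeSpectrum A) ∈ Module.support A M := by
    rw [Module.mem_support_iff_of_finite]
    exact h1.trans hqP
  have h3 := (Module.mem_support_iff_nontrivial_residueField_tensorProduct (R := A) (M := M)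
    ⟨P, inferInstance⟩).1 h2
  exact not_subsingleton _ h

/-- upper semicontinuity of fibre dimension along specialisation. -/
theorem finrank_tensor_le_of_le (P q : Ideal A) [P.IsPrime] [q.IsPrime] (hqP : q ≤ P) :
    Module.finrank q.ResidueField (q.ResidueField ⊗[A] M) ≤
      Module.finrank P.ResidueField (P.ResidueField ⊗[A] M) := by
  obtain ⟨b, hbs, hbspan, hbli⟩ := exists_linearIndependent P.ResidueField
    (Set.range fun m : M => (1 : P.ResidueField) ⊗ₜ[A] m)
  rw [span_one_tmul_eq_top] at hbspan
  have hbfin : b.Finite := hbli.setFinite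
  haveI : Fintype b := hbfin.fintype
  have hm : ∀ x : b, ∃ m : M, (1 : P.ResidueField) ⊗ₜ[A] m = (x : P.ResidueField ⊗[A] M) :=
    fun x => hbs x.2
  choose m hm using hm
  have hcard : Module.finrank P.ResidueField (P.ResidueField ⊗[A] M) = Fintype.card b := by
    have := finrank_span_eq_card hbli
    rw [Subtype.range_val, hbspan, finrank_top] at this
    exact this
  have hspanP : Submodule.span P.ResidueField
      (Set.range fun i => (1 : P.ResidueField) ⊗ₜ[A] m i) = ⊤ := by
    have : (Set.range fun i => (1 : P.ResidueField) ⊗ₜ[A] m i) = b := by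
      ext y
      constructor
      · rintro ⟨i, rfl⟩
        show (1 : P.ResidueField) ⊗ₜ[A] m i ∈ b
        rw [hm i]; exact i.2
      · intro hy
        exact ⟨⟨y, hy⟩, hm ⟨y, hy⟩⟩
    rw [this, hbspan]
  have hsubP := subsingleton_quotient_of_span P.ResidueField m hspanP
  have hsubq := subsingleton_of_le (M ⧸ Submodule.span A (Set.range m)) P q hqP hsubP
  have hspanq := span_of_subsingleton_quotient q.ResidueField m hsubq
  rw [hcard, ← finrank_top q.ResidueField (q.ResidueField ⊗[A] M), ← hspanq]
  exact finrank_range_le_card _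

end semicont

end Groth.Agent.Lib.helper25.Semi
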