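import Mathlib
import Groth.Agent.Lib.helper25.Semi
import Groth.Agent.Lib.helper25.Cart5
import Groth.Agent.Lib.helper7.DimFT

set_option autoImplicit false
set_option linter.unusedSectionVars false
universe u

namespace Groth.Agent.Lib.helper25.OmegaDim

open TensorProduct

section generic
variable (k : Type u) [Field k] (A : Type u) [CommRing A] [Algebra k A] [Algebra.FiniteType k A]
  (q : Ideal A) [q.IsPrime]

theorem trdeg_residueField :
    ∃ n : ℕ, Algebra.trdeg k q.ResidueField = n ∧ ringKrullDim (A ⧸ q) = n := by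
  obtain ⟨n, h1, h2⟩ := Groth.Agent.Lib.helper7.DimFT.exists_trdeg_eq_ringKrullDim (k := k) (A ⧸ q)
  refine ⟨n, ?_, h2⟩
  rw [← h1]
  haveI : Algebra.IsAlgebraic (A ⧸ q) q.ResidueField :=
    IsLocalization.isAlgebraic _ (nonZeroDivisors (A ⧸ q))
  have h3 := trdeg_add_eq k (A ⧸ q) (A := q.ResidueField)
  have h4 : Algebra.trdeg (A ⧸ q) q.ResidueField = 0 := trdeg_eq_zero
  rw [← h3, h4, add_zero]

theorem essFiniteType_residueField : Algebra.EssFiniteType k q.ResidueField := by
  haveI : Algebra.EssFiniteType (A ⧸ q) q.ResidueField :=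
    Algebra.EssFiniteType.of_isLocalization _ (nonZeroDivisors (A ⧸ q))
  haveI : Algebra.EssFiniteType k (A ⧸ q) := inferInstance
  exact Algebra.EssFiniteType.comp k (A ⧸ q) q.ResidueField

theorem mapBaseChange_surjective_residueField :
    Function.Surjective (KaehlerDifferential.mapBaseChange k A q.ResidueField) := by
  haveI : Algebra.FormallyUnramified A (Localization.AtPrime q) :=
    Algebra.FormallyUnramified.of_isLocalization q.primeCompl
  haveI : Algebra.FormallyUnramified A q.ResidueField :=
    Algebra.FormallyUnramified.comp A (Localization.AtPrime q) q.ResidueField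
  intro x
  have hx : KaehlerDifferential.map k A q.ResidueField q.ResidueField x = 0 :=
    Subsingleton.elim _ _
  exact (KaehlerDifferential.exact_mapBaseChange_map k A q.ResidueField x).1 hx

theorem le_finrank_generic (n : ℕ) (hq : (n : WithBot ℕ∞) ≤ ringKrullDim (A ⧸ q)) :
    n ≤ Module.finrank q.ResidueField (q.ResidueField ⊗[A] (Ω[A⁄k])) := by
  obtain ⟨m, hm1, hm2⟩ := trdeg_residueField k A q
  rw [hm2] at hq
  have hnm : n ≤ m := by exact_mod_cast hq
  haveI := essFiniteType_residueField k A q
  obtain ⟨-, hfin, hχ⟩ := Groth.Agent.Lib.helper25.Cart.cartier_h1 (K := k) (L := q.ResidueField)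
  rw [hm1, Cardinal.toNat_natCast] at hχ
  have h1 : m ≤ Module.finrank q.ResidueField (Ω[q.ResidueField⁄k]) := by
    have : (m : ℤ) ≤ Module.finrank q.ResidueField (Ω[q.ResidueField⁄k]) := by
      rw [← hχ]; simp
    exact_mod_cast this
  have h2 := LinearMap.finrank_le_finrank_of_surjective
    (mapBaseChange_surjective_residueField k A q)
  exact hnm.trans (h1.trans h2)

theorem S10902_aux (n : ℕ) (P : Ideal A) [P.IsPrime] (hqP : q ≤ P)
    (hq : (n : WithBot ℕ∞) ≤ ringKrullDim (A ⧸ q)) :
    n ≤ Module.finrank P.ResidueField (P.ResidueField ⊗[A] (Ω[A⁄k])) :=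
  (le_finrank_generic k A q n hq).trans
    (Groth.Agent.Lib.helper25.Semi.finrank_tensor_le_of_le (Ω[A⁄k]) P q hqP)

end generic

end Groth.Agent.Lib.helper25.OmegaDim
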