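import Mathlib
import Groth.Prelude.Def_Found
import Groth.Agent.Lib.helper20.SmoothReg
import Groth.Agent.Lib.helper25.OmegaDim
import Groth.Agent.Lib.helper25.GeomReg3

/-! Geometric regularity: field base change and tensor products (helper25). -/

namespace Groth.Agent.Lib.helper25.GeomReg

set_option linter.style.haveILetI false
universe u
open TensorProduct IsLocalRing

/-- Geometric regularity ascends along essentially finitely generated field extensions. -/
theorem geomReg_baseChange (k S : Type u) [Field k] [CommRing S] [Algebra k S]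
    [IsNoetherianRing S] (K : Type u) [Field K] [Algebra k K] [Algebra.EssFiniteType k K]
    (h : CAlg.IsGeometricallyRegular k S) : CAlg.IsGeometricallyRegular K (K ⊗[k] S) := by
  intro K' _ _ hfin
  haveI : Module.Finite K K' := hfin
  letI : Algebra k K' := ((algebraMap K K').comp (algebraMap k K)).toAlgebra
  haveI : IsScalarTower k K K' := IsScalarTower.of_algebraMap_eq (fun _ => rfl)
  haveI : Algebra.EssFiniteType k K' := Algebra.EssFiniteType.comp k K K'
  haveI : IsRegularRing (K' ⊗[k] S) := (S2672_aux k S).2.1 h K' inferInstance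
  exact IsRegularRing.of_ringEquiv
    (Algebra.TensorProduct.cancelBaseChange k K K' K' S).symm.toRingEquiv

/-- Geometric regularity descends along field extensions. -/
theorem geomReg_of_baseChange (k S : Type u) [Field k] [CommRing S] [Algebra k S]
    [IsNoetherianRing S] (K : Type u) [Field K] [Algebra k K]
    (h : CAlg.IsGeometricallyRegular K (K ⊗[k] S)) : CAlg.IsGeometricallyRegular k S := by
  intro k' _ _ hfin
  haveI : Module.Finite k k' := hfin
  let R := K ⊗[k] k'
  obtain ⟨m, hm⟩ := Ideal.exists_maximal R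
  letI : Field (R ⧸ m) := Ideal.Quotient.field m
  haveI : Module.Finite K (R ⧸ m) :=
    Module.Finite.of_surjective (Ideal.Quotient.mkₐ K m).toLinearMap
      (Ideal.Quotient.mkₐ_surjective K m)
  letI : Algebra k' (R ⧸ m) := ((Ideal.Quotient.mk m).comp
    (Algebra.TensorProduct.includeRight : k' →ₐ[k] R).toRingHom).toAlgebra
  haveI : IsScalarTower k k' (R ⧸ m) := IsScalarTower.of_algebraMap_eq (fun x => by
    change Ideal.Quotient.mk m (algebraMap k R x) = Ideal.Quotient.mk m ((1 : K) ⊗ₜ[k] algebraMap k k' x)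
    congr 1
    rw [Algebra.TensorProduct.algebraMap_apply, Algebra.algebraMap_eq_smul_one,
      Algebra.algebraMap_eq_smul_one (A := k'), TensorProduct.smul_tmul])
  have hreg : IsRegularRing ((R ⧸ m) ⊗[K] (K ⊗[k] S)) := h (R ⧸ m) inferInstance
  let e1 : (R ⧸ m) ⊗[K] (K ⊗[k] S) ≃ₐ[R ⧸ m] (R ⧸ m) ⊗[k] S :=
    Algebra.TensorProduct.cancelBaseChange k K (R ⧸ m) (R ⧸ m) S
  let e2 : (R ⧸ m) ⊗[k'] (k' ⊗[k] S) ≃ₐ[R ⧸ m] (R ⧸ m) ⊗[k] S :=
    Algebra.TensorProduct.cancelBaseChange k k' (R ⧸ m) (R ⧸ m) S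
  let e3 : (k' ⊗[k] S) ⊗[k'] (R ⧸ m) ≃ₐ[k'] (R ⧸ m) ⊗[k'] (k' ⊗[k] S) :=
    Algebra.TensorProduct.comm k' (k' ⊗[k] S) (R ⧸ m)
  haveI : IsRegularRing ((k' ⊗[k] S) ⊗[k'] (R ⧸ m)) :=
    IsRegularRing.of_ringEquiv
      ((e1.toRingEquiv.trans e2.symm.toRingEquiv).trans e3.symm.toRingEquiv)
  haveI : IsNoetherianRing (k' ⊗[k] S) := isNoetherianRing_tensor_of_essFiniteType k S k'
  haveI : Module.FaithfullyFlat k' (R ⧸ m) := inferInstance
  haveI : Module.FaithfullyFlat (k' ⊗[k] S) ((k' ⊗[k] S) ⊗[k'] (R ⧸ m)) := inferInstance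
  exact isRegularRing_of_faithfullyFlat (k' ⊗[k] S) ((k' ⊗[k] S) ⊗[k'] (R ⧸ m))

open TensorProduct in
theorem S2674_aux (k S : Type u) [Field k] [CommRing S] [Algebra k S] [IsNoetherianRing S]
    (K : Type u) [Field K] [Algebra k K] [Algebra.EssFiniteType k K] :
    CAlg.IsGeometricallyRegular k S ↔ CAlg.IsGeometricallyRegular K (K ⊗[k] S) :=
  ⟨geomReg_baseChange k S K, geomReg_of_baseChange k S K⟩

/-- Regular ⊗ geometrically regular is regular. -/
theorem isRegularRing_tensor (k S T : Type u) [Field k] [CommRing S] [CommRing T] [Algebra k S]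
    [Algebra k T] [IsNoetherianRing S] [IsNoetherianRing T]
    (hft : Algebra.FiniteType k S ∨ Algebra.FiniteType k T) [IsNoetherianRing (S ⊗[k] T)]
    (hS : IsRegularRing S) (hT : CAlg.IsGeometricallyRegular k T) : IsRegularRing (S ⊗[k] T) := by
  rcases hft with hft | hft
  · -- fibres over `S`
    apply Groth.Agent.Lib.helper20.RegAscent.isRegularRing_of_flat_of_regular_fibers S (S ⊗[k] T)
    intro p _
    haveI : Algebra.EssFiniteType k p.ResidueField :=
      Groth.Agent.Lib.helper25.OmegaDim.essFiniteType_residueField k S p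
    haveI : IsRegularRing (p.ResidueField ⊗[k] T) :=
      (S2672_aux k T).2.1 hT p.ResidueField inferInstance
    exact IsRegularRing.of_ringEquiv
      (Algebra.TensorProduct.cancelBaseChange k S S p.ResidueField T).symm.toRingEquiv
  · haveI : Algebra.Smooth k T := smooth_of_geomReg k T hT
    haveI : Algebra.Smooth S (S ⊗[k] T) := inferInstance
    exact Groth.Agent.Lib.helper20.SmoothReg.isRegularRing_of_smooth S (S ⊗[k] T)

open TensorProduct in
theorem S2692_aux (k S T : Type u) [Field k] [CommRing S] [CommRing T] [Algebra k S] [Algebra k T]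
    [IsNoetherianRing S] [IsNoetherianRing T]
    (hft : Algebra.FiniteType k S ∨ Algebra.FiniteType k T) [IsNoetherianRing (S ⊗[k] T)] :
    (IsRegularRing S → CAlg.IsGeometricallyRegular k T → IsRegularRing (S ⊗[k] T)) ∧
      (CAlg.IsGeometricallyRegular k S → CAlg.IsGeometricallyRegular k T →
        CAlg.IsGeometricallyRegular k (S ⊗[k] T)) := by
  refine ⟨isRegularRing_tensor k S T hft, ?_⟩
  intro hS hT k' _ _ hfin
  haveI : Module.Finite k k' := hfin
  haveI : IsRegularRing (k' ⊗[k] S) := hS k' hfin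
  haveI : IsNoetherianRing (k' ⊗[k] S) := isNoetherianRing_tensor_of_essFiniteType k S k'
  let e : (k' ⊗[k] S) ⊗[k] T ≃ₐ[k] k' ⊗[k] (S ⊗[k] T) :=
    Algebra.TensorProduct.assoc k k k k' S T
  haveI : IsNoetherianRing (k' ⊗[k] (S ⊗[k] T)) :=
    isNoetherianRing_tensor_of_essFiniteType k (S ⊗[k] T) k'
  haveI : IsNoetherianRing ((k' ⊗[k] S) ⊗[k] T) :=
    isNoetherianRing_of_ringEquiv _ e.symm.toRingEquiv
  have hft' : Algebra.FiniteType k (k' ⊗[k] S) ∨ Algebra.FiniteType k T := by
    rcases hft with hft | hft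
    · left
      haveI : Algebra.FiniteType k' (k' ⊗[k] S) := inferInstance
      exact Algebra.FiniteType.trans (S := k') inferInstance inferInstance
    · exact Or.inr hft
  haveI := isRegularRing_tensor k (k' ⊗[k] S) T hft' inferInstance hT
  exact IsRegularRing.of_ringEquiv e.toRingEquiv

end Groth.Agent.Lib.helper25.GeomReg
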