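import Mathlib
import Groth.Prelude.Def_Found
import Groth.Agent.Lib.helper15.NoethDescent
import Groth.Agent.Lib.helper25.GeomReg4

/-! Base change of regular homomorphisms (helper25). -/

namespace Groth.Agent.Lib.helper25.GeomReg

set_option linter.style.haveILetI false
universe u
open TensorProduct IsLocalRing

theorem geomReg_of_algEquiv (k S S' : Type u) [Field k] [CommRing S] [CommRing S'] [Algebra k S]
    [Algebra k S'] (e : S ≃ₐ[k] S') (h : CAlg.IsGeometricallyRegular k S) :
    CAlg.IsGeometricallyRegular k S' := by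
  intro k' _ _ hfin
  haveI := h k' hfin
  exact IsRegularRing.of_ringEquiv
    (Algebra.TensorProduct.congr (AlgEquiv.refl : k' ≃ₐ[k] k') e).toRingEquiv

/-- A smooth algebra over a field is geometrically regular. -/
theorem geomReg_of_smooth (k S : Type u) [Field k] [CommRing S] [Algebra k S] [Algebra.Smooth k S] :
    CAlg.IsGeometricallyRegular k S := by
  intro k' _ _ hfin
  haveI : Algebra.Smooth k' (k' ⊗[k] S) := inferInstance
  haveI : IsRegularRing k' := inferInstance
  exact Groth.Agent.Lib.helper20.SmoothReg.isRegularRing_of_smooth k' _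

/-- Fibres over a larger field. -/
theorem fiber_baseChange (A B : Type u) [CommRing A] [CommRing B] [Algebra A B]
    (κ κ' : Type u) [Field κ] [Field κ'] [Algebra A κ] [Algebra A κ'] [Algebra κ κ']
    [IsScalarTower A κ κ']
    (hft : Algebra.FiniteType A B ∨ Algebra.EssFiniteType κ κ')
    (hN : IsNoetherianRing (κ ⊗[A] B)) (hR : CAlg.IsGeometricallyRegular κ (κ ⊗[A] B)) :
    IsNoetherianRing (κ' ⊗[A] B) ∧ CAlg.IsGeometricallyRegular κ' (κ' ⊗[A] B) := by
  let e : κ' ⊗[κ] (κ ⊗[A] B) ≃ₐ[κ'] κ' ⊗[A] B :=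
    Algebra.TensorProduct.cancelBaseChange A κ κ' κ' B
  suffices h : IsNoetherianRing (κ' ⊗[κ] (κ ⊗[A] B)) ∧
      CAlg.IsGeometricallyRegular κ' (κ' ⊗[κ] (κ ⊗[A] B)) by
    haveI := h.1
    exact ⟨isNoetherianRing_of_ringEquiv _ e.toRingEquiv, geomReg_of_algEquiv κ' _ _ e h.2⟩
  rcases hft with hft | hft
  · haveI : Algebra.FiniteType κ (κ ⊗[A] B) := inferInstance
    haveI : Algebra.Smooth κ (κ ⊗[A] B) := smooth_of_geomReg κ _ hR
    haveI : Algebra.Smooth κ' (κ' ⊗[κ] (κ ⊗[A] B)) := inferInstance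
    haveI : Algebra.FiniteType κ' (κ' ⊗[κ] (κ ⊗[A] B)) := inferInstance
    exact ⟨Algebra.FiniteType.isNoetherianRing κ' _, geomReg_of_smooth κ' _⟩
  · exact ⟨isNoetherianRing_tensor_of_essFiniteType κ _ κ', geomReg_baseChange κ _ κ' hR⟩

/-- Fibres descend from a larger field. -/
theorem fiber_descent (A B : Type u) [CommRing A] [CommRing B] [Algebra A B]
    (κ κ' : Type u) [Field κ] [Field κ'] [Algebra A κ] [Algebra A κ'] [Algebra κ κ']
    [IsScalarTower A κ κ']
    (hN : IsNoetherianRing (κ' ⊗[A] B)) (hR : CAlg.IsGeometricallyRegular κ' (κ' ⊗[A] B)) :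
    IsNoetherianRing (κ ⊗[A] B) ∧ CAlg.IsGeometricallyRegular κ (κ ⊗[A] B) := by
  let e : κ' ⊗[κ] (κ ⊗[A] B) ≃ₐ[κ'] κ' ⊗[A] B :=
    Algebra.TensorProduct.cancelBaseChange A κ κ' κ' B
  haveI : IsNoetherianRing (κ' ⊗[κ] (κ ⊗[A] B)) := isNoetherianRing_of_ringEquiv _ e.symm.toRingEquiv
  have h2 : CAlg.IsGeometricallyRegular κ' (κ' ⊗[κ] (κ ⊗[A] B)) := geomReg_of_algEquiv κ' _ _ e.symm hR
  haveI : IsNoetherianRing ((κ ⊗[A] B) ⊗[κ] κ') :=
    isNoetherianRing_of_ringEquiv _ (Algebra.TensorProduct.comm κ κ' (κ ⊗[A] B)).toRingEquiv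
  haveI : Module.FaithfullyFlat κ κ' := inferInstance
  haveI : Module.FaithfullyFlat (κ ⊗[A] B) ((κ ⊗[A] B) ⊗[κ] κ') := inferInstance
  haveI : IsNoetherianRing (κ ⊗[A] B) :=
    Groth.Agent.Lib.H15.ND.isNoetherianRing_of_faithfullyFlat (B := κ ⊗[A] B)
      (A := (κ ⊗[A] B) ⊗[κ] κ')
  exact ⟨inferInstance, geomReg_of_baseChange κ _ κ' h2⟩

section residue
variable (A A' : Type u) [CommRing A] [CommRing A'] [Algebra A A'] (p' : Ideal A') [p'.IsPrime]

/-- the residue field extension as an algebra -/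
noncomputable abbrev resAlg : Algebra (p'.comap (algebraMap A A')).ResidueField p'.ResidueField :=
  (Ideal.ResidueField.map (p'.comap (algebraMap A A')) p' (algebraMap A A') rfl).toAlgebra

theorem resTower :
    letI := resAlg A A' p'
    IsScalarTower A (p'.comap (algebraMap A A')).ResidueField p'.ResidueField := by
  letI := resAlg A A' p'
  refine IsScalarTower.of_algebraMap_eq (fun x => ?_)
  rw [RingHom.algebraMap_toAlgebra, Ideal.ResidueField.map_algebraMap]
  rw [← IsScalarTower.algebraMap_apply]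

theorem resEssFiniteType [Algebra.FiniteType A A'] :
    letI := resAlg A A' p'
    Algebra.EssFiniteType (p'.comap (algebraMap A A')).ResidueField p'.ResidueField := by
  letI := resAlg A A' p'
  haveI := resTower A A' p'
  haveI : Algebra.EssFiniteType A p'.ResidueField := Algebra.EssFiniteType.comp A A' _
  exact Algebra.EssFiniteType.of_comp A _ _

end residue

open TensorProduct in
theorem S4695_aux (A B A' : Type u) [CommRing A] [CommRing B] [CommRing A']
    [IsNoetherianRing A] [IsNoetherianRing B] [IsNoetherianRing A'] [Algebra A B] [Algebra A A']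
    (hft : Algebra.FiniteType A B ∨ Algebra.FiniteType A A') :
    (CAlg.IsRegularHom A B → CAlg.IsRegularHom A' (A' ⊗[A] B)) ∧
      (Module.FaithfullyFlat A A' → CAlg.IsRegularHom A' (A' ⊗[A] B) → CAlg.IsRegularHom A B) := by
  constructor
  · rintro ⟨hflat, hfib⟩
    refine ⟨inferInstance, fun p' _ => ?_⟩
    letI := resAlg A A' p'
    haveI := resTower A A' p'
    obtain ⟨hN, hR⟩ := hfib (p'.comap (algebraMap A A'))
    have hft' : Algebra.FiniteType A B ∨
        Algebra.EssFiniteType (p'.comap (algebraMap A A')).ResidueField p'.ResidueField := by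
      rcases hft with hft | hft
      · exact Or.inl hft
      · exact Or.inr (resEssFiniteType A A' p')
    obtain ⟨hN', hR'⟩ := fiber_baseChange A B _ p'.ResidueField hft' hN hR
    let e : p'.ResidueField ⊗[A'] (A' ⊗[A] B) ≃ₐ[p'.ResidueField] p'.ResidueField ⊗[A] B :=
      Algebra.TensorProduct.cancelBaseChange A A' p'.ResidueField p'.ResidueField B
    exact ⟨isNoetherianRing_of_ringEquiv _ e.symm.toRingEquiv,
      geomReg_of_algEquiv _ _ _ e.symm hR'⟩
  · rintro hff ⟨hflat, hfib⟩
    haveI := hff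
    haveI := hflat
    refine ⟨Module.Flat.of_flat_tensorProduct A B A', fun p hp => ?_⟩
    obtain ⟨P', hP'⟩ := PrimeSpectrum.comap_surjective_of_faithfullyFlat (A := A) (B := A') ⟨p, hp⟩
    have hP'' : P'.asIdeal.comap (algebraMap A A') = p := congrArg PrimeSpectrum.asIdeal hP'
    subst hP''
    letI := resAlg A A' P'.asIdeal
    haveI := resTower A A' P'.asIdeal
    obtain ⟨hN', hR'⟩ := hfib P'.asIdeal
    let e : P'.asIdeal.ResidueField ⊗[A'] (A' ⊗[A] B) ≃ₐ[P'.asIdeal.ResidueField]
        P'.asIdeal.ResidueField ⊗[A] B :=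
      Algebra.TensorProduct.cancelBaseChange A A' P'.asIdeal.ResidueField P'.asIdeal.ResidueField B
    haveI := hN'
    exact fiber_descent A B _ P'.asIdeal.ResidueField
      (isNoetherianRing_of_ringEquiv _ e.toRingEquiv) (geomReg_of_algEquiv _ _ _ e hR')

end Groth.Agent.Lib.helper25.GeomReg
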