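import Mathlib
import Groth.Prelude.Def_Curv2
import Groth.Agent.Lib.helper25.VarBC2
import Groth.Agent.S1541
import Groth.Agent.S1544

/-! Geometric reducedness via finite purely inseparable extensions (S1548, S1610) (helper25). -/

universe u

open AlgebraicGeometry CategoryTheory Limits TensorProduct

namespace Groth.Agent.Lib.helper25.VarBC

set_option linter.style.haveILetI false
attribute [local instance] Curv2.stalkAlgebra

theorem geomReduced_of_pi_aux (k P A : Type u) [Field k] [Field P] [Algebra k P] [CommRing A]
    [Algebra k A] [PerfectField P] [IsPurelyInseparable k P]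
    (h : ∀ (k' : Type u) [Field k'] [Algebra k k'], Module.Finite k k' →
      IsPurelyInseparable k k' → IsReduced (k' ⊗[k] A)) :
    Algebra.IsGeometricallyReduced k A := by
  apply Groth.Agent.Lib.helper25.GRed.geomReduced_of_isReduced_perfect k P A
  constructor
  intro x hx
  obtain ⟨E, hE, y, rfl⟩ := Groth.Agent.Lib.helper25.GRed.exists_finite_mem_range (k := k)
    (P := P) (A := A) x
  haveI := hE
  haveI : IsPurelyInseparable k E := IsPurelyInseparable.tower_bot k E P
  haveI := h E inferInstance inferInstance
  obtain ⟨n, hn⟩ := hx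
  have hy : IsNilpotent y := by
    refine ⟨n, Groth.Agent.Lib.helper25.GRed.iota_injective E ?_⟩
    show (Groth.Agent.Lib.helper25.GRed.iota k P A E).toRingHom (y ^ n) =
      (Groth.Agent.Lib.helper25.GRed.iota k P A E).toRingHom 0
    rw [RingHom.map_pow, RingHom.map_zero]
    exact hn
  rw [hy.eq_zero]
  exact RingHom.map_zero _

/-- An algebra which stays reduced after all finite purely inseparable extensions is
geometrically reduced. -/
theorem geomReduced_of_pi (k A : Type u) [Field k] [CommRing A] [Algebra k A]
    (h : ∀ (k' : Type u) [Field k'] [Algebra k k'], Module.Finite k k' →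
      IsPurelyInseparable k k' → IsReduced (k' ⊗[k] A)) :
    Algebra.IsGeometricallyReduced k A :=
  geomReduced_of_pi_aux k (perfectClosure k (AlgebraicClosure k)) A h

theorem geomReducedAt_of_pi (k : Type u) [Field k] (X : Scheme.{u})
    [X.Over (Spec (CommRingCat.of k))] (x : X)
    (h : ∀ (k' : Type u) [Field k'] [Algebra k k'] [FiniteDimensional k k']
      [IsPurelyInseparable k k'] (x' : Curv2.bc k X k'), Curv2.bcFst k X k' x' = x →
      IsReduced ((Curv2.bc k X k').presheaf.stalk x')) :
    Curv2.IsGeomReducedAt k X x := by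
  rw [Groth.Agent.S1541.result]
  apply geomReduced_of_pi
  intro k' _ _ hfin hpi
  haveI := hfin
  haveI := hpi
  have h1 : IsReduced ((X.presheaf.stalk x) ⊗[k] k') :=
    Groth.Agent.Lib.helper7.StalkBC.isReduced_tensorProduct_of_stalks
      (X ↘ Spec (CommRingCat.of k)) x (hφ_stalk k X x) k' (fun x' hx' => h k' x' hx')
  exact isReduced_of_injective
    (Algebra.TensorProduct.comm k k' (X.presheaf.stalk x)).toAlgHom (AlgEquiv.injective _)

theorem S1610_aux (k : Type u) [Field k]
    (X : Scheme.{u}) [X.Over (Spec (CommRingCat.of k))] (x : X) :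
    Curv2.IsGeomReducedAt k X x ↔
      ∀ (k' : Type u) [Field k'] [Algebra k k'] [FiniteDimensional k k'] [IsPurelyInseparable k k']
        (x' : Curv2.bc k X k'), Curv2.bcFst k X k' x' = x →
          IsReduced ((Curv2.bc k X k').presheaf.stalk x') :=
  ⟨fun h k' _ _ _ _ x' hx' => h k' x' hx', geomReducedAt_of_pi k X x⟩

theorem S1548_aux (k : Type u) [Field k]
    (X : Scheme.{u}) [X.Over (Spec (CommRingCat.of k))]
    (h : ∀ (k' : Type u) [Field k'] [Algebra k k'] [FiniteDimensional k k']
      [IsPurelyInseparable k k'], AlgebraicGeometry.IsReduced (Curv2.bc k X k')) :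
    GeometricallyReduced (X ↘ (Spec (CommRingCat.of k))) := by
  apply Groth.Agent.S1544.geometricallyReduced_of_geomReducedAt
  intro x
  apply geomReducedAt_of_pi
  intro k' _ _ _ _ x' _
  haveI := h k'
  infer_instance

end Groth.Agent.Lib.helper25.VarBC
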