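import Mathlib
import Groth.Prelude.Def_Curv2
import Groth.Agent.Lib.helper25.VarBC3
import Groth.Agent.Lib.helper25.FSLoc1
import Groth.Agent.Lib.helper25.GeomReg5

/-! Geometric regularity at a point vs. smooth locus (S1562, S1628, S1563) (helper25). -/

universe u

open AlgebraicGeometry CategoryTheory Limits TensorProduct

namespace Groth.Agent.Lib.helper25.VarBC

set_option linter.style.haveILetI false
attribute [local instance] Curv2.stalkAlgebra
attribute [-instance] Groth.Agent.Lib.helper19.JacLocal.instFormallySmoothRingExt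

/-- Geometric regularity at a point is geometric regularity of the local ring. -/
theorem geomRegularAt_iff_stalk (k : Type u) [Field k] (X : Scheme.{u})
    [X.Over (Spec (CommRingCat.of k))] [IsLocallyNoetherian X] (x : X) :
    Curv2.IsGeomRegularAt k X x ↔ CAlg.IsGeometricallyRegular k (X.presheaf.stalk x) := by
  constructor
  · intro h k' _ _ hfin
    haveI := hfin
    haveI : Module.Finite (X.presheaf.stalk x) ((X.presheaf.stalk x) ⊗[k] k') := inferInstance
    haveI : IsNoetherianRing ((X.presheaf.stalk x) ⊗[k] k') :=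
      Algebra.FiniteType.isNoetherianRing (X.presheaf.stalk x) _
    have hfg : (⊤ : IntermediateField k k').FG := IntermediateField.fg_top_iff.mpr inferInstance
    haveI h1 : IsRegularRing ((X.presheaf.stalk x) ⊗[k] k') := by
      apply Groth.Agent.Lib.helper20.RegQuot.isRegularRing_of_maximal
      intro Q' hQ'
      obtain ⟨x', hx', ⟨e'⟩⟩ := exists_point_equiv_localization (X ↘ Spec (CommRingCat.of k)) x
        (hφ_stalk k X x) k' Q' hQ'
      haveI := h k' hfg x' hx'
      exact IsRegularLocalRing.of_ringEquiv e'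
    exact IsRegularRing.of_ringEquiv
      (Algebra.TensorProduct.comm k (X.presheaf.stalk x) k').toRingEquiv
  · intro hgr K _ _ hK z hz
    haveI : Algebra.EssFiniteType k K := IntermediateField.fg_top_iff.mp hK
    obtain ⟨Q, hQ, ⟨e⟩⟩ := Groth.Agent.Lib.helper7.StalkBC.exists_equiv_localization
      (X ↘ Spec (CommRingCat.of k)) x (hφ_stalk k X x) K z (hz ▸ specializes_rfl)
    haveI hK' : IsRegularRing (K ⊗[k] (X.presheaf.stalk x)) :=
      (Groth.Agent.Lib.helper25.GeomReg.S2672_aux k (X.presheaf.stalk x)).2.mp hgr K inferInstance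
    haveI hK'' : IsRegularRing ((X.presheaf.stalk x) ⊗[k] K) :=
      IsRegularRing.of_ringEquiv (Algebra.TensorProduct.comm k K (X.presheaf.stalk x)).toRingEquiv
    haveI : IsRegularLocalRing (Localization.AtPrime Q) := (isRegularRing_iff.mp hK'') Q
    exact IsRegularLocalRing.of_ringEquiv e.symm

/-- For a localization of a finite type algebra over a field at a prime, formal smoothness is
geometric regularity. -/
theorem formallySmooth_iff_geomReg_of_isLocalization (k C B : Type u) [Field k] [CommRing C]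
    [Algebra k C] [Algebra.FiniteType k C] (q : Ideal C) [q.IsPrime] [CommRing B] [Algebra k B]
    [Algebra C B] [IsScalarTower k C B] [IsLocalization.AtPrime B q] :
    Algebra.FormallySmooth k B ↔ CAlg.IsGeometricallyRegular k B := by
  let e0 : Localization.AtPrime q ≃ₐ[C] B :=
    IsLocalization.algEquiv q.primeCompl (Localization.AtPrime q) B
  let e : Localization.AtPrime q ≃ₐ[k] B :=
    AlgEquiv.ofRingEquiv (f := e0.toRingEquiv) (fun r => by
      rw [IsScalarTower.algebraMap_apply k C (Localization.AtPrime q),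
        IsScalarTower.algebraMap_apply k C B]
      exact e0.commutes _)
  have h := (Groth.Agent.Lib.helper25.FSLoc.S4578_aux (k₀ := k) (k := k) (C := C) q).out 0 3
  constructor
  · intro hB
    haveI : Algebra.FormallySmooth k (Localization.AtPrime q) :=
      Algebra.FormallySmooth.of_equiv e.symm
    exact Groth.Agent.Lib.helper25.GeomReg.geomReg_of_algEquiv k _ _ e (h.mp inferInstance)
  · intro hB
    haveI : Algebra.FormallySmooth k (Localization.AtPrime q) :=
      h.mpr (Groth.Agent.Lib.helper25.GeomReg.geomReg_of_algEquiv k _ _ e.symm hB)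
    exact Algebra.FormallySmooth.of_equiv e

section chart

variable (k : Type u) [Field k] (X : Scheme.{u}) [X.Over (Spec (CommRingCat.of k))]

/-- The `k`-algebra structure on the sections over an open. -/
noncomputable abbrev secAlgebra (V : X.Opens) : Algebra k Γ(X, V) :=
  (((X ↘ Spec (CommRingCat.of k)).appLE ⊤ V le_top).hom.comp
    (Scheme.ΓSpecIso (CommRingCat.of k)).inv.hom).toAlgebra

theorem secAlgebra_tower (V : X.Opens) (x : X) (hx : x ∈ V) :
    letI := secAlgebra k X V
    letI := X.presheaf.algebra_section_stalk ⟨x, hx⟩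
    IsScalarTower k Γ(X, V) (X.presheaf.stalk x) := by
  letI := secAlgebra k X V
  letI := X.presheaf.algebra_section_stalk ⟨x, hx⟩
  refine IsScalarTower.of_algebraMap_eq (fun r => ?_)
  show (X.presheaf.germ ⊤ x trivial).hom (((X ↘ Spec (CommRingCat.of k)).appTop).hom
      ((Scheme.ΓSpecIso (CommRingCat.of k)).inv.hom r)) =
    (X.presheaf.germ V x hx).hom (((X ↘ Spec (CommRingCat.of k)).appLE ⊤ V le_top).hom
      ((Scheme.ΓSpecIso (CommRingCat.of k)).inv.hom r))
  rw [Scheme.Hom.appLE]
  simp only [CommRingCat.hom_comp, RingHom.comp_apply]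
  exact (TopCat.Presheaf.germ_res_apply X.presheaf (homOfLE le_top) x hx _).symm

theorem mem_smoothLocus_iff_stalk
    [LocallyOfFinitePresentation (X ↘ Spec (CommRingCat.of k))] (x : X) :
    x ∈ (X ↘ Spec (CommRingCat.of k)).smoothLocus ↔
      Algebra.FormallySmooth k (X.presheaf.stalk x) := by
  obtain ⟨_, ⟨V, hV, rfl⟩, hxV, -⟩ :=
    X.isBasis_affineOpens.exists_subset_of_mem_open (Set.mem_univ x) isOpen_univ
  have hU : IsAffineOpen (⊤ : (Spec (CommRingCat.of k)).Opens) := isAffineOpen_top _
  have hVU : V ≤ (X ↘ Spec (CommRingCat.of k)) ⁻¹ᵁ ⊤ := le_top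
  rw [Scheme.Hom.mem_smoothLocus, formallySmooth_stalkMap_iff ⊤ hU V hV hVU hxV]
  letI := secAlgebra k X V
  letI : Algebra Γ(Spec (CommRingCat.of k), ⊤) Γ(X, V) :=
    ((X ↘ Spec (CommRingCat.of k)).appLE ⊤ V hVU).hom.toAlgebra
  letI : Algebra k Γ(Spec (CommRingCat.of k), ⊤) :=
    (Scheme.ΓSpecIso (CommRingCat.of k)).inv.hom.toAlgebra
  haveI : IsScalarTower k Γ(Spec (CommRingCat.of k), ⊤) Γ(X, V) :=
    IsScalarTower.of_algebraMap_eq (fun _ => rfl)
  let q := (hV.primeIdealOf ⟨x, hxV⟩).asIdeal
  show Algebra.FormallySmooth Γ(Spec (CommRingCat.of k), ⊤) (Localization.AtPrime q) ↔ _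
  have hbij : Function.Bijective (algebraMap k Γ(Spec (CommRingCat.of k), ⊤)) :=
    ConcreteCategory.bijective_of_isIso (Scheme.ΓSpecIso (CommRingCat.of k)).inv
  haveI : Algebra.FormallyEtale k Γ(Spec (CommRingCat.of k), ⊤) :=
    Algebra.FormallyEtale.of_equiv
      (AlgEquiv.ofBijective (Algebra.ofId k Γ(Spec (CommRingCat.of k), ⊤)) hbij)
  haveI : IsScalarTower k Γ(Spec (CommRingCat.of k), ⊤) (Localization.AtPrime q) :=
    IsScalarTower.of_algebraMap_eq (fun _ => rfl)
  rw [← Algebra.FormallySmooth.iff_restrictScalars (R := k)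
    (A := Γ(Spec (CommRingCat.of k), ⊤))]
  letI := X.presheaf.algebra_section_stalk ⟨x, hxV⟩
  haveI := hV.isLocalization_stalk ⟨x, hxV⟩
  haveI := secAlgebra_tower k X V x hxV
  let e0 : Localization.AtPrime q ≃ₐ[Γ(X, V)] X.presheaf.stalk x :=
    IsLocalization.algEquiv q.primeCompl (Localization.AtPrime q) (X.presheaf.stalk x)
  let e : Localization.AtPrime q ≃ₐ[k] X.presheaf.stalk x :=
    AlgEquiv.ofRingEquiv (f := e0.toRingEquiv) (fun r => by
      rw [IsScalarTower.algebraMap_apply k Γ(X, V) (Localization.AtPrime q),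
        IsScalarTower.algebraMap_apply k Γ(X, V) (X.presheaf.stalk x)]
      exact e0.commutes _)
  exact ⟨fun _ => .of_equiv e, fun _ => .of_equiv e.symm⟩

theorem finiteType_secAlgebra
    [LocallyOfFiniteType (X ↘ Spec (CommRingCat.of k))] (V : X.Opens) (hV : IsAffineOpen V) :
    letI := secAlgebra k X V
    Algebra.FiniteType k Γ(X, V) := by
  letI := secAlgebra k X V
  have hU : IsAffineOpen (⊤ : (Spec (CommRingCat.of k)).Opens) := isAffineOpen_top _
  have h1 : ((X ↘ Spec (CommRingCat.of k)).appLE ⊤ V le_top).hom.FiniteType :=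
    (X ↘ Spec (CommRingCat.of k)).finiteType_appLE hU hV le_top
  have h2 : ((Scheme.ΓSpecIso (CommRingCat.of k)).inv.hom).FiniteType :=
    RingHom.FiniteType.of_surjective _
      (ConcreteCategory.bijective_of_isIso (Scheme.ΓSpecIso (CommRingCat.of k)).inv).2
  exact h1.comp h2

theorem S1562_aux [LocallyOfFinitePresentation (X ↘ Spec (CommRingCat.of k))] (x : X) :
    Curv2.IsGeomRegularAt k X x ↔ x ∈ (X ↘ Spec (CommRingCat.of k)).smoothLocus := by
  haveI : IsLocallyNoetherian X :=
    LocallyOfFiniteType.isLocallyNoetherian (X ↘ Spec (CommRingCat.of k))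
  rw [geomRegularAt_iff_stalk, mem_smoothLocus_iff_stalk]
  obtain ⟨_, ⟨V, hV, rfl⟩, hxV, -⟩ :=
    X.isBasis_affineOpens.exists_subset_of_mem_open (Set.mem_univ x) isOpen_univ
  letI := secAlgebra k X V
  haveI := finiteType_secAlgebra k X V hV
  letI := X.presheaf.algebra_section_stalk ⟨x, hxV⟩
  haveI := hV.isLocalization_stalk ⟨x, hxV⟩
  haveI := secAlgebra_tower k X V x hxV
  exact (formallySmooth_iff_geomReg_of_isLocalization k Γ(X, V) (X.presheaf.stalk x)
    (hV.primeIdealOf ⟨x, hxV⟩).asIdeal).symm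

end chart

end Groth.Agent.Lib.helper25.VarBC
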