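import Groth.Agent.Lib.helper25.FrobA
import Groth.Agent.Lib.helper25.AdicCmp

set_option autoImplicit false
universe u
open TensorProduct FrobAlg

namespace Groth.Agent.Lib.helper25.AdicFrob

open Groth.Agent.Lib.helper25 Submodule

variable (p : ℕ) [Fact p.Prime] (A : Type u) [CommRing A] [CharP A p]

/-- the identity `Twist p A → A` as an additive map. -/
def phi : Twist p A →+ A := ((toTwist p A).symm : Twist p A →+* A).toAddMonoidHom

theorem phi_smul (a : A) (t : Twist p A) : phi p A (a • t) = a ^ p * phi p A t := by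
  rw [Algebra.smul_def, algebraMap_twist]
  change (toTwist p A).symm (toTwist p A (a ^ p) * t) = _
  rw [map_mul, RingEquiv.symm_apply_apply]
  rfl

theorem smul_top_eq (I : Ideal A) (n : ℕ) : ((I ^ n • ⊤ : Submodule A A) : Set A) = (I ^ n : Ideal A) := by
  ext x
  simp

theorem phi_mem (I : Ideal A) (n : ℕ) (x : Twist p A) (hx : x ∈ (I ^ n • ⊤ : Submodule A (Twist p A))) :
    phi p A x ∈ (I ^ n • ⊤ : Submodule A A) := by
  refine Submodule.smul_induction_on hx (fun a ha t _ => ?_) (fun x y hx hy => ?_)
  · rw [phi_smul]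
    have hp : p ≠ 0 := (Fact.out : p.Prime).ne_zero
    have : a ^ p ∈ I ^ n := by
      obtain ⟨q, rfl⟩ := Nat.exists_eq_succ_of_ne_zero hp
      rw [pow_succ]
      exact Ideal.mul_mem_left _ _ ha
    exact Submodule.smul_mem_smul this (Submodule.mem_top)
  · rw [map_add]
    exact Submodule.add_mem _ hx hy

theorem mul_mem_smul_top (I : Ideal A) (n : ℕ) (t' : Twist p A) (y : Twist p A)
    (hy : y ∈ (I ^ n • ⊤ : Submodule A (Twist p A))) :
    t' * y ∈ (I ^ n • ⊤ : Submodule A (Twist p A)) := by
  refine Submodule.smul_induction_on hy (fun a ha t _ => ?_) (fun x y hx hy => ?_)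
  · rw [mul_smul_comm]
    exact Submodule.smul_mem_smul ha Submodule.mem_top
  · rw [mul_add]
    exact Submodule.add_mem _ hx hy

theorem toTwist_mem_of_mem_map (I : Ideal A) (n : ℕ) (a : A)
    (ha : a ∈ Ideal.map (frobenius A p) (I ^ n)) :
    toTwist p A a ∈ (I ^ n • ⊤ : Submodule A (Twist p A)) := by
  rw [Ideal.map] at ha
  induction ha using Submodule.span_induction with
  | mem x hx =>
    obtain ⟨b, hb, rfl⟩ := hx
    have : toTwist p A (frobenius A p b) = b • (1 : Twist p A) := by
      rw [Algebra.smul_def, algebraMap_twist, mul_one, frobenius_def]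
    rw [this]
    exact Submodule.smul_mem_smul hb Submodule.mem_top
  | zero => rw [map_zero]; exact Submodule.zero_mem _
  | add x y _ _ hx hy => rw [map_add]; exact Submodule.add_mem _ hx hy
  | smul r x _ hx =>
    rw [smul_eq_mul, map_mul]
    exact mul_mem_smul_top p A I n _ _ hx

theorem cofinal [IsNoetherianRing A] (I : Ideal A) (n : ℕ) :
    ∃ k, ∀ y : Twist p A, phi p A y ∈ (I ^ k • ⊤ : Submodule A A) →
      y ∈ (I ^ n • ⊤ : Submodule A (Twist p A)) := by
  have hrad : I ^ n ≤ (Ideal.map (frobenius A p) (I ^ n)).radical := by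
    intro a ha
    exact ⟨p, Ideal.mem_map_of_mem _ ha⟩
  obtain ⟨k, hk⟩ := Ideal.exists_pow_le_of_le_radical_of_fg hrad (IsNoetherian.noetherian _)
  refine ⟨n * k, fun y hy => ?_⟩
  have h1 : phi p A y ∈ (I ^ (n * k) : Ideal A) := by
    have := (smul_top_eq A I (n * k)).le hy
    exact this
  rw [pow_mul] at h1
  have h2 := toTwist_mem_of_mem_map p A I n _ (hk h1)
  have h3 : toTwist p A (phi p A y) = y := (toTwist p A).apply_symm_apply y
  rwa [h3] at h2


open AdicCmp in
theorem compMap_zero (I : Ideal A) :
    compMap I I (phi p A) (phi_mem p A I) 0 = 0 := by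
  have h := compMap_add I I (phi p A) (phi_mem p A I) 0 0
  rw [add_zero] at h
  exact left_eq_add.mp h

open AdicCmp in
theorem relFrob_eq_compMap (I : Ideal A) [CharP (AdicCompletion I A) p]
    (x : AdicCompletion I A ⊗[A] Twist p A) :
    relFrob p A (AdicCompletion I A) x =
      compMap I I (phi p A) (phi_mem p A I) (AdicCompletion.ofTensorProduct I (Twist p A) x) := by
  induction x using TensorProduct.induction_on with
  | zero => rw [map_zero, map_zero, compMap_zero]
  | add x y hx hy => rw [map_add, map_add, compMap_add, hx, hy]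
  | tmul b t =>
    rw [FrobA.relFrob_tmul, AdicCompletion.ofTensorProduct_tmul]
    induction b using AdicCompletion.induction_on with | h β =>
    ext n
    rw [compMap_val, AdicCompletion.smul_eval, AdicCompletion.val_mul]
    change (Ideal.Quotient.mk (I ^ n • ⊤ : Ideal A) (β n)) ^ p *
        Ideal.Quotient.mk (I ^ n • ⊤ : Ideal A) (phi p A t) =
      qmap I I (phi p A) (phi_mem p A I) n
        (Ideal.Quotient.mk (I ^ n • ⊤ : Ideal A) (β n) • Submodule.Quotient.mk t)
    rw [AdicCompletion.mk_smul_mk, ← Submodule.Quotient.mk_smul, qmap_mk, phi_smul, ← map_pow, ← map_mul]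
    rfl

theorem bijective_relFrob_adicCompletion [IsNoetherianRing A] (hF : (frobenius A p).Finite) (I : Ideal A)
    [CharP (AdicCompletion I A) p] :
    Function.Bijective (relFrob p A (AdicCompletion I A)) := by
  have : Module.Finite A (Twist p A) := hF
  have hΨ := AdicCompletion.ofTensorProduct_bijective_of_finite_of_isNoetherian I (Twist p A)
  have hκ : Function.Bijective (AdicCmp.compMap I I (phi p A) (phi_mem p A I)) :=
    ⟨AdicCmp.compMap_injective I I (phi p A) (phi_mem p A I) (cofinal p A I),
     AdicCmp.compMap_surjective I I (phi p A) (phi_mem p A I) (toTwist p A).symm.surjective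
      (cofinal p A I)⟩
  have : (relFrob p A (AdicCompletion I A) : _ → _) =
      (AdicCmp.compMap I I (phi p A) (phi_mem p A I)) ∘ (AdicCompletion.ofTensorProduct I (Twist p A)) :=
    funext (relFrob_eq_compMap p A I)
  rw [this]
  exact hκ.comp hΨ

end Groth.Agent.Lib.helper25.AdicFrob
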