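import Mathlib
import Groth.Agent.Lib.helper25.Adm

set_option autoImplicit false
set_option linter.unusedSectionVars false
universe u

namespace Groth.Agent.Lib.helper25.Adm

open EGA41 Groth.Agent.Lib.helper25.PBasisA Groth.Agent.Lib.helper25.PBasisF
  Groth.Agent.Lib.helper25.PBasisG Groth.Agent.Lib.helper25.PBasisI
open scoped IntermediateField TensorProduct

section klevel
variable (p : ℕ) [hp : Fact p.Prime] {k₀ K : Type u} [Field k₀] [Field K] [Algebra k₀ K] [CharP K p]

theorem exists_li_D_of_iInf {ι : Type u} [Preorder ι] [IsDirected ι (· ≤ ·)] [Nonempty ι]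
    (k : ι → IntermediateField k₀ K) (hk : Antitone k)
    (hL : (⨅ i, k i ⊔ IntermediateField.adjoin k₀ (Set.range fun y : K => y ^ p)) =
        IntermediateField.adjoin k₀ (Set.range fun y : K => y ^ p))
    (B : Set K) (hB : IsPIndependent p k₀ (Subtype.val : B → K)) (S : Finset ↥B) :
    ∃ i, LinearIndependent K (fun s : ↥S => KaehlerDifferential.D ↥(k i) K ((s : ↥B) : K)) := by
  classical
  have hliB : LinearIndependent K (fun β : B => KaehlerDifferential.D k₀ K (β : K)) :=
    (S2468_aux (p := p) (k := k₀) (x := (Subtype.val : B → K))).1.1 hB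
  let x : ↥S → K := fun s => ((s : ↥B) : K)
  have hx : IsPIndependent p k₀ x :=
    (S2468_aux (p := p) (k := k₀) (x := x)).1.2
      (hliB.comp (Subtype.val : ↥S → ↥B) Subtype.val_injective)
  have h1 : LinearIndependent
      ↥(IntermediateField.adjoin k₀ (Set.range fun y : K => y ^ p)) (mon (p := p) x) :=
    (isPIndependent_iff x).1 hx
  rw [← hL] at h1
  obtain ⟨i, hi⟩ := exists_linearIndependent x
    (fun i => k i ⊔ IntermediateField.adjoin k₀ (Set.range fun y : K => y ^ p))
    (fun a b hab => sup_le_sup_right (hk hab) _) (fun i b => pow_mem_sup p (k i) b) h1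
  exact ⟨i, li_D_of_isPIndependent (p := p) x (isPIndependent_of_li_sup p (k i) x hi)⟩

end klevel

section llevel
variable (p : ℕ) [hp : Fact p.Prime] {k₀ K L : Type u} [Field k₀] [Field K] [Field L]
    [Algebra k₀ K] [Algebra K L] [Algebra k₀ L] [IsScalarTower k₀ K L] [CharP K p]

theorem exists_index_injOn {ι : Type u} [Preorder ι] [IsDirected ι (· ≤ ·)] [Nonempty ι]
    (k : ι → IntermediateField k₀ K) (hk : Antitone k)
    (hL : (⨅ i, k i ⊔ IntermediateField.adjoin k₀ (Set.range fun y : K => y ^ p)) =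
        IntermediateField.adjoin k₀ (Set.range fun y : K => y ^ p))
    (P : Submodule L (L ⊗[K] Ω[K⁄k₀])) (hP : P.FG) :
    ∃ i, ∀ ω ∈ P, ((KaehlerDifferential.map k₀ (k i) K K).restrictScalars K).baseChange L ω = 0 → ω = 0 := by
  classical
  obtain ⟨B, hB, bΩ, hbΩ⟩ := exists_pbasis_with_basis (k₀ := k₀) (K := K) p
  let bL : Module.Basis B L (L ⊗[K] Ω[K⁄k₀]) := bΩ.baseChange L
  obtain ⟨G, hG⟩ := hP
  let S : Finset B := G.biUnion (fun g => (bL.repr g).support)
  have hPle : P ≤ Submodule.span L (bL '' (S : Set B)) := by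
    rw [← hG, Submodule.span_le]
    intro g hg
    have h1 := bL.mem_span_repr_support g
    refine Submodule.span_mono ?_ h1
    apply Set.image_mono
    intro b hb
    exact Finset.mem_biUnion.2 ⟨g, hg, hb⟩
  obtain ⟨i, hli⟩ := exists_li_D_of_iInf p k hk hL B hB.1 S
  refine ⟨i, ?_⟩
  have hliL : LinearIndependent L (fun s : ↥S =>
      (1 : L) ⊗ₜ[K] KaehlerDifferential.D ↥(k i) K ((s : ↥B) : K)) :=
    Module.Flat.linearIndependent_one_tmul hli
  set ψ := ((KaehlerDifferential.map k₀ ↥(k i) K K).restrictScalars K).baseChange L with hψ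
  intro ω hω hψω
  have h2 := hPle hω
  rw [Finsupp.mem_span_image_iff_linearCombination] at h2
  obtain ⟨c, hc, rfl⟩ := h2
  rw [Finsupp.mem_supported] at hc
  have hψb : ∀ b : B, ψ (bL b) = (1 : L) ⊗ₜ[K] KaehlerDifferential.D ↥(k i) K (b : K) := by
    intro b
    rw [hψ, Module.Basis.baseChange_apply, LinearMap.baseChange_tmul, hbΩ]
    congr 1
    change KaehlerDifferential.map k₀ ↥(k i) K K (KaehlerDifferential.D k₀ K (b : K)) = _
    rw [KaehlerDifferential.map_D, Algebra.algebraMap_self, RingHom.id_apply]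
  rw [Finsupp.linearCombination_apply, Finsupp.sum, map_sum] at hψω
  simp only [map_smul, hψb] at hψω
  have h3 : ∑ b ∈ c.support.attach, c b.1 • ((1 : L) ⊗ₜ[K]
      KaehlerDifferential.D ↥(k i) K ((b.1 : B) : K)) = 0 := by
    rw [Finset.sum_attach c.support (fun b => c b • ((1 : L) ⊗ₜ[K]
      KaehlerDifferential.D ↥(k i) K ((b : B) : K)))]
    exact hψω
  let f : {b // b ∈ c.support} → ↥S := fun b => ⟨b.1, hc b.2⟩
  have hf : Function.Injective f := by
    intro b b' h
    apply Subtype.ext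
    exact congrArg (fun z : ↥S => (z : B)) h
  have h4 := (hliL.comp f hf)
  rw [linearIndependent_iff'] at h4
  have h5 := h4 c.support.attach (fun b => c b.1) h3
  have h6 : c = 0 := by
    ext b
    by_cases hb : b ∈ c.support
    · exact h5 ⟨b, hb⟩ (Finset.mem_attach _ _)
    · exact Finsupp.notMem_support_iff.1 hb
  rw [h6, map_zero]

end llevel


section s4546
variable (p : ℕ) [hp : Fact p.Prime] {k₀ K L : Type u} [Field k₀] [Field K] [Field L]
    [Algebra k₀ K] [Algebra K L] [Algebra k₀ L] [IsScalarTower k₀ K L] [CharP K p] [CharP L p]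

/-- the `L`-span of `1 ⊗ D a₀`, `a₀ ∈ G`. -/
noncomputable def Wsub (L : Type u) [Field L] [Algebra K L] [Algebra k₀ L] [IsScalarTower k₀ K L]
    (G : IntermediateField k₀ K) : Submodule L (L ⊗[K] Ω[K⁄k₀]) :=
  Submodule.span L ((fun a : K => (1 : L) ⊗ₜ[K] KaehlerDifferential.D k₀ K a) '' (G : Set K))

theorem Wsub_mono {G G' : IntermediateField k₀ K} (h : G ≤ G') : Wsub L G ≤ Wsub L G' :=
  Submodule.span_mono (Set.image_mono h)

theorem Wsub_le_ker (G : IntermediateField k₀ K) (v : L ⊗[K] Ω[K⁄k₀]) (hv : v ∈ Wsub L G) :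
    ((KaehlerDifferential.map k₀ G K K).restrictScalars K).baseChange L v = 0 := by
  refine Submodule.span_induction ?_ (map_zero _) ?_ ?_ hv
  · rintro _ ⟨a, ha, rfl⟩
    rw [LinearMap.baseChange_tmul]
    have h1 : ((KaehlerDifferential.map k₀ (↥G) K K).restrictScalars K)
        (KaehlerDifferential.D k₀ K a) = 0 := by
      change KaehlerDifferential.map k₀ (↥G) K K (KaehlerDifferential.D k₀ K a) = 0
      rw [KaehlerDifferential.map_D, Algebra.algebraMap_self, RingHom.id_apply]
      have h2 : a = algebraMap ↥G K ⟨a, ha⟩ := rfl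
      rw [h2, Derivation.map_algebraMap]
    rw [h1, TensorProduct.tmul_zero]
  · intro x y _ _ hx hy
    rw [map_add, hx, hy, add_zero]
  · intro c x _ hx
    rw [map_smul, hx, smul_zero]

theorem exists_mem_Wsub (G : IntermediateField k₀ K) (ω : Ω[L⁄k₀])
    (hω : KaehlerDifferential.map k₀ (↥(G.map (IsScalarTower.toAlgHom k₀ K L))) L L ω = 0) :
    ∃ v ∈ Wsub L G, KaehlerDifferential.mapBaseChange k₀ K L v = ω := by
  set G' := G.map (IsScalarTower.toAlgHom k₀ K L) with hG'
  set N : Submodule L (Ω[L⁄k₀]) := (Wsub L G).map (KaehlerDifferential.mapBaseChange k₀ K L) with hN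
  suffices h : ω ∈ N by
    obtain ⟨v, hv, hvω⟩ := h
    exact ⟨v, hv, hvω⟩
  have hs : ∀ s : Ω[↥G'⁄k₀], KaehlerDifferential.map k₀ k₀ (↥G') L s ∈ N := by
    intro s
    have hs' : s ∈ Submodule.span (↥G') (Set.range (KaehlerDifferential.D k₀ ↥G')) := by
      rw [KaehlerDifferential.span_range_derivation]; trivial
    refine Submodule.span_induction ?_ ?_ ?_ ?_ hs'
    · rintro _ ⟨a', rfl⟩
      rw [KaehlerDifferential.map_D]
      obtain ⟨a₀, ha₀, ha'⟩ := (IntermediateField.mem_map G).1 a'.2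
      refine ⟨(1 : L) ⊗ₜ[K] KaehlerDifferential.D k₀ K a₀,
        Submodule.subset_span ⟨a₀, ha₀, rfl⟩, ?_⟩
      rw [KaehlerDifferential.mapBaseChange_tmul, one_smul, KaehlerDifferential.map_D]
      congr 1
    · rw [map_zero]; exact zero_mem _
    · intro x y _ _ hx hy
      rw [map_add]; exact add_mem hx hy
    · intro c x _ hx
      rw [map_smul, ← algebraMap_smul L c]
      exact N.smul_mem _ hx
  have ht : ∀ t, KaehlerDifferential.mapBaseChange k₀ (↥G') L t ∈ N := by
    intro t
    induction t using TensorProduct.induction_on with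
    | zero => rw [map_zero]; exact zero_mem _
    | tmul l s =>
      rw [KaehlerDifferential.mapBaseChange_tmul]
      exact N.smul_mem _ (hs s)
    | add x y hx hy =>
      rw [map_add]
      exact add_mem hx hy
  obtain ⟨t, rfl⟩ := (KaehlerDifferential.exact_mapBaseChange_map k₀ (↥G') L ω).1 hω
  exact ht t

theorem S4546_aux {ι : Type u} [Preorder ι] [IsDirected ι (· ≤ ·)] [Nonempty ι]
    (k : ι → IntermediateField k₀ K) (hk : Antitone k)
    (h : (⨅ i, k i ⊔ IntermediateField.adjoin k₀ (Set.range fun y : K => y ^ p)) =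
      IntermediateField.adjoin k₀ (Set.range fun y : K => y ^ p))
    [Module.Finite L (EGA41.imperfection k₀ K L)] :
    (⨅ i, (k i).map (IsScalarTower.toAlgHom k₀ K L) ⊔
        IntermediateField.adjoin k₀ (Set.range fun y : L => y ^ p)) =
      IntermediateField.adjoin k₀ (Set.range fun y : L => y ^ p) := by
  have hk' : Antitone (fun i => (k i).map (IsScalarTower.toAlgHom k₀ K L)) :=
    fun a b hab => IntermediateField.map_mono _ (hk hab)
  refine (S2475_aux p (fun i => (k i).map (IsScalarTower.toAlgHom k₀ K L)) hk').2 ?_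
  intro ω hω
  obtain ⟨i₁⟩ := ‹Nonempty ι›
  obtain ⟨v₁, hv₁, huv₁⟩ := exists_mem_Wsub (k i₁) ω (hω i₁)
  have hfg : (imperfection k₀ K L ⊔ Submodule.span L {v₁}).FG :=
    Submodule.FG.sup (Module.Finite.iff_fg.1 inferInstance) (Submodule.fg_span_singleton v₁)
  obtain ⟨i₂, hi₂⟩ := exists_index_injOn p k hk h _ hfg
  obtain ⟨c, hc1, hc2⟩ := exists_ge_ge i₁ i₂
  obtain ⟨v, hv, huv⟩ := exists_mem_Wsub (k c) ω (hω c)
  have hvP : v ∈ imperfection k₀ K L ⊔ Submodule.span L {v₁} := by
    have h1 : v = (v - v₁) + v₁ := by abel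
    rw [h1]
    refine add_mem (Submodule.mem_sup_left ?_)
      (Submodule.mem_sup_right (Submodule.mem_span_singleton_self _))
    change _ ∈ LinearMap.ker _
    rw [LinearMap.mem_ker, map_sub, huv, huv₁, sub_self]
  have hv0 : v = 0 := hi₂ v hvP (Wsub_le_ker (k i₂) v (Wsub_mono (hk hc2) hv))
  rw [← huv, hv0, map_zero]

end s4546

end Groth.Agent.Lib.helper25.Adm
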