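import Mathlib
import Groth.Agent.Lib.helper25.Adm2

set_option autoImplicit false
set_option linter.unusedSectionVars false
universe u

namespace Groth.Agent.Lib.helper25.Adm3

open EGA41 Groth.Agent.Lib.helper25.PBasisA Groth.Agent.Lib.helper25.PBasisF
  Groth.Agent.Lib.helper25.PBasisG Groth.Agent.Lib.helper25.PBasisI Groth.Agent.Lib.helper25.Adm
open scoped IntermediateField TensorProduct

section gen
variable (p : ℕ) [hp : Fact p.Prime] {k₀ K L : Type u} [Field k₀] [Field K] [Field L]
    [Algebra k₀ K] [Algebra K L] [Algebra k₀ L] [IsScalarTower k₀ K L] [CharP K p] [CharP L p]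
    (x : K) (α : L) (hα : α ^ p = algebraMap K L x) (htop : Algebra.adjoin K {α} = ⊤)

include hα htop in
theorem pow_mem_map (z : L) :
    z ^ p ∈ (IntermediateField.adjoin k₀ ((Set.range fun y : K => y ^ p) ∪ {x})).map
      (IsScalarTower.toAlgHom k₀ K L) := by
  set M := (IntermediateField.adjoin k₀ ((Set.range fun y : K => y ^ p) ∪ {x})).map
      (IsScalarTower.toAlgHom k₀ K L) with hM
  have hz : z ∈ Algebra.adjoin K {α} := by rw [htop]; trivial
  induction hz using Algebra.adjoin_induction with
  | mem y hy =>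
    rw [Set.mem_singleton_iff] at hy
    rw [hy, hα]
    exact (IntermediateField.mem_map _).2 ⟨x, IntermediateField.subset_adjoin _ _ (Or.inr rfl), rfl⟩
  | algebraMap c =>
    rw [← map_pow]
    exact (IntermediateField.mem_map _).2 ⟨c ^ p,
      IntermediateField.subset_adjoin _ _ (Or.inl ⟨c, rfl⟩), rfl⟩
  | add a b _ _ ha hb =>
    rw [add_pow_char]
    exact add_mem ha hb
  | mul a b _ _ ha hb =>
    rw [mul_pow]
    exact mul_mem ha hb


include hα htop in
theorem isPIndependent_diff (B : Set K) (hxB : x ∈ B)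
    (hB : IsPIndependent p k₀ (Subtype.val : B → K)) :
    IsPIndependent p k₀ (fun b : ↥(B \ {x}) => algebraMap K L b.1) := by
  rw [S4521_aux] at hB ⊢
  intro a hmem
  have hax : (a : K) ≠ x := fun h => a.2.2 h
  apply hB ⟨a.1, a.2.1⟩
  have hle : IntermediateField.adjoin k₀ ((Set.range fun y : L => y ^ p) ∪
      (fun b : ↥(B \ {x}) => algebraMap K L b.1) '' {b | b ≠ a}) ≤
      (IntermediateField.adjoin k₀ ((Set.range fun y : K => y ^ p) ∪
        (Subtype.val : B → K) '' {b | b ≠ ⟨a.1, a.2.1⟩})).map (IsScalarTower.toAlgHom k₀ K L) := by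
    rw [IntermediateField.adjoin_le_iff]
    rintro y (⟨z, rfl⟩ | ⟨b, hb, rfl⟩)
    · have h1 := pow_mem_map (k₀ := k₀) p x α hα htop z
      refine IntermediateField.map_mono _ ?_ h1
      rw [IntermediateField.adjoin_le_iff]
      rintro w (hw | hw)
      · exact IntermediateField.subset_adjoin _ _ (Or.inl hw)
      · rw [Set.mem_singleton_iff] at hw
        refine IntermediateField.subset_adjoin _ _ (Or.inr ⟨⟨x, hxB⟩, ?_, hw.symm⟩)
        intro h
        exact hax (congrArg Subtype.val h).symm
    · refine (IntermediateField.mem_map _).2 ⟨b.1, IntermediateField.subset_adjoin _ _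
        (Or.inr ⟨⟨b.1, b.2.1⟩, ?_, rfl⟩), rfl⟩
      intro h
      have h' : (b : K) = (a : K) := congrArg (Subtype.val : B → K) h
      exact hb (Subtype.ext h')
  obtain ⟨y, hy, hya⟩ := (IntermediateField.mem_map _).1 (hle hmem)
  have : y = a.1 := (algebraMap K L).injective hya
  subst this
  exact hy


include hα in
theorem D_algebraMap_x : KaehlerDifferential.D k₀ L (algebraMap K L x) = 0 := by
  rw [← hα, Derivation.leibniz_pow, ← Nat.cast_smul_eq_nsmul L, CharP.cast_eq_zero L p, zero_smul]

include hα htop in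
theorem imperfection_le_span (hx : x ∉ IntermediateField.adjoin k₀ (Set.range fun y : K => y ^ p)) :
    imperfection k₀ K L ≤
      Submodule.span L {(1 : L) ⊗ₜ[K] KaehlerDifferential.D k₀ K x} := by
  classical
  have hind : IsPIndependent p k₀ (Subtype.val : ↥({x} : Set K) → K) := by
    rw [S4521_aux]
    intro a hin
    apply hx
    have ha : (a : K) = x := a.2
    rw [← ha]
    refine IntermediateField.adjoin.mono k₀ _ _ ?_ hin
    rintro z (hz | ⟨b, hb, -⟩)
    · exact hz
    · exact absurd (Subtype.ext (b.2.trans a.2.symm)) hb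
  obtain ⟨B, hxB', -, hB⟩ := S2467_aux (p := p) (k := k₀) (K := K) Set.univ {x} (Set.subset_univ _)
    isPGenerating_univ hind
  have hxB : x ∈ B := hxB' rfl
  obtain ⟨bΩ, hbΩ⟩ := (S2468_aux (p := p) (k := k₀) (x := (Subtype.val : B → K))).2.2.1 hB
  let bL : Module.Basis B L (L ⊗[K] Ω[K⁄k₀]) := bΩ.baseChange L
  have hli := li_D_of_isPIndependent (p := p) _
    (isPIndependent_diff (k₀ := k₀) p x α hα htop B hxB hB.1)
  intro ω hω
  have hω0 : KaehlerDifferential.mapBaseChange k₀ K L ω = 0 := hω
  set c := bL.repr ω with hc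
  let x' : B := ⟨x, hxB⟩
  have hub : ∀ b : B, KaehlerDifferential.mapBaseChange k₀ K L (bL b) =
      KaehlerDifferential.D k₀ L (algebraMap K L b) := by
    intro b
    rw [Module.Basis.baseChange_apply, KaehlerDifferential.mapBaseChange_tmul, one_smul, hbΩ,
      KaehlerDifferential.map_D]
  have hsum : ∑ b ∈ c.support, c b • KaehlerDifferential.D k₀ L (algebraMap K L b) = 0 := by
    have h1 := bL.linearCombination_repr ω
    rw [Finsupp.linearCombination_apply, Finsupp.sum] at h1
    have h2 := congrArg (KaehlerDifferential.mapBaseChange k₀ K L) h1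
    rw [map_sum, hω0] at h2
    simp only [map_smul, hub] at h2
    exact h2
  have hsum' : ∑ b ∈ c.support.erase x', c b • KaehlerDifferential.D k₀ L (algebraMap K L b) = 0 := by
    rw [Finset.sum_erase _ (by
      change c x' • KaehlerDifferential.D k₀ L (algebraMap K L x) = 0
      rw [D_algebraMap_x (k₀ := k₀) p x α hα, smul_zero])]
    exact hsum
  let f : {b // b ∈ c.support.erase x'} → ↥(B \ {x}) := fun b => ⟨b.1.1, b.1.2, fun h =>
    (Finset.mem_erase.1 b.2).1 (Subtype.ext h)⟩
  have hf : Function.Injective f := by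
    intro b b' h
    apply Subtype.ext
    apply Subtype.ext
    exact congrArg (fun z : ↥(B \ {x}) => (z : K)) h
  have h4 := hli.comp f hf
  rw [linearIndependent_iff'] at h4
  have h3 : ∑ b ∈ (c.support.erase x').attach,
      c b.1 • KaehlerDifferential.D k₀ L (algebraMap K L (b.1 : B)) = 0 := by
    rw [Finset.sum_attach (c.support.erase x')
      (fun b => c b • KaehlerDifferential.D k₀ L (algebraMap K L (b : B)))]
    exact hsum'
  have h5 := h4 (c.support.erase x').attach (fun b => c b.1) h3
  have hsupp : (c.support : Set B) ⊆ {x'} := by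
    intro b hb
    by_contra hne
    have hb' : b ∈ c.support.erase x' := Finset.mem_erase.2 ⟨hne, hb⟩
    have := h5 ⟨b, hb'⟩ (Finset.mem_attach _ _)
    exact (Finsupp.mem_support_iff.1 hb) this
  have h6 := bL.mem_span_repr_support ω
  refine Submodule.span_mono ?_ h6
  rintro _ ⟨b, hb, rfl⟩
  have hbx : b = x' := hsupp hb
  rw [hbx, Set.mem_singleton_iff, Module.Basis.baseChange_apply, hbΩ]


include hα htop in
/-- the key contradiction: in `L = K(x^{1/p})`, condition (b) fails if `x ∈ ⋂ k_i(K^p) ∖ k₀(K^p)`. -/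
theorem not_b {ι : Type u} (k : ι → IntermediateField k₀ K)
    (hx : x ∉ IntermediateField.adjoin k₀ (Set.range fun y : K => y ^ p))
    (hxi : ∀ i, x ∈ k i ⊔ IntermediateField.adjoin k₀ (Set.range fun y : K => y ^ p))
    (hb : Module.Finite L (EGA41.imperfection k₀ K L) →
          ∃ i, ∀ ω ∈ EGA41.imperfection k₀ K L,
            ((KaehlerDifferential.map k₀ (k i) K K).restrictScalars K).baseChange L ω = 0 → ω = 0) :
    False := by
  have hle := imperfection_le_span (k₀ := k₀) p x α hα htop hx
  have hfin : Module.Finite L (EGA41.imperfection k₀ K L) := by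
    have h1 : IsNoetherian L ↥(Submodule.span L
        ({(1 : L) ⊗ₜ[K] KaehlerDifferential.D k₀ K x} : Set (L ⊗[K] Ω[K⁄k₀]))) :=
      isNoetherian_span_of_finite L (Set.finite_singleton _)
    have h2 : IsNoetherian L ↥(EGA41.imperfection k₀ K L) := isNoetherian_of_le hle
    exact Module.IsNoetherian.finite L _
  obtain ⟨i, hi⟩ := hb hfin
  have hmem : (1 : L) ⊗ₜ[K] KaehlerDifferential.D k₀ K x ∈ EGA41.imperfection k₀ K L := by
    change _ ∈ LinearMap.ker _
    rw [LinearMap.mem_ker, KaehlerDifferential.mapBaseChange_tmul, one_smul,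
      KaehlerDifferential.map_D, D_algebraMap_x (k₀ := k₀) p x α hα]
  have hzero : (1 : L) ⊗ₜ[K] KaehlerDifferential.D k₀ K x = 0 := by
    apply hi _ hmem
    rw [LinearMap.baseChange_tmul]
    have h1 : ((KaehlerDifferential.map k₀ (↥(k i)) K K).restrictScalars K)
        (KaehlerDifferential.D k₀ K x) = 0 := by
      change KaehlerDifferential.map k₀ (↥(k i)) K K (KaehlerDifferential.D k₀ K x) = 0
      rw [KaehlerDifferential.map_D, Algebra.algebraMap_self, RingHom.id_apply]
      exact D_eq_zero_of_mem p (k i) x (hxi i)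
    rw [h1, TensorProduct.tmul_zero]
  have hDx : KaehlerDifferential.D k₀ K x ≠ 0 := fun h => hx (mem_of_D_eq_zero p x h)
  have hli : LinearIndependent K (fun _ : Unit => KaehlerDifferential.D k₀ K x) :=
    LinearIndependent.of_subsingleton () hDx
  have hliL : LinearIndependent L (fun _ : Unit => (1 : L) ⊗ₜ[K] KaehlerDifferential.D k₀ K x) :=
    Module.Flat.linearIndependent_one_tmul hli
  exact hliL.ne_zero () hzero

end gen


section main
variable (p : ℕ) [hp : Fact p.Prime] {k₀ K : Type u} [Field k₀] [Field K] [Algebra k₀ K] [CharP K p]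

open Polynomial in
theorem S4545_aux {ι : Type u} [Preorder ι] [IsDirected ι (· ≤ ·)] [Nonempty ι]
    (k : ι → IntermediateField k₀ K) (hk : Antitone k) :
    (⨅ i, k i ⊔ IntermediateField.adjoin k₀ (Set.range fun y : K => y ^ p)) =
        IntermediateField.adjoin k₀ (Set.range fun y : K => y ^ p) ↔
      ∀ (L : Type u) [Field L] [Algebra K L] [Algebra k₀ L] [IsScalarTower k₀ K L],
        Module.Finite L (EGA41.imperfection k₀ K L) →
          ∃ i, ∀ ω ∈ EGA41.imperfection k₀ K L,
            ((KaehlerDifferential.map k₀ (k i) K K).restrictScalars K).baseChange L ω = 0 → ω = 0 := by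
  constructor
  · intro h L _ _ _ _ hfin
    exact exists_index_injOn p k hk h _ (Module.Finite.iff_fg.1 hfin)
  · intro hb
    refine le_antisymm ?_ (le_iInf fun i => le_sup_right)
    intro x hx
    by_contra hxC
    have hxi : ∀ i, x ∈ k i ⊔ IntermediateField.adjoin k₀ (Set.range fun y : K => y ^ p) :=
      fun i => (iInf_le (fun i => k i ⊔ IntermediateField.adjoin k₀
        (Set.range fun y : K => y ^ p)) i) hx
    have hirr : Irreducible (X ^ p - C x : K[X]) := by
      apply X_pow_sub_C_irreducible_of_prime hp.out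
      intro b hb
      apply hxC
      rw [← hb]
      exact IntermediateField.subset_adjoin _ _ ⟨b, rfl⟩
    haveI : Fact (Irreducible (X ^ p - C x : K[X])) := ⟨hirr⟩
    let L := AdjoinRoot (X ^ p - C x : K[X])
    haveI : CharP L p := ((algebraMap K L).charP_iff (algebraMap K L).injective p).1 inferInstance
    have hα : (AdjoinRoot.root (X ^ p - C x : K[X])) ^ p = algebraMap K L x := by
      have h1 := AdjoinRoot.eval₂_root (X ^ p - C x : K[X])
      rw [eval₂_sub, eval₂_pow, eval₂_X, eval₂_C, sub_eq_zero] at h1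
      exact h1
    exact not_b (k₀ := k₀) (L := L) p x (AdjoinRoot.root _) hα AdjoinRoot.adjoinRoot_eq_top k hxC hxi
      (hb L)

end main

end Groth.Agent.Lib.helper25.Adm3
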