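import Mathlib
import Groth.Prelude.Def_Curv2
import Groth.Prelude.Def_Pi1

/-! Geometrically normal proper: geometrically connected iff geometrically irreducible (S7603). -/

universe u

open AlgebraicGeometry CategoryTheory Limits TensorProduct

namespace Groth.Agent.Lib.helper25.GNConn

set_option linter.style.haveILetI false

-- The next two lemmas are copied from helper4's Rat16/FEtNormal (whose import chain is currently
-- broken on main), so that this file depends on Mathlib only.
/-- If the local ring at `x` is a domain, every irreducible component through `x` is the closure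
of the image of the generic point of `Spec 𝒪_{X,x}`. -/
theorem irreducibleComponent_eq_of_isDomain_stalk {X : Scheme.{u}} (x : X)
    [IsDomain (X.presheaf.stalk x)] (Z : Set X) (hZ : Z ∈ irreducibleComponents X) (hxZ : x ∈ Z) :
    Z = closure {X.fromSpecStalk x ⟨⊥, Ideal.isPrime_bot⟩} := by
  have hZcl : IsClosed Z := isClosed_of_mem_irreducibleComponents Z hZ
  have hZirr : IsIrreducible Z := hZ.1
  obtain ⟨η, hη⟩ := QuasiSober.sober hZirr hZcl
  have hηx : η ⤳ x := by
    rw [specializes_iff_mem_closure, hη.def]
    exact hxZ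
  have hmem : η ∈ Set.range (X.fromSpecStalk x) := by
    rw [Scheme.range_fromSpecStalk]
    exact hηx
  obtain ⟨y, rfl⟩ := hmem
  have h1 : (⟨⊥, Ideal.isPrime_bot⟩ : PrimeSpectrum (X.presheaf.stalk x)) ⤳ y := by
    rw [← PrimeSpectrum.le_iff_specializes]
    exact bot_le
  have h2 : X.fromSpecStalk x ⟨⊥, Ideal.isPrime_bot⟩ ⤳ X.fromSpecStalk x y :=
    h1.map (X.fromSpecStalk x).continuous
  have h3 : Z ⊆ closure {X.fromSpecStalk x ⟨⊥, Ideal.isPrime_bot⟩} := by
    rw [← hη.def]
    exact closure_minimal (Set.singleton_subset_iff.2 (specializes_iff_mem_closure.1 h2))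
      isClosed_closure
  exact hZ.eq_of_subset isIrreducible_singleton.closure h3

/-- A connected scheme with finitely many irreducible components all of whose local rings are
domains is irreducible. -/
theorem irreducibleSpace_of_isDomain_stalks {Y : Scheme.{u}} [ConnectedSpace Y]
    (hfin : (irreducibleComponents Y).Finite) (hdom : ∀ y : Y, IsDomain (Y.presheaf.stalk y)) :
    IrreducibleSpace Y := by
  obtain ⟨y₀⟩ : Nonempty Y := inferInstance
  set Z₀ : Set Y := irreducibleComponent y₀ with hZ₀
  have hZ₀mem : Z₀ ∈ irreducibleComponents Y := irreducibleComponent_mem_irreducibleComponents y₀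
  have hdisj : ∀ Z ∈ irreducibleComponents Y, ∀ y : Y, y ∈ Z → y ∈ Z₀ → Z = Z₀ := by
    intro Z hZ y hyZ hyZ₀
    have := hdom y
    rw [irreducibleComponent_eq_of_isDomain_stalk y Z hZ hyZ,
      irreducibleComponent_eq_of_isDomain_stalk y Z₀ hZ₀mem hyZ₀]
  let 𝒯 : Set (Set Y) := {Z | Z ∈ irreducibleComponents Y ∧ Z ≠ Z₀}
  have h𝒯fin : 𝒯.Finite := hfin.subset fun Z hZ => hZ.1
  have hTcl : IsClosed (⋃₀ 𝒯) := by
    rw [Set.sUnion_eq_biUnion]
    exact h𝒯fin.isClosed_biUnion fun Z hZ => isClosed_of_mem_irreducibleComponents Z hZ.1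
  have hcompl : Z₀ = (⋃₀ 𝒯)ᶜ := by
    ext y
    constructor
    · rintro hy ⟨Z, ⟨hZ, hne⟩, hyZ⟩
      exact hne (hdisj Z hZ y hyZ hy)
    · intro hy
      by_contra hyZ₀
      refine hy ⟨irreducibleComponent y, ⟨irreducibleComponent_mem_irreducibleComponents y, ?_⟩,
        mem_irreducibleComponent⟩
      intro h
      exact hyZ₀ (h ▸ mem_irreducibleComponent)
  have hopen : IsOpen Z₀ := by
    rw [hcompl]
    exact hTcl.isOpen_compl
  have hclopen : IsClopen Z₀ := ⟨isClosed_irreducibleComponent, hopen⟩
  have huniv : Z₀ = Set.univ := hclopen.eq_univ ⟨y₀, mem_irreducibleComponent⟩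
  have hirr : IsIrreducible (Set.univ : Set Y) := huniv ▸ isIrreducible_irreducibleComponent
  exact (irreducibleSpace_def Y).2 hirr

theorem S7603_aux (k : Type u) [Field k] (X : Scheme.{u}) [X.Over (Spec (CommRingCat.of k))]
    [IsProper (X ↘ (Spec (CommRingCat.of k)))]
    (hX : ∀ (K : Type u) [Field K] [Algebra k K], Pi1.IsNormalScheme (Curv2.bc k X K)) :
    GeometricallyConnected (X ↘ (Spec (CommRingCat.of k))) ↔
      GeometricallyIrreducible (X ↘ (Spec (CommRingCat.of k))) := by
  constructor
  · intro hc
    refine ⟨fun K _ y Z fst snd H => ?_⟩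
    haveI : ConnectedSpace Z := hc.geometrically_connectedSpace y fst snd H
    obtain ⟨φ, rfl⟩ := Spec.map_surjective y
    letI : Algebra k K := φ.hom.toAlgebra
    let e : Z ≅ Curv2.bc k X K := H.isoPullback
    haveI : IsProper snd := MorphismProperty.of_isPullback H inferInstance
    haveI : IsLocallyNoetherian Z := LocallyOfFiniteType.isLocallyNoetherian snd
    haveI : CompactSpace Z := QuasiCompact.compactSpace_of_compactSpace snd
    haveI : IsNoetherian Z := ⟨⟩
    apply irreducibleSpace_of_isDomain_stalks
    · exact TopologicalSpace.NoetherianSpace.finite_irreducibleComponents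
    · intro z
      haveI := (hX K (e.hom z)).1
      have hbij := ConcreteCategory.bijective_of_isIso (e.hom.stalkMap z)
      let ε : (Curv2.bc k X K).presheaf.stalk (e.hom z) ≃+* Z.presheaf.stalk z :=
        RingEquiv.ofBijective (e.hom.stalkMap z).hom hbij
      exact Function.Injective.isDomain ε.symm.toRingHom ε.symm.injective
  · intro hi
    refine ⟨fun K _ y Z fst snd H => ?_⟩
    haveI : IrreducibleSpace Z := hi.geometrically_irreducibleSpace y fst snd H
    infer_instance

end Groth.Agent.Lib.helper25.GNConn
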