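import Mathlib
import Groth.Prelude.Def_Curv2
import Groth.Agent.Lib.helper25.VarBC4
import Groth.Agent.Lib.helper6.CplFib

/-! Smooth implies geometrically reduced/regular; flat descent of geometric regularity
(S1628, S1563) (helper25). -/

universe u

open AlgebraicGeometry CategoryTheory Limits TensorProduct

namespace Groth.Agent.Lib.helper25.VarBC

set_option linter.style.haveILetI false
attribute [local instance] Curv2.stalkAlgebra
attribute [-instance] Groth.Agent.Lib.helper19.JacLocal.instFormallySmoothRingExt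

theorem geomReduced_of_geomReg (k A : Type u) [Field k] [CommRing A] [Algebra k A]
    (h : CAlg.IsGeometricallyRegular k A) : Algebra.IsGeometricallyReduced k A := by
  apply geomReduced_of_pi
  intro k' _ _ hfin _
  haveI := h k' hfin
  exact Groth.Agent.Lib.helper6.CplFib.isReduced_of_isRegularRing _

theorem S1628_aux (k : Type u) [Field k] (X : Scheme.{u}) [X.Over (Spec (CommRingCat.of k))]
    [Smooth (X ↘ (Spec (CommRingCat.of k)))] :
    GeometricallyReduced (X ↘ (Spec (CommRingCat.of k))) ∧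
      ∀ x : X, Curv2.IsGeomRegularAt k X x := by
  have h : ∀ x, Curv2.IsGeomRegularAt k X x := fun x =>
    (S1562_aux k X x).mpr (by rw [Scheme.Hom.smoothLocus_eq_top]; trivial)
  refine ⟨?_, h⟩
  haveI : IsLocallyNoetherian X :=
    LocallyOfFiniteType.isLocallyNoetherian (X ↘ Spec (CommRingCat.of k))
  apply Groth.Agent.S1544.geometricallyReduced_of_geomReducedAt
  intro x
  rw [Groth.Agent.S1541.result]
  exact geomReduced_of_geomReg k _ ((geomRegularAt_iff_stalk k X x).mp (h x))

/-- Geometric regularity descends along faithfully flat maps. -/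
theorem geomReg_descent_flat (k A B : Type u) [Field k] [CommRing A] [CommRing B] [Algebra k A]
    [Algebra k B] [Algebra A B] [IsScalarTower k A B] [IsNoetherianRing A]
    [Module.FaithfullyFlat A B] (h : CAlg.IsGeometricallyRegular k B) :
    CAlg.IsGeometricallyRegular k A := by
  intro k' _ _ hfin
  haveI := hfin
  haveI := h k' hfin
  haveI : IsNoetherianRing (k' ⊗[k] A) :=
    Groth.Agent.Lib.helper25.GeomReg.isNoetherianRing_tensor_of_essFiniteType k A k'
  haveI : IsNoetherianRing (A ⊗[k] k') :=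
    isNoetherianRing_of_ringEquiv (k' ⊗[k] A) (Algebra.TensorProduct.comm k k' A).toRingEquiv
  let e1 : (A ⊗[k] k') ⊗[A] B ≃+* B ⊗[A] (A ⊗[k] k') :=
    (Algebra.TensorProduct.comm A (A ⊗[k] k') B).toRingEquiv
  let e2 : B ⊗[A] (A ⊗[k] k') ≃+* B ⊗[k] k' :=
    (Algebra.TensorProduct.cancelBaseChange k A B B k').toRingEquiv
  let e3 : B ⊗[k] k' ≃+* k' ⊗[k] B := (Algebra.TensorProduct.comm k B k').toRingEquiv
  haveI : IsRegularRing ((A ⊗[k] k') ⊗[A] B) :=
    IsRegularRing.of_ringEquiv ((e1.trans e2).trans e3).symm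
  haveI : IsRegularRing (A ⊗[k] k') :=
    Groth.Agent.Lib.helper25.GeomReg.isRegularRing_of_faithfullyFlat (A ⊗[k] k')
      ((A ⊗[k] k') ⊗[A] B)
  exact IsRegularRing.of_ringEquiv (Algebra.TensorProduct.comm k A k').toRingEquiv

theorem stalkMap_tower (k : Type u) [Field k] (X Y : Scheme.{u})
    [X.Over (Spec (CommRingCat.of k))] [Y.Over (Spec (CommRingCat.of k))] (f : X ⟶ Y)
    (hf : f ≫ (Y ↘ (Spec (CommRingCat.of k))) = X ↘ (Spec (CommRingCat.of k))) (x : X) :
    (f.stalkMap x).hom.comp (Curv2.stalkMap k Y (f.base x)) = Curv2.stalkMap k X x := by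
  ext r
  simp only [Curv2.stalkMap, Coh.toGlobal, RingHom.comp_apply]
  rw [← hf]
  simp only [Scheme.Hom.comp_appTop, CommRingCat.hom_comp, RingHom.comp_apply]
  exact Scheme.Hom.germ_stalkMap_apply f ⊤ x trivial _

theorem S1563_aux (k : Type u) [Field k] (X Y : Scheme.{u}) [X.Over (Spec (CommRingCat.of k))]
    [Y.Over (Spec (CommRingCat.of k))]
    [IsLocallyNoetherian X] [IsLocallyNoetherian Y] (f : X ⟶ Y)
    (hf : f ≫ (Y ↘ (Spec (CommRingCat.of k))) = X ↘ (Spec (CommRingCat.of k)))
    (x : X) (hflat : (f.stalkMap x).hom.Flat) (hx : Curv2.IsGeomRegularAt k X x) :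
    Curv2.IsGeomRegularAt k Y (f.base x) := by
  rw [geomRegularAt_iff_stalk] at hx ⊢
  letI : Algebra (Y.presheaf.stalk (f.base x)) (X.presheaf.stalk x) :=
    (f.stalkMap x).hom.toAlgebra
  haveI : IsScalarTower k (Y.presheaf.stalk (f.base x)) (X.presheaf.stalk x) :=
    IsScalarTower.of_algebraMap_eq (fun r =>
      (RingHom.congr_fun (stalkMap_tower k X Y f hf x) r).symm)
  haveI : Module.Flat (Y.presheaf.stalk (f.base x)) (X.presheaf.stalk x) := hflat
  haveI : IsLocalHom (algebraMap (Y.presheaf.stalk (f.base x)) (X.presheaf.stalk x)) :=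
    inferInstanceAs (IsLocalHom (f.stalkMap x).hom)
  haveI : Module.FaithfullyFlat (Y.presheaf.stalk (f.base x)) (X.presheaf.stalk x) :=
    Module.FaithfullyFlat.of_flat_of_isLocalHom
  exact geomReg_descent_flat k _ _ hx

end Groth.Agent.Lib.helper25.VarBC
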