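import Mathlib
import Groth.Prelude.Def_Curv2
import Groth.Agent.Lib.helper25.VarBC9
import Groth.Agent.Lib.helper25.GNConn
import Groth.Agent.Lib.helper7.CommonPt
import Groth.Agent.S7596
import Groth.Agent.S5342
import Groth.Agent.S2757

/-! A variety with a smooth rational point is geometrically integral (S7613) (helper25). -/

universe u

open AlgebraicGeometry CategoryTheory Limits TensorProduct

namespace Groth.Agent.Lib.helper25.GInt

set_option linter.style.haveILetI false
attribute [local instance] Curv2.stalkAlgebra
attribute [-instance] Groth.Agent.Lib.helper19.JacLocal.instFormallySmoothRingExt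

/-- Local rings of a scheme smooth over a field are domains. -/
theorem isDomain_stalk_of_smooth (K : Type u) [Field K] (W : Scheme.{u})
    [W.Over (Spec (CommRingCat.of K))] [Smooth (W ↘ (Spec (CommRingCat.of K)))] (z : W) :
    IsDomain (W.presheaf.stalk z) := by
  haveI : LocallyOfFiniteType (W ↘ (Spec (CommRingCat.of K))) := inferInstance
  haveI : IsLocallyNoetherian W :=
    LocallyOfFiniteType.isLocallyNoetherian (W ↘ Spec (CommRingCat.of K))
  have h1 := (Groth.Agent.Lib.helper25.VarBC.S1628_aux K W).2 z
  have h2 := (Groth.Agent.Lib.helper25.VarBC.geomRegularAt_iff_stalk K W z).mp h1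
  haveI h3 : IsRegularRing (K ⊗[K] (W.presheaf.stalk z)) := h2 K inferInstance
  haveI : IsRegularRing (W.presheaf.stalk z) :=
    IsRegularRing.of_ringEquiv (Algebra.TensorProduct.lid K (W.presheaf.stalk z)).toRingEquiv
  haveI : IsRegularLocalRing (W.presheaf.stalk z) :=
    IsRegularLocalRing.of_isRegularRing_of_isLocalRing _
  exact Groth.Agent.H5.RegLoc.isDomain _

theorem S7613_aux (k : Type u) [Field k] (X : Scheme.{u}) [X.Over (Spec (CommRingCat.of k))]
    [IsIntegral X]
    [LocallyOfFiniteType (X ↘ (Spec (CommRingCat.of k)))]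
    [QuasiCompact (X ↘ (Spec (CommRingCat.of k)))]
    (x : ↥X) (hx : Function.Surjective (Curv2.resMap k X x))
    (hsm : x ∈ (X ↘ (Spec (CommRingCat.of k))).smoothLocus) :
    GeometricallyIntegral (X ↘ (Spec (CommRingCat.of k))) := by
  haveI : LocallyOfFinitePresentation (X ↘ (Spec (CommRingCat.of k))) :=
    LocallyOfFinitePresentation.iff_locallyOfFiniteType.mpr inferInstance
  set f := X ↘ Spec (CommRingCat.of k) with hf
  let U : X.Opens := f.smoothLocus
  have hUd : Dense (U : Set X) := U.isOpen.dense ⟨x, hsm⟩
  haveI : GeometricallyReduced f :=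
    Groth.Agent.Lib.helper25.VarBC.geometricallyReduced_of_dense_smoothLocus k X hUd
  haveI : GeometricallyIrreducible f := by
    refine ⟨fun K _ y Z fst snd H => ?_⟩
    haveI hsmU : Smooth (U.ι ≫ f) := Groth.Agent.S2757.smooth_smoothLocus_ι _
    -- the section
    let σ := X.fromSpecResidueField x
    have hσ : σ ≫ f = Spec.map (CommRingCat.ofHom (Curv2.resMap k X x)) :=
      Groth.Agent.S7596.comp_eq_SpecMap_resMap k X x
    haveI : IsIso (σ ≫ f) := by
      rw [hσ]
      have hbij : Function.Bijective (Curv2.resMap k X x) := ⟨RingHom.injective _, hx⟩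
      have : IsIso (CommRingCat.ofHom (Curv2.resMap k X x)) := by
        rw [ConcreteCategory.isIso_iff_bijective]
        exact hbij
      infer_instance
    let s : Spec (CommRingCat.of k) ⟶ X := inv (σ ≫ f) ≫ σ
    have hs : s ≫ f = 𝟙 _ := by
      show (inv (σ ≫ f) ≫ σ) ≫ f = 𝟙 _
      rw [Category.assoc, IsIso.inv_hom_id]
    have hrange : Set.range s ⊆ Set.range U.ι := by
      rw [Scheme.Opens.range_ι]
      rintro _ ⟨a, rfl⟩
      have h1 : s a ∈ Set.range σ := ⟨(inv (σ ≫ f)) a, by
        show σ ((inv (σ ≫ f)) a) = (inv (σ ≫ f) ≫ σ) a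
        rw [Scheme.Hom.comp_apply]⟩
      rw [Scheme.range_fromSpecResidueField] at h1
      rw [Set.mem_singleton_iff.mp h1]
      exact hsm
    let sU : Spec (CommRingCat.of k) ⟶ U := IsOpenImmersion.lift U.ι s hrange
    have hsU : sU ≫ (U.ι ≫ f) = 𝟙 _ := by
      rw [← Category.assoc, IsOpenImmersion.lift_fac, hs]
    haveI : Nonempty U := ⟨⟨x, hsm⟩⟩
    haveI : IsIntegral U := inferInstance
    haveI : ConnectedSpace U := inferInstance
    haveI : ConnectedSpace (Spec (CommRingCat.of K)) := inferInstance
    haveI hconn : ConnectedSpace ↥(pullback (U.ι ≫ f) y) :=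
      Groth.Agent.S5342.result k U (Spec (CommRingCat.of K)) (U.ι ≫ f) y sU hsU
    let W : Z.Opens := fst ⁻¹ᵁ U
    have HW : IsPullback (fst ∣_ U) W.ι U.ι fst := isPullback_morphismRestrict fst U
    have HW2 : IsPullback (fst ∣_ U) (W.ι ≫ snd) (U.ι ≫ f) y := HW.paste_vert H
    let e : W.toScheme ≅ pullback (U.ι ≫ f) y := HW2.isoPullback
    haveI : ConnectedSpace W := by
      have hsurj : Function.Surjective e.inv := e.inv.surjective
      exact hsurj.connectedSpace e.inv.continuous
    haveI : Smooth (W.ι ≫ snd) := MorphismProperty.of_isPullback HW2 hsmU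
    letI : W.toScheme.Over (Spec (CommRingCat.of K)) := ⟨W.ι ≫ snd⟩
    haveI : Smooth (W.toScheme ↘ Spec (CommRingCat.of K)) := ‹Smooth (W.ι ≫ snd)›
    -- noetherian
    haveI : LocallyOfFiniteType snd := MorphismProperty.of_isPullback H inferInstance
    haveI : QuasiCompact snd := MorphismProperty.of_isPullback H inferInstance
    haveI : IsLocallyNoetherian Z := LocallyOfFiniteType.isLocallyNoetherian snd
    haveI : CompactSpace Z := QuasiCompact.compactSpace_of_compactSpace snd
    haveI : IsNoetherian Z := ⟨⟩
    haveI : TopologicalSpace.NoetherianSpace Z := inferInstance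
    haveI : TopologicalSpace.NoetherianSpace W := TopologicalSpace.NoetherianSpace.set _
    haveI : IrreducibleSpace W := by
      apply Groth.Agent.Lib.helper25.GNConn.irreducibleSpace_of_isDomain_stalks
      · exact TopologicalSpace.NoetherianSpace.finite_irreducibleComponents
      · intro z
        exact isDomain_stalk_of_smooth K W z
    -- density
    haveI : Flat y := Groth.Agent.Lib.helper7.CommonPt.flat_of_field y
    haveI : Flat fst := MorphismProperty.of_isPullback H.flip inferInstance
    have hirr : IsIrreducible (W : Set Z) := by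
      have := (IrreducibleSpace.isIrreducible_univ W).image W.ι W.ι.continuous.continuousOn
      rw [Set.image_univ, Scheme.Opens.range_ι] at this
      exact this
    have hdense : closure (W : Set Z) = Set.univ := by
      apply Set.eq_univ_of_forall
      intro z
      have hη : genericPoint X ∈ U :=
        ((genericPoint_spec X).specializes (Set.mem_univ x)).mem_open U.isOpen hsm
      have hs : genericPoint X ⤳ fst z := (genericPoint_spec X).specializes (Set.mem_univ _)
      obtain ⟨z', hz', hfz'⟩ := (Flat.generalizingMap (f := fst)) hs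
      refine hz'.mem_closed isClosed_closure (subset_closure ?_)
      show fst z' ∈ U
      rw [hfz']
      exact hη
    exact (irreducibleSpace_def Z).mpr (by
      show IsIrreducible (Set.univ : Set Z)
      rw [← hdense]; exact hirr.closure)
  exact GeometricallyIntegral.of_geometricallyReduced_of_geometricallyIrreducible f

end Groth.Agent.Lib.helper25.GInt
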