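import Mathlib
import Groth.Prelude.Def_AlgSp3
import Groth.Prelude.Def_AlgSp2
import Groth.Agent.Lib.helper25.GInt

/-! Smooth algebraic spaces over a field are regular (S10489) (helper25). -/

universe u

open AlgebraicGeometry CategoryTheory Limits TensorProduct

namespace Groth.Agent.Lib.helper25.AlgSpReg

set_option linter.style.haveILetI false
attribute [local instance] Curv2.stalkAlgebra
attribute [-instance] Groth.Agent.Lib.helper19.JacLocal.instFormallySmoothRingExt

/-- Local rings of a scheme smooth over a field are regular. -/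
theorem isRegularLocalRing_stalk_of_smooth (K : Type u) [Field K] (W : Scheme.{u})
    [W.Over (Spec (CommRingCat.of K))] [Smooth (W ↘ (Spec (CommRingCat.of K)))] (z : W) :
    IsRegularLocalRing (W.presheaf.stalk z) := by
  haveI : LocallyOfFiniteType (W ↘ (Spec (CommRingCat.of K))) := inferInstance
  haveI : IsLocallyNoetherian W :=
    LocallyOfFiniteType.isLocallyNoetherian (W ↘ Spec (CommRingCat.of K))
  have h1 := (Groth.Agent.Lib.helper25.VarBC.S1628_aux K W).2 z
  have h2 := (Groth.Agent.Lib.helper25.VarBC.geomRegularAt_iff_stalk K W z).mp h1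
  haveI h3 : IsRegularRing (K ⊗[K] (W.presheaf.stalk z)) := h2 K inferInstance
  haveI : IsRegularRing (W.presheaf.stalk z) :=
    IsRegularRing.of_ringEquiv (Algebra.TensorProduct.lid K (W.presheaf.stalk z)).toRingEquiv
  exact IsRegularLocalRing.of_isRegularRing_of_isLocalRing _

theorem S10489_aux (k : Type u) [Field k] (X : AlgSp.Space (Spec (CommRingCat.of k)))
    (p : X.obj ⟶ (AlgSp.yon (Spec (CommRingCat.of k))).obj (Over.mk (𝟙 _)))
    (hp : AlgSp.LocP @Smooth p) :
    AlgSp.EtaleLocally (fun U => IsLocallyNoetherian U ∧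
      ∀ u : ↥U, IsRegularLocalRing ↥(U.presheaf.stalk u)) X.obj := by
  obtain ⟨U, a, ha1, ha2⟩ := X.property.atlas
  refine ⟨U, a, ha1, ha2, ?_⟩
  obtain ⟨h', hh'⟩ := (AlgSp.yon (Spec (CommRingCat.of k))).map_surjective (a ≫ p)
  have hsm : Smooth h'.left :=
    hp a (𝟙 _) h' ha1 (AlgSp.repWith_id _ _) (by rw [hh', Category.comp_id])
  have hleft : h'.left = U.hom := by
    have := Over.w h'
    simpa using this
  rw [hleft] at hsm
  letI : U.left.Over (Spec (CommRingCat.of k)) := ⟨U.hom⟩
  haveI : Smooth (U.left ↘ Spec (CommRingCat.of k)) := hsm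
  haveI : LocallyOfFiniteType (U.left ↘ (Spec (CommRingCat.of k))) := inferInstance
  exact ⟨LocallyOfFiniteType.isLocallyNoetherian (U.left ↘ Spec (CommRingCat.of k)),
    fun u => isRegularLocalRing_stalk_of_smooth k U.left u⟩

end Groth.Agent.Lib.helper25.AlgSpReg
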