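import Mathlib
import Groth.Prelude.Def_W4c4lgringredgrpLG

/-!
Helper library (helper25): LG-rings.  Main result `exists_surjective`: over an LG-ring, if `M`, `N`
are finite projective with `rank N ≤ rank M` at all maximal ideals, there is a surjection `M → N`.
-/

namespace Groth.Agent.Lib.helper25.LG

open LGRing Module TensorProduct

universe u v w

variable {R : Type u} [CommRing R]

lemma lg_fintype (hR : IsLGRing R) {σ : Type} [Finite σ] (f : MvPolynomial σ R)
    (h : ∀ (m : Ideal R) [m.IsMaximal], RepresentsUnit f (R ⧸ m)) : RepresentsUnit f R := by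
  classical
  obtain ⟨n, ⟨e⟩⟩ := Finite.exists_equiv_fin σ
  have key : ∀ (S : Type u) [CommRing S] [Algebra R S],
      RepresentsUnit (MvPolynomial.rename e f) S ↔ RepresentsUnit f S := by
    intro S _ _
    constructor
    · rintro ⟨s, hs⟩
      refine ⟨s ∘ e, ?_⟩
      rwa [MvPolynomial.aeval_rename] at hs
    · rintro ⟨s, hs⟩
      refine ⟨s ∘ e.symm, ?_⟩
      rw [MvPolynomial.aeval_rename]
      have : (s ∘ e.symm) ∘ e = s := by
        funext i; simp
      rwa [this]
  exact (key R).1 (hR n _ fun m _ => (key (R ⧸ m)).2 (h m))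

/-- The determinant whose invertibility expresses that `EN x EM y EN` is invertible on the image
of the idempotent `EN`. -/
noncomputable def D {S : Type*} [CommRing S] {n k : ℕ} (EM : Matrix (Fin n) (Fin n) S)
    (EN : Matrix (Fin k) (Fin k) S) (x : Matrix (Fin k) (Fin n) S) (y : Matrix (Fin n) (Fin k) S) : S :=
  (1 - EN + EN * x * EM * y * EN).det

lemma map_D {S S' : Type*} [CommRing S] [CommRing S'] (g : S →+* S') {n k : ℕ}
    (EM : Matrix (Fin n) (Fin n) S)
    (EN : Matrix (Fin k) (Fin k) S) (x : Matrix (Fin k) (Fin n) S) (y : Matrix (Fin n) (Fin k) S) :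
    g (D EM EN x y) = D (EM.map g) (EN.map g) (x.map g) (y.map g) := by
  unfold D
  rw [RingHom.map_det, RingHom.mapMatrix_apply]
  congr 1
  simp [Matrix.map_add, Matrix.map_sub, Matrix.map_mul]

/-- The polynomial. -/
noncomputable def F {n k : ℕ} (EM : Matrix (Fin n) (Fin n) R) (EN : Matrix (Fin k) (Fin k) R) :
    MvPolynomial ((Fin k × Fin n) ⊕ (Fin n × Fin k)) R :=
  D (EM.map MvPolynomial.C) (EN.map MvPolynomial.C)
    (Matrix.of fun i j => MvPolynomial.X (Sum.inl (i, j)))
    (Matrix.of fun i j => MvPolynomial.X (Sum.inr (i, j)))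

lemma aeval_F {S : Type*} [CommRing S] [Algebra R S] {n k : ℕ} (EM : Matrix (Fin n) (Fin n) R)
    (EN : Matrix (Fin k) (Fin k) R) (s : (Fin k × Fin n) ⊕ (Fin n × Fin k) → S) :
    MvPolynomial.aeval s (F EM EN) = D (EM.map (algebraMap R S)) (EN.map (algebraMap R S))
      (Matrix.of fun i j => s (Sum.inl (i, j))) (Matrix.of fun i j => s (Sum.inr (i, j))) := by
  have := map_D (MvPolynomial.aeval s : MvPolynomial _ R →ₐ[R] S).toRingHom
    (EM.map MvPolynomial.C) (EN.map MvPolynomial.C)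
    (Matrix.of fun i j => MvPolynomial.X (Sum.inl (i, j)))
    (Matrix.of fun i j => MvPolynomial.X (Sum.inr (i, j)))
  unfold F
  refine this.trans ?_
  congr 1 <;> ext i j <;> simp

section part1

variable {M : Type v} [AddCommGroup M] [Module R M] {N : Type w} [AddCommGroup N] [Module R N]

lemma surj_of_unit {n k : ℕ} (pM : (Fin n → R) →ₗ[R] M) (sM : M →ₗ[R] (Fin n → R))
    (pN : (Fin k → R) →ₗ[R] N) (sN : N →ₗ[R] (Fin k → R))
    (hN : pN ∘ₗ sN = LinearMap.id)
    (x : Matrix (Fin k) (Fin n) R) (y : Matrix (Fin n) (Fin k) R)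
    (hu : IsUnit (D (LinearMap.toMatrix' (sM ∘ₗ pM)) (LinearMap.toMatrix' (sN ∘ₗ pN)) x y)) :
    Function.Surjective (pN ∘ₗ Matrix.toLin' x ∘ₗ sM) := by
  set EM := LinearMap.toMatrix' (sM ∘ₗ pM) with hEM
  set EN := LinearMap.toMatrix' (sN ∘ₗ pN) with hEN
  set A : Matrix (Fin k) (Fin k) R := 1 - EN + EN * x * EM * y * EN with hA
  have hAu : IsUnit A := (Matrix.isUnit_iff_isUnit_det A).2 hu
  have hpN : ∀ w, pN (sN w) = w := fun w => by
    have := congrArg (fun f => f w) hN
    simpa using this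
  have hlin : Matrix.toLin' A = LinearMap.id - sN ∘ₗ pN +
      (sN ∘ₗ pN) ∘ₗ Matrix.toLin' x ∘ₗ (sM ∘ₗ pM) ∘ₗ Matrix.toLin' y ∘ₗ (sN ∘ₗ pN) := by
    rw [hA, map_add, map_sub, Matrix.toLin'_one, Matrix.toLin'_mul, Matrix.toLin'_mul,
      Matrix.toLin'_mul, Matrix.toLin'_mul, hEN, hEM, Matrix.toLin'_toMatrix',
      Matrix.toLin'_toMatrix']
    simp only [LinearMap.comp_assoc]
  intro v
  obtain ⟨B, hB⟩ := hAu.exists_right_inv
  let w : Fin k → R := Matrix.toLin' B (sN v)
  have hw : Matrix.toLin' A w = sN v := by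
    simp only [w]
    rw [← LinearMap.comp_apply, ← Matrix.toLin'_mul, hB, Matrix.toLin'_one]
    rfl
  refine ⟨pM (Matrix.toLin' y (sN (pN w))), ?_⟩
  have h1 : pN (Matrix.toLin' A w) = v := by rw [hw, hpN]
  rw [hlin] at h1
  simp only [LinearMap.add_apply, LinearMap.sub_apply, LinearMap.comp_apply, LinearMap.id_apply,
    map_add, map_sub, hpN] at h1
  simpa using h1

end part1

section part2

variable {M : Type v} [AddCommGroup M] [Module R M] {N : Type w} [AddCommGroup N] [Module R N]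

lemma residue_rep (κ : Type*) [Field κ] [Algebra R κ] {n k : ℕ}
    (pM : (Fin n → R) →ₗ[R] M) (sM : M →ₗ[R] (Fin n → R)) (hM : pM ∘ₗ sM = LinearMap.id)
    (pN : (Fin k → R) →ₗ[R] N) (sN : N →ₗ[R] (Fin k → R)) (hN : pN ∘ₗ sN = LinearMap.id)
    (hrank : finrank κ (κ ⊗[R] N) ≤ finrank κ (κ ⊗[R] M)) :
    ∃ (x : Matrix (Fin k) (Fin n) κ) (y : Matrix (Fin n) (Fin k) κ),
      D ((LinearMap.toMatrix' (sM ∘ₗ pM)).map (algebraMap R κ))
        ((LinearMap.toMatrix' (sN ∘ₗ pN)).map (algebraMap R κ)) x y = 1 := by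
  classical
  have : Module.Finite R M := Module.Finite.of_surjective pM (fun v => ⟨sM v, by
    have := congrArg (fun f => f v) hM; simpa using this⟩)
  have : Module.Finite R N := Module.Finite.of_surjective pN (fun v => ⟨sN v, by
    have := congrArg (fun f => f v) hN; simpa using this⟩)
  -- injective map θ with left inverse θ'
  obtain ⟨θ, hθ⟩ : ∃ θ : (κ ⊗[R] N) →ₗ[κ] (κ ⊗[R] M), Function.Injective θ := by
    rw [← lift_rank_le_iff_exists_linearMap, ← finrank_eq_rank, ← finrank_eq_rank]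
    simp only [Cardinal.lift_natCast, Nat.cast_le]
    exact hrank
  obtain ⟨θ', hθ'⟩ := θ.exists_leftInverse_of_injective (LinearMap.ker_eq_bot.2 hθ)
  let bV := Algebra.TensorProduct.basis κ (Pi.basisFun R (Fin n))
  let bW := Algebra.TensorProduct.basis κ (Pi.basisFun R (Fin k))
  have hM' : pM.baseChange κ ∘ₗ sM.baseChange κ = LinearMap.id := by
    rw [← LinearMap.baseChange_comp, hM, LinearMap.baseChange_id]
  have hN' : pN.baseChange κ ∘ₗ sN.baseChange κ = LinearMap.id := by
    rw [← LinearMap.baseChange_comp, hN, LinearMap.baseChange_id]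
  let a' : (κ ⊗[R] (Fin n → R)) →ₗ[κ] (κ ⊗[R] (Fin k → R)) :=
    sN.baseChange κ ∘ₗ θ' ∘ₗ pM.baseChange κ
  let b' : (κ ⊗[R] (Fin k → R)) →ₗ[κ] (κ ⊗[R] (Fin n → R)) :=
    sM.baseChange κ ∘ₗ θ ∘ₗ pN.baseChange κ
  have hEN : (LinearMap.toMatrix' (sN ∘ₗ pN)).map (algebraMap R κ) =
      LinearMap.toMatrix bW bW ((sN ∘ₗ pN).baseChange κ) := by
    rw [LinearMap.toMatrix_baseChange, LinearMap.toMatrix_eq_toMatrix']
  have hEM : (LinearMap.toMatrix' (sM ∘ₗ pM)).map (algebraMap R κ) =
      LinearMap.toMatrix bV bV ((sM ∘ₗ pM).baseChange κ) := by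
    rw [LinearMap.toMatrix_baseChange, LinearMap.toMatrix_eq_toMatrix']
  refine ⟨LinearMap.toMatrix bV bW a', LinearMap.toMatrix bW bV b', ?_⟩
  unfold D
  rw [hEN, hEM, ← LinearMap.toMatrix_comp, ← LinearMap.toMatrix_comp, ← LinearMap.toMatrix_comp,
    ← LinearMap.toMatrix_comp]
  have hcomp : (((((sN ∘ₗ pN).baseChange κ) ∘ₗ a') ∘ₗ ((sM ∘ₗ pM).baseChange κ)) ∘ₗ b') ∘ₗ
      ((sN ∘ₗ pN).baseChange κ) = (sN ∘ₗ pN).baseChange κ := by
    simp only [LinearMap.baseChange_comp, a', b']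
    refine LinearMap.ext fun v => ?_
    have e1 : ∀ z, pN.baseChange κ (sN.baseChange κ z) = z := fun z => by
      have := congrArg (fun f => f z) hN'; simpa using this
    have e2 : ∀ z, pM.baseChange κ (sM.baseChange κ z) = z := fun z => by
      have := congrArg (fun f => f z) hM'; simpa using this
    have e3 : ∀ z, θ' (θ z) = z := fun z => by
      have := congrArg (fun f => f z) hθ'; simpa using this
    simp only [LinearMap.comp_apply, e1, e2, e3]
  rw [hcomp]
  simp

end part2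

section main

lemma finrank_residue (m : Ideal R) [hm : m.IsMaximal] (N : Type w) [AddCommGroup N] [Module R N]
    [Module.Finite R N] [Module.Projective R N] :
    letI : Field (R ⧸ m) := Ideal.Quotient.field m
    finrank (R ⧸ m) ((R ⧸ m) ⊗[R] N) = rankAtStalk N ⟨m, hm.isPrime⟩ := by
  let _ : Field (R ⧸ m) := Ideal.Quotient.field m
  have h1 := rankAtStalk_baseChange (R := R) (M := N) (S := R ⧸ m) ⟨⊥, Ideal.isPrime_bot⟩
  have h2 : rankAtStalk (R := R ⧸ m) ((R ⧸ m) ⊗[R] N) = finrank (R ⧸ m) ((R ⧸ m) ⊗[R] N) :=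
    rankAtStalk_eq_finrank_of_free
  rw [h2] at h1
  simp only [Pi.natCast_def, Nat.cast_id] at h1
  rw [h1]
  congr 1
  ext1
  simp [Ideal.Quotient.algebraMap_eq, ← RingHom.ker_eq_comap_bot, Ideal.mk_ker]

theorem exists_surjective (hR : IsLGRing R) (M : Type v) (N : Type w) [AddCommGroup M] [Module R M]
    [Module.Finite R M] [Module.Projective R M] [AddCommGroup N] [Module R N] [Module.Finite R N]
    [Module.Projective R N]
    (h : ∀ (m : Ideal R) [hm : m.IsMaximal],
      rankAtStalk N ⟨m, hm.isPrime⟩ ≤ rankAtStalk M ⟨m, hm.isPrime⟩) :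
    ∃ φ : M →ₗ[R] N, Function.Surjective φ := by
  classical
  obtain ⟨n, pM, hpM⟩ := Module.Finite.exists_fin' R M
  obtain ⟨sM, hsM⟩ := Module.projective_lifting_property pM LinearMap.id hpM
  obtain ⟨k, pN, hpN⟩ := Module.Finite.exists_fin' R N
  obtain ⟨sN, hsN⟩ := Module.projective_lifting_property pN LinearMap.id hpN
  have hres : ∀ (m : Ideal R) [m.IsMaximal], RepresentsUnit
      (F (LinearMap.toMatrix' (sM ∘ₗ pM)) (LinearMap.toMatrix' (sN ∘ₗ pN))) (R ⧸ m) := by
    intro m hm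
    let _ : Field (R ⧸ m) := Ideal.Quotient.field m
    obtain ⟨x, y, hxy⟩ := residue_rep (R ⧸ m) pM sM hsM pN sN hsN (by
      rw [finrank_residue m N, finrank_residue m M]; exact h m)
    refine ⟨Sum.elim (fun ij => x ij.1 ij.2) (fun ij => y ij.1 ij.2), ?_⟩
    rw [aeval_F]
    have : IsUnit (D ((LinearMap.toMatrix' (sM ∘ₗ pM)).map (algebraMap R (R ⧸ m)))
        ((LinearMap.toMatrix' (sN ∘ₗ pN)).map (algebraMap R (R ⧸ m))) x y) := by
      rw [hxy]; exact isUnit_one
    convert this using 2 <;> ext i j <;> simp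
  obtain ⟨s, hs⟩ := lg_fintype hR _ hres
  rw [aeval_F] at hs
  refine ⟨_, surj_of_unit pM sM pN sN hsN (Matrix.of fun i j => s (Sum.inl (i, j)))
    (Matrix.of fun i j => s (Sum.inr (i, j))) ?_⟩
  convert hs using 2 <;> ext i j <;> simp

theorem iso_of_rank_eq (hR : IsLGRing R) (M : Type v) (N : Type w) [AddCommGroup M] [Module R M]
    [Module.Finite R M] [Module.Projective R M] [AddCommGroup N] [Module R N] [Module.Finite R N]
    [Module.Projective R N]
    (h : ∀ (m : Ideal R) [hm : m.IsMaximal],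
      rankAtStalk M ⟨m, hm.isPrime⟩ = rankAtStalk N ⟨m, hm.isPrime⟩) :
    Nonempty (M ≃ₗ[R] N) := by
  obtain ⟨φ, hφ⟩ := exists_surjective hR M N (fun m hm => (h m).ge)
  exact ⟨LinearEquiv.ofBijective φ
    (Module.bijective_of_surjective_of_rankAtStalk_eq hφ (fun m _ => h m))⟩

lemma rank_pos_of_faithful (M : Type v) [AddCommGroup M] [Module R M]
    [Module.Finite R M] [Module.Projective R M] [FaithfulSMul R M] (p : PrimeSpectrum R) :
    0 < rankAtStalk M p := by
  rw [rankAtStalk_pos_iff_mem_support, Module.support_eq_zeroLocus]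
  have : Module.annihilator R M = ⊥ := by
    rw [eq_bot_iff]
    intro r hr
    rw [Module.mem_annihilator] at hr
    have : r = 0 := by
      apply FaithfulSMul.eq_of_smul_eq_smul (α := M)
      intro v
      rw [hr v, zero_smul]
    simp [this]
  rw [this]
  simp

end main

end Groth.Agent.Lib.helper25.LG
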