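import Mathlib
import Groth.Agent.Lib.helper25.LG
import Groth.Agent.S19588
import Groth.Agent.S19589

/-!
Helper library (helper25): descent of the Azumaya property.
-/

namespace Groth.Agent.Lib.helper25.AzuDescent

open Module TensorProduct
open Groth.Agent.S19588

universe u v w

section key

variable (R : Type u) [CommRing R] (S : Type v) [CommRing S] [Algebra R S]
  (A : Type w) [Ring A] [Algebra R A]

/-- The comparison `S ⊗ (A ⊗ Aᵐᵒᵖ) ≃ (S ⊗ A) ⊗[S] (S ⊗ A)ᵐᵒᵖ`. -/
noncomputable def compE : S ⊗[R] (A ⊗[R] Aᵐᵒᵖ) ≃ₗ[S] (S ⊗[R] A) ⊗[S] (S ⊗[R] A)ᵐᵒᵖ :=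
  (TensorProduct.AlgebraTensorModule.distribBaseChange R S A Aᵐᵒᵖ) ≪≫ₗ
    TensorProduct.congr (LinearEquiv.refl S _)
      (TensorProduct.AlgebraTensorModule.congr (LinearEquiv.refl S S)
        (MulOpposite.opLinearEquiv R).symm ≪≫ₗ MulOpposite.opLinearEquiv S)

theorem mulLeftRight_compE (z : S ⊗[R] (A ⊗[R] Aᵐᵒᵖ)) :
    AlgHom.mulLeftRight S (S ⊗[R] A) (compE R S A z) =
      Phi R S A A ((AlgHom.mulLeftRight R A).toLinearMap.baseChange S z) := by
  induction z using TensorProduct.induction_on with
  | zero => simp
  | tmul s y =>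
    induction y using TensorProduct.induction_on with
    | zero => simp
    | tmul a a' =>
      apply TensorProduct.AlgebraTensorModule.ext
      intro t x
      simp [compE, Phi_tmul, TensorProduct.smul_tmul']
    | add y y' hy hy' => simp only [tmul_add, map_add, hy, hy']
  | add z z' hz hz' => simp only [map_add, hz, hz']

variable [Module.Finite R A] [Module.Projective R A]

theorem bijective_baseChange_iff :
    Function.Bijective ((AlgHom.mulLeftRight R A).toLinearMap.baseChange S) ↔
      Function.Bijective (AlgHom.mulLeftRight S (S ⊗[R] A)) := by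
  have hPhi := Phi_bijective R S A A
  have hfun : ⇑(AlgHom.mulLeftRight S (S ⊗[R] A)) ∘ ⇑(compE R S A) =
      ⇑(Phi R S A A) ∘ ⇑((AlgHom.mulLeftRight R A).toLinearMap.baseChange S) := by
    funext z
    exact mulLeftRight_compE R S A z
  constructor
  · intro h
    have h1 : Function.Bijective (⇑(AlgHom.mulLeftRight S (S ⊗[R] A)) ∘ ⇑(compE R S A)) := by
      rw [hfun]; exact hPhi.comp h
    exact (Function.Bijective.of_comp_iff _ (compE R S A).bijective).1 h1
  · intro h
    have h1 : Function.Bijective
        (⇑(Phi R S A A) ∘ ⇑((AlgHom.mulLeftRight R A).toLinearMap.baseChange S)) := by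
      rw [← hfun]; exact h.comp (compE R S A).bijective
    exact (Function.Bijective.of_comp_iff' hPhi _).1 h1

end key

section specSurj

variable {R : Type u} [CommRing R] {S : Type v} [CommRing S] [Algebra R S]

include S in
/-- A finitely generated module which dies after a base change with surjective `Spec` is zero. -/
lemma subsingleton_of_baseChange (hS : Function.Surjective (PrimeSpectrum.comap (algebraMap R S)))
    (C : Type*) [AddCommGroup C] [Module R C] [Module.Finite R C]
    (h : Subsingleton (S ⊗[R] C)) : Subsingleton C := by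
  by_contra hC
  rw [not_subsingleton_iff_nontrivial] at hC
  -- a maximal ideal with `m C ≠ C`
  have hann : Module.annihilator R C ≠ ⊤ := by
    intro htop
    obtain ⟨c, hc⟩ := exists_ne (0 : C)
    have : (1 : R) ∈ Module.annihilator R C := by rw [htop]; trivial
    rw [Module.mem_annihilator] at this
    exact hc (by simpa using this c)
  obtain ⟨m, hm, hle⟩ := Ideal.exists_le_maximal _ hann
  have hmC : m • (⊤ : Submodule R C) ≠ ⊤ := by
    intro htop
    obtain ⟨r, hr1, hr⟩ := Submodule.exists_sub_one_mem_and_smul_eq_zero_of_fg_of_le_smul m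
      (⊤ : Submodule R C) Module.Finite.fg_top (by rw [htop])
    have hrann : r ∈ Module.annihilator R C := by
      rw [Module.mem_annihilator]
      intro c
      exact hr c trivial
    have : (1 : R) ∈ m := by
      have h2 := m.sub_mem (hle hrann) hr1
      simpa using h2
    exact hm.ne_top ((Ideal.eq_top_iff_one m).2 this)
  -- a surjection `C → R ⧸ m`
  let _ : Field (R ⧸ m) := Ideal.Quotient.field m
  have hV : Nontrivial (C ⧸ (m • (⊤ : Submodule R C))) :=
    Submodule.Quotient.nontrivial_iff.2 hmC
  obtain ⟨v, hv⟩ := exists_ne (0 : C ⧸ (m • (⊤ : Submodule R C)))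
  obtain ⟨l, hl⟩ : ∃ l : Module.Dual (R ⧸ m) (C ⧸ (m • (⊤ : Submodule R C))), l v ≠ 0 := by
    by_contra hcon
    exact hv ((Module.forall_dual_apply_eq_zero_iff (R ⧸ m) v).1 fun l => by
      by_contra hl
      exact hcon ⟨l, hl⟩)
  let g : C →ₗ[R] (R ⧸ m) := (l.restrictScalars R) ∘ₗ (m • (⊤ : Submodule R C)).mkQ
  have hg : Function.Surjective g := by
    intro y
    obtain ⟨c, rfl⟩ := Submodule.Quotient.mk_surjective _ v
    obtain ⟨r, hr⟩ := Ideal.Quotient.mk_surjective (y * (l (Submodule.Quotient.mk c))⁻¹)
    refine ⟨r • c, ?_⟩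
    have : g (r • c) = (Ideal.Quotient.mk m r) * l (Submodule.Quotient.mk c) := by
      rw [map_smul]
      rfl
    rw [this, hr, mul_assoc, inv_mul_cancel₀ hl, mul_one]
  have hsub : Subsingleton (S ⊗[R] (R ⧸ m)) :=
    (LinearMap.lTensor_surjective S hg).subsingleton
  have hsub2 : Subsingleton (S ⧸ (m • (⊤ : Submodule R S))) :=
    (TensorProduct.tensorQuotEquivQuotSMul S m).symm.injective.subsingleton
  have htop : m • (⊤ : Submodule R S) = ⊤ := Submodule.Quotient.subsingleton_iff.1 hsub2
  obtain ⟨q, hq⟩ := hS ⟨m, hm.isPrime⟩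
  have hmq : ∀ r ∈ m, algebraMap R S r ∈ q.asIdeal := by
    intro r hr
    have : r ∈ (PrimeSpectrum.comap (algebraMap R S) q).asIdeal := by rw [hq]; exact hr
    exact this
  have hle' : m • (⊤ : Submodule R S) ≤ q.asIdeal.restrictScalars R := by
    rw [Submodule.smul_le]
    intro r hr s _
    show r • s ∈ q.asIdeal
    rw [Algebra.smul_def]
    exact q.asIdeal.mul_mem_right _ (hmq r hr)
  have h1 : (1 : S) ∈ q.asIdeal := hle' (by rw [htop]; trivial)
  exact q.isPrime.ne_top ((Ideal.eq_top_iff_one _).2 h1)

include S in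
lemma surjective_of_baseChange (hS : Function.Surjective (PrimeSpectrum.comap (algebraMap R S)))
    {M N : Type*} [AddCommGroup M] [Module R M] [AddCommGroup N] [Module R N] [Module.Finite R N]
    (f : M →ₗ[R] N) (h : Function.Surjective (f.baseChange S)) : Function.Surjective f := by
  have hsub : Subsingleton (S ⊗[R] (N ⧸ LinearMap.range f)) := by
    refine ⟨fun x y => ?_⟩
    have key : ∀ x : S ⊗[R] (N ⧸ LinearMap.range f), x = 0 := by
      intro x
      obtain ⟨y, rfl⟩ := LinearMap.lTensor_surjective S (LinearMap.range f).mkQ_surjective x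
      obtain ⟨z, rfl⟩ := h y
      rw [LinearMap.baseChange_eq_ltensor, ← LinearMap.comp_apply, ← LinearMap.lTensor_comp]
      have : (LinearMap.range f).mkQ ∘ₗ f = 0 := by
        ext x
        simp
      rw [this, LinearMap.lTensor_zero, LinearMap.zero_apply]
    rw [key x, key y]
  have := subsingleton_of_baseChange hS (N ⧸ LinearMap.range f) hsub
  rw [Submodule.Quotient.subsingleton_iff] at this
  exact LinearMap.range_eq_top.1 this

include S in
lemma bijective_of_baseChange (hS : Function.Surjective (PrimeSpectrum.comap (algebraMap R S)))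
    {M N : Type*} [AddCommGroup M] [Module R M] [Module.Finite R M] [Module.Projective R M]
    [AddCommGroup N] [Module R N] [Module.Finite R N] [Module.Projective R N]
    (f : M →ₗ[R] N) (h : Function.Bijective (f.baseChange S)) : Function.Bijective f := by
  have hsurj := surjective_of_baseChange hS f h.2
  refine Module.bijective_of_surjective_of_rankAtStalk_eq hsurj fun m hm => ?_
  obtain ⟨q, hq⟩ := hS ⟨m, hm.isPrime⟩
  have h1 := rankAtStalk_baseChange (R := R) (M := M) (S := S) q
  have h2 := rankAtStalk_baseChange (R := R) (M := N) (S := S) q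
  have h3 := congrFun (rankAtStalk_eq_of_equiv (LinearEquiv.ofBijective (f.baseChange S) h)) q
  rw [hq] at h1 h2
  rw [← h1, ← h2, h3]

include S in
lemma faithful_of_baseChange (hS : Function.Surjective (PrimeSpectrum.comap (algebraMap R S)))
    (B : Type*) [AddCommGroup B] [Module R B] [Module.Finite R B] [Module.Projective R B]
    [FaithfulSMul S (S ⊗[R] B)] : FaithfulSMul R B := by
  have : Module.FaithfullyFlat R B := by
    refine ⟨?_⟩
    intro m hm htop
    obtain ⟨q, hq⟩ := hS ⟨m, hm.isPrime⟩
    have hmq : ∀ r ∈ m, algebraMap R S r ∈ q.asIdeal := by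
      intro r hr
      have : r ∈ (PrimeSpectrum.comap (algebraMap R S) q).asIdeal := by rw [hq]; exact hr
      exact this
    have hmem : ∀ b ∈ m • (⊤ : Submodule R B), ∀ s : S,
        s ⊗ₜ[R] b ∈ q.asIdeal • (⊤ : Submodule S (S ⊗[R] B)) := by
      intro b hb
      refine Submodule.smul_induction_on hb (fun r hr b _ s => ?_) (fun x y hx hy s => ?_)
      · have : s ⊗ₜ[R] (r • b) = (algebraMap R S r) • (s ⊗ₜ[R] b) := by
          rw [TensorProduct.tmul_smul, TensorProduct.smul_tmul', TensorProduct.smul_tmul',
            Algebra.smul_def, smul_eq_mul]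
        rw [this]
        exact Submodule.smul_mem_smul (hmq r hr) Submodule.mem_top
      · rw [TensorProduct.tmul_add]
        exact Submodule.add_mem _ (hx s) (hy s)
    have hle : (⊤ : Submodule S (S ⊗[R] B)) ≤ q.asIdeal • (⊤ : Submodule S (S ⊗[R] B)) := by
      intro x _
      induction x using TensorProduct.induction_on with
      | zero => exact Submodule.zero_mem _
      | tmul s b => exact hmem b (by rw [htop]; trivial) s
      | add x y hx hy => exact Submodule.add_mem _ (hx trivial) (hy trivial)
    obtain ⟨t, ht1, ht⟩ := Submodule.exists_sub_one_mem_and_smul_eq_zero_of_fg_of_le_smul q.asIdeal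
      (⊤ : Submodule S (S ⊗[R] B)) Module.Finite.fg_top hle
    have h0 : t = 0 := by
      apply FaithfulSMul.eq_of_smul_eq_smul (α := S ⊗[R] B)
      intro x; rw [ht x trivial, zero_smul]
    rw [h0, zero_sub] at ht1
    exact q.isPrime.ne_top ((Ideal.eq_top_iff_one _).2 (by simpa using q.asIdeal.neg_mem ht1))
  exact faithful_of_faithfullyFlat R B

end specSurj

section main

variable {R : Type u} [CommRing R] {S : Type v} [CommRing S] [Algebra R S]

theorem isAzumaya_of_baseChange_of_comap_surjective
    (hS : Function.Surjective (PrimeSpectrum.comap (algebraMap R S)))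
    (B : Type w) [Ring B] [Algebra R B] [Module.Finite R B] [Module.Projective R B]
    [IsAzumaya S (S ⊗[R] B)] : IsAzumaya R B := by
  have hfaith : FaithfulSMul R B := faithful_of_baseChange hS B
  have : Module.Finite R Bᵐᵒᵖ := Module.Finite.equiv (MulOpposite.opLinearEquiv R)
  have : Module.Projective R Bᵐᵒᵖ := Module.Projective.of_equiv (MulOpposite.opLinearEquiv R)
  have hE : IsAzumaya R (Module.End R B) := Groth.Agent.S19589.result R B
  have hb := bijective_of_baseChange hS (AlgHom.mulLeftRight R B).toLinearMap
    ((bijective_baseChange_iff R S B).2 IsAzumaya.bij)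
  exact { bij := hb }

end main

section ffDescent

variable {R : Type u} [CommRing R] (S : Type v) [CommRing S] [Algebra R S]
  [Module.FaithfullyFlat R S]

/-- Finite presentation of modules descends along faithfully flat ring maps. -/
lemma finitePresentation_of_tensorProduct (M : Type*) [AddCommGroup M] [Module R M]
    [Module.FinitePresentation S (S ⊗[R] M)] : Module.FinitePresentation R M := by
  have hfin : Module.Finite R M := Module.Finite.of_finite_tensorProduct_of_faithfullyFlat S
  obtain ⟨n, f, hf⟩ := Module.Finite.exists_fin' R M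
  refine Module.finitePresentation_of_surjective f hf ?_
  -- the kernel is finitely generated
  have hsurj : Function.Surjective (AlgebraTensorModule.lTensor S S f) := by
    have := LinearMap.lTensor_surjective S hf
    exact this
  have hker : (LinearMap.ker (AlgebraTensorModule.lTensor S S f)).FG :=
    Module.FinitePresentation.fg_ker _ hsurj
  rw [Module.Flat.ker_lTensor_eq] at hker
  have hinj : Function.Injective (AlgebraTensorModule.lTensor S S (LinearMap.ker f).subtype) := by
    have := Module.Flat.lTensor_preserves_injective_linearMap (M := S) (LinearMap.ker f).subtype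
      (LinearMap.ker f).injective_subtype
    exact this
  have hfin2 : Module.Finite S (S ⊗[R] (LinearMap.ker f)) := by
    have e := LinearEquiv.ofInjective (AlgebraTensorModule.lTensor S S (LinearMap.ker f).subtype) hinj
    have : Module.Finite S
        (LinearMap.range (AlgebraTensorModule.lTensor S S (LinearMap.ker f).subtype)) :=
      Module.Finite.iff_fg.2 hker
    exact Module.Finite.equiv e.symm
  have hfin3 : Module.Finite R (LinearMap.ker f) :=
    Module.Finite.of_finite_tensorProduct_of_faithfullyFlat S
  exact Module.Finite.iff_fg.1 hfin3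

theorem isAzumaya_of_baseChange_of_faithfullyFlat (B : Type w) [Ring B] [Algebra R B]
    [IsAzumaya S (S ⊗[R] B)] : IsAzumaya R B := by
  have hfin : Module.Finite R B := Module.Finite.of_finite_tensorProduct_of_faithfullyFlat S
  have : Module.FinitePresentation S (S ⊗[R] B) := Module.finitePresentation_of_projective S _
  have hfp : Module.FinitePresentation R B := finitePresentation_of_tensorProduct S B
  have hflat : Module.Flat R B := Module.Flat.of_flat_tensorProduct R B S
  have hproj : Module.Projective R B := Module.Flat.projective_of_finitePresentation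
  exact isAzumaya_of_baseChange_of_comap_surjective
    (PrimeSpectrum.comap_surjective_of_faithfullyFlat (A := R) (B := S)) B

end ffDescent

section fibres

variable {R : Type u} [CommRing R]

/-- If `S ⊗ C = 0` for an `R`-algebra `S` having a prime over the maximal ideal `m`, then
`m C = C`. -/
lemma smul_top_eq_top_of_baseChange (m : Ideal R) [hm : m.IsMaximal] (S : Type v) [CommRing S]
    [Algebra R S] (q : PrimeSpectrum S)
    (hq : PrimeSpectrum.comap (algebraMap R S) q = ⟨m, hm.isPrime⟩)
    (C : Type*) [AddCommGroup C] [Module R C]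
    (h : Subsingleton (S ⊗[R] C)) : m • (⊤ : Submodule R C) = ⊤ := by
  by_contra hmC
  let _ : Field (R ⧸ m) := Ideal.Quotient.field m
  have hV : Nontrivial (C ⧸ (m • (⊤ : Submodule R C))) :=
    Submodule.Quotient.nontrivial_iff.2 hmC
  obtain ⟨v, hv⟩ := exists_ne (0 : C ⧸ (m • (⊤ : Submodule R C)))
  obtain ⟨l, hl⟩ : ∃ l : Module.Dual (R ⧸ m) (C ⧸ (m • (⊤ : Submodule R C))), l v ≠ 0 := by
    by_contra hcon
    exact hv ((Module.forall_dual_apply_eq_zero_iff (R ⧸ m) v).1 fun l => by
      by_contra hl
      exact hcon ⟨l, hl⟩)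
  let g : C →ₗ[R] (R ⧸ m) := (l.restrictScalars R) ∘ₗ (m • (⊤ : Submodule R C)).mkQ
  have hg : Function.Surjective g := by
    intro y
    obtain ⟨c, rfl⟩ := Submodule.Quotient.mk_surjective _ v
    obtain ⟨r, hr⟩ := Ideal.Quotient.mk_surjective (y * (l (Submodule.Quotient.mk c))⁻¹)
    refine ⟨r • c, ?_⟩
    have : g (r • c) = (Ideal.Quotient.mk m r) * l (Submodule.Quotient.mk c) := by
      rw [map_smul]
      rfl
    rw [this, hr, mul_assoc, inv_mul_cancel₀ hl, mul_one]
  have hsub : Subsingleton (S ⊗[R] (R ⧸ m)) :=
    (LinearMap.lTensor_surjective S hg).subsingleton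
  have hsub2 : Subsingleton (S ⧸ (m • (⊤ : Submodule R S))) :=
    (TensorProduct.tensorQuotEquivQuotSMul S m).symm.injective.subsingleton
  have htop : m • (⊤ : Submodule R S) = ⊤ := Submodule.Quotient.subsingleton_iff.1 hsub2
  have hmq : ∀ r ∈ m, algebraMap R S r ∈ q.asIdeal := by
    intro r hr
    have : r ∈ (PrimeSpectrum.comap (algebraMap R S) q).asIdeal := by rw [hq]; exact hr
    exact this
  have hle' : m • (⊤ : Submodule R S) ≤ q.asIdeal.restrictScalars R := by
    rw [Submodule.smul_le]
    intro r hr s _
    show r • s ∈ q.asIdeal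
    rw [Algebra.smul_def]
    exact q.asIdeal.mul_mem_right _ (hmq r hr)
  have h1 : (1 : S) ∈ q.asIdeal := hle' (by rw [htop]; trivial)
  exact q.isPrime.ne_top ((Ideal.eq_top_iff_one _).2 h1)

/-- A finitely generated module with `m C = C` for all maximal ideals is zero. -/
lemma subsingleton_of_forall_smul_top (C : Type*) [AddCommGroup C] [Module R C] [Module.Finite R C]
    (h : ∀ (m : Ideal R) [m.IsMaximal], m • (⊤ : Submodule R C) = ⊤) : Subsingleton C := by
  by_contra hC
  rw [not_subsingleton_iff_nontrivial] at hC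
  have hann : Module.annihilator R C ≠ ⊤ := by
    intro htop
    obtain ⟨c, hc⟩ := exists_ne (0 : C)
    have : (1 : R) ∈ Module.annihilator R C := by rw [htop]; trivial
    rw [Module.mem_annihilator] at this
    exact hc (by simpa using this c)
  obtain ⟨m, hm, hle⟩ := Ideal.exists_le_maximal _ hann
  obtain ⟨r, hr1, hr⟩ := Submodule.exists_sub_one_mem_and_smul_eq_zero_of_fg_of_le_smul m
    (⊤ : Submodule R C) Module.Finite.fg_top (by rw [h m])
  have hrann : r ∈ Module.annihilator R C := by
    rw [Module.mem_annihilator]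
    intro c
    exact hr c trivial
  have : (1 : R) ∈ m := by
    have h2 := m.sub_mem (hle hrann) hr1
    simpa using h2
  exact hm.ne_top ((Ideal.eq_top_iff_one m).2 this)

/-- Family version of `bijective_of_baseChange`. -/
lemma bijective_of_forall_baseChange
    {M N : Type*} [AddCommGroup M] [Module R M] [Module.Finite R M] [Module.Projective R M]
    [AddCommGroup N] [Module R N] [Module.Finite R N] [Module.Projective R N]
    (f : M →ₗ[R] N)
    (h : ∀ (m : Ideal R) [hm : m.IsMaximal], ∃ (S : Type v) (_ : CommRing S) (_ : Algebra R S),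
      (∃ q : PrimeSpectrum S, PrimeSpectrum.comap (algebraMap R S) q = ⟨m, hm.isPrime⟩) ∧
        Function.Bijective (f.baseChange S)) : Function.Bijective f := by
  have hsurj : Function.Surjective f := by
    have hsub : Subsingleton (N ⧸ LinearMap.range f) := by
      refine subsingleton_of_forall_smul_top (R := R) _ fun m hm => ?_
      obtain ⟨S, _, _, ⟨q, hq⟩, hS⟩ := h m
      refine smul_top_eq_top_of_baseChange m S q hq _ ⟨fun x y => ?_⟩
      have key : ∀ x : S ⊗[R] (N ⧸ LinearMap.range f), x = 0 := by
        intro x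
        obtain ⟨y, rfl⟩ := LinearMap.lTensor_surjective S (LinearMap.range f).mkQ_surjective x
        obtain ⟨z, rfl⟩ := hS.2 y
        rw [LinearMap.baseChange_eq_ltensor, ← LinearMap.comp_apply, ← LinearMap.lTensor_comp]
        have : (LinearMap.range f).mkQ ∘ₗ f = 0 := by
          ext x
          simp
        rw [this, LinearMap.lTensor_zero, LinearMap.zero_apply]
      rw [key x, key y]
    rw [Submodule.Quotient.subsingleton_iff] at hsub
    exact LinearMap.range_eq_top.1 hsub
  refine Module.bijective_of_surjective_of_rankAtStalk_eq hsurj fun m hm => ?_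
  obtain ⟨S, _, _, ⟨q, hq⟩, hS⟩ := h m
  have h1 := rankAtStalk_baseChange (R := R) (M := M) (S := S) q
  have h2 := rankAtStalk_baseChange (R := R) (M := N) (S := S) q
  have h3 := congrFun (rankAtStalk_eq_of_equiv (LinearEquiv.ofBijective (f.baseChange S) hS)) q
  rw [hq] at h1 h2
  rw [← h1, ← h2, h3]

/-- Family version of `faithful_of_baseChange`. -/
lemma faithful_of_forall_baseChange
    (B : Type*) [AddCommGroup B] [Module R B] [Module.Finite R B] [Module.Projective R B]
    (h : ∀ (m : Ideal R) [hm : m.IsMaximal], ∃ (S : Type v) (_ : CommRing S) (_ : Algebra R S),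
      (∃ q : PrimeSpectrum S, PrimeSpectrum.comap (algebraMap R S) q = ⟨m, hm.isPrime⟩) ∧
        FaithfulSMul S (S ⊗[R] B)) : FaithfulSMul R B := by
  have : Module.FaithfullyFlat R B := by
    refine ⟨?_⟩
    intro m hm htop
    obtain ⟨S, _, _, ⟨q, hq⟩, hS⟩ := h m
    have hmq : ∀ r ∈ m, algebraMap R S r ∈ q.asIdeal := by
      intro r hr
      have : r ∈ (PrimeSpectrum.comap (algebraMap R S) q).asIdeal := by rw [hq]; exact hr
      exact this
    have hmem : ∀ b ∈ m • (⊤ : Submodule R B), ∀ s : S,
        s ⊗ₜ[R] b ∈ q.asIdeal • (⊤ : Submodule S (S ⊗[R] B)) := by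
      intro b hb
      refine Submodule.smul_induction_on hb (fun r hr b _ s => ?_) (fun x y hx hy s => ?_)
      · have : s ⊗ₜ[R] (r • b) = (algebraMap R S r) • (s ⊗ₜ[R] b) := by
          rw [TensorProduct.tmul_smul, TensorProduct.smul_tmul', TensorProduct.smul_tmul',
            Algebra.smul_def, smul_eq_mul]
        rw [this]
        exact Submodule.smul_mem_smul (hmq r hr) Submodule.mem_top
      · rw [TensorProduct.tmul_add]
        exact Submodule.add_mem _ (hx s) (hy s)
    have hle : (⊤ : Submodule S (S ⊗[R] B)) ≤ q.asIdeal • (⊤ : Submodule S (S ⊗[R] B)) := by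
      intro x _
      induction x using TensorProduct.induction_on with
      | zero => exact Submodule.zero_mem _
      | tmul s b => exact hmem b (by rw [htop]; trivial) s
      | add x y hx hy => exact Submodule.add_mem _ (hx trivial) (hy trivial)
    obtain ⟨t, ht1, ht⟩ := Submodule.exists_sub_one_mem_and_smul_eq_zero_of_fg_of_le_smul q.asIdeal
      (⊤ : Submodule S (S ⊗[R] B)) Module.Finite.fg_top hle
    have h0 : t = 0 := by
      apply FaithfulSMul.eq_of_smul_eq_smul (α := S ⊗[R] B)
      intro x; rw [ht x trivial, zero_smul]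
    rw [h0, zero_sub] at ht1
    exact q.isPrime.ne_top ((Ideal.eq_top_iff_one _).2 (by simpa using q.asIdeal.neg_mem ht1))
  exact faithful_of_faithfullyFlat R B

/-- Azumaya can be checked on fibres over the maximal ideals. -/
theorem isAzumaya_of_forall_fibre (B : Type w) [Ring B] [Algebra R B] [Module.Finite R B]
    [Module.Projective R B]
    (h : ∀ (m : Ideal R) [hm : m.IsMaximal], ∃ (S : Type v) (_ : CommRing S) (_ : Algebra R S),
      (∃ q : PrimeSpectrum S, PrimeSpectrum.comap (algebraMap R S) q = ⟨m, hm.isPrime⟩) ∧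
        IsAzumaya S (S ⊗[R] B)) : IsAzumaya R B := by
  have hfaith : FaithfulSMul R B := faithful_of_forall_baseChange B fun m hm => by
    obtain ⟨S, i1, i2, hq, hS⟩ := h m
    exact ⟨S, i1, i2, hq, inferInstance⟩
  have : Module.Finite R Bᵐᵒᵖ := Module.Finite.equiv (MulOpposite.opLinearEquiv R)
  have : Module.Projective R Bᵐᵒᵖ := Module.Projective.of_equiv (MulOpposite.opLinearEquiv R)
  have hE : IsAzumaya R (Module.End R B) := Groth.Agent.S19589.result R B
  have hb := bijective_of_forall_baseChange (AlgHom.mulLeftRight R B).toLinearMap fun m hm => by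
    obtain ⟨S, i1, i2, hq, hS⟩ := h m
    exact ⟨S, i1, i2, hq, (bijective_baseChange_iff R S B).2 IsAzumaya.bij⟩
  exact { bij := hb }

end fibres

end Groth.Agent.Lib.helper25.AzuDescent
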