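import Mathlib
import Groth.Agent.Lib.helper25.AzuCancel

/-!
Helper library (helper25): Skolem–Noether for Azumaya algebras over LG-rings (e.g. local rings).
-/

namespace Groth.Agent.Lib.helper25.AzuSN

open Module TensorProduct LGRing
open Groth.Agent.Lib.helper25.LG Groth.Agent.Lib.helper25.AzuLG Groth.Agent.Lib.helper25.AzuCancel

universe u v w

/-- A local ring is an LG-ring. -/
theorem isLGRing_of_isLocalRing (R : Type u) [CommRing R] [IsLocalRing R] : IsLGRing R := by
  intro n f h
  obtain ⟨s, hs⟩ := h (IsLocalRing.maximalIdeal R)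
  obtain ⟨t, rfl⟩ := (Ideal.Quotient.mk_surjective (I := IsLocalRing.maximalIdeal R)).comp_left s
  refine ⟨t, ?_⟩
  have h1 : MvPolynomial.aeval (⇑(Ideal.Quotient.mk (IsLocalRing.maximalIdeal R)) ∘ t) f =
      Ideal.Quotient.mk (IsLocalRing.maximalIdeal R) (MvPolynomial.aeval t f) :=
    MvPolynomial.aeval_algebraMap_apply (R ⧸ IsLocalRing.maximalIdeal R) t f
  rw [h1] at hs
  by_contra hnu
  have hmem : MvPolynomial.aeval t f ∈ IsLocalRing.maximalIdeal R := by
    rwa [IsLocalRing.mem_maximalIdeal, mem_nonunits_iff]
  have : Ideal.Quotient.mk (IsLocalRing.maximalIdeal R) (MvPolynomial.aeval t f) = 0 :=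
    Ideal.Quotient.eq_zero_iff_mem.2 hmem
  rw [this] at hs
  have hnt : Nontrivial (R ⧸ IsLocalRing.maximalIdeal R) :=
    Ideal.Quotient.nontrivial_iff.2 (IsLocalRing.maximalIdeal.isMaximal R).ne_top
  exact not_isUnit_zero hs

section twist

variable (R : Type u) [CommRing R] (A : Type v) [Ring A] [Algebra R A]

/-- `A` with the `End_R(A)`-module structure twisted by an automorphism `τ` of `End_R(A)`. -/
def Tw (_τ : Module.End R A ≃ₐ[R] Module.End R A) : Type v := A

variable {R A} (τ : Module.End R A ≃ₐ[R] Module.End R A)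

instance : AddCommGroup (Tw R A τ) := inferInstanceAs (AddCommGroup A)
instance : Module R (Tw R A τ) := inferInstanceAs (Module R A)
instance : Module (Module.End R A) (Tw R A τ) := Module.compHom A τ.toRingHom

lemma tw_smul_def (φ : Module.End R A) (x : Tw R A τ) : φ • x = (τ φ) (show A from x) := rfl

instance : IsScalarTower R (Module.End R A) (Tw R A τ) :=
  ⟨fun r φ x => by
    rw [tw_smul_def, tw_smul_def, map_smul]
    rfl⟩

end twist

section main

variable {R : Type u} [CommRing R] {A : Type v} [Ring A] [Algebra R A] [IsAzumaya R A]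

theorem skolemNoether (hR : IsLGRing R) (u : A ≃ₐ[R] A) :
    ∃ a : Aˣ, ∀ x : A, u x = (a : A) * x * (a⁻¹ : Aˣ) := by
  classical
  obtain ⟨l, p₀, hl⟩ := exists_unimodular hR A
  have hE : IsAzumaya R (Module.End R A) := Groth.Agent.S19589.result R A
  let μ : (A ⊗[R] Aᵐᵒᵖ) ≃ₐ[R] Module.End R A :=
    AlgEquiv.ofBijective (AlgHom.mulLeftRight R A) IsAzumaya.bij
  let τ : Module.End R A ≃ₐ[R] Module.End R A :=
    (μ.symm.trans (Algebra.TensorProduct.congr u AlgEquiv.refl)).trans μ
  have hτ : ∀ a b : A, τ (LinearMap.mulLeft R a ∘ₗ LinearMap.mulRight R b) =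
      LinearMap.mulLeft R (u a) ∘ₗ LinearMap.mulRight R b := by
    intro a b
    have h1 : (LinearMap.mulLeft R a ∘ₗ LinearMap.mulRight R b : Module.End R A) =
        μ (a ⊗ₜ MulOpposite.op b) := by
      ext x
      simp [μ, mul_assoc]
    have h2 : (LinearMap.mulLeft R (u a) ∘ₗ LinearMap.mulRight R b : Module.End R A) =
        μ (u a ⊗ₜ MulOpposite.op b) := by
      ext x
      simp [μ, mul_assoc]
    rw [h1, h2]
    simp [τ]
  -- the natural module
  let ι : A →ₗ[Module.End R A] Module.End R A :=
    { toFun := fun x => l.smulRight x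
      map_add' := fun x y => by ext z; simp
      map_smul' := fun φ x => by ext z; simp }
  let π : Module.End R A →ₗ[Module.End R A] A :=
    { toFun := fun φ => φ p₀
      map_add' := fun φ ψ => rfl
      map_smul' := fun φ ψ => rfl }
  have hπι : ∀ x, π (ι x) = x := fun x => by simp [π, ι, hl]
  have finA : Module.Finite (Module.End R A) A :=
    Module.Finite.of_surjective π fun x => ⟨ι x, hπι x⟩
  have projA : Module.Projective (Module.End R A) A :=
    Module.Projective.of_split ι π (by ext x; exact hπι x)
  -- the twisted module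
  let ι' : Tw R A τ →ₗ[Module.End R A] Module.End R A :=
    { toFun := fun x => τ.symm (LinearMap.smulRightₗ l (show A from x))
      map_add' := fun x y => by
        show τ.symm (LinearMap.smulRightₗ l ((show A from x) + (show A from y))) = _
        rw [map_add, map_add]
      map_smul' := fun φ x => by
        show τ.symm (LinearMap.smulRightₗ l ((τ φ) (show A from x))) =
          φ * τ.symm (LinearMap.smulRightₗ l (show A from x))
        have : LinearMap.smulRightₗ l ((τ φ) (show A from x)) =
            τ φ * LinearMap.smulRightₗ l (show A from x) := by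
          ext z
          show l z • (τ φ) (show A from x) = (τ φ) (l z • (show A from x))
          rw [map_smul]
        rw [this, map_mul, AlgEquiv.symm_apply_apply] }
  let π' : Module.End R A →ₗ[Module.End R A] Tw R A τ :=
    { toFun := fun φ => (τ φ) p₀
      map_add' := fun φ ψ => by
        show (τ (φ + ψ)) p₀ = (τ φ) p₀ + (τ ψ) p₀
        rw [map_add]; rfl
      map_smul' := fun φ ψ => by
        show (τ (φ * ψ)) p₀ = (τ φ) ((τ ψ) p₀)
        rw [map_mul]
        rfl }
  have hπι' : ∀ x, π' (ι' x) = x := fun x => by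
    show (τ (τ.symm (LinearMap.smulRightₗ l (show A from x)))) p₀ = x
    rw [AlgEquiv.apply_symm_apply]
    show l p₀ • (show A from x) = x
    rw [hl, one_smul]
  have finT : Module.Finite (Module.End R A) (Tw R A τ) :=
    Module.Finite.of_surjective π' fun x => ⟨ι' x, hπι' x⟩
  have projT : Module.Projective (Module.End R A) (Tw R A τ) :=
    Module.Projective.of_split ι' π' (by ext x; exact hπι' x)
  have key := exists_surjective_azumaya (R := R) hR (A := Module.End R A) A (Tw R A τ)
    (fun m hm => le_refl _)
  obtain ⟨f, hf⟩ := key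
  -- the element
  let θ : A → A := fun x => f x
  have hθ : ∀ a b x : A, θ (a * x * b) = u a * θ x * b := by
    intro a b x
    have h1 : f (a * (x * b)) =
        (τ (LinearMap.mulLeft R a ∘ₗ LinearMap.mulRight R b)) (show A from f x) :=
      f.map_smul (LinearMap.mulLeft R a ∘ₗ LinearMap.mulRight R b) x
    rw [hτ] at h1
    show (show A from f (a * x * b)) = u a * (show A from f x) * b
    rw [mul_assoc a x b, mul_assoc (u a)]
    exact h1
  have hθadd : ∀ x y, θ (x + y) = θ x + θ y := fun x y => f.map_add x y
  let v : A := θ 1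
  have h1 : ∀ a, θ a = u a * v := fun a => by
    have := hθ a 1 1
    simpa using this
  have h2 : ∀ a, θ a = v * a := fun a => by
    have := hθ 1 a 1
    simpa using this
  obtain ⟨x, hx⟩ := hf (show Tw R A τ from (1 : A))
  have hx1 : v * x = 1 := by rw [← h2]; exact hx
  have hx2 : u x * v = 1 := by rw [← h1]; exact hx
  have hxx : u x = x := by
    calc u x = u x * (v * x) := by rw [hx1, mul_one]
      _ = (u x * v) * x := by rw [mul_assoc]
      _ = x := by rw [hx2, one_mul]
  refine ⟨⟨v, x, hx1, by rw [← hxx]; exact hx2⟩, fun a => ?_⟩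
  show u a = v * a * x
  calc u a = u a * (v * x) := by rw [hx1, mul_one]
    _ = (u a * v) * x := by rw [mul_assoc]
    _ = v * a * x := by rw [← h1, h2]

end main

end Groth.Agent.Lib.helper25.AzuSN
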