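import Mathlib
import Groth.Prelude.Def_Curv2
import Groth.Agent.Lib.helper25.VarBC5
import Groth.Agent.Lib.helper26.FlatDVR

/-! A normal curve dominated by a smooth curve is smooth (S6557) (helper25). -/

universe u

open AlgebraicGeometry CategoryTheory Limits TensorProduct

namespace Groth.Agent.Lib.helper25.CurvSm

set_option linter.style.haveILetI false

theorem S6557_aux (k : Type u) [Field k]
    (X Y : Scheme.{u}) [X.Over (Spec (CommRingCat.of k))] [Y.Over (Spec (CommRingCat.of k))]
    [IsIntegral X] [LocallyOfFiniteType (X ↘ (Spec (CommRingCat.of k)))]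
    [IsIntegral Y] [LocallyOfFiniteType (Y ↘ (Spec (CommRingCat.of k)))]
    (hdY : topologicalKrullDim Y = 1)
    (f : X ⟶ Y) (hf : f ≫ (Y ↘ (Spec (CommRingCat.of k))) = X ↘ (Spec (CommRingCat.of k)))
    [Surjective f]
    [Smooth (X ↘ (Spec (CommRingCat.of k)))] (hY : Pi1.IsNormalScheme Y) :
    Smooth (Y ↘ (Spec (CommRingCat.of k))) := by
  haveI : LocallyOfFinitePresentation (Y ↘ (Spec (CommRingCat.of k))) :=
    LocallyOfFinitePresentation.iff_locallyOfFiniteType.mpr inferInstance
  haveI : IsLocallyNoetherian Y :=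
    LocallyOfFiniteType.isLocallyNoetherian (Y ↘ Spec (CommRingCat.of k))
  haveI : IsLocallyNoetherian X :=
    LocallyOfFiniteType.isLocallyNoetherian (X ↘ Spec (CommRingCat.of k))
  haveI : Flat f := Groth.Agent.Lib.helper26.FlatDVR.flat_of_finite_surjective f hY hdY.le
  rw [← Scheme.Hom.smoothLocus_eq_top_iff, eq_top_iff]
  intro y _
  obtain ⟨x, rfl⟩ := f.surjective y
  rw [← Groth.Agent.Lib.helper25.VarBC.S1562_aux k Y (f x)]
  exact Groth.Agent.Lib.helper25.VarBC.S1563_aux k X Y f hf x
    ((Flat.iff_flat_stalkMap f).mp inferInstance x)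
    ((Groth.Agent.Lib.helper25.VarBC.S1628_aux k X).2 x)

end Groth.Agent.Lib.helper25.CurvSm
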