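import Mathlib
import Groth.Prelude.Def_Curv2
import Groth.Agent.Lib.helper25.VarBC7
import Groth.Agent.Lib.helper9.LocFree3
import Groth.Agent.Lib.helper14.SepGenReduced
import Groth.Agent.Lib.helper5.RegLoc

/-! DVR iff smooth at closed points of curves with separable residue field (S1556) (helper25). -/

universe u

open AlgebraicGeometry CategoryTheory Limits TensorProduct

namespace Groth.Agent.Lib.helper25.VarBC

set_option linter.style.haveILetI false
attribute [local instance] Curv2.stalkAlgebra
attribute [local instance] Curv2.resAlgebra
attribute [-instance] Groth.Agent.Lib.helper19.JacLocal.instFormallySmoothRingExt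

theorem not_isField_stalk_of_closed (X : Scheme.{u}) [IsIntegral X]
    (hdim : topologicalKrullDim X = 1) (x : X) (hx : IsClosed ({x} : Set X)) :
    ¬ IsField (X.presheaf.stalk x) := by
  intro hf
  have h0 : ringKrullDim (X.presheaf.stalk x) = 0 := ringKrullDim_eq_zero_of_isField hf
  rw [ringKrullDim_stalk_eq_coheight] at h0
  have hmax : IsMax x := Order.coheight_eq_zero.mp (by exact_mod_cast h0)
  have hη : genericPoint X ⤳ x := (genericPoint_spec X).specializes (Set.mem_univ x)
  have h1 : x ⤳ genericPoint X := hmax (hη : x ≤ genericPoint X)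
  have hηx : genericPoint X = x := h1.mem_closed hx (Set.mem_singleton x)
  have hall : ∀ y : X, y = x := by
    intro y
    have hy : x ⤳ y := hηx ▸ (genericPoint_spec X).specializes (Set.mem_univ y)
    exact hy.mem_closed hx rfl
  haveI : Subsingleton X := ⟨fun a b => (hall a).trans (hall b).symm⟩
  have h2 : topologicalKrullDim X = Order.krullDim X :=
    Order.krullDim_eq_of_orderIso (irreducibleSetEquivPoints (α := X))
  have h3 : Order.krullDim X ≤ 0 := Order.krullDim_nonpos_of_subsingleton
  rw [← h2, hdim] at h3
  exact absurd h3 (by norm_num)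

theorem S1556_aux (k : Type u) [Field k] (X : Scheme.{u}) [X.Over (Spec (CommRingCat.of k))]
    [IsIntegral X]
    [LocallyOfFinitePresentation (X ↘ (Spec (CommRingCat.of k)))]
    (hdim : topologicalKrullDim X = 1) (x : X) (hx : IsClosed ({x} : Set X))
    [Algebra.IsSeparable k (X.residueField x)] :
    IsDiscreteValuationRing (X.presheaf.stalk x) ↔
      x ∈ (X ↘ (Spec (CommRingCat.of k))).smoothLocus := by
  have hres : ∀ (V : X.Opens) (hV : IsAffineOpen V) (hxV : x ∈ V),
      letI := secAlgebra k X V
      Algebra.IsGeometricallyReduced k (hV.primeIdealOf ⟨x, hxV⟩).asIdeal.ResidueField := by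
    intro V hV hxV
    letI := secAlgebra k X V
    letI := X.presheaf.algebra_section_stalk ⟨x, hxV⟩
    haveI := hV.isLocalization_stalk ⟨x, hxV⟩
    haveI := secAlgebra_tower k X V x hxV
    let q := (hV.primeIdealOf ⟨x, hxV⟩).asIdeal
    let e0 : Localization.AtPrime q ≃ₐ[Γ(X, V)] X.presheaf.stalk x :=
      IsLocalization.algEquiv q.primeCompl (Localization.AtPrime q) (X.presheaf.stalk x)
    let ψ : q.ResidueField →+* X.residueField x :=
      IsLocalRing.ResidueField.map (e0 : Localization.AtPrime q →+* X.presheaf.stalk x)
    let ψa : q.ResidueField →ₐ[k] X.residueField x :=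
      { ψ with
        commutes' := fun r => by
          have h1 : algebraMap k q.ResidueField r = IsLocalRing.residue _
              (algebraMap Γ(X, V) (Localization.AtPrime q) (algebraMap k Γ(X, V) r)) := rfl
          show ψ (algebraMap k q.ResidueField r) = _
          rw [h1]
          show IsLocalRing.residue _
            (e0 (algebraMap Γ(X, V) (Localization.AtPrime q) (algebraMap k Γ(X, V) r))) = _
          rw [e0.commutes, ← IsScalarTower.algebraMap_apply k Γ(X, V) (X.presheaf.stalk x)]
          rfl }
    haveI : Algebra.IsGeometricallyReduced k (X.residueField x) :=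
      (Algebra.isGeometricallyReduced_field_iff k _).mpr
        (H14.SG.isReduced_tensor_of_isSeparable k (AlgebraicClosure k) (X.residueField x))
    exact Algebra.IsGeometricallyReduced.of_injective ψa ψa.toRingHom.injective
  rw [mem_smoothLocus_iff_regular k X x hres]
  constructor
  · intro h
    infer_instance
  · intro h
    haveI : IsDomain (X.presheaf.stalk x) := inferInstance
    have hd : ringKrullDim (X.presheaf.stalk x) ≤ 1 :=
      (Groth.Agent.Lib.helper9.LocFree.ringKrullDim_stalk_le_topologicalKrullDim X x).trans hdim.le
    haveI : IsPrincipalIdealRing (X.presheaf.stalk x) :=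
      Groth.Agent.Lib.helper9.LocFree.isPrincipalIdealRing_of_regular_dim_le_one _ hd
    exact { not_a_field' := fun h0 => (not_isField_stalk_of_closed X hdim x hx)
              (IsLocalRing.isField_iff_maximalIdeal_eq.mpr h0) }

end Groth.Agent.Lib.helper25.VarBC
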