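import Mathlib
import Groth.Prelude.Def_Curv2
import Groth.Agent.Lib.helper25.DvrSm
import Groth.Agent.Lib.helper26.FlatDVR

/-! A normal curve smooth away from closed points with separable residue fields is smooth
(S13844) (helper25). -/

universe u

open AlgebraicGeometry CategoryTheory Limits TensorProduct

namespace Groth.Agent.Lib.helper25.CurvSm2

set_option linter.style.haveILetI false
attribute [local instance] Curv2.resAlgebra

theorem S13844_aux (K : Type u) [Field K] (C : Scheme.{u}) [C.Over (Spec (CommRingCat.of K))]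
    [IsIntegral C] [LocallyOfFinitePresentation (C ↘ (Spec (CommRingCat.of K)))]
    (hN : ∀ x : C, IsIntegrallyClosed (C.presheaf.stalk x))
    (hdim : topologicalKrullDim C = 1) (S : Set C)
    (hS : ∀ x ∈ S, IsClosed ({x} : Set C) ∧ Algebra.IsSeparable K (C.residueField x))
    (hsm : ∀ x : C, x ∉ S → x ∈ (C ↘ (Spec (CommRingCat.of K))).smoothLocus) :
    AlgebraicGeometry.Smooth (C ↘ (Spec (CommRingCat.of K))) := by
  haveI : LocallyOfFiniteType (C ↘ (Spec (CommRingCat.of K))) := inferInstance
  haveI : IsLocallyNoetherian C :=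
    LocallyOfFiniteType.isLocallyNoetherian (C ↘ Spec (CommRingCat.of K))
  rw [← Scheme.Hom.smoothLocus_eq_top_iff, eq_top_iff]
  intro x _
  by_cases hxS : x ∈ S
  · obtain ⟨hcl, hsep⟩ := hS x hxS
    haveI := hsep
    rw [← Groth.Agent.Lib.helper25.VarBC.S1556_aux K C hdim x hcl]
    haveI := hN x
    haveI : IsDomain (C.presheaf.stalk x) := inferInstance
    have hd : ringKrullDim (C.presheaf.stalk x) ≤ 1 :=
      (Groth.Agent.Lib.helper9.LocFree.ringKrullDim_stalk_le_topologicalKrullDim C x).trans hdim.le
    haveI : IsPrincipalIdealRing (C.presheaf.stalk x) :=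
      Groth.Agent.Lib.helper26.FlatDVR.isPrincipalIdealRing_of_normal_dim_le_one _ hd
    have hnf := Groth.Agent.Lib.helper25.VarBC.not_isField_stalk_of_closed C hdim x hcl
    exact { not_a_field' := fun h0 => hnf (IsLocalRing.isField_iff_maximalIdeal_eq.mpr h0) }
  · exact hsm x hxS

end Groth.Agent.Lib.helper25.CurvSm2
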