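import Mathlib
import Groth.Agent.Lib.helper25.PBasisC

set_option autoImplicit false
set_option linter.unusedSectionVars false
universe u

namespace Groth.Agent.Lib.helper25.DVRp

open IsDiscreteValuationRing EGA41 Groth.Agent.Lib.helper25.PBasisA

section val
variable {R : Type u} [CommRing R] [IsDomain R] [IsDiscreteValuationRing R] (p : ℕ)
  [hp : Fact p.Prime] {π : R} (hπ : Irreducible π)

include hπ in
theorem addVal_term (i : ℕ) (e : R) :
    addVal R (π ^ i * e ^ p) = (i : ℕ∞) + p • addVal R e := by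
  rw [addVal_mul, addVal_pow, addVal_pow, addVal_uniformizer hπ, nsmul_one]

include hπ in
theorem addVal_term_ne (i j : Fin p) (hij : i ≠ j) (e e' : R) (he : e ≠ 0) :
    addVal R (π ^ (i : ℕ) * e ^ p) ≠ addVal R (π ^ (j : ℕ) * e' ^ p) := by
  rw [addVal_term p hπ, addVal_term p hπ]
  have h1 : addVal R e ≠ ⊤ := fun h => he (addVal_eq_top_iff.mp h)
  obtain ⟨a, ha⟩ := ENat.ne_top_iff_exists.mp h1
  rw [← ha]
  by_cases he' : e' = 0
  · rw [he', addVal_zero]
    intro h
    have : ((i : ℕ) : ℕ∞) + p • (a : ℕ∞) ≠ ⊤ := by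
      rw [nsmul_eq_mul]
      exact_mod_cast ENat.natCast_ne_top ((i : ℕ) + p * a)
    apply this
    rw [h, nsmul_eq_mul, ENat.mul_top (Nat.cast_ne_zero.mpr hp.out.ne_zero), add_top]
  · have h2 : addVal R e' ≠ ⊤ := fun h => he' (addVal_eq_top_iff.mp h)
    obtain ⟨b, hb⟩ := ENat.ne_top_iff_exists.mp h2
    rw [← hb]
    intro h
    rw [nsmul_eq_mul, nsmul_eq_mul] at h
    have h3 : (i : ℕ) + p * a = (j : ℕ) + p * b := by exact_mod_cast h
    have h4 : (i : ℕ) % p = (j : ℕ) % p := by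
      have := congrArg (· % p) h3
      simpa [Nat.add_mul_mod_self_left] using this
    rw [Nat.mod_eq_of_lt i.2, Nat.mod_eq_of_lt j.2] at h4
    exact hij (Fin.ext h4)

include hπ in
/-- the valuation of `Σ π^i e_i^p` is at most that of each term. -/
theorem addVal_sum_le (e : Fin p → R) (i : Fin p) :
    addVal R (∑ j : Fin p, π ^ (j : ℕ) * e j ^ p) ≤ addVal R (π ^ (i : ℕ) * e i ^ p) := by
  classical
  by_cases hall : ∀ j, e j = 0
  · rw [hall i, zero_pow hp.out.ne_zero, mul_zero, addVal_zero]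
    exact le_top
  · push_neg at hall
    obtain ⟨i₀, hi₀⟩ := hall
    obtain ⟨j, -, hj⟩ := Finset.exists_min_image (Finset.univ : Finset (Fin p))
      (fun j : Fin p => addVal R (π ^ (j : ℕ) * e j ^ p)) ⟨i₀, Finset.mem_univ _⟩
    have hπ0 : π ≠ 0 := hπ.ne_zero
    have hj0 : e j ≠ 0 := by
      intro h
      have h1 := hj i₀ (Finset.mem_univ _)
      rw [h, zero_pow hp.out.ne_zero, mul_zero, addVal_zero, top_le_iff, addVal_eq_top_iff] at h1
      exact (mul_ne_zero (pow_ne_zero _ hπ0) (pow_ne_zero _ hi₀)) h1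
    have hjt : addVal R (π ^ (j : ℕ) * e j ^ p) ≠ ⊤ := by
      rw [Ne, addVal_eq_top_iff]
      exact mul_ne_zero (pow_ne_zero _ hπ0) (pow_ne_zero _ hj0)
    have hlt : ∀ k ∈ (Finset.univ : Finset (Fin p)).erase j,
        addVal R (π ^ (j : ℕ) * e j ^ p) < addVal R (π ^ (k : ℕ) * e k ^ p) := by
      intro k hk
      exact lt_of_le_of_ne (hj k (Finset.mem_univ _))
        (addVal_term_ne p hπ j k (Finset.ne_of_mem_erase hk).symm _ _ hj0)
    have h1 := AddValuation.map_lt_sum (v := addVal R) hjt hlt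
    have h2 : addVal R (∑ k : Fin p, π ^ (k : ℕ) * e k ^ p) = addVal R (π ^ (j : ℕ) * e j ^ p) := by
      rw [← Finset.add_sum_erase Finset.univ _ (Finset.mem_univ j)]
      exact AddValuation.map_add_eq_of_lt_left _ h1
    rw [h2]
    exact hj i (Finset.mem_univ _)

include hπ in
theorem eq_zero_of_sum_eq_zero (e : Fin p → R) (h : ∑ j : Fin p, π ^ (j : ℕ) * e j ^ p = 0) (i : Fin p) :
    e i = 0 := by
  have h1 := addVal_sum_le p hπ e i
  rw [h, addVal_zero, top_le_iff, addVal_eq_top_iff] at h1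
  rcases mul_eq_zero.mp h1 with h2 | h2
  · exact absurd h2 (pow_ne_zero _ hπ.ne_zero)
  · exact (pow_eq_zero_iff hp.out.ne_zero).mp h2

end val

end Groth.Agent.Lib.helper25.DVRp
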