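import Mathlib
import Groth.Agent.Lib.helper25.DVR1

set_option autoImplicit false
set_option linter.unusedSectionVars false
universe u

namespace Groth.Agent.Lib.helper25.DVRp

open IsDiscreteValuationRing EGA41 Groth.Agent.Lib.helper25.PBasisA

section repr
variable {R : Type u} [CommRing R] [IsDomain R] [IsDiscreteValuationRing R] (p : ℕ)
  [hp : Fact p.Prime] [CharP R p] {π : R} (hπ : Irreducible π)

include hπ in
theorem repr_unique (c c' : Fin p → R)
    (h : ∑ i : Fin p, π ^ (i : ℕ) * c i ^ p = ∑ i : Fin p, π ^ (i : ℕ) * c' i ^ p) : c = c' := by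
  funext i
  have h1 : ∑ j : Fin p, π ^ (j : ℕ) * (c j - c' j) ^ p = 0 := by
    have : ∀ j : Fin p, π ^ (j : ℕ) * (c j - c' j) ^ p =
        π ^ (j : ℕ) * c j ^ p - π ^ (j : ℕ) * c' j ^ p := by
      intro j
      rw [sub_pow_char, mul_sub]
    rw [Finset.sum_congr rfl (fun j _ => this j), Finset.sum_sub_distrib, h, sub_self]
  have := eq_zero_of_sum_eq_zero p hπ (fun j => c j - c' j) h1 i
  exact sub_eq_zero.mp this

include hπ in
/-- if `s^p r = Σ π^i e_i^p` then `r = Σ π^i c_i^p`. -/
theorem repr_of_mul (r s : R) (hs : s ≠ 0) (e : Fin p → R)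
    (h : s ^ p * r = ∑ i : Fin p, π ^ (i : ℕ) * e i ^ p) :
    ∃ c : Fin p → R, r = ∑ i : Fin p, π ^ (i : ℕ) * c i ^ p := by
  have hdvd : ∀ i, s ∣ e i := by
    intro i
    rw [← addVal_le_iff_dvd]
    by_cases he : e i = 0
    · rw [he, addVal_zero]; exact le_top
    have h1 : addVal R (s ^ p) ≤ addVal R (π ^ (i : ℕ) * e i ^ p) := by
      refine le_trans ?_ (addVal_sum_le p hπ e i)
      rw [← h, addVal_le_iff_dvd]
      exact Dvd.intro _ rfl
    rw [addVal_term p hπ, addVal_pow] at h1
    have hs' : addVal R s ≠ ⊤ := fun h => hs (addVal_eq_top_iff.mp h)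
    have he' : addVal R (e i) ≠ ⊤ := fun h => he (addVal_eq_top_iff.mp h)
    obtain ⟨a, ha⟩ := ENat.ne_top_iff_exists.mp hs'
    obtain ⟨b, hb⟩ := ENat.ne_top_iff_exists.mp he'
    rw [← ha, ← hb] at h1 ⊢
    rw [nsmul_eq_mul, nsmul_eq_mul] at h1
    have h2 : p * a ≤ (i : ℕ) + p * b := by exact_mod_cast h1
    have h3 : a ≤ b := by
      by_contra hlt
      push Not at hlt
      have h4 : p * (b + 1) ≤ p * a := Nat.mul_le_mul_left p hlt
      have := i.2
      nlinarith
    exact_mod_cast h3
  choose c hc using hdvd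
  refine ⟨c, ?_⟩
  have h1 : s ^ p * r = s ^ p * ∑ i : Fin p, π ^ (i : ℕ) * c i ^ p := by
    rw [h, Finset.mul_sum]
    apply Finset.sum_congr rfl
    intro i _
    rw [hc i, mul_pow]
    ring
  exact mul_left_cancel₀ (pow_ne_zero p hs) h1

variable (kp : Subfield (FractionRing R))
  (hkp : ∀ x : FractionRing R, x ∈ kp ↔ ∃ y : FractionRing R, y ^ p = x)
  (hdeg : Module.finrank kp (FractionRing R) = p)

include hπ hkp in
theorem linearIndependent_pow :
    LinearIndependent kp (fun i : Fin p => (algebraMap R (FractionRing R) π) ^ (i : ℕ)) := by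
  rw [Fintype.linearIndependent_iff]
  intro g hg i
  -- g j = b_j ^ p
  have hb : ∀ j, ∃ b : FractionRing R, b ^ p = (g j : FractionRing R) := fun j =>
    (hkp _).mp (g j).2
  choose b hb using hb
  obtain ⟨s, hs⟩ := IsLocalization.exist_integer_multiples (nonZeroDivisors R)
    (Finset.univ : Finset (Fin p)) b
  have he : ∀ j, ∃ e : R, algebraMap R (FractionRing R) e = (s : R) • b j := fun j =>
    hs j (Finset.mem_univ _)
  choose e he using he
  have hs0 : (s : R) ≠ 0 := nonZeroDivisors.ne_zero s.2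
  have hsum : ∑ j : Fin p, π ^ (j : ℕ) * e j ^ p = 0 := by
    apply IsFractionRing.injective R (FractionRing R)
    rw [map_sum, map_zero]
    have : ∀ j : Fin p, algebraMap R (FractionRing R) (π ^ (j : ℕ) * e j ^ p) =
        (algebraMap R (FractionRing R) (s : R)) ^ p *
          (g j • (algebraMap R (FractionRing R) π) ^ (j : ℕ)) := by
      intro j
      have h1 : algebraMap R (FractionRing R) (e j) ^ p =
          (algebraMap R (FractionRing R) (s : R)) ^ p * (g j : FractionRing R) := by
        rw [he j, Algebra.smul_def, mul_pow, hb j]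
      rw [map_mul, map_pow, map_pow, h1, Subfield.smul_def, smul_eq_mul]
      ring
    rw [Finset.sum_congr rfl (fun j _ => this j), ← Finset.mul_sum, hg, mul_zero]
  have hei := eq_zero_of_sum_eq_zero p hπ e hsum i
  have hbi : b i = 0 := by
    have := he i
    rw [hei, map_zero, Algebra.smul_def] at this
    rcases mul_eq_zero.mp this.symm with h | h
    · exact absurd ((map_eq_zero_iff _ (IsFractionRing.injective R (FractionRing R))).mp h) hs0
    · exact h
  apply Subtype.ext
  rw [← hb i, hbi, zero_pow hp.out.ne_zero]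
  rfl

include hπ hkp hdeg in
theorem exists_repr (r : R) : ∃ c : Fin p → R, r = ∑ i : Fin p, π ^ (i : ℕ) * c i ^ p := by
  have hli := linearIndependent_pow p hπ kp hkp
  haveI : Module.Finite kp (FractionRing R) :=
    Module.finite_of_finrank_pos (by rw [hdeg]; exact hp.out.pos)
  have hsp := hli.span_eq_top_of_card_eq_finrank' (by rw [Fintype.card_fin, hdeg])
  have hmem : algebraMap R (FractionRing R) r ∈
      Submodule.span kp (Set.range fun i : Fin p => (algebraMap R (FractionRing R) π) ^ (i : ℕ)) := by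
    rw [hsp]; trivial
  obtain ⟨g, hg⟩ := (Submodule.mem_span_range_iff_exists_fun kp).mp hmem
  have hb : ∀ j, ∃ b : FractionRing R, b ^ p = (g j : FractionRing R) := fun j =>
    (hkp _).mp (g j).2
  choose b hb using hb
  obtain ⟨s, hs⟩ := IsLocalization.exist_integer_multiples (nonZeroDivisors R)
    (Finset.univ : Finset (Fin p)) b
  have he : ∀ j, ∃ e : R, algebraMap R (FractionRing R) e = (s : R) • b j := fun j =>
    hs j (Finset.mem_univ _)
  choose e he using he
  have hs0 : (s : R) ≠ 0 := nonZeroDivisors.ne_zero s.2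
  apply repr_of_mul p hπ r (s : R) hs0 e
  apply IsFractionRing.injective R (FractionRing R)
  rw [map_mul, map_pow, ← hg, map_sum, Finset.mul_sum]
  apply Finset.sum_congr rfl
  intro j _
  have h1 : algebraMap R (FractionRing R) (e j) ^ p =
      (algebraMap R (FractionRing R) (s : R)) ^ p * (g j : FractionRing R) := by
    rw [he j, Algebra.smul_def, mul_pow, hb j]
  rw [map_mul, map_pow, map_pow, h1, Subfield.smul_def, smul_eq_mul]
  ring

include hπ hkp hdeg in
theorem existsUnique_repr (r : R) :
    ∃! c : Fin p → R, r = ∑ i : Fin p, π ^ (i : ℕ) * c i ^ p := by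
  obtain ⟨c, hc⟩ := exists_repr p hπ kp hkp hdeg r
  exact ⟨c, hc, fun c' hc' => repr_unique p hπ c' c (hc'.symm.trans hc)⟩

end repr

end Groth.Agent.Lib.helper25.DVRp
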