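import Mathlib
import Groth.Agent.Lib.helper25.DVR2

set_option autoImplicit false
set_option linter.unusedSectionVars false
universe u

namespace Groth.Agent.Lib.helper25.DVRp

open IsDiscreteValuationRing EGA41 Groth.Agent.Lib.helper25.PBasisA

section unram
variable (R₀ F S : Type*) [CommRing R₀] [CommRing F] [CommRing S] [Algebra R₀ F]
  [Algebra.FormallyUnramified R₀ F] [Algebra R₀ S] [Algebra F S] [IsScalarTower R₀ F S]

theorem bijective_map_of_formallyUnramified :
    Function.Bijective (KaehlerDifferential.map R₀ F S S) := by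
  refine ⟨?_, KaehlerDifferential.map_surjective R₀ F S⟩
  rw [injective_iff_map_eq_zero]
  intro x hx
  obtain ⟨t, rfl⟩ := (KaehlerDifferential.exact_mapBaseChange_map R₀ F S x).1 hx
  haveI : Subsingleton (Ω[F⁄R₀]) := inferInstance
  rw [Subsingleton.elim t 0, map_zero]

end unram

section omega
variable {R : Type u} [CommRing R] [IsDomain R] [IsDiscreteValuationRing R] (p : ℕ)
  [hp : Fact p.Prime] [CharP R p] {π : R} (hπ : Irreducible π)
  (hrepr : ∀ r : R, ∃ c : Fin p → R, r = ∑ i : Fin p, π ^ (i : ℕ) * c i ^ p)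

/-- the index equivalence. -/
noncomputable def idxEquiv : Fin p ≃ {e : PUnit.{u+1} →₀ ℕ // ∀ i, e i < p} where
  toFun i := ⟨Finsupp.single PUnit.unit (i : ℕ), fun j => by
    rw [Subsingleton.elim j PUnit.unit, Finsupp.single_eq_same]; exact i.2⟩
  invFun e := ⟨e.1 PUnit.unit, e.2 _⟩
  left_inv i := by
    apply Fin.ext
    simp
  right_inv e := by
    apply Subtype.ext
    apply Finsupp.ext
    intro j
    rw [Subsingleton.elim j PUnit.unit]
    simp

include hπ hrepr in
theorem isPBasis_uniformizer {F : Type u} [Field F] [CharP F p] [PerfectRing F p] [Algebra F R] :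
    IsPBasis p F (fun _ : PUnit.{u+1} => π) := by
  have hmon : ∀ i : Fin p, pMonomial (fun _ : PUnit.{u+1} => π) (idxEquiv p i).1 = π ^ (i : ℕ) := by
    intro i
    exact pMonomial_single _ _ _
  constructor
  · rw [IsPIndependent, ← linearIndependent_equiv (idxEquiv.{u} p), Fintype.linearIndependent_iff]
    intro g hg i
    have hb : ∀ j, ∃ b : R, b ^ p = (g j : R) := fun j =>
      Groth.Agent.Lib.helper25.PBasisC.exists_pow_eq_of_mem_pPower (p := p) (A := F) _ (g j).2
    choose b hb using hb
    have hsum : ∑ j : Fin p, π ^ (j : ℕ) * b j ^ p = 0 := by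
      rw [← hg]
      apply Finset.sum_congr rfl
      intro j _
      rw [Function.comp_apply, hmon, Subalgebra.smul_def, smul_eq_mul, hb j, mul_comm]
    have hbi := eq_zero_of_sum_eq_zero p hπ b hsum i
    apply Subtype.ext
    rw [← hb i, hbi, zero_pow hp.out.ne_zero]
    rfl
  · rw [IsPGenerating, eq_top_iff]
    intro r _
    obtain ⟨c, hc⟩ := hrepr r
    rw [hc]
    apply Submodule.sum_mem
    intro i _
    have h1 : π ^ (i : ℕ) * c i ^ p =
        (⟨c i ^ p, Algebra.subset_adjoin ⟨c i, rfl⟩⟩ : pPowerSubalgebra p F R) •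
          pMonomial (fun _ : PUnit.{u+1} => π) (idxEquiv p i).1 := by
      rw [hmon, Subalgebra.smul_def, smul_eq_mul, mul_comm]
    rw [h1]
    exact Submodule.smul_mem _ _ (Submodule.subset_span ⟨idxEquiv p i, rfl⟩)

include hπ hrepr in
theorem bijective_smul_D :
    Function.Bijective (fun r : R => r • KaehlerDifferential.D ℤ R π) := by
  -- the prime field in universe u
  let F := ULift.{u} (ZMod p)
  letI : Algebra F R :=
    ((ZMod.castHom (dvd_refl p) R).comp (ULift.ringEquiv : F ≃+* ZMod p).toRingHom).toAlgebra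
  haveI : CharP F p := ((algebraMap F R).charP_iff (algebraMap F R).injective p).2 inferInstance
  haveI : PerfectRing F p := inferInstance
  have hsurj : Function.Surjective (algebraMap ℤ F) := by
    intro x
    obtain ⟨n, hn⟩ := ZMod.intCast_surjective x.down
    refine ⟨n, ?_⟩
    apply ULift.ext
    rw [← hn]
    rfl
  haveI : Algebra.FormallyUnramified ℤ F :=
    Algebra.FormallyUnramified.of_surjective (Algebra.ofId ℤ F) hsurj
  obtain ⟨b, hb⟩ := kaehler_basis_of_pBasis (isPBasis_uniformizer p hπ hrepr (F := F))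
  let e : Ω[R⁄ℤ] ≃ₗ[R] Ω[R⁄F] :=
    LinearEquiv.ofBijective (KaehlerDifferential.map ℤ F R R)
      (bijective_map_of_formallyUnramified ℤ F R)
  have he : e (KaehlerDifferential.D ℤ R π) = b PUnit.unit := by
    rw [hb]
    show KaehlerDifferential.map ℤ F R R (KaehlerDifferential.D ℤ R π) = _
    rw [KaehlerDifferential.map_D]
    rfl
  constructor
  · intro r r' h
    have h1 : e (r • KaehlerDifferential.D ℤ R π) = e (r' • KaehlerDifferential.D ℤ R π) :=
      congrArg e h
    rw [map_smul, map_smul, he] at h1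
    have h2 := congrArg (fun ω => b.repr ω PUnit.unit) h1
    simpa using h2
  · intro ω
    refine ⟨b.repr (e ω) PUnit.unit, ?_⟩
    apply e.injective
    show e (b.repr (e ω) PUnit.unit • KaehlerDifferential.D ℤ R π) = e ω
    rw [map_smul, he]
    have := b.sum_repr (e ω)
    rw [Fintype.sum_unique] at this
    exact this

end omega

end Groth.Agent.Lib.helper25.DVRp
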