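import Mathlib
import Groth.Agent.Lib.helper25.Delta
import Groth.Agent.Lib.helper25.Sep3
import Groth.Agent.Lib.helper25.Cart1

set_option autoImplicit false
set_option linter.unusedSectionVars false
universe u u' w

namespace Groth.Agent.Lib.helper25.Delta2

open TensorProduct KaehlerDifferential Groth.Agent.Lib.helper25.Delta

section trans
variable (R : Type*) [CommRing R] {K L M : Type*} [Field K] [Field L] [Field M]
  [Algebra R K] [Algebra R L] [Algebra R M] [Algebra K L] [Algebra L M] [Algebra K M]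
  [IsScalarTower R K L] [IsScalarTower R L M] [IsScalarTower R K M] [IsScalarTower K L M]

/-- the transition map `M ⊗_K Ω[K/R] → M ⊗_L Ω[L/R]`. -/
noncomputable def T : M ⊗[K] Ω[K⁄R] →ₗ[M] M ⊗[L] Ω[L⁄R] :=
  (mapBaseChange R K L).baseChange M ∘ₗ
    (AlgebraTensorModule.cancelBaseChange K L M M Ω[K⁄R]).symm.toLinearMap

theorem T_tmul (m : M) (ω : Ω[K⁄R]) :
    T R (L := L) (m ⊗ₜ[K] ω) = m ⊗ₜ[L] KaehlerDifferential.map R R K L ω := by
  rw [T, LinearMap.comp_apply, LinearEquiv.coe_coe, AlgebraTensorModule.cancelBaseChange_symm_tmul,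
    LinearMap.baseChange_tmul, mapBaseChange_tmul, one_smul]

theorem T_tmul_D (m : M) (x : K) :
    T R (L := L) (m ⊗ₜ[K] D R K x) = m ⊗ₜ[L] D R L (algebraMap K L x) := by
  rw [T_tmul, KaehlerDifferential.map_D]

theorem mapBaseChange_T (t : M ⊗[K] Ω[K⁄R]) :
    mapBaseChange R L M (T R (L := L) t) = mapBaseChange R K M t :=
  Groth.Agent.Lib.helper25.Cart.u_tower R t

theorem T_eq_zero_iff (t : M ⊗[K] Ω[K⁄R]) :
    T R (L := L) t = 0 ↔ (mapBaseChange R K L).baseChange M
      ((AlgebraTensorModule.cancelBaseChange K L M M Ω[K⁄R]).symm t) = 0 := Iff.rfl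

end trans

section generic

theorem rank_ker_baseChange {L M X Y : Type w} [Field L] [Field M] [Algebra L M]
    [AddCommGroup X] [AddCommGroup Y] [Module L X] [Module L Y] (h : X →ₗ[L] Y) :
    Module.rank M (LinearMap.ker (h.baseChange M)) = Module.rank L (LinearMap.ker h) := by
  have ek : M ⊗[L] LinearMap.ker h ≃ₗ[M] LinearMap.ker (h.baseChange M) :=
    LinearMap.tensorKerEquiv M M h
  rw [← ek.rank_eq, Module.rank_baseChange, Cardinal.lift_id]

end generic

section main
variable {k₀ : Type u} {k : Type u'} {K L M : Type w}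
    [Field k₀] [Field k] [Field K] [Field L] [Field M] [Algebra k₀ k]
    [Algebra k₀ K] [Algebra k K] [IsScalarTower k₀ k K] [Algebra k₀ L] [Algebra k L] [IsScalarTower k₀ k L]
    [Algebra K L] [Algebra K M] [Algebra L M] [IsScalarTower K L M]
    [Algebra k₀ M] [Algebra k M] [IsScalarTower k₀ K L] [IsScalarTower k K L]
    [IsScalarTower k₀ K M] [IsScalarTower k K M] [IsScalarTower k₀ L M] [IsScalarTower k L M]

theorem A_T (t : M ⊗[K] Ω[K⁄k₀]) :
    (KaehlerDifferential.map k₀ k L L).baseChange M (T k₀ (L := L) t) =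
      T k (L := L) ((KaehlerDifferential.map k₀ k K K).baseChange M t) := by
  induction t using TensorProduct.induction_on with
  | zero => simp
  | add x y hx hy => rw [map_add, map_add, hx, hy, map_add, map_add]
  | tmul m ω =>
    have hω : ω ∈ Submodule.span K (Set.range (KaehlerDifferential.D k₀ K)) := by
      rw [KaehlerDifferential.span_range_derivation]; trivial
    induction hω using Submodule.span_induction generalizing m with
    | mem y hy =>
      obtain ⟨x, rfl⟩ := hy
      rw [T_tmul_D, LinearMap.baseChange_tmul, LinearMap.baseChange_tmul, KaehlerDifferential.map_D,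
        KaehlerDifferential.map_D, Algebra.algebraMap_self, RingHom.id_apply,
        Algebra.algebraMap_self, RingHom.id_apply, T_tmul_D]
    | zero => simp
    | add a b _ _ ha hb =>
      rw [TensorProduct.tmul_add, map_add, map_add, ha, hb, map_add, map_add]
    | smul c a _ ha =>
      rw [← TensorProduct.smul_tmul]
      exact ha (c • m)

theorem T_theta (ξ : M ⊗[k] Ω[k⁄k₀]) :
    T k₀ (L := L) (theta (k := k₀) (k' := k) (K := K) (L := M) ξ) =
      theta (k := k₀) (k' := k) (K := L) (L := M) ξ := by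
  induction ξ using induction_tmul_D with
  | h0 => simp
  | hadd x y hx hy => rw [map_add, map_add, map_add, hx, hy]
  | hD m a =>
    rw [theta_tmul_D, theta_tmul_D, T_tmul_D, ← IsScalarTower.algebraMap_apply k K L]

theorem exists_preimage (w : M ⊗[L] Ω[L⁄k₀]) (h1 : mapBaseChange k₀ L M w = 0)
    (h2 : (KaehlerDifferential.map k₀ k L L).baseChange M w = 0) :
    ∃ z : M ⊗[K] Ω[K⁄k₀], mapBaseChange k₀ K M z = 0 ∧
      (KaehlerDifferential.map k₀ k K K).baseChange M z = 0 ∧ T k₀ (L := L) z = w := by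
  obtain ⟨ξ, rfl⟩ := Groth.Agent.Lib.helper25.Sep.exists_theta_of_A_eq_zero
    (k := k₀) (k' := k) (K := L) (L := M) w h2
  refine ⟨theta (k := k₀) (k' := k) (K := K) (L := M) ξ, ?_, ?_, T_theta ξ⟩
  · rw [← mapBaseChange_T k₀ (L := L), T_theta]
    exact h1
  · exact A_theta ξ

/-- naturality of `cancelBaseChange` w.r.t. `A`. -/
theorem A_cancel (s : M ⊗[L] (L ⊗[K] Ω[K⁄k₀])) :
    (KaehlerDifferential.map k₀ k K K).baseChange M
        (AlgebraTensorModule.cancelBaseChange K L M M Ω[K⁄k₀] s) =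
      AlgebraTensorModule.cancelBaseChange K L M M Ω[K⁄k]
        (((KaehlerDifferential.map k₀ k K K).baseChange L).baseChange M s) := by
  induction s using TensorProduct.induction_on with
  | zero => simp
  | add x y hx hy => rw [map_add, map_add, hx, hy, map_add, map_add]
  | tmul m t =>
    induction t using TensorProduct.induction_on with
    | zero => simp
    | add x y hx hy =>
      rw [TensorProduct.tmul_add, map_add, map_add, hx, hy, map_add, map_add]
    | tmul l ω =>
      rw [AlgebraTensorModule.cancelBaseChange_tmul, LinearMap.baseChange_tmul,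
        LinearMap.baseChange_tmul, LinearMap.baseChange_tmul,
        AlgebraTensorModule.cancelBaseChange_tmul]

/-- the product map whose kernel is `Δ(L/K)`. -/
noncomputable abbrev hLK : L ⊗[K] Ω[K⁄k₀] →ₗ[L] Ω[L⁄k₀] × (L ⊗[K] Ω[K⁄k]) :=
  (mapBaseChange k₀ K L).prod ((KaehlerDifferential.map k₀ k K K).baseChange L)

theorem hLK_baseChange_eq_zero_iff (s : M ⊗[L] (L ⊗[K] Ω[K⁄k₀])) :
    (hLK (k₀ := k₀) (k := k) (K := K) (L := L)).baseChange M s = 0 ↔
      (mapBaseChange k₀ K L).baseChange M s = 0 ∧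
        ((KaehlerDifferential.map k₀ k K K).baseChange L).baseChange M s = 0 := by
  constructor
  · intro h
    constructor
    · have e : mapBaseChange k₀ K L =
          (LinearMap.fst L _ _) ∘ₗ (hLK (k₀ := k₀) (k := k) (K := K) (L := L)) := by
        rw [hLK, LinearMap.fst_prod]
      rw [e, LinearMap.baseChange_comp, LinearMap.comp_apply, h, map_zero]
    · have e : (KaehlerDifferential.map k₀ k K K).baseChange L =
          (LinearMap.snd L _ _) ∘ₗ (hLK (k₀ := k₀) (k := k) (K := K) (L := L)) := by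
        rw [hLK, LinearMap.snd_prod]
      rw [e, LinearMap.baseChange_comp, LinearMap.comp_apply, h, map_zero]
  · rintro ⟨h1, h2⟩
    have e : hLK (k₀ := k₀) (k := k) (K := K) (L := L) =
        (LinearMap.inl L _ _) ∘ₗ (mapBaseChange k₀ K L) +
          (LinearMap.inr L _ _) ∘ₗ ((KaehlerDifferential.map k₀ k K K).baseChange L) := by
      apply LinearMap.ext
      intro x
      simp [hLK]
    rw [e, LinearMap.baseChange_add, LinearMap.add_apply, LinearMap.baseChange_comp,
      LinearMap.baseChange_comp, LinearMap.comp_apply, LinearMap.comp_apply, h1, h2, map_zero,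
      map_zero, add_zero]

theorem mem_iff (z : M ⊗[K] Ω[K⁄k₀]) :
    (mapBaseChange k₀ K M z = 0 ∧ (KaehlerDifferential.map k₀ k K K).baseChange M z = 0 ∧
        T k₀ (L := L) z = 0) ↔
      (hLK (k₀ := k₀) (k := k) (K := K) (L := L)).baseChange M
        ((AlgebraTensorModule.cancelBaseChange K L M M Ω[K⁄k₀]).symm z) = 0 := by
  rw [hLK_baseChange_eq_zero_iff]
  have hA := A_cancel (k₀ := k₀) (k := k) (K := K) (L := L) (M := M)
    ((AlgebraTensorModule.cancelBaseChange K L M M Ω[K⁄k₀]).symm z)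
  rw [LinearEquiv.apply_symm_apply] at hA
  constructor
  · rintro ⟨_, h2, h3⟩
    refine ⟨h3, ?_⟩
    apply (AlgebraTensorModule.cancelBaseChange K L M M Ω[K⁄k]).injective
    rw [← hA, h2, map_zero]
  · rintro ⟨h1, h2⟩
    have h3 : T k₀ (L := L) z = 0 := h1
    refine ⟨?_, ?_, h3⟩
    · rw [← mapBaseChange_T k₀ (L := L), h3, map_zero]
    · rw [hA, h2, map_zero]

theorem S5837_aux :
    Module.rank M ↥(EGA41.imperfection k₀ K M ⊓
          LinearMap.ker ((KaehlerDifferential.map k₀ k K K).baseChange M)) =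
      Module.rank M ↥(EGA41.imperfection k₀ L M ⊓
            LinearMap.ker ((KaehlerDifferential.map k₀ k L L).baseChange M)) +
        Module.rank L ↥(EGA41.imperfection k₀ K L ⊓
            LinearMap.ker ((KaehlerDifferential.map k₀ k K K).baseChange L)) := by
  let ΔK : Submodule M (M ⊗[K] Ω[K⁄k₀]) := EGA41.imperfection k₀ K M ⊓
    LinearMap.ker ((KaehlerDifferential.map k₀ k K K).baseChange M)
  let ΔL : Submodule M (M ⊗[L] Ω[L⁄k₀]) := EGA41.imperfection k₀ L M ⊓
    LinearMap.ker ((KaehlerDifferential.map k₀ k L L).baseChange M)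
  have memK : ∀ z, z ∈ ΔK ↔ (mapBaseChange k₀ K M z = 0 ∧
      (KaehlerDifferential.map k₀ k K K).baseChange M z = 0) := fun z => Iff.rfl
  have memL : ∀ w, w ∈ ΔL ↔ (mapBaseChange k₀ L M w = 0 ∧
      (KaehlerDifferential.map k₀ k L L).baseChange M w = 0) := fun w => Iff.rfl
  let τ : ΔK →ₗ[M] M ⊗[L] Ω[L⁄k₀] := (T k₀ (L := L)) ∘ₗ ΔK.subtype
  have hrange : LinearMap.range τ = ΔL := by
    ext w
    constructor
    · rintro ⟨⟨z, hz⟩, rfl⟩
      rw [memK] at hz
      rw [memL]
      refine ⟨?_, ?_⟩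
      · change mapBaseChange k₀ L M (T k₀ (L := L) z) = 0
        rw [mapBaseChange_T, hz.1]
      · change (KaehlerDifferential.map k₀ k L L).baseChange M (T k₀ (L := L) z) = 0
        rw [A_T, hz.2, map_zero]
    · intro hw
      rw [memL] at hw
      obtain ⟨z, h1, h2, h3⟩ := exists_preimage (K := K) w hw.1 hw.2
      exact ⟨⟨z, (memK z).2 ⟨h1, h2⟩⟩, h3⟩
  -- the kernel
  let c := AlgebraTensorModule.cancelBaseChange K L M M Ω[K⁄k₀]
  let f : LinearMap.ker τ →ₗ[M]
      LinearMap.ker ((hLK (k₀ := k₀) (k := k) (K := K) (L := L)).baseChange M) :=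
    LinearMap.codRestrict _ (c.symm.toLinearMap ∘ₗ ΔK.subtype ∘ₗ (LinearMap.ker τ).subtype)
      (fun x => by
        have hx1 := (memK x.1.1).1 x.1.2
        have hx2 : T k₀ (L := L) x.1.1 = 0 := x.2
        exact (mem_iff (L := L) x.1.1).1 ⟨hx1.1, hx1.2, hx2⟩)
  have hf : Function.Bijective f := by
    constructor
    · intro x y hxy
      have h1 : c.symm x.1.1 = c.symm y.1.1 := congrArg Subtype.val hxy
      exact Subtype.ext (Subtype.ext (c.symm.injective h1))
    · rintro ⟨s, hs⟩
      have hs' : (hLK (k₀ := k₀) (k := k) (K := K) (L := L)).baseChange M (c.symm (c s)) = 0 := by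
        rw [LinearEquiv.symm_apply_apply]; exact hs
      obtain ⟨h1, h2, h3⟩ := (mem_iff (L := L) (c s)).2 hs'
      refine ⟨⟨⟨c s, (memK _).2 ⟨h1, h2⟩⟩, h3⟩, ?_⟩
      apply Subtype.ext
      change c.symm (c s) = s
      rw [LinearEquiv.symm_apply_apply]
  have e1 : Module.rank M (LinearMap.ker τ) =
      Module.rank M (LinearMap.ker ((hLK (k₀ := k₀) (k := k) (K := K) (L := L)).baseChange M)) :=
    (LinearEquiv.ofBijective f hf).rank_eq
  have e2 : Module.rank M (LinearMap.ker ((hLK (k₀ := k₀) (k := k) (K := K) (L := L)).baseChange M)) =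
      Module.rank L (LinearMap.ker (hLK (k₀ := k₀) (k := k) (K := K) (L := L))) := by
    exact rank_ker_baseChange (hLK (k₀ := k₀) (k := k) (K := K) (L := L))
  have e3 : LinearMap.ker (hLK (k₀ := k₀) (k := k) (K := K) (L := L)) =
      EGA41.imperfection k₀ K L ⊓ LinearMap.ker ((KaehlerDifferential.map k₀ k K K).baseChange L) :=
    LinearMap.ker_prod _ _
  have e4 := LinearMap.rank_range_add_rank_ker (R := M) (M := ΔK) (M₁ := M ⊗[L] Ω[L⁄k₀]) τ
  rw [hrange, e1, e2, e3] at e4
  exact e4.symm

end main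

end Groth.Agent.Lib.helper25.Delta2
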