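import Mathlib
import Groth.Prelude.Def_FrobAlg
import Groth.Agent.Lib.helper25.FrobA

set_option autoImplicit false
universe u v w

namespace Groth.Agent.Lib.helper25.FrobB
open TensorProduct FrobAlg Groth.Agent.Lib.helper25.FrobA

section basic
variable (p : ℕ) [Fact p.Prime] (A : Type u) [CommRing A] [CharP A p]
  (B : Type v) [CommRing B] [Algebra A B]

/-- Frobenius `B → FT p A B` as an `A`-algebra map (no `CharP B p` needed). -/
noncomputable def frobHom' : B →ₐ[A] FT p A B where
  toRingHom := (toFT p A B : B →+* FT p A B).comp (powHom p A B)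
  commutes' a := by
    change toFT p A B ((algebraMap A B a) ^ p) = toFT p A B ((algebraMap A B a) ^ p)
    rfl

/-- The relative Frobenius without the `CharP B p` hypothesis. -/
noncomputable def relFrob' : BaseChange p A B →+* B :=
  ((toFT p A B).symm : FT p A B →+* B).comp
    (Algebra.TensorProduct.lift (frobHom' p A B) (inclFT p A B)
      (fun _ _ => Commute.all _ _)).toRingHom

theorem relFrob'_tmul (b : B) (t : Twist p A) :
    relFrob' p A B (b ⊗ₜ t) = b ^ p * algebraMap A B ((toTwist p A).symm t) := by
  unfold relFrob'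
  simp only [AlgHom.toRingHom_eq_coe, RingHom.coe_comp, RingHom.coe_coe, Function.comp_apply,
    Algebra.TensorProduct.lift_tmul]
  rfl

theorem relFrob_eq_relFrob' [CharP B p] : relFrob p A B = relFrob' p A B := by
  refine RingHom.ext fun x => ?_
  induction x using TensorProduct.induction_on with
  | zero => simp
  | tmul b t => rw [relFrob_tmul, relFrob'_tmul]
  | add x y hx hy => rw [map_add, map_add, hx, hy]

theorem relFrob'_tmul_one (b : B) : relFrob' p A B (b ⊗ₜ 1) = b ^ p := by
  rw [relFrob'_tmul]
  have : (toTwist p A).symm 1 = 1 := map_one _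
  rw [this, map_one, mul_one]

theorem cast_baseChange' : ((p : ℕ) : BaseChange p A B) = 0 :=
  cast_eq_zero_of_algebra p (Twist p A) _

/-- `x ^ p = relFrob' x ⊗ 1`. -/
theorem pow_eq_relFrob'_tmul (x : BaseChange p A B) :
    x ^ p = (relFrob' p A B x) ⊗ₜ[A] (1 : Twist p A) := by
  induction x using TensorProduct.induction_on with
  | zero => simp [zero_pow (Fact.out : p.Prime).ne_zero]
  | tmul b t =>
    rw [relFrob'_tmul, Algebra.TensorProduct.tmul_pow]
    have h1 : t ^ p = ((toTwist p A).symm t) • (1 : Twist p A) := by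
      rw [Algebra.smul_def, mul_one, algebraMap_twist, map_pow, RingEquiv.apply_symm_apply]
    rw [h1, TensorProduct.tmul_smul, TensorProduct.smul_tmul', Algebra.smul_def, mul_comm]
  | add x y hx hy =>
    rw [add_pow_of_cast_eq_zero p (cast_baseChange' p A B), hx, hy, map_add, TensorProduct.add_tmul]

variable {B} in
/-- Naturality of the relative Frobenius. -/
theorem relFrob'_map {B' : Type w} [CommRing B'] [Algebra A B'] (g : B →ₐ[A] B')
    (x : BaseChange p A B) :
    relFrob' p A B' (Algebra.TensorProduct.map g (AlgHom.id A (Twist p A)) x) =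
      g (relFrob' p A B x) := by
  induction x using TensorProduct.induction_on with
  | zero => simp
  | tmul b t =>
    rw [Algebra.TensorProduct.map_tmul, relFrob'_tmul, relFrob'_tmul, map_mul, map_pow,
      AlgHom.commutes, AlgHom.coe_id, id_eq]
  | add x y hx hy => rw [map_add, map_add, map_add, map_add, hx, hy]

end basic


section generic

/-- A criterion for a family `g` to be a basis of `S'` over `S`, by comparing with bases over a
smaller ring `R₀`. -/
theorem bijective_linearCombination_of_bases {R₀ S S' : Type*} [CommRing R₀] [CommRing S]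
    [CommRing S'] [Algebra R₀ S] [Algebra S S'] [Algebra R₀ S'] [IsScalarTower R₀ S S']
    {M N E : Type*} (b : Module.Basis M R₀ S) (b' : Module.Basis N R₀ S') (g : E → S')
    (eq : E × M ≃ N)
    (h : ∀ e m, algebraMap S S' (b m) * g e = b' (eq (e, m))) :
    Function.Bijective (Finsupp.linearCombination S g) := by
  classical
  let b₁ : Module.Basis (Σ _ : E, M) R₀ (E →₀ S) := Finsupp.basis (fun _ => b)
  let eq' : (Σ _ : E, M) ≃ N := (Equiv.sigmaEquivProd E M).trans eq
  let L : (E →₀ S) ≃ₗ[R₀] S' := b₁.equiv b' eq'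
  have hL : (Finsupp.linearCombination S g).restrictScalars R₀ = L.toLinearMap := by
    refine b₁.ext fun ⟨e, m⟩ => ?_
    rw [LinearEquiv.coe_coe, Module.Basis.equiv_apply, LinearMap.restrictScalars_apply]
    simp only [b₁, Finsupp.coe_basis, Finsupp.linearCombination_single, eq', Equiv.trans_apply,
      Equiv.sigmaEquivProd_apply]
    rw [Algebra.smul_def, h]
  have : (Finsupp.linearCombination S g : (E →₀ S) → S') = L := by
    funext x
    exact LinearMap.congr_fun hL x
  rw [this]
  exact L.bijective

end generic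



section generic

/-- Variant of `bijective_linearCombination_of_bases` where the `R₀`-structure on `S'` is the
composite one (not an instance). -/
theorem bijective_linearCombination_of_bases' {R₀ S S' : Type*} [CommRing R₀] [CommRing S]
    [CommRing S'] [Algebra R₀ S] [Algebra S S']
    {M N E : Type*} (b : Module.Basis M R₀ S)
    (b' : @Module.Basis N R₀ S' _ _
      (((algebraMap S S').comp (algebraMap R₀ S)).toAlgebra.toModule)) (g : E → S')
    (eq : E × M ≃ N)
    (h : ∀ e m, algebraMap S S' (b m) * g e =
      @DFunLike.coe _ _ _ (@Module.Basis.instFunLike N R₀ S' _ _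
      (((algebraMap S S').comp (algebraMap R₀ S)).toAlgebra.toModule)) b' (eq (e, m))) :
    Function.Bijective (Finsupp.linearCombination S g) := by
  letI : Algebra R₀ S' := ((algebraMap S S').comp (algebraMap R₀ S)).toAlgebra
  haveI : IsScalarTower R₀ S S' := IsScalarTower.of_algebraMap_eq (fun _ => rfl)
  exact bijective_linearCombination_of_bases b b' g eq h

end generic



section mvpoly

/-- The bijection `(e, m) ↦ p • m + e` between `(σ → Fin p) × (σ →₀ ℕ)` and `σ →₀ ℕ`. -/
noncomputable def idxEquiv (p : ℕ) (hp : 0 < p) (σ : Type w) [Finite σ] :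
    (σ → Fin p) × (σ →₀ ℕ) ≃ (σ →₀ ℕ) where
  toFun em := p • em.2 + Finsupp.equivFunOnFinite.symm (fun i => ((em.1 i : Fin p) : ℕ))
  invFun m := (fun i => ⟨m i % p, Nat.mod_lt _ hp⟩, m.mapRange (· / p) (Nat.zero_div p))
  left_inv := by
    rintro ⟨e, m⟩
    refine Prod.ext ?_ ?_
    · funext i
      apply Fin.ext
      simp [Nat.mul_add_mod, Nat.mod_eq_of_lt (e i).2]
    · ext i
      simp only [Finsupp.mapRange_apply, Finsupp.coe_add, Finsupp.coe_smul, Pi.add_apply,
        Pi.smul_apply, smul_eq_mul, Finsupp.equivFunOnFinite_symm_apply_apply]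
      rw [Nat.mul_add_div hp, Nat.div_eq_of_lt (e i).2, add_zero]
  right_inv := by
    intro m
    ext i
    simp only [Finsupp.coe_add, Finsupp.coe_smul, Pi.add_apply, Pi.smul_apply, smul_eq_mul,
      Finsupp.mapRange_apply, Finsupp.equivFunOnFinite_symm_apply_apply]
    exact Nat.div_add_mod (m i) p

variable (p : ℕ) [Fact p.Prime] (A : Type u) [CommRing A] [CharP A p] (σ : Type w) [Finite σ]

/-- The monomials `X^e`, `0 ≤ e_i < p`. -/
noncomputable def redMon (e : σ → Fin p) : MvPolynomial σ A :=
  MvPolynomial.monomial (Finsupp.equivFunOnFinite.symm (fun i => ((e i : Fin p) : ℕ))) 1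

theorem bijective_linearCombination_redMon :
    letI : Algebra (BaseChange p A (MvPolynomial σ A)) (MvPolynomial σ A) :=
      (relFrob' p A (MvPolynomial σ A)).toAlgebra
    Function.Bijective (Finsupp.linearCombination (BaseChange p A (MvPolynomial σ A))
      (redMon p A σ)) := by
  letI : Algebra (BaseChange p A (MvPolynomial σ A)) (MvPolynomial σ A) :=
      (relFrob' p A (MvPolynomial σ A)).toAlgebra
  let b : Module.Basis (σ →₀ ℕ) (Twist p A) (BaseChange p A (MvPolynomial σ A)) :=
    (Algebra.TensorProduct.basis (Twist p A) (MvPolynomial.basisMonomials σ A)).map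
      (Algebra.TensorProduct.commRight A (Twist p A) (MvPolynomial σ A)).toLinearEquiv
  let b' := @Module.Basis.mapCoeffs (σ →₀ ℕ) A (MvPolynomial σ A) _ _ _
    (MvPolynomial.basisMonomials σ A) (Twist p A) _
    (((algebraMap (BaseChange p A (MvPolynomial σ A)) (MvPolynomial σ A)).comp
      (algebraMap (Twist p A) (BaseChange p A (MvPolynomial σ A)))).toAlgebra.toModule)
    (toTwist p A) (fun c x => by
      change relFrob' p A (MvPolynomial σ A) ((1 : MvPolynomial σ A) ⊗ₜ toTwist p A c) * x = c • x
      rw [relFrob'_tmul, one_pow, one_mul, RingEquiv.symm_apply_apply, Algebra.smul_def])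
  refine bijective_linearCombination_of_bases' b b' (redMon p A σ)
    (idxEquiv p (Fact.out : p.Prime).pos σ) ?_
  intro e m
  have hb : b m = (MvPolynomial.monomial m (1 : A)) ⊗ₜ[A] (1 : Twist p A) := by
    simp [b]
  rw [hb]
  change relFrob' p A (MvPolynomial σ A) _ * _ = _
  rw [Module.Basis.mapCoeffs_apply]
  rw [relFrob'_tmul_one, redMon, MvPolynomial.monomial_pow, one_pow, MvPolynomial.monomial_mul,
    one_mul, MvPolynomial.coe_basisMonomials]
  rfl

/-- The basis `X^e`, `0 ≤ e_i < p` of `A[X]` over its Frobenius twist. -/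
noncomputable def redMonBasis :
    @Module.Basis (σ → Fin p) (BaseChange p A (MvPolynomial σ A)) (MvPolynomial σ A) _ _
      (relFrob' p A (MvPolynomial σ A)).toAlgebra.toModule :=
  letI : Algebra (BaseChange p A (MvPolynomial σ A)) (MvPolynomial σ A) :=
      (relFrob' p A (MvPolynomial σ A)).toAlgebra
  Module.Basis.ofRepr (LinearEquiv.ofBijective _ (bijective_linearCombination_redMon p A σ)).symm

theorem flat_mvPolynomial : (relFrob' p A (MvPolynomial σ A)).Flat := by
  letI : Algebra (BaseChange p A (MvPolynomial σ A)) (MvPolynomial σ A) :=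
      (relFrob' p A (MvPolynomial σ A)).toAlgebra
  haveI : Module.Free (BaseChange p A (MvPolynomial σ A)) (MvPolynomial σ A) :=
    Module.Free.of_basis (redMonBasis p A σ)
  change Module.Flat (BaseChange p A (MvPolynomial σ A)) (MvPolynomial σ A)
  infer_instance

end mvpoly



section square

attribute [local instance] Algebra.TensorProduct.rightAlgebra

variable (p : ℕ) [Fact p.Prime]
    {P E CP CE : Type*} [CommRing P] [CommRing E] [CommRing CP] [CommRing CE]
    [Algebra CP CE] [Algebra CP P] [Algebra P E] [Algebra CE E] [Algebra CP E]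
    [IsScalarTower CP CE E] [IsScalarTower CP P E]

/-- The comparison map `CE ⊗[CP] P → E` of a commutative square. -/
noncomputable def sqMap : CE ⊗[CP] P →ₐ[CE] E :=
  Algebra.TensorProduct.lift (Algebra.ofId CE E) (IsScalarTower.toAlgHom CP P E)
    (fun _ _ => Commute.all _ _)

omit [Fact p.Prime] in
theorem sqMap_tmul (x : CE) (π : P) :
    sqMap (CP := CP) (x ⊗ₜ π) = algebraMap CE E x * algebraMap P E π := by
  simp [sqMap, Algebra.ofId_apply]

theorem sqMap_bijective [Algebra.Etale CP CE] [Algebra.Etale P E]
    (hp : (p : CE) = 0)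
    (ιE : E →+* CE)
    (hE1 : ∀ x : CE, x ^ p = ιE (algebraMap CE E x))
    (hE2 : ∀ e : E, algebraMap CE E (ιE e) = e ^ p)
    (ιP : P → CP)
    (hP2 : ∀ π : P, algebraMap CP P (ιP π) = π ^ p)
    (hα : ∀ π : P, algebraMap CP CE (ιP π) = ιE (algebraMap P E π)) :
    Function.Bijective (sqMap (CP := CP) (CE := CE) (P := P) (E := E)) := by
  haveI : Algebra.Etale P (CE ⊗[CP] P) :=
    Algebra.Etale.of_equiv (Algebra.TensorProduct.commRight CP P CE)
  letI : Algebra (CE ⊗[CP] P) E := (sqMap (CP := CP) (CE := CE) (P := P) (E := E)).toRingHom.toAlgebra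
  haveI : IsScalarTower P (CE ⊗[CP] P) E := IsScalarTower.of_algebraMap_eq (fun π => by
    change algebraMap P E π = sqMap (CP := CP) ((1 : CE) ⊗ₜ π)
    rw [sqMap_tmul, map_one, one_mul])
  have hpC : ((p : ℕ) : CE ⊗[CP] P) = 0 := by
    rw [← map_natCast (algebraMap CE (CE ⊗[CP] P)), hp, map_zero]
  have key : ∀ c : CE ⊗[CP] P, c ^ p = (ιE (sqMap (CP := CP) c)) ⊗ₜ[CP] (1 : P) := by
    intro c
    induction c using TensorProduct.induction_on with
    | zero => simp [zero_pow (Fact.out : p.Prime).ne_zero]
    | tmul x π =>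
      rw [Algebra.TensorProduct.tmul_pow, sqMap_tmul, hE1, ← hP2,
        Algebra.algebraMap_eq_smul_one (R := CP) (A := P) (ιP π),
        TensorProduct.tmul_smul, TensorProduct.smul_tmul', Algebra.smul_def, hα, ← map_mul,
        mul_comm]
    | add x y hx hy =>
      rw [add_pow_of_cast_eq_zero p hpC, hx, hy, map_add, map_add, TensorProduct.add_tmul]
  exact bijective_of_etale_tower p (T := P) (C := CE ⊗[CP] P) (B := E) hpC
    (fun e => ⟨ιE e ⊗ₜ 1, by
      change sqMap (CP := CP) (ιE e ⊗ₜ (1 : P)) = e ^ p
      rw [sqMap_tmul, hE2, map_one, mul_one]⟩)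
    (fun c hc => ⟨p, by
      change sqMap (CP := CP) c = 0 at hc
      rw [key, hc, map_zero, zero_tmul]⟩)

theorem flat_of_square [Algebra.Etale CP CE] [Algebra.Etale P E] [Module.Flat CP P]
    (hp : (p : CE) = 0)
    (ιE : E →+* CE)
    (hE1 : ∀ x : CE, x ^ p = ιE (algebraMap CE E x))
    (hE2 : ∀ e : E, algebraMap CE E (ιE e) = e ^ p)
    (ιP : P → CP)
    (hP2 : ∀ π : P, algebraMap CP P (ιP π) = π ^ p)
    (hα : ∀ π : P, algebraMap CP CE (ιP π) = ιE (algebraMap P E π)) :
    Module.Flat CE E := by
  have hb := sqMap_bijective p hp ιE hE1 hE2 ιP hP2 hα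
  let e : (CE ⊗[CP] P) ≃ₗ[CE] E :=
    LinearEquiv.ofBijective (sqMap (CP := CP) (CE := CE) (P := P) (E := E)).toLinearMap hb
  exact Module.Flat.of_linearEquiv e.symm

end square



section inst
variable (p : ℕ) [Fact p.Prime] (A : Type u) [CommRing A] [CharP A p]
  (P : Type v) [CommRing P] [Algebra A P] (E : Type w) [CommRing E] [Algebra A E] [Algebra P E]
  [IsScalarTower A P E]

/-- `BaseChange p A P → BaseChange p A E`. -/
noncomputable def bcMap : BaseChange p A P →ₐ[A] BaseChange p A E :=
  Algebra.TensorProduct.map (IsScalarTower.toAlgHom A P E) (AlgHom.id A (Twist p A))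

@[reducible] noncomputable def bcAlg : Algebra (BaseChange p A P) (BaseChange p A E) :=
  (bcMap p A P E).toRingHom.toAlgebra

theorem etale_bcAlg [Algebra.Etale P E] :
    @Algebra.Etale (BaseChange p A P) (BaseChange p A E) _ _ (bcAlg p A P E) := by
  letI := bcAlg p A P E
  haveI : IsScalarTower P (BaseChange p A P) (BaseChange p A E) :=
    IsScalarTower.of_algebraMap_eq (fun π => by
      change (algebraMap P E π) ⊗ₜ[A] (1 : Twist p A) = bcMap p A P E (π ⊗ₜ 1)
      simp [bcMap])
  have h1 : Algebra.IsPushout P E (BaseChange p A P) (BaseChange p A E) :=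
    Algebra.IsPushout.tensorProduct_tensorProduct A (Twist p A) P E (by
      ext t
      change bcMap p A P E ((1 : P) ⊗ₜ t) = (1 : E) ⊗ₜ t
      simp [bcMap])
  haveI h2 : Algebra.IsPushout P (BaseChange p A P) E (BaseChange p A E) := h1.symm
  exact Algebra.Etale.of_equiv (Algebra.IsPushout.equiv P (BaseChange p A P) E (BaseChange p A E))

theorem flat_of_etale_of_flat [Algebra.Etale P E] (hP : (relFrob' p A P).Flat) :
    (relFrob' p A E).Flat := by
  refine @flat_of_square p _ P E (BaseChange p A P) (BaseChange p A E) _ _ _ _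
    (bcAlg p A P E) (relFrob' p A P).toAlgebra _ (relFrob' p A E).toAlgebra
    ((algebraMap P E).comp (relFrob' p A P)).toAlgebra ?_ ?_ (etale_bcAlg p A P E) _ hP
    (cast_baseChange' p A E) (Algebra.TensorProduct.includeLeft : E →ₐ[A] BaseChange p A E).toRingHom
    (fun x => pow_eq_relFrob'_tmul p A E x) (fun e => relFrob'_tmul_one p A E e)
    (fun π => π ⊗ₜ 1) (fun π => relFrob'_tmul_one p A P π) (fun π => ?_)
  · exact @IsScalarTower.of_algebraMap_eq (BaseChange p A P) (BaseChange p A E) E _ _ _
      (bcAlg p A P E) (relFrob' p A E).toAlgebra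
      ((algebraMap P E).comp (relFrob' p A P)).toAlgebra (fun c => by
        change algebraMap P E (relFrob' p A P c) = relFrob' p A E (bcMap p A P E c)
        rw [bcMap, relFrob'_map]
        rfl)
  · exact @IsScalarTower.of_algebraMap_eq (BaseChange p A P) P E _ _ _
      (relFrob' p A P).toAlgebra _
      ((algebraMap P E).comp (relFrob' p A P)).toAlgebra (fun c => rfl)
  · change bcMap p A P E (π ⊗ₜ 1) = (algebraMap P E π) ⊗ₜ 1
    simp [bcMap]

end inst



section glob
variable (p : ℕ) [Fact p.Prime] (A : Type u) [CommRing A] [CharP A p]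
  (B : Type v) [CommRing B] [Algebra A B]

/-- Flatness of the relative Frobenius passes to the composite with a localization which is étale
over a polynomial ring. -/
theorem flat_comp_of_etale_mvPolynomial (E : Type w) [CommRing E] [Algebra A E] [Algebra B E]
    [IsScalarTower A B E] [Module.Flat B E] (n : ℕ)
    [Algebra (MvPolynomial (Fin n) A) E] [IsScalarTower A (MvPolynomial (Fin n) A) E]
    [Algebra.Etale (MvPolynomial (Fin n) A) E] :
    ((algebraMap B E).comp (relFrob' p A B)).Flat := by
  have hE : (relFrob' p A E).Flat :=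
    flat_of_etale_of_flat p A (MvPolynomial (Fin n) A) E (flat_mvPolynomial p A (Fin n))
  have hmap : (Algebra.TensorProduct.map (IsScalarTower.toAlgHom A B E)
      (AlgHom.id A (Twist p A))).toRingHom.Flat := by
    refine RingHom.Flat.tensorProductMap (R := A) (S := A) ?_ ?_
    · change (algebraMap B E).Flat
      exact RingHom.flat_algebraMap_iff.mpr inferInstance
    · exact RingHom.Flat.of_bijective Function.bijective_id
  have heq : (algebraMap B E).comp (relFrob' p A B) =
      (relFrob' p A E).comp (Algebra.TensorProduct.map (IsScalarTower.toAlgHom A B E)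
      (AlgHom.id A (Twist p A))).toRingHom := by
    refine RingHom.ext fun x => ?_
    change _ = relFrob' p A E (Algebra.TensorProduct.map (IsScalarTower.toAlgHom A B E)
      (AlgHom.id A (Twist p A)) x)
    rw [relFrob'_map]
    rfl
  rw [heq]
  exact RingHom.Flat.comp hmap hE

theorem flat_relFrob'_of_smooth [Algebra.Smooth A B] : (relFrob' p A B).Flat := by
  letI : Algebra (BaseChange p A B) B := (relFrob' p A B).toAlgebra
  let s : Set B := {f | Module.Flat (BaseChange p A B) (Localization.Away f)}
  have hs : Ideal.span s = ⊤ := by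
    by_contra hne
    obtain ⟨M, hM, hsM⟩ := Ideal.exists_le_maximal _ hne
    haveI := hM.isPrime
    obtain ⟨f, hfM, n, alg, tower, std⟩ :=
      Algebra.IsSmoothAt.exists_isStandardEtale_mvPolynomial (R := A) (p := M)
    have hf : f ∈ s := by
      change Module.Flat (BaseChange p A B) (Localization.Away f)
      rw [← RingHom.flat_algebraMap_iff,
        IsScalarTower.algebraMap_eq (BaseChange p A B) B (Localization.Away f)]
      exact flat_comp_of_etale_mvPolynomial p A B (Localization.Away f) n
    exact hfM (hsM (Ideal.subset_span hf))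
  change Module.Flat (BaseChange p A B) B
  exact Module.flat_of_isLocalized_span (R := BaseChange p A B) B B s hs
    (fun r => Localization.Away r.1) (fun r => Algebra.linearMap B (Localization.Away r.1))
    (fun r => r.2)

theorem flat_relFrob_of_smooth [CharP B p] [Algebra.Smooth A B] : (relFrob p A B).Flat := by
  rw [relFrob_eq_relFrob']
  exact flat_relFrob'_of_smooth p A B

end glob


end Groth.Agent.Lib.helper25.FrobB
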