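import Mathlib
import Groth.Prelude.Def_FrobAlg
import Groth.Agent.Lib.helper25.FrobA
import Groth.Agent.Lib.helper25.FrobB

set_option autoImplicit false
universe u v w

namespace Groth.Agent.Lib.helper25.FrobC
open TensorProduct FrobAlg Groth.Agent.Lib.helper25.FrobA Groth.Agent.Lib.helper25.FrobB

section fin
variable (p : ℕ) [Fact p.Prime] (A : Type u) [CommRing A] [CharP A p]
  (B : Type v) [CommRing B] [Algebra A B]

theorem isIntegral_relFrob' :
    @Algebra.IsIntegral (BaseChange p A B) B _ _ (relFrob' p A B).toAlgebra := by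
  letI : Algebra (BaseChange p A B) B := (relFrob' p A B).toAlgebra
  exact ⟨fun b => IsIntegral.of_pow (Fact.out : p.Prime).pos (by
    have : algebraMap (BaseChange p A B) B (b ⊗ₜ 1) = b ^ p := relFrob'_tmul_one p A B b
    rw [← this]
    exact isIntegral_algebraMap)⟩

theorem isScalarTower_twist' :
    @IsScalarTower (Twist p A) (BaseChange p A B) B Algebra.toSMul
      (relFrob' p A B).toAlgebra.toSMul (twistAlgebra p A B).toSMul :=
  @IsScalarTower.of_algebraMap_eq (Twist p A) (BaseChange p A B) B _ _ _ _
    (relFrob' p A B).toAlgebra (twistAlgebra p A B) (fun t => by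
      change algebraMap A B ((toTwist p A).symm t) = relFrob' p A B ((1 : B) ⊗ₜ t)
      rw [relFrob'_tmul, one_pow, one_mul])

theorem smooth_twist [Algebra.Smooth A B] :
    @Algebra.Smooth (Twist p A) _ B _ (twistAlgebra p A B) := by
  letI := twistAlgebra p A B
  letI := twistAlgebraSelf p A
  haveI : IsScalarTower (Twist p A) A B := IsScalarTower.of_algebraMap_eq (fun t => rfl)
  haveI := etale_twist_self p A
  exact Algebra.Smooth.comp (Twist p A) A B

theorem finiteType_baseChange [Algebra.FiniteType A B] :
    Algebra.FiniteType (Twist p A) (BaseChange p A B) :=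
  (Algebra.FiniteType.baseChange (R := A) (A := B) (Twist p A)).equiv
    (Algebra.TensorProduct.commRight A (Twist p A) B)

theorem finitePresentation_relFrob' [Algebra.Smooth A B] :
    @Algebra.FinitePresentation (BaseChange p A B) B _ _ (relFrob' p A B).toAlgebra := by
  haveI := finiteType_baseChange p A B
  haveI := smooth_twist p A B
  exact @Algebra.FinitePresentation.of_restrict_scalars_finitePresentation (Twist p A)
    (BaseChange p A B) B _ _ _ _ (twistAlgebra p A B) (relFrob' p A B).toAlgebra
    (isScalarTower_twist' p A B) (@Algebra.Smooth.finitePresentation _ _ _ _ (twistAlgebra p A B)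
      (smooth_twist p A B)) _

theorem finite_relFrob' [Algebra.Smooth A B] :
    @Module.Finite (BaseChange p A B) B _ _ (relFrob' p A B).toAlgebra.toModule := by
  haveI := finitePresentation_relFrob' p A B
  haveI := isIntegral_relFrob' p A B
  letI : Algebra (BaseChange p A B) B := (relFrob' p A B).toAlgebra
  exact Algebra.IsIntegral.finite

theorem projective_relFrob' [Algebra.Smooth A B] :
    @Module.Projective (BaseChange p A B) _ B _ (relFrob' p A B).toAlgebra.toModule := by
  haveI := finitePresentation_relFrob' p A B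
  haveI := finite_relFrob' p A B
  have hflat := flat_relFrob'_of_smooth p A B
  letI : Algebra (BaseChange p A B) B := (relFrob' p A B).toAlgebra
  haveI : Module.Flat (BaseChange p A B) B := hflat
  haveI := Module.FinitePresentation.of_finite_of_finitePresentation (BaseChange p A B) B
  exact Module.Flat.projective_of_finitePresentation

/-- Primes of `B` lying over a given prime of the Frobenius twist. -/
theorem exists_prime_over (q : Ideal (BaseChange p A B)) [q.IsPrime] :
    ∃ Q : Ideal B, Q.IsPrime ∧ Q.comap (relFrob' p A B) = q := by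
  haveI := isIntegral_relFrob' p A B
  letI : Algebra (BaseChange p A B) B := (relFrob' p A B).toAlgebra
  obtain ⟨Q, -, hQ, hQP⟩ := Ideal.exists_ideal_over_prime_of_isIntegral (S := B) q ⊥ (by
    intro c hc
    have h0 : relFrob' p A B c = 0 := by
      have h00 := hc
      rw [Ideal.mem_comap, Ideal.mem_bot] at h00
      exact h00
    have : c ^ p = 0 := by rw [pow_eq_relFrob'_tmul, h0, zero_tmul]
    exact Ideal.IsPrime.mem_of_pow_mem inferInstance p (this ▸ q.zero_mem))
  exact ⟨Q, hQ, hQP⟩

end fin


section square

variable (p : ℕ) [Fact p.Prime]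
    {P E CP CE : Type*} [CommRing P] [CommRing E] [CommRing CP] [CommRing CE]
    [Algebra CP CE] [Algebra CP P] [Algebra P E] [Algebra CE E] [Algebra CP E]
    [IsScalarTower CP CE E] [IsScalarTower CP P E]

theorem rankAtStalk_of_square [Algebra.Etale CP CE] [Algebra.Etale P E] [Module.Flat CP P]
    [Module.Finite CP P]
    (hp : (p : CE) = 0)
    (ιE : E →+* CE)
    (hE1 : ∀ x : CE, x ^ p = ιE (algebraMap CE E x))
    (hE2 : ∀ e : E, algebraMap CE E (ιE e) = e ^ p)
    (ιP : P → CP)
    (hP2 : ∀ π : P, algebraMap CP P (ιP π) = π ^ p)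
    (hα : ∀ π : P, algebraMap CP CE (ιP π) = ιE (algebraMap P E π))
    (q' : PrimeSpectrum CE) :
    Module.rankAtStalk (R := CE) E q' =
      Module.rankAtStalk (R := CP) P (PrimeSpectrum.comap (algebraMap CP CE) q') := by
  have hb := sqMap_bijective p hp ιE hE1 hE2 ιP hP2 hα
  let e : (CE ⊗[CP] P) ≃ₗ[CE] E :=
    LinearEquiv.ofBijective (sqMap (CP := CP) (CE := CE) (P := P) (E := E)).toLinearMap hb
  rw [← Module.rankAtStalk_eq_of_equiv e, Module.rankAtStalk_baseChange]

end square

section inst
variable (p : ℕ) [Fact p.Prime] (A : Type u) [CommRing A] [CharP A p]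
  (P : Type v) [CommRing P] [Algebra A P] (E : Type w) [CommRing E] [Algebra A E] [Algebra P E]
  [IsScalarTower A P E]

theorem rankAtStalk_of_etale [Algebra.Etale P E] (hP : (relFrob' p A P).Flat)
    (hfin : (relFrob' p A P).Finite) (q' : PrimeSpectrum (BaseChange p A E)) :
    @Module.rankAtStalk (BaseChange p A E) E _ _ (relFrob' p A E).toAlgebra.toModule q' =
    @Module.rankAtStalk (BaseChange p A P) P _ _ (relFrob' p A P).toAlgebra.toModule
      (PrimeSpectrum.comap (bcMap p A P E).toRingHom q') := by
  refine @rankAtStalk_of_square p _ P E (BaseChange p A P) (BaseChange p A E) _ _ _ _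
    (bcAlg p A P E) (relFrob' p A P).toAlgebra _ (relFrob' p A E).toAlgebra
    ((algebraMap P E).comp (relFrob' p A P)).toAlgebra ?_ ?_ (etale_bcAlg p A P E) _ hP hfin
    (cast_baseChange' p A E) (Algebra.TensorProduct.includeLeft : E →ₐ[A] BaseChange p A E).toRingHom
    (fun x => pow_eq_relFrob'_tmul p A E x) (fun e => relFrob'_tmul_one p A E e)
    (fun π => π ⊗ₜ 1) (fun π => relFrob'_tmul_one p A P π) (fun π => ?_) q'
  · exact @IsScalarTower.of_algebraMap_eq (BaseChange p A P) (BaseChange p A E) E _ _ _
      (bcAlg p A P E) (relFrob' p A E).toAlgebra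
      ((algebraMap P E).comp (relFrob' p A P)).toAlgebra (fun c => by
        change algebraMap P E (relFrob' p A P c) = relFrob' p A E (bcMap p A P E c)
        rw [bcMap, relFrob'_map]
        rfl)
  · exact @IsScalarTower.of_algebraMap_eq (BaseChange p A P) P E _ _ _
      (relFrob' p A P).toAlgebra _
      ((algebraMap P E).comp (relFrob' p A P)).toAlgebra (fun c => rfl)
  · change bcMap p A P E (π ⊗ₜ 1) = (algebraMap P E π) ⊗ₜ 1
    simp [bcMap]

end inst



section poly
variable (p : ℕ) [Fact p.Prime] (A : Type u) [CommRing A] [CharP A p] (n : ℕ)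

theorem finite_mvPolynomial : (relFrob' p A (MvPolynomial (Fin n) A)).Finite := by
  letI : Algebra (BaseChange p A (MvPolynomial (Fin n) A)) (MvPolynomial (Fin n) A) :=
      (relFrob' p A (MvPolynomial (Fin n) A)).toAlgebra
  change Module.Finite (BaseChange p A (MvPolynomial (Fin n) A)) (MvPolynomial (Fin n) A)
  exact Module.Finite.of_basis (redMonBasis p A (Fin n))

theorem rankAtStalk_mvPolynomial
    (q : PrimeSpectrum (BaseChange p A (MvPolynomial (Fin n) A))) :
    @Module.rankAtStalk (BaseChange p A (MvPolynomial (Fin n) A)) (MvPolynomial (Fin n) A) _ _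
      (relFrob' p A (MvPolynomial (Fin n) A)).toAlgebra.toModule q = p ^ n := by
  letI : Algebra (BaseChange p A (MvPolynomial (Fin n) A)) (MvPolynomial (Fin n) A) :=
      (relFrob' p A (MvPolynomial (Fin n) A)).toAlgebra
  haveI : Module.Free (BaseChange p A (MvPolynomial (Fin n) A)) (MvPolynomial (Fin n) A) :=
    Module.Free.of_basis (redMonBasis p A (Fin n))
  haveI := q.nontrivial
  rw [Module.rankAtStalk_eq_finrank_of_free, Pi.natCast_apply,
    Module.finrank_eq_card_basis (redMonBasis p A (Fin n))]
  simp

end poly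

section kaehler

theorem rankAtStalk_kaehler_of_formallyEtale (R S T : Type*) [CommRing R] [CommRing S]
    [CommRing T] [Algebra R S] [Algebra R T] [Algebra S T] [IsScalarTower R S T]
    [Algebra.FormallyEtale S T] [Module.Flat S Ω[S⁄R]] [Module.Finite S Ω[S⁄R]]
    (q : PrimeSpectrum T) :
    Module.rankAtStalk (R := T) Ω[T⁄R] q =
      Module.rankAtStalk (R := S) Ω[S⁄R] (PrimeSpectrum.comap (algebraMap S T) q) := by
  rw [← Module.rankAtStalk_eq_of_equiv
    (KaehlerDifferential.tensorKaehlerEquivOfFormallyEtale R S T), Module.rankAtStalk_baseChange]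

theorem rankAtStalk_kaehler_mvPolynomial (A : Type u) [CommRing A] (n : ℕ)
    (q : PrimeSpectrum (MvPolynomial (Fin n) A)) :
    Module.rankAtStalk (R := MvPolynomial (Fin n) A) Ω[MvPolynomial (Fin n) A⁄A] q = n := by
  haveI : Module.Free (MvPolynomial (Fin n) A) Ω[MvPolynomial (Fin n) A⁄A] :=
    Module.Free.of_basis (KaehlerDifferential.mvPolynomialBasis A (Fin n))
  haveI := q.nontrivial
  rw [Module.rankAtStalk_eq_finrank_of_free, Pi.natCast_apply,
    Module.finrank_eq_card_basis (KaehlerDifferential.mvPolynomialBasis A (Fin n))]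
  simp

end kaehler



section main
variable (p : ℕ) [Fact p.Prime] (A : Type u) [CommRing A] [CharP A p]
  (B : Type v) [CommRing B] [Algebra A B] [Algebra.Smooth A B]

theorem rankAtStalk_relFrob' (r : ℕ)
    (hr : ∀ q : PrimeSpectrum B, Module.rankAtStalk (R := B) Ω[B⁄A] q = r)
    (q : PrimeSpectrum (BaseChange p A B)) :
    @Module.rankAtStalk (BaseChange p A B) B _ _ (relFrob' p A B).toAlgebra.toModule q = p ^ r := by
  obtain ⟨Q, hQ, hQq⟩ := exists_prime_over p A B q.asIdeal
  haveI := hQ
  obtain ⟨f, hfQ, n, alg, tower, std⟩ :=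
    Algebra.IsSmoothAt.exists_isStandardEtale_mvPolynomial (R := A) (p := Q)
  haveI : Algebra.Etale B (Localization.Away f) := Algebra.Etale.of_isLocalizationAway f
  haveI : Algebra.Etale (MvPolynomial (Fin n) A) (Localization.Away f) := inferInstance
  have hdisj : Disjoint (Submonoid.powers f : Set B) (Q : Set B) :=
    (Ideal.disjoint_powers_iff_notMem_of_isPrime _).mpr hfQ
  let QE : PrimeSpectrum (Localization.Away f) :=
    ⟨Q.map (algebraMap B (Localization.Away f)),
      IsLocalization.isPrime_of_isPrime_disjoint (.powers f) _ _ hQ hdisj⟩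
  have hQE : QE.asIdeal.comap (algebraMap B (Localization.Away f)) = Q :=
    IsLocalization.under_map_of_isPrime_disjoint (.powers f) _ hQ hdisj
  let q' : PrimeSpectrum (BaseChange p A (Localization.Away f)) :=
    PrimeSpectrum.comap (relFrob' p A (Localization.Away f)) QE
  have hq' : PrimeSpectrum.comap (bcMap p A B (Localization.Away f)).toRingHom q' = q := by
    apply PrimeSpectrum.ext
    change Ideal.comap (bcMap p A B (Localization.Away f)).toRingHom
      (Ideal.comap (relFrob' p A (Localization.Away f)) QE.asIdeal) = q.asIdeal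
    rw [Ideal.comap_comap, ← hQq, ← hQE, Ideal.comap_comap]
    congr 1
    refine RingHom.ext fun x => ?_
    change relFrob' p A (Localization.Away f) (bcMap p A B (Localization.Away f) x) = _
    rw [bcMap, relFrob'_map]
    rfl
  have h1 := rankAtStalk_of_etale p A B (Localization.Away f) (flat_relFrob'_of_smooth p A B)
    (finite_relFrob' p A B) q'
  rw [hq'] at h1
  have h2 := rankAtStalk_of_etale p A (MvPolynomial (Fin n) A) (Localization.Away f)
    (flat_mvPolynomial p A (Fin n)) (finite_mvPolynomial p A n) q'
  rw [rankAtStalk_mvPolynomial] at h2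
  have h3 : n = r := by
    have e1 := rankAtStalk_kaehler_of_formallyEtale A B (Localization.Away f) QE
    have e2 := rankAtStalk_kaehler_of_formallyEtale A (MvPolynomial (Fin n) A)
      (Localization.Away f) QE
    rw [hr] at e1
    rw [rankAtStalk_kaehler_mvPolynomial] at e2
    exact e2.symm.trans e1
  rw [← h1, h2, h3]

end main


end Groth.Agent.Lib.helper25.FrobC
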