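import Mathlib

set_option autoImplicit false
set_option linter.unusedSectionVars false
universe u v w

namespace Groth.Agent.Lib.helper25.FrobFree

open TensorProduct IsLocalRing

section pisub
variable {R : Type*} [CommRing R] {ι : Type*} [Fintype ι] [DecidableEq ι]

/-- vectors with all coordinates in `J`. -/
def piSub (J : Ideal R) : Submodule R (ι → R) := Submodule.pi Set.univ (fun _ => J)

theorem mem_piSub {J : Ideal R} {c : ι → R} : c ∈ piSub (ι := ι) J ↔ ∀ i, c i ∈ J := by
  simp [piSub, Submodule.mem_pi]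

theorem piSub_mono {J J' : Ideal R} (h : J ≤ J') : piSub (ι := ι) J ≤ piSub J' := by
  intro c hc
  rw [mem_piSub] at hc ⊢
  exact fun i => h (hc i)

theorem map_mem_piSub (J : Ideal R) (φ : (ι → R) →ₗ[R] (ι → R)) {c : ι → R} (hc : c ∈ piSub J) :
    φ c ∈ piSub J := by
  rw [mem_piSub] at hc ⊢
  intro j
  have : c = ∑ i, c i • (Pi.single i (1 : R) : ι → R) := by
    funext k
    simp [Finset.sum_apply, Pi.single_apply]
  rw [this, map_sum, Finset.sum_apply]
  refine Ideal.sum_mem _ fun i _ => ?_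
  rw [map_smul, Pi.smul_apply, smul_eq_mul]
  exact Ideal.mul_mem_right _ _ (hc i)

theorem piSub_le_smul_top (J : Ideal R) : piSub (ι := ι) J ≤ J • (⊤ : Submodule R (ι → R)) := by
  intro c hc
  rw [mem_piSub] at hc
  have : c = ∑ i, c i • (Pi.single i (1 : R) : ι → R) := by
    funext k
    simp [Finset.sum_apply, Pi.single_apply]
  rw [this]
  exact Submodule.sum_mem _ fun i _ => Submodule.smul_mem_smul (hc i) Submodule.mem_top

theorem piSub_bot : piSub (ι := ι) (⊥ : Ideal R) = ⊥ := by
  rw [eq_bot_iff]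
  intro c hc
  rw [mem_piSub] at hc
  rw [Submodule.mem_bot]
  funext i
  exact hc i

end pisub


section main
variable (p : ℕ) [hp : Fact p.Prime] {R : Type u} [CommRing R] [IsLocalRing R]
  {T : Type w} [CommRing T] [Algebra R T] (τ : R ≃+* T) (hτ : ∀ a, algebraMap R T a = τ (a ^ p))
  {M : Type v} [AddCommGroup M] [Module R M] [Module.FinitePresentation R M]
  (e : T ⊗[R] M →+ M) (he : Function.Bijective e)
  (hsl : ∀ (t : T) (z : T ⊗[R] M), e (t • z) = τ.symm t • e z)

/-- coordinate functional on `T ⊗ (ι → R)`. -/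
noncomputable def psi {ι : Type*} (i : ι) : T ⊗[R] (ι → R) →ₗ[R] T :=
  (TensorProduct.rid R T).toLinearMap ∘ₗ LinearMap.lTensor T (LinearMap.proj i)

theorem psi_tmul {ι : Type*} (i : ι) (t : T) (f : ι → R) :
    psi (R := R) (T := T) i (t ⊗ₜ[R] f) = f i • t := by
  simp [psi]

include hτ he hsl in
theorem free_of_frobenius_pullback : Module.Free R M := by
  classical
  have hp2 : 2 ≤ p := hp.out.two_le
  -- step 0: minimal generators
  let k := ResidueField R
  let n := Module.finrank k (k ⊗[R] M)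
  let bk : Module.Basis (Fin n) k (k ⊗[R] M) := Module.finBasis k (k ⊗[R] M)
  have hsurj : Function.Surjective (TensorProduct.mk R k M 1) :=
    TensorProduct.mk_surjective R M k Ideal.Quotient.mk_surjective
  choose v hv using fun i => hsurj (bk i)
  have hv' : ∀ i, (1 : k) ⊗ₜ[R] v i = bk i := hv
  have hspan : Submodule.span R (Set.range v) = ⊤ :=
    IsLocalRing.span_eq_top_of_tmul_eq_basis v bk hv'
  let π : (Fin n → R) →ₗ[R] M := Fintype.linearCombination R v
  have hπ : Function.Surjective π := by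
    rw [← LinearMap.range_eq_top, Fintype.range_linearCombination, hspan]
  -- step 2
  have hK : LinearMap.ker π ≤ piSub (maximalIdeal R) := by
    intro c hc
    rw [mem_piSub]
    rw [LinearMap.mem_ker] at hc
    have h1 : ∑ i, (residue R (c i)) • bk i = 0 := by
      have h2 := congrArg (TensorProduct.mk R k M 1) hc
      rw [Fintype.linearCombination_apply, map_sum, map_zero] at h2
      rw [← h2]
      refine Finset.sum_congr rfl fun i _ => ?_
      rw [map_smul, ← hv' i]
      change _ = c i • ((1 : k) ⊗ₜ[R] v i)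
      rw [TensorProduct.smul_tmul', TensorProduct.smul_tmul', smul_eq_mul, mul_one,
        Algebra.smul_def, mul_one]
      rfl
    intro i
    have h3 := Fintype.linearIndependent_iff.1 bk.linearIndependent _ h1 i
    exact (residue_eq_zero_iff _).1 h3
  -- step 3: content ideal
  obtain ⟨G, hG⟩ := Module.FinitePresentation.fg_ker π hπ
  let I : Ideal R := Ideal.span ((fun q : (Fin n → R) × Fin n => q.1 q.2) '' ((G : Set (Fin n → R)) ×ˢ Set.univ))
  have hIfg : I.FG := by
    refine ⟨((G ×ˢ Finset.univ).image fun q : (Fin n → R) × Fin n => q.1 q.2), ?_⟩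
    congr 1
    ext a
    simp
  have hGI : ∀ g ∈ G, ∀ i, g i ∈ I := fun g hg i =>
    Ideal.subset_span ⟨(g, i), ⟨hg, Set.mem_univ _⟩, rfl⟩
  have hKI : LinearMap.ker π ≤ piSub I := by
    rw [← hG, Submodule.span_le]
    intro g hg
    exact mem_piSub.2 (hGI g hg)
  have hGK : ∀ g ∈ G, g ∈ LinearMap.ker π := fun g hg => hG ▸ Submodule.subset_span hg
  have hIm : I ≤ maximalIdeal R := by
    rw [Ideal.span_le]
    rintro _ ⟨⟨g, i⟩, ⟨hg, -⟩, rfl⟩
    exact mem_piSub.1 (hK (hGK g hg)) i
  let J : Ideal R := Ideal.span ((fun a => a ^ p) '' (I : Set R))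
  -- step 4
  let y : Fin n → M := fun i => e ((1 : T) ⊗ₜ[R] v i)
  let π' : (Fin n → R) →ₗ[R] M := Fintype.linearCombination R y
  have hπ'1 : ∀ c : Fin n → R, π' c = e (∑ i, τ (c i) ⊗ₜ[R] v i) := by
    intro c
    rw [Fintype.linearCombination_apply, map_sum]
    refine Finset.sum_congr rfl fun i _ => ?_
    have : τ (c i) ⊗ₜ[R] v i = τ (c i) • ((1 : T) ⊗ₜ[R] v i) := by
      rw [TensorProduct.smul_tmul', smul_eq_mul, mul_one]
    rw [this, hsl, RingEquiv.symm_apply_apply]
  have hπ' : Function.Surjective π' := by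
    intro m
    obtain ⟨z, rfl⟩ := he.2 m
    have hz : ∃ t : Fin n → T, z = ∑ i, t i ⊗ₜ[R] v i := by
      induction z using TensorProduct.induction_on with
      | zero => exact ⟨0, by simp⟩
      | tmul t m =>
        obtain ⟨c, rfl⟩ := hπ m
        refine ⟨fun i => c i • t, ?_⟩
        rw [Fintype.linearCombination_apply, TensorProduct.tmul_sum]
        refine Finset.sum_congr rfl fun i _ => ?_
        rw [TensorProduct.tmul_smul, TensorProduct.smul_tmul']
      | add x x' hx hx' =>
        obtain ⟨t, rfl⟩ := hx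
        obtain ⟨t', rfl⟩ := hx'
        refine ⟨t + t', ?_⟩
        rw [← Finset.sum_add_distrib]
        refine Finset.sum_congr rfl fun i _ => ?_
        rw [Pi.add_apply, TensorProduct.add_tmul]
    obtain ⟨t, rfl⟩ := hz
    refine ⟨fun i => τ.symm (t i), ?_⟩
    rw [hπ'1]
    simp only [RingEquiv.apply_symm_apply]
  -- step 4c
  have hex : Function.Exact (LinearMap.lTensor T (LinearMap.ker π).subtype) (LinearMap.lTensor T π) :=
    lTensor_exact T (LinearMap.exact_subtype_ker_map π) hπ
  have hJT : ∀ (i : Fin n) (x : T ⊗[R] (LinearMap.ker π)),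
      psi (R := R) (T := T) i (LinearMap.lTensor T (LinearMap.ker π).subtype x) ∈
        Ideal.map (τ : R →+* T) J := by
    intro i x
    induction x using TensorProduct.induction_on with
    | zero => simp
    | tmul t c =>
      rw [LinearMap.lTensor_tmul, psi_tmul, Algebra.smul_def, hτ]
      refine Ideal.mul_mem_right _ _ (Ideal.mem_map_of_mem _ ?_)
      exact Ideal.subset_span ⟨_, mem_piSub.1 (hKI c.2) i, rfl⟩
    | add x x' hx hx' =>
      rw [map_add, map_add]
      exact Ideal.add_mem _ hx hx'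
  have hK' : LinearMap.ker π' ≤ piSub J := by
    intro c hc
    rw [LinearMap.mem_ker, hπ'1] at hc
    have h0 : (∑ i, τ (c i) ⊗ₜ[R] v i : T ⊗[R] M) = 0 := he.1 (hc.trans (map_zero e).symm)
    have h1 : LinearMap.lTensor T π (∑ i, τ (c i) ⊗ₜ[R] (Pi.single i (1 : R) : Fin n → R)) = 0 := by
      rw [map_sum, ← h0]
      refine Finset.sum_congr rfl fun i _ => ?_
      rw [LinearMap.lTensor_tmul]
      congr 1
      simp [π, Fintype.linearCombination_apply]
    obtain ⟨x, hx⟩ := (hex _).1 h1
    rw [mem_piSub]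
    intro i
    have h2 := hJT i x
    rw [hx, map_sum] at h2
    have h3 : ∑ j, psi (R := R) (T := T) i (τ (c j) ⊗ₜ[R] (Pi.single j (1 : R) : Fin n → R)) = τ (c i) := by
      rw [Finset.sum_eq_single i]
      · rw [psi_tmul, Pi.single_eq_same, one_smul]
      · intro j _ hji
        rw [psi_tmul, Pi.single_eq_of_ne (Ne.symm hji), zero_smul]
      · intro h; exact absurd (Finset.mem_univ i) h
    rw [h3] at h2
    obtain ⟨a, ha, hac⟩ := (Ideal.mem_map_of_equiv τ _).1 h2
    rwa [τ.injective hac] at ha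
  -- step 5
  obtain ⟨g, hg⟩ := Module.projective_lifting_property π π' hπ
  obtain ⟨h, hh⟩ := Module.projective_lifting_property π' π hπ'
  have hu : π ∘ₗ (g ∘ₗ h) = π := by rw [← LinearMap.comp_assoc, hg, hh]
  have husurj : Function.Surjective (g ∘ₗ h) := by
    rw [← LinearMap.range_eq_top, eq_top_iff]
    refine Submodule.le_of_le_smul_of_le_jacobson_bot (I := maximalIdeal R)
      (Module.Finite.fg_top) (IsLocalRing.jacobson_eq_maximalIdeal ⊥ bot_ne_top).ge ?_
    intro c _
    have h1 : (g ∘ₗ h) c - c ∈ LinearMap.ker π := by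
      rw [LinearMap.mem_ker, map_sub, ← LinearMap.comp_apply, hu, sub_self]
    have h2 : c = (g ∘ₗ h) c - ((g ∘ₗ h) c - c) := by abel
    rw [h2]
    exact Submodule.sub_mem _ (Submodule.mem_sup_left (LinearMap.mem_range_self _ _))
      (Submodule.mem_sup_right (piSub_le_smul_top _ (hK h1)))
  have hKJ : LinearMap.ker π ≤ piSub J := by
    intro c hc
    obtain ⟨c', rfl⟩ := husurj c
    have h1 : c' ∈ LinearMap.ker π := by
      rw [LinearMap.mem_ker] at hc ⊢
      rw [← hc, ← LinearMap.comp_apply, hu]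
    have h2 : h c' ∈ LinearMap.ker π' := by
      rw [LinearMap.mem_ker, ← LinearMap.comp_apply, hh]
      exact h1
    exact map_mem_piSub J g (hK' h2)
  -- step 6
  have hIJ : I ≤ J := by
    rw [Ideal.span_le]
    rintro _ ⟨⟨g', i⟩, ⟨hg', -⟩, rfl⟩
    exact mem_piSub.1 (hKJ (hGK g' hg')) i
  have hJI : J ≤ maximalIdeal R • I := by
    rw [Ideal.span_le]
    rintro _ ⟨a, ha, rfl⟩
    obtain ⟨q, rfl⟩ : ∃ q, p = q + 1 + 1 := ⟨p - 2, by omega⟩
    change a ^ (q + 1 + 1) ∈ _
    rw [pow_succ]
    exact Submodule.smul_mem_smul (Ideal.pow_mem_of_mem _ (hIm ha) _ (Nat.succ_pos q)) ha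
  have hI0 : I = ⊥ :=
    Submodule.eq_bot_of_le_smul_of_le_jacobson_bot (maximalIdeal R) I hIfg (hIJ.trans hJI)
      (IsLocalRing.jacobson_eq_maximalIdeal ⊥ bot_ne_top).ge
  -- step 7
  have hker : LinearMap.ker π = ⊥ := by
    rw [eq_bot_iff]
    refine hKI.trans ?_
    rw [hI0, piSub_bot]
  exact Module.Free.of_equiv (LinearEquiv.ofBijective π ⟨LinearMap.ker_eq_bot.1 hker, hπ⟩)

end main

end Groth.Agent.Lib.helper25.FrobFree
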