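import Mathlib

set_option autoImplicit false
set_option linter.unusedSectionVars false
universe u

namespace Groth.Agent.Lib.helper25.FrobImg

open TensorProduct

section
variable (k : Type u) [Field k] (p : ℕ) [hp : Fact p.Prime] [CharP k p]
    (R : Type u) [CommRing R] [Algebra k R]

/-- in `k̄ ⊗ R`, the image of `k̄ ⊗ k[R^q]` consists of `q`-th powers (`q = p^n`). -/
theorem exists_pow_eq (n : ℕ) [Nontrivial R]
    (z : AlgebraicClosure k ⊗[k] ↥(Algebra.adjoin k (Set.range (fun x : R => x ^ (p ^ n))))) :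
    ∃ w : AlgebraicClosure k ⊗[k] R,
      Algebra.TensorProduct.map (AlgHom.id k (AlgebraicClosure k))
        (Algebra.adjoin k (Set.range (fun x : R => x ^ (p ^ n)))).val z = w ^ (p ^ n) := by
  haveI : CharP (AlgebraicClosure k) p :=
    charP_of_injective_algebraMap (algebraMap k (AlgebraicClosure k)).injective p
  haveI : Nontrivial (AlgebraicClosure k ⊗[k] R) := inferInstance
  haveI : CharP (AlgebraicClosure k ⊗[k] R) p :=
    charP_of_injective_algebraMap
      (FaithfulSMul.algebraMap_injective (AlgebraicClosure k) (AlgebraicClosure k ⊗[k] R)) p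
  have hq : 0 < p ^ n := pow_pos hp.out.pos n
  -- the key claim for pure tensors
  have key : ∀ (y : R), y ∈ Algebra.adjoin k (Set.range (fun x : R => x ^ (p ^ n))) →
      ∀ c : AlgebraicClosure k,
      ∃ w : AlgebraicClosure k ⊗[k] R, c ⊗ₜ[k] y = w ^ (p ^ n) := by
    intro y hy
    induction hy using Algebra.adjoin_induction with
    | mem y hy =>
      obtain ⟨x, rfl⟩ := hy
      intro c
      obtain ⟨c', hc'⟩ := IsAlgClosed.exists_pow_nat_eq c hq
      refine ⟨c' ⊗ₜ x, ?_⟩
      rw [Algebra.TensorProduct.tmul_pow, hc']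
    | algebraMap a =>
      intro c
      obtain ⟨c', hc'⟩ := IsAlgClosed.exists_pow_nat_eq (a • c) hq
      refine ⟨c' ⊗ₜ 1, ?_⟩
      rw [Algebra.TensorProduct.tmul_pow, hc', one_pow, Algebra.algebraMap_eq_smul_one,
        TensorProduct.tmul_smul, TensorProduct.smul_tmul']
    | add y1 y2 _ _ h1 h2 =>
      intro c
      obtain ⟨w1, hw1⟩ := h1 c
      obtain ⟨w2, hw2⟩ := h2 c
      refine ⟨w1 + w2, ?_⟩
      rw [TensorProduct.tmul_add, hw1, hw2, add_pow_char_pow]
    | mul y1 y2 _ _ h1 h2 =>
      intro c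
      obtain ⟨w1, hw1⟩ := h1 c
      obtain ⟨w2, hw2⟩ := h2 1
      refine ⟨w1 * w2, ?_⟩
      rw [mul_pow, ← hw1, ← hw2, Algebra.TensorProduct.tmul_mul_tmul, mul_one]
  induction z using TensorProduct.induction_on with
  | zero => exact ⟨0, by rw [map_zero, zero_pow hq.ne']⟩
  | tmul c y =>
    obtain ⟨w, hw⟩ := key y.1 y.2 c
    exact ⟨w, by rw [Algebra.TensorProduct.map_tmul]; exact hw⟩
  | add z1 z2 h1 h2 =>
    obtain ⟨w1, hw1⟩ := h1
    obtain ⟨w2, hw2⟩ := h2
    exact ⟨w1 + w2, by rw [map_add, hw1, hw2, add_pow_char_pow]⟩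

theorem S14606_aux [Algebra.FiniteType k R] :
    ∃ n : ℕ, Algebra.IsGeometricallyReduced k
      ↥(Algebra.adjoin k (Set.range (fun x : R => x ^ (p ^ n)))) := by
  rcases subsingleton_or_nontrivial R with hR | hR
  · refine ⟨0, ?_⟩
    rw [Algebra.isGeometricallyReduced_field_iff]
    haveI : Subsingleton ↥(Algebra.adjoin k (Set.range (fun x : R => x ^ (p ^ 0)))) :=
      ⟨fun a b => Subtype.ext (Subsingleton.elim _ _)⟩
    infer_instance
  · haveI : Algebra.FiniteType (AlgebraicClosure k) (AlgebraicClosure k ⊗[k] R) := inferInstance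
    haveI : IsNoetherianRing (AlgebraicClosure k ⊗[k] R) :=
      Algebra.FiniteType.isNoetherianRing (AlgebraicClosure k) _
    obtain ⟨N, hN⟩ := IsNoetherianRing.isNilpotent_nilradical (AlgebraicClosure k ⊗[k] R)
    refine ⟨N, ?_⟩
    rw [Algebra.isGeometricallyReduced_field_iff]
    have hNle : N ≤ p ^ N := (Nat.lt_pow_self hp.out.one_lt).le
    set Rn := Algebra.adjoin k (Set.range (fun x : R => x ^ (p ^ N))) with hRn
    have hinj : Function.Injective
        (Algebra.TensorProduct.map (AlgHom.id k (AlgebraicClosure k)) Rn.val) := by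
      have := Module.Flat.lTensor_preserves_injective_linearMap (M := AlgebraicClosure k)
        Rn.val.toLinearMap Subtype.val_injective
      exact this
    constructor
    intro z hz
    obtain ⟨w, hw⟩ := exists_pow_eq k p R N z
    apply hinj
    rw [map_zero, hw]
    have hwn : IsNilpotent w := by
      have h1 : IsNilpotent (w ^ (p ^ N)) := by
        rw [← hw]
        exact hz.map _
      exact h1.of_pow
    have hwmem : w ∈ nilradical (AlgebraicClosure k ⊗[k] R) := (mem_nilradical).2 hwn
    have h2 : w ^ N ∈ (nilradical (AlgebraicClosure k ⊗[k] R)) ^ N := Ideal.pow_mem_pow hwmem N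
    rw [hN] at h2
    have h3 : w ^ N = 0 := by simpa using h2
    rw [← Nat.sub_add_cancel hNle, pow_add, h3, mul_zero]

end

end Groth.Agent.Lib.helper25.FrobImg
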