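import Mathlib

/-! If `A ⊗ k^{1/p}` is reduced then `A ⊗ Ω` is reduced for every field `Ω ⊇ k^{1/p}` (helper25). -/

universe u

open TensorProduct

namespace Groth.Agent.Lib.helper25.FrobRed

set_option linter.style.haveILetI false

section

variable {k E Ω A : Type u} [Field k] [Field E] [Field Ω] [CommRing A] [Algebra k E]
  [Algebra E Ω] [Algebra k Ω] [IsScalarTower k E Ω] [Algebra k A] (p : ℕ) [Fact p.Prime]
  [CharP k p]

include p in
theorem li_pow (h2 : ∀ c : k, ∃ e : E, e ^ p = algebraMap k E c) {ι : Type u}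
    (b : Module.Basis ι E Ω) : LinearIndependent k (fun i => (b i) ^ p) := by
  haveI : ExpChar k p := ExpChar.prime Fact.out
  haveI : ExpChar Ω p := expChar_of_injective_algebraMap (algebraMap k Ω).injective p
  rw [linearIndependent_iff']
  intro s g hg i hi
  choose e he using h2
  have h3 : ∀ j, g j • (b j) ^ p = (e (g j) • b j) ^ p := by
    intro j
    calc g j • (b j) ^ p = algebraMap k Ω (g j) * (b j) ^ p := Algebra.smul_def _ _
      _ = algebraMap E Ω (algebraMap k E (g j)) * (b j) ^ p := by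
        rw [IsScalarTower.algebraMap_apply k E Ω]
      _ = algebraMap E Ω ((e (g j)) ^ p) * (b j) ^ p := by rw [he]
      _ = (algebraMap E Ω (e (g j))) ^ p * (b j) ^ p := by rw [RingHom.map_pow]
      _ = (algebraMap E Ω (e (g j)) * b j) ^ p := (mul_pow _ _ _).symm
      _ = (e (g j) • b j) ^ p := by rw [Algebra.smul_def]
  have h4 : (∑ j ∈ s, e (g j) • b j) ^ p = 0 := by
    rw [sum_pow_char]
    rw [← hg]
    exact Finset.sum_congr rfl (fun j _ => (h3 j).symm)
  have h5 : ∑ j ∈ s, e (g j) • b j = 0 := by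
    have hp : p ≠ 0 := (Fact.out : p.Prime).ne_zero
    exact (pow_eq_zero_iff hp).mp h4
  have h6 := linearIndependent_iff'.mp b.linearIndependent s (fun j => e (g j)) h5 i hi
  have h7 : algebraMap k E (g i) = 0 := by
    rw [← he, h6, zero_pow (Fact.out : p.Prime).ne_zero]
  exact (map_eq_zero _).mp h7

include p in
theorem pow_eq_tmul_one (h1 : ∀ e : E, ∃ c : k, algebraMap k E c = e ^ p)
    [Nontrivial (A ⊗[k] E)] (w : A ⊗[k] E) : ∃ s : A, w ^ p = s ⊗ₜ[k] (1 : E) := by
  haveI : ExpChar k p := ExpChar.prime Fact.out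
  haveI : ExpChar (A ⊗[k] E) p :=
    expChar_of_injective_algebraMap (algebraMap k (A ⊗[k] E)).injective p
  induction w using TensorProduct.induction_on with
  | zero => exact ⟨0, by rw [zero_pow (Fact.out : p.Prime).ne_zero, zero_tmul]⟩
  | tmul a e =>
    obtain ⟨c, hc⟩ := h1 e
    refine ⟨c • a ^ p, ?_⟩
    rw [Algebra.TensorProduct.tmul_pow, ← hc, Algebra.algebraMap_eq_smul_one,
      TensorProduct.tmul_smul, TensorProduct.smul_tmul']
  | add x y hx hy =>
    obtain ⟨s, hs⟩ := hx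
    obtain ⟨t, ht⟩ := hy
    exact ⟨s + t, by rw [add_pow_expChar, hs, ht, add_tmul]⟩

variable (k A) in
/-- the inclusion `A ⊗ E → A ⊗ Ω` -/
noncomputable abbrev incl : A ⊗[k] E →ₐ[k] A ⊗[k] Ω :=
  Algebra.TensorProduct.map (AlgHom.id k A) (IsScalarTower.toAlgHom k E Ω)

theorem exists_repr {ι : Type u} (b : Module.Basis ι E Ω) (z : A ⊗[k] Ω) :
    ∃ w : ι →₀ A ⊗[k] E, z = w.sum (fun i x => incl k A x * ((1 : A) ⊗ₜ[k] b i)) := by
  induction z using TensorProduct.induction_on with
  | zero => exact ⟨0, by simp⟩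
  | tmul a c =>
    refine ⟨(b.repr c).mapRange (fun μ => a ⊗ₜ[k] μ) (tmul_zero _ _), ?_⟩
    rw [Finsupp.sum_mapRange_index (by intro i; simp)]
    have h1 : ∀ (i : ι) (μ : E), incl k A (a ⊗ₜ[k] μ) * ((1 : A) ⊗ₜ[k] b i) = a ⊗ₜ[k] (μ • b i) := by
      intro i μ
      simp [Algebra.smul_def]
    simp only [h1]
    rw [Finsupp.sum, ← tmul_sum]
    congr 1
    exact (b.linearCombination_repr c).symm
  | add x y hx hy =>
    obtain ⟨w1, h1⟩ := hx
    obtain ⟨w2, h2⟩ := hy
    refine ⟨w1 + w2, ?_⟩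
    rw [Finsupp.sum_add_index' (by intro i; simp) (by intro i x y; simp [add_mul]), ← h1, ← h2]

include p in
theorem eq_zero_of_pow_eq_zero (h1 : ∀ e : E, ∃ c : k, algebraMap k E c = e ^ p)
    (h2 : ∀ c : k, ∃ e : E, e ^ p = algebraMap k E c) [IsReduced (A ⊗[k] E)]
    (z : A ⊗[k] Ω) (hz : z ^ p = 0) : z = 0 := by
  rcases subsingleton_or_nontrivial (A ⊗[k] Ω) with hsub | hnt
  · exact Subsingleton.elim _ _
  haveI : Nontrivial (A ⊗[k] E) := by
    by_contra hn
    rw [not_nontrivial_iff_subsingleton] at hn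
    have : (1 : A ⊗[k] Ω) = 0 := by
      rw [← map_one (incl k A (E := E) (Ω := Ω)), ← map_zero (incl k A (E := E) (Ω := Ω))]
      congr 1
      exact Subsingleton.elim _ _
    exact one_ne_zero this
  haveI : ExpChar k p := ExpChar.prime Fact.out
  haveI : ExpChar (A ⊗[k] Ω) p :=
    expChar_of_injective_algebraMap (algebraMap k (A ⊗[k] Ω)).injective p
  let b := Module.Basis.ofVectorSpace E Ω
  obtain ⟨w, rfl⟩ := exists_repr (k := k) (A := A) b z
  choose s hs using pow_eq_tmul_one (A := A) (k := k) (E := E) p h1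
  have hLI : LinearIndependent A (fun i => (1 : A) ⊗ₜ[k] ((b i) ^ p)) :=
    Module.Flat.linearIndependent_one_tmul (R := k) (S := A) (M := Ω)
      (v := fun i => (b i) ^ p) (li_pow p h2 b)
  have hsum : ∑ i ∈ w.support, s (w i) • ((1 : A) ⊗ₜ[k] ((b i) ^ p)) = 0 := by
    rw [← hz, Finsupp.sum, sum_pow_char]
    refine Finset.sum_congr rfl (fun i _ => ?_)
    have e1 : (incl k A (E := E) (Ω := Ω) (w i)) ^ p = s (w i) ⊗ₜ[k] (1 : Ω) := by
      rw [← map_pow (incl k A (E := E) (Ω := Ω)) (w i) p, hs]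
      simp
    rw [mul_pow, e1, Algebra.TensorProduct.tmul_pow, one_pow,
      Algebra.TensorProduct.tmul_mul_tmul, mul_one, one_mul, TensorProduct.smul_tmul',
      smul_eq_mul, mul_one]
  have hw : w = 0 := by
    ext i
    by_contra hne
    have hi : i ∈ w.support := Finsupp.mem_support_iff.mpr hne
    have h0 := linearIndependent_iff'.mp hLI w.support (fun i => s (w i)) hsum i hi
    have h3 : (w i) ^ p = 0 := by rw [hs, h0, zero_tmul]
    exact hne (IsNilpotent.eq_zero ⟨p, h3⟩)
  rw [hw]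
  simp

include p in
theorem isReduced_tensor (h1 : ∀ e : E, ∃ c : k, algebraMap k E c = e ^ p)
    (h2 : ∀ c : k, ∃ e : E, e ^ p = algebraMap k E c) [IsReduced (A ⊗[k] E)] :
    IsReduced (A ⊗[k] Ω) := by
  have key : ∀ (m : ℕ) (z : A ⊗[k] Ω), z ^ (p ^ m) = 0 → z = 0 := by
    intro m
    induction m with
    | zero => intro z hz; simpa using hz
    | succ m ih =>
      intro z hz
      apply ih
      apply eq_zero_of_pow_eq_zero (E := E) p h1 h2
      rw [← pow_mul, ← pow_succ]
      exact hz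
  constructor
  intro z hz
  obtain ⟨n, hn⟩ := hz
  apply key n
  have hp : n ≤ p ^ n := (Nat.lt_pow_self (Fact.out : p.Prime).one_lt).le
  exact pow_eq_zero_of_le hp hn

end

end Groth.Agent.Lib.helper25.FrobRed
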