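import Mathlib
import Groth.Prelude.Def_Curv2
import Groth.Agent.Lib.helper25.FrobRed
import Groth.Agent.Lib.helper25.VarBC3

/-! Frobenius twist reduced iff geometrically reduced (S7678) (helper25). -/

universe u

open AlgebraicGeometry CategoryTheory Limits TensorProduct

namespace Groth.Agent.Lib.helper25.FrobRed

set_option linter.style.haveILetI false

/-- `k` as a `k`-algebra via Frobenius. -/
def FrobK (k : Type u) [Field k] (_p : ℕ) : Type u := k

instance (k : Type u) [Field k] (p : ℕ) : Field (FrobK k p) := inferInstanceAs (Field k)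

noncomputable instance (k : Type u) [Field k] (p : ℕ) [Fact p.Prime] [CharP k p] :
    Algebra k (FrobK k p) := (frobenius k p).toAlgebra

theorem geomReduced_of_frob (k A : Type u) [Field k] [CommRing A] [Algebra k A] (p : ℕ)
    [Fact p.Prime] [CharP k p] (h : IsReduced (A ⊗[k] FrobK k p)) :
    Algebra.IsGeometricallyReduced k A := by
  haveI := h
  have h1 : ∀ e : FrobK k p, ∃ c : k, algebraMap k (FrobK k p) c = e ^ p := fun e => ⟨e, rfl⟩
  have h2 : ∀ c : k, ∃ e : FrobK k p, e ^ p = algebraMap k (FrobK k p) c := fun c => ⟨c, rfl⟩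
  have h3 : IsReduced (A ⊗[k] AlgebraicClosure (FrobK k p)) :=
    isReduced_tensor (k := k) (E := FrobK k p) (Ω := AlgebraicClosure (FrobK k p)) (A := A) p h1 h2
  apply Groth.Agent.Lib.helper25.GRed.geomReduced_of_isReduced_perfect k
    (AlgebraicClosure (FrobK k p)) A
  exact isReduced_of_injective
    (Algebra.TensorProduct.comm k (AlgebraicClosure (FrobK k p)) A).toAlgHom (AlgEquiv.injective _)

attribute [local instance] Curv2.stalkAlgebra

theorem S7678_aux (k : Type u) [Field k] (X : Scheme.{u}) [X.Over (Spec (CommRingCat.of k))]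
    (p : ℕ) [Fact p.Prime] [CharP k p] :
    GeometricallyReduced (X ↘ (Spec (CommRingCat.of k))) ↔
      IsReduced ↑(pullback (X ↘ (Spec (CommRingCat.of k)))
        (Spec.map (CommRingCat.ofHom (frobenius k p)))) := by
  constructor
  · intro h
    exact pullback_of_geometrically h.geometrically_isReduced k
      (Spec.map (CommRingCat.ofHom (frobenius k p)))
  · intro h
    apply Groth.Agent.S1544.geometricallyReduced_of_geomReducedAt
    intro x
    rw [Groth.Agent.S1541.result]
    apply geomReduced_of_frob k _ p
    haveI : AlgebraicGeometry.IsReduced (Curv2.bc k X (FrobK k p)) := h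
    haveI : ExpChar k p := ExpChar.prime Fact.out
    haveI : IsPurelyInseparable k (FrobK k p) := by
      rw [isPurelyInseparable_iff_pow_mem k p]
      intro x
      exact ⟨1, x, by rw [pow_one]; rfl⟩
    haveI : Algebra.IsAlgebraic k (FrobK k p) := inferInstance
    exact Groth.Agent.Lib.helper7.StalkBC.isReduced_tensorProduct_of_stalks
      (X ↘ Spec (CommRingCat.of k)) x (Groth.Agent.Lib.helper25.VarBC.hφ_stalk k X x) (FrobK k p)
      (fun x' _ => inferInstance)

end Groth.Agent.Lib.helper25.FrobRed
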