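import Mathlib
import Groth.Agent.Lib.helper7.FibBC

/-! Geometric irreducibility from a flat fibration with geometrically irreducible generic fibre
(S17181) (helper25). -/

universe u

open AlgebraicGeometry CategoryTheory Limits TensorProduct

namespace Groth.Agent.Lib.helper25.GIrr

set_option linter.style.haveILetI false

theorem surjective_spec_field {k K : Type u} [Field k] [Field K]
    (y : Spec (CommRingCat.of K) ⟶ Spec (CommRingCat.of k)) : Surjective y := by
  constructor
  intro a
  exact ⟨(default : PrimeSpectrum K), Subsingleton.elim (α := PrimeSpectrum k) _ _⟩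

theorem S17181_aux (k : Type u) [Field k]
    (X C : Scheme.{u}) [X.Over (Spec (CommRingCat.of k))] [C.Over (Spec (CommRingCat.of k))]
    (f : X ⟶ C) [f.IsOver (Spec (CommRingCat.of k))] [IrreducibleSpace X] [IrreducibleSpace C]
    [GeometricallyIrreducible (C ↘ Spec (CommRingCat.of k))] [Flat f] [LocallyOfFiniteType f]
    [GeometricallyIrreducible (f.fiberToSpecResidueField (genericPoint C))] :
    GeometricallyIrreducible (X ↘ Spec (CommRingCat.of k)) := by
  refine ⟨fun K _ y Z fst snd H => ?_⟩
  let CK := pullback (C ↘ Spec (CommRingCat.of k)) y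
  let pr : CK ⟶ C := pullback.fst _ _
  let qK : CK ⟶ Spec (CommRingCat.of K) := pullback.snd _ _
  have HC : IsPullback pr qK (C ↘ Spec (CommRingCat.of k)) y := IsPullback.of_hasPullback _ _
  haveI : IrreducibleSpace CK :=
    GeometricallyIrreducible.geometrically_irreducibleSpace y pr qK HC
  have hover : f ≫ (C ↘ Spec (CommRingCat.of k)) = X ↘ Spec (CommRingCat.of k) :=
    comp_over f (Spec (CommRingCat.of k))
  have hw : (fst ≫ f) ≫ (C ↘ Spec (CommRingCat.of k)) = snd ≫ y := by
    rw [Category.assoc, hover]
    exact H.w
  let fK : Z ⟶ CK := pullback.lift (fst ≫ f) snd hw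
  have hfK1 : fK ≫ pr = fst ≫ f := pullback.lift_fst _ _ _
  have hfK2 : fK ≫ qK = snd := pullback.lift_snd _ _ _
  have Hbig : IsPullback fst (fK ≫ qK) (f ≫ (C ↘ Spec (CommRingCat.of k))) y := by
    rw [hfK2, hover]; exact H
  have HL : IsPullback fst fK f pr := IsPullback.of_bot Hbig hfK1.symm HC
  haveI : Flat fK := MorphismProperty.of_isPullback HL inferInstance
  let ηK := genericPoint CK
  haveI : Surjective y := surjective_spec_field y
  haveI : Surjective pr := MorphismProperty.of_isPullback HC.flip inferInstance
  have hη : pr ηK = genericPoint C := by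
    apply IsGenericPoint.eq _ (genericPoint_spec C)
    have h1 := (genericPoint_spec CK).image pr.continuous
    rw [Set.image_univ, pr.surjective.range_eq, closure_univ] at h1
    exact h1
  have hgi : GeometricallyIrreducible (fK.fiberToSpecResidueField ηK) := by
    rw [Groth.Agent.Lib.helper7.FibBC.geometricallyIrreducible_fiber_iff HL ηK]
    rw [hη]
    infer_instance
  haveI : IrreducibleSpace (fK.fiber ηK) :=
    GeometricallyIrreducible.irreducibleSpace_of_subsingleton (fK.fiberToSpecResidueField ηK)
  have hirr : IsIrreducible (Set.range (fK.fiberι ηK)) := by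
    rw [← Set.image_univ]
    exact (IrreducibleSpace.isIrreducible_univ _).image _ (fK.fiberι ηK).continuous.continuousOn
  have hdense : closure (Set.range (fK.fiberι ηK)) = Set.univ := by
    rw [fK.range_fiberι ηK]
    apply Set.eq_univ_of_forall
    intro z
    have hs : ηK ⤳ fK z := (genericPoint_spec CK).specializes (Set.mem_univ _)
    obtain ⟨z', hz', hfz'⟩ := (Flat.generalizingMap (f := fK)) hs
    exact hz'.mem_closed isClosed_closure (subset_closure hfz')
  exact (irreducibleSpace_def Z).mpr (by
    show IsIrreducible (Set.univ : Set Z)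
    rw [← hdense]; exact hirr.closure)

end Groth.Agent.Lib.helper25.GIrr
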