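import Mathlib
import Groth.Prelude.Def_Curv2
import Groth.Prelude.Def_Pi1
import Groth.Prelude.Def_EGA4b
import Groth.Agent.Lib.helper7.StalkBC
import Groth.Agent.Lib.helper25.NorTensor5

/-! Product of a geometrically normal scheme with a normal scheme is normal (S7601) (helper25). -/

universe u

open AlgebraicGeometry CategoryTheory Limits TensorProduct

namespace Groth.Agent.Lib.helper25.NorProd

open Groth.Agent.Lib.helper7.StalkBC

set_option linter.style.haveILetI false

theorem nd_of_ringEquiv {R S : Type*} [CommRing R] [CommRing S] (e : R ≃+* S)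
    (h : IsDomain R ∧ IsIntegrallyClosed R) : IsDomain S ∧ IsIntegrallyClosed S := by
  obtain ⟨h1, h2⟩ := h
  haveI : IsDomain S := e.symm.toMulEquiv.isDomain R
  exact ⟨inferInstance, IsIntegrallyClosed.of_equiv e⟩

theorem nd_stalk_of_isOpenImmersion {U X : Scheme.{u}} (j : U ⟶ X) [IsOpenImmersion j] (u : U) :
    (IsDomain (U.presheaf.stalk u) ∧ IsIntegrallyClosed (U.presheaf.stalk u)) ↔
      (IsDomain (X.presheaf.stalk (j u)) ∧ IsIntegrallyClosed (X.presheaf.stalk (j u))) := by
  have hbij := ConcreteCategory.bijective_of_isIso (j.stalkMap u)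
  let ε : X.presheaf.stalk (j u) ≃+* U.presheaf.stalk u :=
    RingEquiv.ofBijective (j.stalkMap u).hom hbij
  exact ⟨nd_of_ringEquiv ε.symm, nd_of_ringEquiv ε⟩

theorem isNormalScheme_of_isOpenImmersion {U X : Scheme.{u}} (j : U ⟶ X) [IsOpenImmersion j]
    (h : Pi1.IsNormalScheme X) : Pi1.IsNormalScheme U :=
  fun u => (nd_stalk_of_isOpenImmersion j u).mpr (h (j u))

theorem isNormalScheme_of_openCover {X : Scheme.{u}} (𝒰 : X.OpenCover)
    (h : ∀ i, Pi1.IsNormalScheme (𝒰.X i)) : Pi1.IsNormalScheme X := by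
  intro x
  obtain ⟨i, y, rfl⟩ := 𝒰.exists_eq x
  exact (nd_stalk_of_isOpenImmersion (𝒰.f i) y).mp (h i y)

theorem isNormalScheme_Spec_iff (R : CommRingCat.{u}) :
    Pi1.IsNormalScheme (Spec R) ↔ EGA4.IsNormalRing R := by
  have key : ∀ p : Spec R, Nonempty (Localization.AtPrime p.asIdeal ≃+*
      (Spec R).presheaf.stalk p) := by
    intro p
    letI alg : Algebra R ((Spec R).presheaf.stalk p) := StructureSheaf.stalkAlgebra R p
    haveI : IsLocalization.AtPrime ((Spec R).presheaf.stalk p) p.asIdeal :=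
      StructureSheaf.IsLocalization.to_stalk R p
    exact ⟨(IsLocalization.algEquiv p.asIdeal.primeCompl (Localization.AtPrime p.asIdeal)
      ((Spec R).presheaf.stalk p)).toRingEquiv⟩
  constructor
  · intro h q hq
    obtain ⟨e⟩ := key ⟨q, hq⟩
    exact nd_of_ringEquiv e.symm (h ⟨q, hq⟩)
  · intro h p
    obtain ⟨e⟩ := key p
    exact nd_of_ringEquiv e (h p.asIdeal)

end Groth.Agent.Lib.helper25.NorProd

namespace Groth.Agent.Lib.helper25.NorProd

open Groth.Agent.Lib.helper7.StalkBC

set_option linter.style.haveILetI false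

theorem isNormalScheme_pullback_Spec {k : Type u} [Field k] (A : Type u) [CommRing A]
    [Algebra k A] (hA : EGA4.IsGeomNormal k A) {B : CommRingCat.{u}}
    (b : Spec B ⟶ Spec (CommRingCat.of k)) (hB : Pi1.IsNormalScheme (Spec B)) :
    Pi1.IsNormalScheme (pullback b (Spec.map (CommRingCat.ofHom (algebraMap k A)))) := by
  obtain ⟨ψ, rfl⟩ := Spec.map_surjective b
  letI : Algebra k B := ψ.hom.toAlgebra
  have hBn : EGA4.IsNormalRing B := (isNormalScheme_Spec_iff B).mp hB
  have h1 : EGA4.IsNormalRing (A ⊗[k] B) :=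
    Groth.Agent.Lib.helper25.NorTensor.S9413_aux k A B hA hBn
  have h2 : EGA4.IsNormalRing (B ⊗[k] A) :=
    Groth.Agent.Lib.helper20.FiberLoc.normal_of_ringEquiv
      (Algebra.TensorProduct.comm k A B).toRingEquiv h1
  let e : pullback (Spec.map ψ) (Spec.map (CommRingCat.ofHom (algebraMap k A))) ≅
      Spec (CommRingCat.of (B ⊗[k] A)) := pullbackSpecIso k B A
  exact isNormalScheme_of_isOpenImmersion e.hom ((isNormalScheme_Spec_iff _).mpr h2)

theorem isNormalScheme_pullback {k : Type u} [Field k] (A : Type u) [CommRing A]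
    [Algebra k A] (hA : EGA4.IsGeomNormal k A) {Y : Scheme.{u}}
    (g : Y ⟶ Spec (CommRingCat.of k)) (hY : Pi1.IsNormalScheme Y) :
    Pi1.IsNormalScheme (pullback g (Spec.map (CommRingCat.ofHom (algebraMap k A)))) := by
  apply isNormalScheme_of_openCover (Scheme.Pullback.openCoverOfLeft Y.affineOpenCover.openCover g
    (Spec.map (CommRingCat.ofHom (algebraMap k A))))
  intro i
  exact isNormalScheme_pullback_Spec A hA (Y.affineOpenCover.f i ≫ g)
    (isNormalScheme_of_isOpenImmersion (Y.affineOpenCover.f i) hY)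

section F

variable {k : Type u} [Field k] {X : Scheme.{u}} (s : X ⟶ Spec (CommRingCat.of k)) (x : X)
  [Algebra k (X.presheaf.stalk x)]
  (hφ : Spec.map (CommRingCat.ofHom (algebraMap k (X.presheaf.stalk x))) = X.fromSpecStalk x ≫ s)

include hφ in
theorem isGeomNormal_stalk
    (hX : ∀ (K : Type u) [Field K] [Algebra k K],
      Pi1.IsNormalScheme (pullback s (Spec.map (CommRingCat.ofHom (algebraMap k K))))) :
    EGA4.IsGeomNormal k (X.presheaf.stalk x) := by
  intro K _ _ _
  apply Groth.Agent.Lib.helper20.FiberLoc.normal_of_ringEquiv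
    (Algebra.TensorProduct.comm k (X.presheaf.stalk x) K).toRingEquiv
  intro Q hQ
  let O := X.presheaf.stalk x
  let q := Spec.map (CommRingCat.ofHom (algebraMap k K))
  let j := X.fromSpecStalk x
  haveI : Flat j := flat_fromSpecStalk X x
  let P := pullback j (pullback.fst s q)
  let p2 : P ⟶ pullback s q := pullback.snd j (pullback.fst s q)
  let E : P ≅ Spec (CommRingCat.of (O ⊗[k] K)) :=
    pullbackRightPullbackFstIso s q j ≪≫ pullback.congrHom hφ.symm rfl ≪≫ pullbackSpecIso k O K
  let Qp : Spec (CommRingCat.of (O ⊗[k] K)) := ⟨Q, hQ⟩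
  let t : P := E.inv Qp
  have hnd := hX K (p2 t)
  have hbij := bijective_stalkMap p2 t
  let e1 : (pullback s q).presheaf.stalk (p2 t) ≃+* P.presheaf.stalk t :=
    RingEquiv.ofBijective (p2.stalkMap t).hom hbij
  have hnd2 := nd_of_ringEquiv e1 hnd
  have hEt : E.hom t = Qp := by
    show E.hom (E.inv Qp) = Qp
    rw [← Scheme.Hom.comp_apply, E.inv_hom_id]; rfl
  have hnd3 : IsDomain ((Spec (CommRingCat.of (O ⊗[k] K))).presheaf.stalk (E.hom t)) ∧
      IsIntegrallyClosed ((Spec (CommRingCat.of (O ⊗[k] K))).presheaf.stalk (E.hom t)) :=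
    (nd_stalk_of_isOpenImmersion E.hom t).mp hnd2
  rw [hEt] at hnd3
  letI alg : Algebra (O ⊗[k] K) ((Spec (CommRingCat.of (O ⊗[k] K))).presheaf.stalk Qp) :=
    StructureSheaf.stalkAlgebra (O ⊗[k] K) Qp
  haveI : IsLocalization.AtPrime ((Spec (CommRingCat.of (O ⊗[k] K))).presheaf.stalk Qp) Q :=
    StructureSheaf.IsLocalization.to_stalk (O ⊗[k] K) Qp
  exact nd_of_ringEquiv
    (IsLocalization.algEquiv Q.primeCompl (Localization.AtPrime Q)
      ((Spec (CommRingCat.of (O ⊗[k] K))).presheaf.stalk Qp)).toRingEquiv.symm hnd3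

include hφ in
theorem nd_stalk_pullback (hO : EGA4.IsGeomNormal k (X.presheaf.stalk x))
    {Y : Scheme.{u}} (g : Y ⟶ Spec (CommRingCat.of k)) (hY : Pi1.IsNormalScheme Y)
    (z : ↥(pullback s g)) (hz : pullback.fst s g z = x) :
    IsDomain ((pullback s g).presheaf.stalk z) ∧
      IsIntegrallyClosed ((pullback s g).presheaf.stalk z) := by
  let j := X.fromSpecStalk x
  haveI : Flat j := flat_fromSpecStalk X x
  let p2 := pullback.snd j (pullback.fst s g)
  have hnor0 : Pi1.IsNormalScheme
      (pullback g (Spec.map (CommRingCat.ofHom (algebraMap k (X.presheaf.stalk x))))) :=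
    isNormalScheme_pullback (X.presheaf.stalk x) hO g hY
  let e : pullback j (pullback.fst s g) ≅
      pullback g (Spec.map (CommRingCat.ofHom (algebraMap k (X.presheaf.stalk x)))) :=
    pullbackRightPullbackFstIso s g j ≪≫ pullback.congrHom hφ.symm rfl ≪≫ pullbackSymmetry _ _
  have hnor1 : Pi1.IsNormalScheme (pullback j (pullback.fst s g)) :=
    isNormalScheme_of_isOpenImmersion e.hom hnor0
  have hcl : j (IsLocalRing.closedPoint (X.presheaf.stalk x)) = pullback.fst s g z := by
    rw [hz]; exact Scheme.fromSpecStalk_closedPoint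
  obtain ⟨t, -, ht⟩ := Scheme.Pullback.exists_preimage_pullback _ _ hcl
  have hbij := bijective_stalkMap p2 t
  let e1 : (pullback s g).presheaf.stalk (p2 t) ≃+* (pullback j (pullback.fst s g)).presheaf.stalk t :=
    RingEquiv.ofBijective (p2.stalkMap t).hom hbij
  have h1 := nd_of_ringEquiv e1.symm (hnor1 t)
  have ht' : p2 t = z := ht
  rw [← ht']
  exact h1

end F

theorem S7601_aux (k : Type u) [Field k] (X : Scheme.{u}) [X.Over (Spec (CommRingCat.of k))]
    (Y : Scheme.{u}) [Y.Over (Spec (CommRingCat.of k))]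
    (hX : ∀ (K : Type u) [Field K] [Algebra k K], Pi1.IsNormalScheme (Curv2.bc k X K))
    (hY : Pi1.IsNormalScheme Y) :
    Pi1.IsNormalScheme (pullback (X ↘ (Spec (CommRingCat.of k)))
      (Y ↘ (Spec (CommRingCat.of k)))) := by
  intro z
  let s := X ↘ Spec (CommRingCat.of k)
  let x := pullback.fst s (Y ↘ Spec (CommRingCat.of k)) z
  letI : Algebra k (X.presheaf.stalk x) :=
    ((X.presheaf.germ ⊤ x trivial).hom.comp
      (s.appTop.hom.comp (Scheme.ΓSpecIso (CommRingCat.of k)).inv.hom)).toAlgebra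
  have hφ : Spec.map (CommRingCat.ofHom (algebraMap k (X.presheaf.stalk x))) =
      X.fromSpecStalk x ≫ s := (fromSpecStalk_comp s x).symm
  have hO := isGeomNormal_stalk s x hφ (fun K _ _ => hX K)
  exact nd_stalk_pullback s x hφ hO (Y ↘ Spec (CommRingCat.of k)) hY z rfl

end Groth.Agent.Lib.helper25.NorProd
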