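import Mathlib
import Groth.Prelude.Def_Curv2
import Groth.Agent.Lib.helper7.CommonPt
import Groth.Agent.Lib.helper25.NorProd
import Groth.Agent.S2539

/-! Geometric normality at a point descends along base field extension (S7600) (helper25). -/

universe u

open AlgebraicGeometry CategoryTheory Limits TensorProduct

namespace Groth.Agent.Lib.helper25.GNDesc

open Groth.Agent.Lib.helper7.CommonPt Groth.Agent.Lib.helper25.NorProd

set_option linter.style.haveILetI false

/-- normality of stalks descends along flat morphisms -/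
theorem nd_of_flat {Z W : Scheme.{u}} (g : Z ⟶ W) [Flat g] (z : Z)
    (h : IsDomain (Z.presheaf.stalk z) ∧ IsIntegrallyClosed (Z.presheaf.stalk z)) :
    IsDomain (W.presheaf.stalk (g z)) ∧ IsIntegrallyClosed (W.presheaf.stalk (g z)) := by
  obtain ⟨h1, h2⟩ := h
  algebraize [(g.stalkMap z).hom]
  haveI : Module.FaithfullyFlat (W.presheaf.stalk (g z)) (Z.presheaf.stalk z) :=
    @Module.FaithfullyFlat.of_flat_of_isLocalHom _ _ _ _ _ _ _
      (Flat.stalkMap g z) (g.toLRSHom.prop z)
  exact Groth.Agent.S2539.isDomain_isIntegrallyClosed_of_faithfullyFlat _ (Z.presheaf.stalk z)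

theorem S7600_aux (k : Type u) [Field k] (X : Scheme.{u}) [X.Over (Spec (CommRingCat.of k))]
    (k' : Type u) [Field k'] [Algebra k k'] (x' : ↥(Curv2.bc k X k'))
    (h : letI : (Curv2.bc k X k').Over (Spec (CommRingCat.of k')) := ⟨Curv2.bcSnd k X k'⟩
      ∀ (k'' : Type u) [Field k''] [Algebra k' k''] (x'' : ↥(Curv2.bc k' (Curv2.bc k X k') k'')), Curv2.bcFst k' (Curv2.bc k X k') k'' x'' = x' →
          IsDomain ↥((Curv2.bc k' (Curv2.bc k X k') k'').presheaf.stalk x'') ∧ IsIntegrallyClosed ↥((Curv2.bc k' (Curv2.bc k X k') k'').presheaf.stalk x'')) :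
    ∀ (K : Type u) [Field K] [Algebra k K] (y : ↥(Curv2.bc k X K)), Curv2.bcFst k X K y = (Curv2.bcFst k X k' x') →
          IsDomain ↥((Curv2.bc k X K).presheaf.stalk y) ∧ IsIntegrallyClosed ↥((Curv2.bc k X K).presheaf.stalk y) := by
  intro K _ _ y hy
  let f := X ↘ Spec (CommRingCat.of k)
  let a : Spec (CommRingCat.of k') ⟶ Spec (CommRingCat.of k) :=
    Spec.map (CommRingCat.ofHom (algebraMap k k'))
  let b : Spec (CommRingCat.of K) ⟶ Spec (CommRingCat.of k) :=
    Spec.map (CommRingCat.ofHom (algebraMap k K))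
  obtain ⟨κ, _, cA, cB, heq, m, hm1, hm2⟩ := exists_common f a b x' y hy.symm
  haveI : Flat cB := flat_of_field cB
  haveI : Flat (ψ' f a b cA cB heq) :=
    MorphismProperty.of_isPullback (isPullback_ψ' f a b cA cB heq).flip inferInstance
  -- normality at m
  have hm : IsDomain ((pullback f (cA ≫ a)).presheaf.stalk m) ∧
      IsIntegrallyClosed ((pullback f (cA ≫ a)).presheaf.stalk m) := by
    obtain ⟨E, hE⟩ := exists_iso f a a cA cA rfl
    obtain ⟨φ, hφ⟩ := Spec.map_surjective cA
    letI : Algebra k' κ := φ.hom.toAlgebra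
    have hcA : Spec.map (CommRingCat.ofHom (algebraMap k' κ)) = cA := by rw [← hφ]; rfl
    subst hcA
    rw [nd_stalk_of_isOpenImmersion E.inv m]
    refine h κ (E.inv m) ?_
    show pullback.fst (pullback.snd f a) _ (E.inv m) = x'
    rw [← Scheme.Hom.comp_apply, hE]
    exact hm1
  have := nd_of_flat (ψ' f a b cA cB heq) m hm
  rw [hm2] at this
  exact this

end Groth.Agent.Lib.helper25.GNDesc
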