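import Mathlib
import Groth.Agent.Lib.helper25.GRed3

/-! S5061 (helper25). -/

namespace Groth.Agent.Lib.helper25.GRed

set_option linter.style.haveILetI false
universe u
open TensorProduct
open scoped IntermediateField

/-- for a purely inseparable extension `k'`, every proper ideal of `k' ⊗ K` consists of
nilpotents -/
theorem le_nilradical_of_ne_top (k k' K : Type u) [Field k] [Field k'] [Algebra k k']
    [IsPurelyInseparable k k'] [Field K] [Algebra k K] (m : Ideal (k' ⊗[k] K))
    (hm : m ≠ ⊤) : m ≤ nilradical (k' ⊗[k] K) := by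
  intro x hx
  let e : k' ⊗[k] K ≃ₐ[k] K ⊗[k] k' := Algebra.TensorProduct.comm k k' K
  obtain ⟨n, hn, c, hc⟩ := IsPurelyInseparable.exists_pow_mem_range_tensorProduct (k := k)
    (K := k') (R := K) (e x)
  have h1 : x ^ n = (1 : k') ⊗ₜ[k] c := by
    apply e.injective
    rw [map_pow, ← hc, Algebra.TensorProduct.algebraMap_apply]
    simp [e]
  by_cases hc0 : c = 0
  · refine ⟨n, ?_⟩
    rw [h1, hc0, TensorProduct.tmul_zero]
    exact zero_mem _
  · exfalso
    have h2 : x ^ n ∈ m := Ideal.pow_mem_of_mem m hx n hn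
    have h3 : (x ^ n) * ((1 : k') ⊗ₜ[k] c⁻¹) = 1 := by
      rw [h1, Algebra.TensorProduct.tmul_mul_tmul, mul_one, mul_inv_cancel₀ hc0]
      rfl
    apply hm
    rw [Ideal.eq_top_iff_one, ← h3]
    exact Ideal.mul_mem_right _ _ h2

theorem isArtinianRing_of_local_nil (S : Type u) [CommRing S]
    (h1 : ∀ m : Ideal S, m ≠ ⊤ → m ≤ nilradical S) (h2 : (nilradical S).FG) :
    IsArtinianRing S := by
  have hprime : ∀ I : Ideal S, I.IsPrime → I = nilradical S := fun I hI =>
    le_antisymm (h1 I hI.ne_top) (nilradical_le_prime I)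
  haveI : IsNoetherianRing S := IsNoetherianRing.of_prime (fun I hI => hprime I hI ▸ h2)
  rw [isArtinianRing_iff_isNoetherianRing_krullDimLE_zero]
  refine ⟨inferInstance, Ring.krullDimLE_zero_iff.mpr (fun I hI => ?_)⟩
  refine Ideal.isMaximal_def.mpr ⟨hI.ne_top, fun J hJ => ?_⟩
  by_contra hne
  have h3 := h1 J hne
  rw [← hprime I hI] at h3
  exact lt_irrefl _ (lt_of_lt_of_le hJ h3)

set_option synthInstance.maxHeartbeats 400000 in
set_option maxHeartbeats 1600000 in
theorem artinian_of_geomReduced (k k' P K : Type u) [Field k] [Field k'] [Field P] [Field K]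
    [Algebra k k'] [Algebra k P] [Algebra k' P] [IsScalarTower k k' P] [Algebra k K]
    [Module.Finite k k'] [IsPurelyInseparable k P]
    (hQ : Algebra.IsGeometricallyReduced k' ((k' ⊗[k] K) ⧸ nilradical (k' ⊗[k] K))) :
    IsArtinianRing (K ⊗[k] P) := by
  classical
  haveI : Algebra.IsAlgebraic k P := inferInstance
  haveI : Algebra.IsAlgebraic k' P := Algebra.IsAlgebraic.tower_top (K := k) k'
  -- `T = k' ⊗ K` is Noetherian
  haveI : Module.Finite K (K ⊗[k] k') := inferInstance
  haveI : IsNoetherianRing (K ⊗[k] k') := Algebra.FiniteType.isNoetherianRing K _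
  haveI : IsNoetherianRing (k' ⊗[k] K) :=
    isNoetherianRing_of_ringEquiv _ (Algebra.TensorProduct.comm k K k').toRingEquiv
  let c : P ⊗[k'] (k' ⊗[k] K) ≃ₐ[P] P ⊗[k] K := Algebra.TensorProduct.cancelBaseChange k k' P P K
  let J : Ideal (P ⊗[k'] (k' ⊗[k] K)) :=
    (nilradical (k' ⊗[k] K)).map
      (Algebra.TensorProduct.includeRight (R := k') (A := P) (B := k' ⊗[k] K))
  let e1 : P ⊗[k'] ((k' ⊗[k] K) ⧸ nilradical (k' ⊗[k] K)) ≃ₐ[P]
      (P ⊗[k'] (k' ⊗[k] K)) ⧸ J :=
    Algebra.TensorProduct.tensorQuotientEquiv (R := k') P (k' ⊗[k] K) P _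
  haveI hred : IsReduced (P ⊗[k'] ((k' ⊗[k] K) ⧸ nilradical (k' ⊗[k] K))) := inferInstance
  haveI : IsReduced ((P ⊗[k'] (k' ⊗[k] K)) ⧸ J) :=
    isReduced_of_injective e1.symm.toRingEquiv.toRingHom e1.symm.injective
  have hJrad : J.IsRadical := (Ideal.isRadical_iff_quotient_reduced _).mpr inferInstance
  have hJle : J ≤ nilradical (P ⊗[k'] (k' ⊗[k] K)) := by
    have hJ' : J = (nilradical (k' ⊗[k] K)).map
        (Algebra.TensorProduct.includeRight (R := k') (A := P) (B := k' ⊗[k] K)).toRingHom := rfl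
    rw [hJ', Ideal.map_le_iff_le_comap]
    intro y hy
    obtain ⟨n, hn⟩ := hy
    have hn' : y ^ n = 0 := hn
    refine ⟨n, ?_⟩
    show ((Algebra.TensorProduct.includeRight (R := k') (A := P) (B := k' ⊗[k] K)).toRingHom y) ^ n
      ∈ (0 : Ideal _)
    rw [← map_pow, hn', map_zero]
    exact zero_mem _
  have hJeq : nilradical (P ⊗[k'] (k' ⊗[k] K)) = J := by
    apply le_antisymm _ hJle
    intro x hx
    obtain ⟨n, hn⟩ := hx
    have hn' : x ^ n = 0 := hn
    exact hJrad ⟨n, by rw [hn']; exact zero_mem _⟩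
  have hJfg : (nilradical (P ⊗[k'] (k' ⊗[k] K))).FG := by
    rw [hJeq]
    exact Ideal.FG.map (IsNoetherian.noetherian _) _
  have hloc : ∀ m : Ideal (P ⊗[k'] (k' ⊗[k] K)), m ≠ ⊤ →
      m ≤ nilradical (P ⊗[k'] (k' ⊗[k] K)) := by
    intro m hm x hx
    let m' : Ideal (P ⊗[k] K) := m.comap c.symm.toRingEquiv.toRingHom
    have hm' : m' ≠ ⊤ := by
      intro h
      apply hm
      rw [Ideal.eq_top_iff_one]
      have : (1 : P ⊗[k] K) ∈ m' := h ▸ Submodule.mem_top
      have h2 : c.symm (1 : P ⊗[k] K) ∈ m := this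
      rwa [map_one] at h2
    have hcx : c x ∈ m' := by
      show c.symm (c x) ∈ m
      rw [AlgEquiv.symm_apply_apply]
      exact hx
    obtain ⟨n, hn⟩ := le_nilradical_of_ne_top k P K m' hm' hcx
    have hn' : (c x) ^ n = 0 := hn
    refine ⟨n, ?_⟩
    show x ^ n = 0
    apply c.injective
    rw [map_pow, hn', map_zero]
  haveI h1 : IsArtinianRing (P ⊗[k'] (k' ⊗[k] K)) := isArtinianRing_of_local_nil _ hloc hJfg
  haveI h2 : IsArtinianRing (P ⊗[k] K) :=
    Function.Surjective.isArtinianRing (f := c.toRingEquiv.toRingHom) c.surjective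
  exact Function.Surjective.isArtinianRing
    (f := (Algebra.TensorProduct.comm k P K).toRingEquiv.toRingHom)
    (Algebra.TensorProduct.comm k P K).surjective

theorem S5061_aux (p : ℕ) [Fact p.Prime]
    (k K : Type u) [Field k] [CharP k p] [Field K] [Algebra k K]
    (P : Type u) [Field P] [Algebra k P] [PerfectRing P p] [IsPRadical (algebraMap k P) p] :
    IsArtinianRing (K ⊗[k] P) ↔
      ∃ (k' : Type u) (_ : Field k') (_ : Algebra k k'), Module.Finite k k' ∧
        IsPurelyInseparable k k' ∧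
        Algebra.IsGeometricallyReduced k' ((k' ⊗[k] K) ⧸ nilradical (k' ⊗[k] K)) := by
  haveI : ExpChar k p := ExpChar.prime (Fact.out : p.Prime)
  haveI : CharP P p := charP_of_injective_algebraMap (algebraMap k P).injective p
  haveI : ExpChar P p := ExpChar.prime (Fact.out : p.Prime)
  haveI : PerfectField P := PerfectRing.toPerfectField P p
  haveI : IsPurelyInseparable k P := IsPRadical.isPurelyInseparable k P p
  constructor
  · intro hart
    haveI := hart
    haveI : IsNoetherianRing (K ⊗[k] P) := inferInstance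
    haveI : IsNoetherianRing (P ⊗[k] K) :=
      isNoetherianRing_of_ringEquiv _ (Algebra.TensorProduct.comm k K P).toRingEquiv
    exact exists_geomReduced k P K (IsNoetherian.noetherian _)
  · rintro ⟨k', _, _, hfin, hpi, hQ⟩
    haveI := hfin
    haveI := hpi
    haveI : ExpChar k' p := expChar_of_injective_algebraMap (algebraMap k k').injective p
    letI : Algebra k' P := (PerfectRing.lift (algebraMap k k') (algebraMap k P) p).toAlgebra
    haveI : IsScalarTower k k' P := IsScalarTower.of_algebraMap_eq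
      (fun x => (PerfectRing.lift_comp_apply (algebraMap k k') (algebraMap k P) p x).symm)
    exact artinian_of_geomReduced k k' P K hQ

end Groth.Agent.Lib.helper25.GRed
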