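import Mathlib
import Groth.Prelude.Def_Curv2
import Groth.Agent.Lib.helper14.SepGen
import Groth.Agent.Lib.lead.Unibr3
import Groth.Agent.S1544

universe u

open AlgebraicGeometry CategoryTheory Limits TensorProduct

namespace Groth.Agent.Lib.helper25.GSec

set_option linter.style.haveILetI false

/-- A finite, geometrically reduced field extension is separable. -/
theorem isSeparable_of_finite_of_isGeometricallyReduced (k K : Type u) [Field k] [Field K]
    [Algebra k K] [Module.Finite k K] [Algebra.IsGeometricallyReduced k K] :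
    Algebra.IsSeparable k K := by
  haveI : Algebra.IsAlgebraic k K := Algebra.IsAlgebraic.of_finite k K
  obtain ⟨s, hs, H⟩ :=
    Groth.Agent.H14.exists_isTranscendenceBasis_and_isSeparable_of_isGeometricallyReduced k K
  have hempty : (s : Set K) = ∅ := by
    rw [Set.eq_empty_iff_forall_notMem]
    intro x hx
    have h1 : Transcendental k x := hs.1.transcendental ⟨x, hx⟩
    exact h1 (Algebra.IsAlgebraic.isAlgebraic x)
  rw [hempty, IntermediateField.adjoin_empty] at H
  haveI := H
  haveI : Algebra.IsSeparable k (⊥ : IntermediateField k K) := by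
    refine ⟨fun y => ?_⟩
    obtain ⟨r, hr⟩ := IntermediateField.mem_bot.mp y.2
    have : y = algebraMap k (⊥ : IntermediateField k K) r := Subtype.ext hr.symm
    rw [this]
    exact isSeparable_algebraMap r
  exact Algebra.IsSeparable.trans k (⊥ : IntermediateField k K) K

/-- A finite field extension whose base change to the algebraic closure has irreducible spectrum
is purely inseparable. -/
theorem isPurelyInseparable_of_preirreducible (k K : Type u) [Field k] [Field K]
    [Algebra k K] [Module.Finite k K]
    (h : PreirreducibleSpace (PrimeSpectrum (AlgebraicClosure k ⊗[k] K))) :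
    IsPurelyInseparable k K := by
  haveI : Algebra.IsAlgebraic k K := Algebra.IsAlgebraic.of_finite k K
  let L := AlgebraicClosure k
  haveI : Module.Finite L (L ⊗[k] K) := inferInstance
  haveI : IsArtinianRing (L ⊗[k] K) := IsArtinianRing.of_finite L (L ⊗[k] K)
  haveI : Nontrivial (L ⊗[k] K) := inferInstance
  haveI : IsLocalRing (L ⊗[k] K) := by
    apply IsLocalRing.of_unique_max_ideal
    obtain ⟨m, hm⟩ := Ideal.exists_maximal (L ⊗[k] K)
    refine ⟨m, hm, fun m' hm' => ?_⟩
    let p : PrimeSpectrum (L ⊗[k] K) := ⟨m, hm.isPrime⟩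
    let p' : PrimeSpectrum (L ⊗[k] K) := ⟨m', hm'.isPrime⟩
    have h1 : IsOpen ({p} : Set (PrimeSpectrum (L ⊗[k] K))) := isOpen_discrete _
    have h2 : IsOpen ({p'} : Set (PrimeSpectrum (L ⊗[k] K))) := isOpen_discrete _
    obtain ⟨q, hq1, hq2⟩ := nonempty_preirreducible_inter h1 h2 ⟨p, rfl⟩ ⟨p', rfl⟩
    have : p = p' := (Set.mem_singleton_iff.mp hq1).symm.trans (Set.mem_singleton_iff.mp hq2)
    exact (congrArg PrimeSpectrum.asIdeal this).symm
  exact Groth.Agent.Lib.lead.Unibr.isPurelyInseparable_of_isLocalRing k L K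

theorem preirreducibleSpace_of_surjective {α β : Type*} [TopologicalSpace α] [TopologicalSpace β]
    [PreirreducibleSpace α] (f : α → β) (hf : Continuous f) (hs : Function.Surjective f) :
    PreirreducibleSpace β := by
  refine ⟨?_⟩
  have := (PreirreducibleSpace.isPreirreducible_univ (X := α)).image f hf.continuousOn
  rwa [Set.image_univ, hs.range_eq] at this

attribute [local instance] Curv2.resAlgebra Curv2.stalkAlgebra

theorem S7615_aux (k : Type u) [Field k] (X : Scheme.{u}) [X.Over (Spec (CommRingCat.of k))]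
    [IsIntegral X] [IsProper (X ↘ (Spec (CommRingCat.of k)))] :
    letI := ((X ↘ (Spec (CommRingCat.of k))).appTop.hom.comp
      (Scheme.ΓSpecIso (CommRingCat.of k)).inv.hom : k →+* Γ(X, ⊤)).toAlgebra
    IsField ↑Γ(X, ⊤) ∧ Module.Finite k ↑Γ(X, ⊤) ∧
      (GeometricallyReduced (X ↘ (Spec (CommRingCat.of k))) → Algebra.IsSeparable k ↑Γ(X, ⊤)) ∧
      (GeometricallyIrreducible (X ↘ (Spec (CommRingCat.of k))) →
        IsPurelyInseparable k ↑Γ(X, ⊤)) := by
  letI alg : Algebra k Γ(X, ⊤) := ((X ↘ (Spec (CommRingCat.of k))).appTop.hom.comp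
      (Scheme.ΓSpecIso (CommRingCat.of k)).inv.hom : k →+* Γ(X, ⊤)).toAlgebra
  set f := X ↘ Spec (CommRingCat.of k) with hf
  have hfield : IsField Γ(X, ⊤) := isField_of_universallyClosed k f
  have hfin : Module.Finite k Γ(X, ⊤) := by
    have h1 : f.appTop.hom.Finite := finite_appTop_of_universallyClosed k f
    have h2 : (Scheme.ΓSpecIso (CommRingCat.of k)).inv.hom.Finite :=
      RingHom.Finite.of_surjective _
        (ConcreteCategory.bijective_of_isIso (Scheme.ΓSpecIso (CommRingCat.of k)).inv).2
    exact h1.comp h2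
  letI fld : Field Γ(X, ⊤) := hfield.toField
  refine ⟨hfield, hfin, ?_, ?_⟩
  · intro hred
    have h1 : Algebra.IsGeometricallyReduced k X.functionField :=
      (Groth.Agent.S1544.result k X).mp hred
    let φ : Γ(X, ⊤) →ₐ[k] X.functionField :=
      { toRingHom := (X.presheaf.germ ⊤ (genericPoint X) trivial).hom
        commutes' := fun r => rfl }
    have hinj : Function.Injective φ :=
      germ_injective_of_isIntegral X (genericPoint X) (U := ⊤) trivial
    haveI : Algebra.IsGeometricallyReduced k Γ(X, ⊤) :=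
      Algebra.IsGeometricallyReduced.of_injective φ hinj
    exact isSeparable_of_finite_of_isGeometricallyReduced k Γ(X, ⊤)
  · intro hirr
    let L := AlgebraicClosure k
    let y : Spec (CommRingCat.of L) ⟶ Spec (CommRingCat.of k) :=
      Spec.map (CommRingCat.ofHom (algebraMap k L))
    let ψ : CommRingCat.of k ⟶ Γ(X, ⊤) := CommRingCat.ofHom (algebraMap k Γ(X, ⊤))
    have hfac : X.toSpecΓ ≫ Spec.map ψ = f := by
      have hψ : ψ = (Scheme.ΓSpecIso (CommRingCat.of k)).inv ≫ f.appTop := rfl
      have := Scheme.toSpecΓ_naturality f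
      have h3 : (Spec (CommRingCat.of k)).toSpecΓ =
          Spec.map (Scheme.ΓSpecIso (CommRingCat.of k)).hom := by
        rw [← Scheme.isoSpec_Spec_hom]; rfl
      rw [h3] at this
      rw [hψ, Spec.map_comp, ← Category.assoc, ← this, Category.assoc, ← Spec.map_comp,
        Iso.inv_hom_id, Spec.map_id, Category.comp_id]
    let XL := pullback f y
    haveI : IrreducibleSpace XL :=
      hirr.geometrically_irreducibleSpace y (pullback.fst f y) (pullback.snd f y)
        (IsPullback.of_hasPullback f y)
    let P := pullback (Spec.map ψ) y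
    have hw : (pullback.fst f y ≫ X.toSpecΓ) ≫ Spec.map ψ = pullback.snd f y ≫ y := by
      rw [Category.assoc, hfac]
      exact pullback.condition
    let g : XL ⟶ P := pullback.lift (pullback.fst f y ≫ X.toSpecΓ) (pullback.snd f y) hw
    have hg1 : g ≫ pullback.fst (Spec.map ψ) y = pullback.fst f y ≫ X.toSpecΓ :=
      pullback.lift_fst _ _ _
    have hg2 : g ≫ pullback.snd (Spec.map ψ) y = pullback.snd f y := pullback.lift_snd _ _ _
    have HC : IsPullback (pullback.fst (Spec.map ψ) y) (pullback.snd (Spec.map ψ) y)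
        (Spec.map ψ) y := IsPullback.of_hasPullback _ _
    have Hbig : IsPullback (pullback.fst f y) (g ≫ pullback.snd (Spec.map ψ) y)
        (X.toSpecΓ ≫ Spec.map ψ) y := by
      rw [hg2, hfac]
      exact IsPullback.of_hasPullback f y
    have HL : IsPullback (pullback.fst f y) g X.toSpecΓ (pullback.fst (Spec.map ψ) y) :=
      IsPullback.of_bot Hbig hg1.symm HC
    haveI : Surjective X.toSpecΓ := by
      constructor
      intro a
      obtain ⟨x₀⟩ : Nonempty X := inferInstance
      exact ⟨x₀, Subsingleton.elim (α := PrimeSpectrum Γ(X, ⊤)) _ _⟩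
    haveI : Surjective g := MorphismProperty.of_isPullback HL inferInstance
    let e : P ≅ Spec (CommRingCat.of (Γ(X, ⊤) ⊗[k] L)) := pullbackSpecIso k Γ(X, ⊤) L
    have h1 : PreirreducibleSpace (PrimeSpectrum (Γ(X, ⊤) ⊗[k] L)) :=
      preirreducibleSpace_of_surjective (g ≫ e.hom) (g ≫ e.hom).continuous (g ≫ e.hom).surjective
    have h2 : PreirreducibleSpace (PrimeSpectrum (L ⊗[k] Γ(X, ⊤))) :=
      preirreducibleSpace_of_surjective
        (PrimeSpectrum.homeomorphOfRingEquiv (Algebra.TensorProduct.comm k Γ(X, ⊤) L).toRingEquiv)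
        (Homeomorph.continuous _) (Homeomorph.surjective _)
    exact isPurelyInseparable_of_preirreducible k Γ(X, ⊤) h2

end Groth.Agent.Lib.helper25.GSec
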