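import Mathlib
import Groth.Agent.Lib.helper6.SmoothRegPt

/-! Generic smoothness for regular source and perfect function field (S7776) (helper25). -/

universe u

open TensorProduct AlgebraicGeometry CategoryTheory

namespace Groth.Agent.Lib.helper25.GenSm

set_option linter.style.haveILetI false
attribute [-instance] Groth.Agent.Lib.helper19.JacLocal.instFormallySmoothRingExt

theorem formallySmooth_atPrime_of_regular (B K A : Type u) [CommRing B] [IsDomain B] [Field K]
    [Algebra B K] [IsFractionRing B K] [PerfectField K] [CommRing A] [Algebra B A]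
    [Algebra.FiniteType B A]
    (q : Ideal A) [q.IsPrime] (hq : q.comap (algebraMap B A) = ⊥)
    [IsRegularLocalRing (Localization.AtPrime q)] :
    Algebra.FormallySmooth B (Localization.AtPrime q) := by
  letI : Algebra A (K ⊗[B] A) := Algebra.TensorProduct.rightAlgebra
  let M : Submonoid A := Algebra.algebraMapSubmonoid A (nonZeroDivisors B)
  haveI : IsLocalization M (K ⊗[B] A) := IsLocalization.tensorRight K (nonZeroDivisors B)
  have hdisj : Disjoint (M : Set A) (q : Set A) := by
    rw [Set.disjoint_left]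
    rintro _ ⟨b, hb, rfl⟩ hbq
    have h1 : b ∈ q.comap (algebraMap B A) := hbq
    rw [hq] at h1
    exact nonZeroDivisors.ne_zero hb h1
  let q' : Ideal (K ⊗[B] A) := q.map (algebraMap A (K ⊗[B] A))
  haveI hq'prime : q'.IsPrime :=
    IsLocalization.isPrime_of_isPrime_disjoint M _ q inferInstance hdisj
  have hcomap : q'.comap (algebraMap A (K ⊗[B] A)) = q :=
    IsLocalization.under_map_of_isPrime_disjoint M _ inferInstance hdisj
  have h0 : IsLocalization.AtPrime (Localization.AtPrime q')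
      (q'.comap (algebraMap A (K ⊗[B] A))) :=
    IsLocalization.isLocalization_isLocalization_atPrime_isLocalization M
      (Localization.AtPrime q') q'
  have key : ∀ (p : Ideal A) [p.IsPrime], p = q →
      IsLocalization.AtPrime (Localization.AtPrime q') p →
      IsLocalization.AtPrime (Localization.AtPrime q') q := by
    intro p _ hp h
    subst hp
    exact h
  haveI h1 : IsLocalization.AtPrime (Localization.AtPrime q') q := key _ hcomap h0
  let e0 : Localization.AtPrime q ≃ₐ[A] Localization.AtPrime q' :=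
    IsLocalization.algEquiv q.primeCompl _ _
  haveI : IsRegularLocalRing (Localization.AtPrime q') :=
    IsRegularLocalRing.of_ringEquiv e0.toRingEquiv
  haveI : Algebra.IsGeometricallyReduced K q'.ResidueField :=
    Groth.Agent.Lib.helper6.SmoothRegPt.isGeometricallyReduced_residueField_of_perfectField
      K (K ⊗[B] A) q'
  haveI hsm : Algebra.FormallySmooth K (Localization.AtPrime q') :=
    (Groth.Agent.Lib.helper6.SmoothRegPt.isSmoothAt_iff_isRegularLocalRing K (K ⊗[B] A) q').mpr
      inferInstance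
  haveI : Algebra.FormallySmooth B K := Algebra.FormallySmooth.of_isLocalization (nonZeroDivisors B)
  haveI : Algebra.FormallySmooth B (Localization.AtPrime q') :=
    Algebra.FormallySmooth.comp B K (Localization.AtPrime q')
  exact .of_equiv (e0.symm.restrictScalars B)

theorem mem_smoothLocus_of_generic (X Y : Scheme.{u}) [IsIntegral Y]
    (f : X ⟶ Y) [LocallyOfFinitePresentation f] [PerfectField Y.functionField]
    (x : X) (hx : f x = genericPoint Y) (hreg : IsRegularLocalRing (X.presheaf.stalk x)) :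
    x ∈ f.smoothLocus := by
  obtain ⟨_, ⟨U, hU, rfl⟩, hxU, -⟩ :=
    Y.isBasis_affineOpens.exists_subset_of_mem_open (Set.mem_univ (f x)) isOpen_univ
  obtain ⟨_, ⟨V, hV, rfl⟩, hxV, hVU⟩ :=
    X.isBasis_affineOpens.exists_subset_of_mem_open hxU (U.2.preimage f.continuous)
  have hfp := f.finitePresentation_appLE hU hV hVU
  rw [Scheme.Hom.mem_smoothLocus, formallySmooth_stalkMap_iff U hU V hV hVU hxV]
  haveI : Nonempty U := ⟨⟨f x, hxU⟩⟩
  letI := (f.appLE U V hVU).hom.toAlgebra
  haveI : Algebra.FiniteType Γ(Y, U) Γ(X, V) := RingHom.FiniteType.of_finitePresentation hfp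
  haveI : IsFractionRing Γ(Y, U) Y.functionField :=
    functionField_isFractionRing_of_isAffineOpen Y U hU
  let q := (hV.primeIdealOf ⟨x, hxV⟩).asIdeal
  have hq : q.comap (algebraMap Γ(Y, U) Γ(X, V)) = ⊥ := by
    have h1 := IsAffineOpen.comap_primeIdealOf_appLE U hU V hV hVU hxV
    have h2 : (⟨f x, hVU hxV⟩ : U) = ⟨genericPoint Y,
        ((genericPoint_spec Y).mem_open_set_iff U.isOpen).mpr (by simpa using ‹Nonempty U›)⟩ :=
      Subtype.ext hx
    rw [h2, hU.primeIdealOf_genericPoint, genericPoint_eq_bot_of_affine] at h1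
    exact congrArg PrimeSpectrum.asIdeal h1
  letI := X.presheaf.algebra_section_stalk ⟨x, hxV⟩
  haveI := hV.isLocalization_stalk ⟨x, hxV⟩
  let e0 : Localization.AtPrime q ≃ₐ[Γ(X, V)] X.presheaf.stalk x :=
    IsLocalization.algEquiv q.primeCompl (Localization.AtPrime q) (X.presheaf.stalk x)
  haveI : IsRegularLocalRing (Localization.AtPrime q) :=
    IsRegularLocalRing.of_ringEquiv e0.symm.toRingEquiv
  exact formallySmooth_atPrime_of_regular Γ(Y, U) Y.functionField Γ(X, V) q hq

theorem generic_mem_image_of_mem_closure (X Y : Scheme.{u}) [IsIntegral Y] (f : X ⟶ Y)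
    [QuasiCompact f] (Z : Set X) (hZ : IsClosed Z)
    (h : genericPoint Y ∈ closure (f '' Z)) : genericPoint Y ∈ f '' Z := by
  obtain ⟨_, ⟨W, hW, rfl⟩, hηW, -⟩ :=
    Y.isBasis_affineOpens.exists_subset_of_mem_open (Set.mem_univ (genericPoint Y)) isOpen_univ
  haveI : Nonempty W := ⟨⟨_, hηW⟩⟩
  have hc : IsCompact ((f ⁻¹ᵁ W : X.Opens) : Set X) := f.isCompact_preimage hW.isCompact
  obtain ⟨R, g, hg⟩ := isCompact_iff_exists.mp hc
  have hrange : Set.range (g ≫ f) ⊆ Set.range hW.fromSpec := by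
    rw [hW.range_fromSpec]
    rintro _ ⟨z, rfl⟩
    have h1 : g z ∈ ((f ⁻¹ᵁ W : X.Opens) : Set X) := hg ▸ ⟨z, rfl⟩
    simpa using h1
  let h' : Spec R ⟶ Spec Γ(Y, W) := IsOpenImmersion.lift hW.fromSpec (g ≫ f) hrange
  have hfac : h' ≫ hW.fromSpec = g ≫ f := IsOpenImmersion.lift_fac _ _ _
  obtain ⟨φ, hφ⟩ := Spec.homEquiv.symm.surjective h'
  let Z' : Set (PrimeSpectrum R) := g ⁻¹' Z
  have hZ' : IsClosed Z' := hZ.preimage g.continuous
  let I : Ideal R := PrimeSpectrum.vanishingIdeal Z'
  have hI : PrimeSpectrum.zeroLocus (I : Set R) = Z' := by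
    rw [PrimeSpectrum.zeroLocus_vanishingIdeal_eq_closure, hZ'.closure_eq]
  -- the generic point of W
  let η' : PrimeSpectrum Γ(Y, W) := hW.primeIdealOf ⟨genericPoint Y, hηW⟩
  have hη' : hW.fromSpec η' = genericPoint Y := hW.fromSpec_primeIdealOf ⟨genericPoint Y, hηW⟩
  have hη'bot : η' = (⊥ : PrimeSpectrum Γ(Y, W)) := by
    show hW.primeIdealOf ⟨genericPoint Y, hηW⟩ = _
    rw [hW.primeIdealOf_genericPoint, genericPoint_eq_bot_of_affine]
  -- η ∈ closure (f '' Z ∩ W)
  have h1 : genericPoint Y ∈ closure ((W : Set Y) ∩ f '' Z) :=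
    W.isOpen.inter_closure ⟨hηW, h⟩
  have h2 : (W : Set Y) ∩ f '' Z ⊆ hW.fromSpec '' (PrimeSpectrum.comap φ.hom '' Z') := by
    rintro _ ⟨hyW, z, hzZ, rfl⟩
    have hz : z ∈ Set.range g := by rw [hg]; exact hyW
    obtain ⟨z', rfl⟩ := hz
    refine ⟨h' z', ⟨z', hzZ, ?_⟩, ?_⟩
    · rw [← hφ]; rfl
    · show (h' ≫ hW.fromSpec) z' = (g ≫ f) z'
      rw [hfac]
  have h3 : hW.fromSpec η' ∈ closure (hW.fromSpec '' (PrimeSpectrum.comap φ.hom '' Z')) := by
    rw [hη']; exact closure_mono h2 h1
  have h4 : η' ∈ closure (PrimeSpectrum.comap φ.hom '' Z') := by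
    have := hW.fromSpec.isOpenEmbedding.isInducing.closure_eq_preimage_closure_image
      (PrimeSpectrum.comap φ.hom '' Z')
    exact (Set.ext_iff.mp this η').mpr h3
  rw [← hI, PrimeSpectrum.closure_image_comap_zeroLocus, hη'bot] at h4
  have h5 : I.comap φ.hom = ⊥ := le_bot_iff.mp h4
  have h6 : (⊥ : Ideal Γ(Y, W)) ∈ (I.comap φ.hom).minimalPrimes := by
    rw [h5, Ideal.minimalPrimes_eq_subsingleton_self]; rfl
  obtain ⟨p', hp', hIp', hcomap⟩ := Ideal.exists_comap_eq_of_mem_minimalPrimes φ.hom _ h6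
  let z' : PrimeSpectrum R := ⟨p', hp'⟩
  have hz'Z : z' ∈ Z' := by rw [← hI]; exact hIp'
  refine ⟨g z', hz'Z, ?_⟩
  rw [← hη']
  have h7 : h' z' = η' := by
    rw [hη'bot, ← hφ]
    exact PrimeSpectrum.ext hcomap
  rw [← h7]
  show (g ≫ f) z' = (h' ≫ hW.fromSpec) z'
  rw [hfac]

theorem S7776_aux (X Y : Scheme.{u}) [IsIntegral X] [IsIntegral Y]
    [IsLocallyNoetherian X] (hreg : ∀ x : X, IsRegularLocalRing (X.presheaf.stalk x))
    (f : X ⟶ Y) [IsDominant f] [LocallyOfFinitePresentation f] [QuasiCompact f]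
    [PerfectField Y.functionField] :
    ∃ V : Y.Opens, Dense (V : Set Y) ∧ Smooth (f ∣_ V) := by
  let Z : Set X := (f.smoothLocus : Set X)ᶜ
  have hZ : IsClosed Z := f.smoothLocus.isOpen.isClosed_compl
  have hη : genericPoint Y ∉ closure (f '' Z) := by
    intro h
    obtain ⟨z, hzZ, hz⟩ := generic_mem_image_of_mem_closure X Y f Z hZ h
    exact hzZ (mem_smoothLocus_of_generic X Y f z hz (hreg z))
  let V : Y.Opens := ⟨(closure (f '' Z))ᶜ, isClosed_closure.isOpen_compl⟩
  refine ⟨V, ?_, ?_⟩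
  · rw [dense_iff_closure_eq, ← Set.univ_subset_iff]
    have h1 : closure ({genericPoint Y} : Set Y) = Set.univ := (genericPoint_spec Y).def
    rw [← h1]
    exact closure_mono (Set.singleton_subset_iff.mpr hη)
  · have hle : f ⁻¹ᵁ V ≤ f.smoothLocus := by
      intro x hx
      by_contra hxs
      exact hx (subset_closure ⟨x, hxs, rfl⟩)
    have hcomp : Smooth (f ∣_ V ≫ V.ι) := by
      rw [morphismRestrict_ι, ← Scheme.Hom.smoothLocus_eq_top_iff,
        ← Scheme.Hom.preimage_smoothLocus_eq, eq_top_iff]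
      rintro x -
      exact hle x.2
    exact MorphismProperty.of_postcomp (W := @Smooth) (W' := @IsOpenImmersion) (f ∣_ V) V.ι
      inferInstance hcomp

end Groth.Agent.Lib.helper25.GenSm
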