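import Mathlib
import Groth.Agent.Lib.helper25.GenSm
import Groth.Agent.Lib.helper25.VarBC7

/-! Generic smoothness in characteristic zero (S10930) (helper25). -/

universe u

open TensorProduct AlgebraicGeometry CategoryTheory

namespace Groth.Agent.Lib.helper25.GenSm

set_option linter.style.haveILetI false
attribute [-instance] Groth.Agent.Lib.helper19.JacLocal.instFormallySmoothRingExt

theorem S10930_aux (k : Type u) [Field k] [IsAlgClosed k] [CharZero k]
    {X Y : Scheme.{u}} (qX : X ⟶ Spec (CommRingCat.of k)) (qY : Y ⟶ Spec (CommRingCat.of k))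
    [LocallyOfFiniteType qX] [QuasiCompact qX] [IsSeparated qX] [Smooth qX]
    [LocallyOfFiniteType qY] [QuasiCompact qY] [IsSeparated qY]
    [IsIntegral X] [IsIntegral Y] (f : X ⟶ Y) (hf : f ≫ qY = qX) :
    ∃ V : Y.Opens, (V : Set ↥Y).Nonempty ∧ Smooth (f ∣_ V) := by
  haveI : IsLocallyNoetherian Y := LocallyOfFiniteType.isLocallyNoetherian qY
  haveI : IsLocallyNoetherian X := LocallyOfFiniteType.isLocallyNoetherian qX
  haveI : LocallyOfFiniteType (f ≫ qY) := hf ▸ inferInstance
  haveI : LocallyOfFiniteType f := locallyOfFiniteType_of_comp f qY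
  haveI : LocallyOfFinitePresentation f := inferInstance
  haveI : QuasiCompact (f ≫ qY) := hf ▸ inferInstance
  haveI : QuasiCompact f := MorphismProperty.of_postcomp (W := @QuasiCompact)
    (W' := @QuasiSeparated) f qY inferInstance inferInstance
  by_cases hdom : IsDominant f
  · letI : X.Over (Spec (CommRingCat.of k)) := ⟨qX⟩
    haveI : LocallyOfFinitePresentation (X ↘ Spec (CommRingCat.of k)) :=
      (inferInstance : LocallyOfFinitePresentation qX)
    have hreg : ∀ x : X, IsRegularLocalRing (X.presheaf.stalk x) := by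
      intro x
      have h1 := (Groth.Agent.Lib.helper25.VarBC.S1561_aux k X).1 x
      apply h1.mp
      show x ∈ qX.smoothLocus
      rw [Scheme.Hom.smoothLocus_eq_top qX]
      trivial
    haveI : CharZero Y.functionField := by
      let φ : k →+* Y.functionField :=
        ((Y.presheaf.germ ⊤ (genericPoint Y) trivial).hom.comp (qY.appTop.hom)).comp
          (Scheme.ΓSpecIso (CommRingCat.of k)).inv.hom
      exact charZero_of_injective_ringHom φ.injective
    haveI : PerfectField Y.functionField := PerfectField.ofCharZero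
    obtain ⟨V, hV, hs⟩ := Groth.Agent.Lib.helper25.GenSm.S7776_aux X Y hreg f
    exact ⟨V, hV.nonempty, hs⟩
  · let V : Y.Opens := ⟨(closure (Set.range f))ᶜ, isClosed_closure.isOpen_compl⟩
    have hne : (V : Set Y).Nonempty := by
      by_contra h
      rw [Set.not_nonempty_iff_eq_empty] at h
      apply hdom
      constructor
      rw [DenseRange, dense_iff_closure_eq]
      have h' : (closure (Set.range f))ᶜ = ∅ := h
      rwa [Set.compl_empty_iff] at h'
    refine ⟨V, hne, ?_⟩
    rw [← Scheme.Hom.smoothLocus_eq_top_iff, eq_top_iff]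
    rintro ⟨x, hx⟩ -
    exact (hx (subset_closure ⟨x, rfl⟩)).elim

end Groth.Agent.Lib.helper25.GenSm
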