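import Mathlib
import Groth.Agent.Lib.helper14.FSField
import Groth.Agent.Lib.helper19.AdicSmoothAt
import Groth.Agent.Lib.helper5.RegLoc
import Groth.Agent.Lib.helper25.Sep1

/-! Generic smoothness criterion over a field (helper25). -/

namespace Groth.Agent.Lib.helper25.GenSmooth

set_option linter.style.haveILetI false
universe u
open IsLocalRing

section local_field
variable (k : Type u) [Field k] (B : Type u) [CommRing B] [IsLocalRing B] [Algebra k B]

/-- A local `k`-algebra whose maximal ideal is zero is `k`-isomorphic to its residue field. -/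
noncomputable def equivResidueField (h : maximalIdeal B = ⊥) : B ≃ₐ[k] ResidueField B :=
  AlgEquiv.ofBijective (IsScalarTower.toAlgHom k B (ResidueField B)) (by
    refine ⟨?_, IsLocalRing.residue_surjective⟩
    rw [← AlgHom.coe_toRingHom, RingHom.injective_iff_ker_eq_bot]
    exact (IsLocalRing.ker_residue).trans h)

theorem formallySmooth_iff_geomRed_of_maximalIdeal_eq_bot (h : maximalIdeal B = ⊥) :
    Algebra.FormallySmooth k B ↔ Algebra.IsGeometricallyReduced k B := by
  let e := equivResidueField k B h
  constructor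
  · intro hs
    haveI : Algebra.FormallySmooth k (ResidueField B) := Algebra.FormallySmooth.of_equiv e
    haveI : Algebra.IsGeometricallyReduced k (ResidueField B) :=
      Groth.Agent.Lib.helper25.Sep.formallySmooth_iff_isGeometricallyReduced.1 inferInstance
    exact Algebra.IsGeometricallyReduced.of_injective e.toAlgHom e.injective
  · intro hg
    haveI : Algebra.IsGeometricallyReduced k (ResidueField B) :=
      Algebra.IsGeometricallyReduced.of_injective e.symm.toAlgHom e.symm.injective
    haveI : Algebra.FormallySmooth k (ResidueField B) :=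
      Groth.Agent.Lib.helper25.Sep.formallySmooth_iff_isGeometricallyReduced.2 inferInstance
    exact Algebra.FormallySmooth.of_equiv e.symm

end local_field

section main
variable (k A : Type u) [Field k] [CommRing A] [Algebra k A] [Algebra.FiniteType k A]

theorem maximalIdeal_eq_bot_of_minimal_of_isReduced (p : Ideal A) [p.IsPrime]
    (hp : p ∈ minimalPrimes A) [IsReduced (Localization.AtPrime p)] :
    maximalIdeal (Localization.AtPrime p) = ⊥ := by
  haveI : Ring.KrullDimLE 0 (Localization.AtPrime p) := .of_isLocalization _ hp _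
  have hF : IsField (Localization.AtPrime p) := Ring.KrullDimLE.isField_of_isReduced
  exact IsLocalRing.isField_iff_maximalIdeal_eq.1 hF

include k in
theorem isSmoothAt_iff_geomRed_of_minimal (p : Ideal A) [p.IsPrime] (hp : p ∈ minimalPrimes A) :
    Algebra.IsSmoothAt k p ↔ Algebra.IsGeometricallyReduced k (Localization.AtPrime p) := by
  haveI : IsNoetherianRing A := Algebra.FiniteType.isNoetherianRing k A
  constructor
  · intro hs
    haveI : Algebra.FormallySmooth k (Localization.AtPrime p) := hs
    have h1 := Groth.Agent.Lib.helper19.AdicSmoothAt.adic_of_formallySmooth k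
      (Localization.AtPrime p) (maximalIdeal (Localization.AtPrime p))
    haveI : IsRegularLocalRing (Localization.AtPrime p) :=
      H14.FSField.isRegularLocalRing_of_fs h1
    haveI : IsDomain (Localization.AtPrime p) := Groth.Agent.H5.RegLoc.isDomain _
    have hm := maximalIdeal_eq_bot_of_minimal_of_isReduced A p hp
    exact (formallySmooth_iff_geomRed_of_maximalIdeal_eq_bot k _ hm).1 hs
  · intro hg
    haveI := hg
    haveI : IsReduced (Localization.AtPrime p) := Algebra.isReduced_of_isGeometricallyReduced k
    have hm := maximalIdeal_eq_bot_of_minimal_of_isReduced A p hp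
    exact (formallySmooth_iff_geomRed_of_maximalIdeal_eq_bot k _ hm).2 hg

include k in
theorem mem_of_dense_of_minimal (U : TopologicalSpace.Opens (PrimeSpectrum A))
    (hU : Dense (U : Set (PrimeSpectrum A))) (p : Ideal A) [hp' : p.IsPrime]
    (hp : p ∈ minimalPrimes A) : (⟨p, hp'⟩ : PrimeSpectrum A) ∈ U := by
  haveI : IsNoetherianRing A := Algebra.FiniteType.isNoetherianRing k A
  have hfin : (minimalPrimes A).Finite := minimalPrimes.finite_of_isNoetherianRing A
  let T : Set (Ideal A) := minimalPrimes A \ {p}
  have hTfin : T.Finite := hfin.subset Set.sdiff_subset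
  let Z : Set (PrimeSpectrum A) := ⋃ p' ∈ T, PrimeSpectrum.zeroLocus (p' : Set A)
  have hZ : IsClosed Z := hTfin.isClosed_biUnion (fun p' _ => PrimeSpectrum.isClosed_zeroLocus _)
  have hpZ : (⟨p, hp'⟩ : PrimeSpectrum A) ∈ Zᶜ := by
    simp only [Z, Set.mem_compl_iff, Set.mem_iUnion, not_exists]
    rintro p' ⟨hp'min, hne⟩ hmem
    rw [PrimeSpectrum.mem_zeroLocus] at hmem
    have hle : p' ≤ p := hmem
    exact hne (le_antisymm (hp.2 hp'min.1 hle) hle).symm
  obtain ⟨q, hqZ, hqU⟩ := hU.inter_open_nonempty Zᶜ hZ.isOpen_compl ⟨_, hpZ⟩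
  obtain ⟨p'', hp''min, hp''le⟩ := Ideal.exists_minimalPrimes_le (bot_le : ⊥ ≤ q.asIdeal)
  have hp''eq : p'' = p := by
    by_contra hne
    apply hqZ
    simp only [Z, Set.mem_iUnion]
    exact ⟨p'', ⟨hp''min, hne⟩, by rw [PrimeSpectrum.mem_zeroLocus]; exact hp''le⟩
  subst hp''eq
  have hspec : (⟨p'', hp'⟩ : PrimeSpectrum A) ⤳ q := by
    rw [← PrimeSpectrum.le_iff_specializes]
    exact hp''le
  exact hspec.mem_open U.isOpen hqU

theorem S5012_aux :
    (∃ U : TopologicalSpace.Opens (PrimeSpectrum A), Dense (U : Set (PrimeSpectrum A)) ∧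
        ∀ p ∈ U, Algebra.IsSmoothAt k p.asIdeal) ↔
      ∀ (p : Ideal A) [p.IsPrime], p ∈ minimalPrimes A →
        Algebra.IsGeometricallyReduced k (Localization.AtPrime p) := by
  haveI : IsNoetherianRing A := Algebra.FiniteType.isNoetherianRing k A
  haveI : Algebra.FinitePresentation k A :=
    (Algebra.FinitePresentation.of_finiteType).mp inferInstance
  constructor
  · rintro ⟨U, hU, hs⟩ p hp' hp
    have hmem := mem_of_dense_of_minimal k A U hU p hp
    exact (isSmoothAt_iff_geomRed_of_minimal k A p hp).1 (hs _ hmem)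
  · intro h
    refine ⟨⟨Algebra.smoothLocus k A, Algebra.isOpen_smoothLocus⟩, ?_, fun p hp => hp⟩
    intro x
    obtain ⟨p, hpmin, hple⟩ := Ideal.exists_minimalPrimes_le (bot_le : ⊥ ≤ x.asIdeal)
    haveI : p.IsPrime := hpmin.1.1
    have hpU : (⟨p, hpmin.1.1⟩ : PrimeSpectrum A) ∈ Algebra.smoothLocus k A :=
      (isSmoothAt_iff_geomRed_of_minimal k A p hpmin).2 (h p hpmin)
    have hspec : (⟨p, hpmin.1.1⟩ : PrimeSpectrum A) ⤳ x := by
      rw [← PrimeSpectrum.le_iff_specializes]
      exact hple
    exact closure_mono (Set.singleton_subset_iff.mpr hpU) (specializes_iff_mem_closure.1 hspec)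

end main

end Groth.Agent.Lib.helper25.GenSmooth
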