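import Mathlib
import Groth.Prelude.Def_EGA4b
import Groth.Agent.Lib.helper25.GeomReg5
import Groth.Agent.Lib.helper25.GeomNor3

/-! Base change of normal homomorphisms (helper25). -/

namespace Groth.Agent.Lib.helper25.GeomNor

set_option linter.style.haveILetI false
universe u
open TensorProduct IsLocalRing
open Groth.Agent.Lib.helper25.GeomReg (resAlg resTower)

theorem geomNor_of_algEquiv (k S S' : Type u) [Field k] [CommRing S] [CommRing S'] [Algebra k S]
    [Algebra k S'] (e : S ≃ₐ[k] S') (h : EGA4.IsGeomNormal k S) :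
    EGA4.IsGeomNormal k S' := by
  intro k' _ _ hfin
  exact Groth.Agent.Lib.helper20.FiberLoc.normal_of_ringEquiv
    (Algebra.TensorProduct.congr (AlgEquiv.refl : k' ≃ₐ[k] k') e).toRingEquiv (h k' hfin)

/-- Fibres over a larger field. -/
theorem fiber_baseChange_nor (A B : Type u) [CommRing A] [CommRing B] [Algebra A B]
    (κ κ' : Type u) [Field κ] [Field κ'] [Algebra A κ] [Algebra A κ'] [Algebra κ κ']
    [IsScalarTower A κ κ']
    (hR : EGA4.IsGeomNormal κ (κ ⊗[A] B)) : EGA4.IsGeomNormal κ' (κ' ⊗[A] B) := by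
  let e : κ' ⊗[κ] (κ ⊗[A] B) ≃ₐ[κ'] κ' ⊗[A] B :=
    Algebra.TensorProduct.cancelBaseChange A κ κ' κ' B
  exact geomNor_of_algEquiv κ' _ _ e (geomNor_baseChange κ _ κ' hR)

/-- Fibres descend from a larger field. -/
theorem fiber_descent_nor (A B : Type u) [CommRing A] [CommRing B] [Algebra A B]
    (κ κ' : Type u) [Field κ] [Field κ'] [Algebra A κ] [Algebra A κ'] [Algebra κ κ']
    [IsScalarTower A κ κ']
    (hR : EGA4.IsGeomNormal κ' (κ' ⊗[A] B)) : EGA4.IsGeomNormal κ (κ ⊗[A] B) := by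
  let e : κ' ⊗[κ] (κ ⊗[A] B) ≃ₐ[κ'] κ' ⊗[A] B :=
    Algebra.TensorProduct.cancelBaseChange A κ κ' κ' B
  exact geomNor_of_baseChange κ _ κ' (geomNor_of_algEquiv κ' _ _ e.symm hR)

theorem S4749_aux (A B A' : Type u) [CommRing A] [CommRing B] [CommRing A']
    [Algebra A B] [Algebra A A'] :
    (EGA4.IsNormalHom A B → EGA4.IsNormalHom A' (A' ⊗[A] B)) ∧
      (Module.FaithfullyFlat A A' → EGA4.IsNormalHom A' (A' ⊗[A] B) → EGA4.IsNormalHom A B) := by
  constructor
  · rintro ⟨hflat, hfib⟩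
    refine ⟨inferInstance, fun p' _ => ?_⟩
    letI := resAlg A A' p'
    haveI := resTower A A' p'
    have hR := hfib (p'.comap (algebraMap A A'))
    have hR' := fiber_baseChange_nor A B _ p'.ResidueField hR
    let e : p'.ResidueField ⊗[A'] (A' ⊗[A] B) ≃ₐ[p'.ResidueField] p'.ResidueField ⊗[A] B :=
      Algebra.TensorProduct.cancelBaseChange A A' p'.ResidueField p'.ResidueField B
    exact geomNor_of_algEquiv _ _ _ e.symm hR'
  · rintro hff ⟨hflat, hfib⟩
    haveI := hff
    haveI := hflat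
    refine ⟨Module.Flat.of_flat_tensorProduct A B A', fun p hp => ?_⟩
    obtain ⟨P', hP'⟩ := PrimeSpectrum.comap_surjective_of_faithfullyFlat (A := A) (B := A') ⟨p, hp⟩
    have hP'' : P'.asIdeal.comap (algebraMap A A') = p := congrArg PrimeSpectrum.asIdeal hP'
    subst hP''
    letI := resAlg A A' P'.asIdeal
    haveI := resTower A A' P'.asIdeal
    have hR' := hfib P'.asIdeal
    let e : P'.asIdeal.ResidueField ⊗[A'] (A' ⊗[A] B) ≃ₐ[P'.asIdeal.ResidueField]
        P'.asIdeal.ResidueField ⊗[A] B :=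
      Algebra.TensorProduct.cancelBaseChange A A' P'.asIdeal.ResidueField P'.asIdeal.ResidueField B
    exact fiber_descent_nor A B _ P'.asIdeal.ResidueField (geomNor_of_algEquiv _ _ _ e hR')

end Groth.Agent.Lib.helper25.GeomNor
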