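import Mathlib
import Groth.Prelude.Def_Found
import Groth.Agent.Lib.helper14.ArtinReg
import Groth.Agent.Lib.helper25.GeomReg5

/-! Pointwise regularity under field base change (helper25). -/

namespace Groth.Agent.Lib.helper25.GeomReg

set_option linter.style.haveILetI false
universe u
open TensorProduct IsLocalRing

/-- A separable (geometrically reduced) field extension is geometrically regular. -/
theorem geomReg_of_geomRed_field (k k' : Type u) [Field k] [Field k'] [Algebra k k']
    [Algebra.IsGeometricallyReduced k k'] : CAlg.IsGeometricallyRegular k k' := by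
  intro k'' _ _ hfin
  haveI : Module.Finite k k'' := hfin
  haveI : Algebra.IsAlgebraic k k'' := inferInstance
  haveI : IsReduced (k'' ⊗[k] k') := inferInstance
  haveI : IsArtinianRing (k'' ⊗[k] k') := H14.ArtReg.isArtinianRing_tensor k k'' k'
  exact H14.ArtReg.isRegularRing_of_isArtinianRing_of_isReduced _

open TensorProduct in
theorem S4733_aux (k S k' : Type u) [Field k] [CommRing S] [Algebra k S]
    [IsNoetherianRing S] [Field k'] [Algebra k k']
    (hft : Algebra.FiniteType k S ∨ Algebra.EssFiniteType k k')
    [IsNoetherianRing (S ⊗[k] k')] (q' : Ideal (S ⊗[k] k')) [q'.IsPrime] :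
    (IsRegularLocalRing (Localization.AtPrime q') →
        IsRegularLocalRing (Localization.AtPrime (q'.comap (algebraMap S (S ⊗[k] k'))))) ∧
      (Algebra.IsGeometricallyReduced k k' →
        IsRegularLocalRing (Localization.AtPrime (q'.comap (algebraMap S (S ⊗[k] k')))) →
          IsRegularLocalRing (Localization.AtPrime q')) := by
  constructor
  · intro h
    exact Groth.Agent.Lib.helper20.RegSmoothPt.regular_descent_at_prime S (S ⊗[k] k') q' h
  · intro hred hreg
    haveI := hred
    haveI := hreg
    set q : Ideal S := q'.comap (algebraMap S (S ⊗[k] k')) with hq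
    let R := Localization.AtPrime q
    haveI : IsRegularRing R :=
      Groth.Agent.Lib.helper20.RegSmoothPt.isRegularRing_of_isRegularLocalRing R
    let D := R ⊗[k] k'
    letI : Algebra (S ⊗[k] k') D :=
      (Algebra.TensorProduct.map (IsScalarTower.toAlgHom k S R) (AlgHom.id k k')).toAlgebra
    haveI : IsScalarTower S (S ⊗[k] k') D := .of_algebraMap_eq <| by
      intro x
      rw [RingHom.algebraMap_toAlgebra]
      change _ = (Algebra.TensorProduct.map (IsScalarTower.toAlgHom k S R) (AlgHom.id k k'))
        (x ⊗ₜ[k] 1)
      rw [Algebra.TensorProduct.map_tmul, map_one, Algebra.TensorProduct.algebraMap_apply]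
      rfl
    haveI : IsLocalization (Algebra.algebraMapSubmonoid (S ⊗[k] k') q.primeCompl) D :=
      IsLocalization.tensorProduct_tensorProduct k k' q.primeCompl R
        (by ext; simp [RingHom.algebraMap_toAlgebra])
    haveI : IsNoetherianRing D :=
      IsLocalization.isNoetherianRing (Algebra.algebraMapSubmonoid (S ⊗[k] k') q.primeCompl) D
        inferInstance
    have hgr : CAlg.IsGeometricallyRegular k k' := geomReg_of_geomRed_field k k'
    haveI : IsRegularRing D := by
      apply Groth.Agent.Lib.helper20.RegAscent.isRegularRing_of_flat_of_regular_fibers R D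
      intro 𝔭 _
      haveI : IsNoetherianRing (𝔭.ResidueField ⊗[k] k') := by
        rcases hft with hft | hft
        · haveI : Algebra.EssFiniteType S R := Algebra.EssFiniteType.of_isLocalization R q.primeCompl
          haveI : Algebra.EssFiniteType k R := Algebra.EssFiniteType.comp k S R
          haveI : Algebra.EssFiniteType k 𝔭.ResidueField :=
            Algebra.EssFiniteType.comp k R 𝔭.ResidueField
          exact isNoetherianRing_tensor_of_essFiniteType k k' 𝔭.ResidueField
        · haveI : Algebra.EssFiniteType 𝔭.ResidueField (𝔭.ResidueField ⊗[k] k') := inferInstance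
          exact Algebra.EssFiniteType.isNoetherianRing 𝔭.ResidueField _
      haveI : IsRegularRing (𝔭.ResidueField ⊗[k] k') :=
        isRegularRing_tensor_of_geomReg k k' 𝔭.ResidueField hgr
      exact IsRegularRing.of_ringEquiv
        (Algebra.TensorProduct.cancelBaseChange k R R 𝔭.ResidueField k').symm.toRingEquiv
    have hdisj : Disjoint
        ((Algebra.algebraMapSubmonoid (S ⊗[k] k') q.primeCompl : Submonoid _) : Set (S ⊗[k] k'))
        (q' : Set (S ⊗[k] k')) := by
      rw [Set.disjoint_left]
      rintro _ ⟨s, hs, rfl⟩ hsq
      exact hs hsq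
    exact regular_atPrime_of_localization (S ⊗[k] k') D
      (Algebra.algebraMapSubmonoid (S ⊗[k] k') q.primeCompl) q' hdisj (fun {_} => inferInstance)

end Groth.Agent.Lib.helper25.GeomReg
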