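import Mathlib
import Groth.Agent.Lib.helper7.DimFT2

set_option autoImplicit false
set_option linter.unusedSectionVars false
universe u

namespace Groth.Agent.Lib.helper25.NonSing

open TensorProduct IsLocalRing

section
variable (k : Type u) [Field k] (A : Type u) [CommRing A] [Algebra k A] [Algebra.FiniteType k A]

theorem ringKrullDim_quotient_nilradical (R : Type*) [CommRing R] :
    ringKrullDim (R ⧸ nilradical R) = ringKrullDim R := by
  rw [ringKrullDim_quotient, PrimeSpectrum.zeroLocus_nilradical]
  exact Order.krullDim_eq_of_orderIso (OrderIso.Set.univ)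

theorem minimalPrimes_eq_of_nilradical_isPrime (R : Type*) [CommRing R]
    (hirr : (nilradical R).IsPrime) (p : Ideal R) (hp : p ∈ minimalPrimes R) :
    p = nilradical R := by
  haveI := hp.1.1
  exact le_antisymm (hp.2 ⟨hirr, bot_le⟩ (nilradical_le_prime p)) (nilradical_le_prime p)

include k in
theorem height_of_isMaximal (hirr : (nilradical A).IsPrime) (n : ℕ)
    (hn : ringKrullDim A = n) (m : Ideal A) [m.IsMaximal] : (m.height : WithBot ℕ∞) = n := by
  obtain ⟨p₀, hp₀, hle, hdim⟩ :=
    Groth.Agent.Lib.helper7.DimFT.exists_minimalPrimes_ringKrullDim_eq (k := k) A m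
  rw [minimalPrimes_eq_of_nilradical_isPrime A hirr p₀ hp₀, ringKrullDim_quotient_nilradical,
    hn] at hdim
  letI : Field (A ⧸ m) := Ideal.Quotient.field m
  rw [ringKrullDim_eq_zero_of_field, zero_add] at hdim
  exact hdim.symm

theorem bijective_algebraMap_residueField [IsAlgClosed k] (m : Ideal A) [m.IsMaximal] :
    Function.Bijective (algebraMap k (ResidueField (Localization.AtPrime m))) := by
  letI : Field (A ⧸ m) := Ideal.Quotient.field m
  haveI : Module.Finite k (A ⧸ m) := finite_of_finite_type_of_isJacobsonRing k (A ⧸ m)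
  haveI : Algebra.IsIntegral k (A ⧸ m) := inferInstance
  have h1 : Function.Bijective (algebraMap k (A ⧸ m)) :=
    IsAlgClosed.algebraMap_bijective_of_isIntegral
  have h2 := m.bijective_algebraMap_quotient_residueField
  have h3 : (algebraMap k (ResidueField (Localization.AtPrime m)) : k → _) =
      (algebraMap (A ⧸ m) m.ResidueField) ∘ (algebraMap k (A ⧸ m)) := by
    funext x
    rfl
  rw [h3]
  exact h2.comp h1

end

end Groth.Agent.Lib.helper25.NonSing
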