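import Mathlib

set_option autoImplicit false
set_option linter.unusedSectionVars false
universe u

namespace Groth.Agent.Lib.helper25.RatPt

open TensorProduct IsLocalRing KaehlerDifferential

section cot
variable (k B : Type u) [Field k] [CommRing B] [Algebra k B] [IsLocalRing B]
  (hres : Function.Bijective (algebraMap k (ResidueField B)))

theorem algebraMap_residue_surjective : Function.Surjective (algebraMap B (ResidueField B)) :=
  IsLocalRing.residue_surjective

include hres in
theorem kerCotangentToTensor_bijective :
    Function.Bijective (kerCotangentToTensor k B (ResidueField B)) := by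
  have hf : Function.Surjective (algebraMap B (ResidueField B)) := IsLocalRing.residue_surjective
  constructor
  · let e : k ≃ₐ[k] ResidueField B := AlgEquiv.ofBijective (Algebra.ofId k (ResidueField B)) hres
    let g : ResidueField B →ₐ[k] (B ⧸ RingHom.ker (algebraMap B (ResidueField B)) ^ 2) :=
      (Algebra.ofId k _).comp e.symm.toAlgHom
    have hg : (IsScalarTower.toAlgHom k B (ResidueField B)).kerSquareLift.comp g =
        AlgHom.id k (ResidueField B) := by
      apply AlgHom.ext
      intro x
      obtain ⟨a, rfl⟩ := hres.2 x
      rw [AlgHom.commutes, AlgHom.commutes]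
    obtain ⟨l, hl⟩ := (retractionKerCotangentToTensorEquivSection (R := k) hf).symm ⟨g, hg⟩
    exact Function.LeftInverse.injective (g := l) (fun x => LinearMap.congr_fun hl x)
  · intro x
    haveI : Subsingleton (Ω[ResidueField B⁄k]) :=
      KaehlerDifferential.subsingleton_of_surjective k (ResidueField B) hres.2
    have hx : mapBaseChange k B (ResidueField B) x = 0 := Subsingleton.elim _ _
    exact (exact_kerCotangentToTensor_mapBaseChange k B (ResidueField B) hf x).1 hx

/-- transport of cotangent along equality of ideals. -/
noncomputable def cotangentCongr {I J : Ideal B} (h : I = J) : I.Cotangent ≃ₗ[B] J.Cotangent := by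
  subst h
  exact LinearEquiv.refl _ _

include hres in
theorem finrank_tensor_eq_finrank_cotangentSpace :
    Module.finrank (ResidueField B) (ResidueField B ⊗[B] Ω[B⁄k]) =
      Module.finrank (ResidueField B) (CotangentSpace B) := by
  have hker : RingHom.ker (algebraMap B (ResidueField B)) = maximalIdeal B :=
    IsLocalRing.ker_residue
  let e1 : (maximalIdeal B).Cotangent ≃ₗ[B] ResidueField B ⊗[B] Ω[B⁄k] :=
    (cotangentCongr B hker).symm.trans
      (LinearEquiv.ofBijective _ (kerCotangentToTensor_bijective k B hres))
  exact (e1.extendScalarsOfSurjective IsLocalRing.residue_surjective).finrank_eq.symm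

end cot

end Groth.Agent.Lib.helper25.RatPt
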