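import Mathlib
import Groth.Agent.Lib.helper25.Semi

set_option autoImplicit false
set_option linter.unusedSectionVars false
universe u

namespace Groth.Agent.Lib.helper25.RatPt

open TensorProduct IsLocalRing

section span
variable {A : Type*} [CommRing A] {M : Type*} [AddCommGroup M] [Module A M]
  (F : Type*) [Field F] [Algebra A F]

theorem one_tmul_mem_span {ι : Type*} (m : ι → M) (n : M)
    (hn : n ∈ Submodule.span A (Set.range m)) :
    (1 : F) ⊗ₜ[A] n ∈ Submodule.span F (Set.range fun i => (1 : F) ⊗ₜ[A] m i) := by
  induction hn using Submodule.span_induction with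
  | mem x hx =>
    obtain ⟨i, rfl⟩ := hx
    exact Submodule.subset_span ⟨i, rfl⟩
  | zero => rw [tmul_zero]; exact Submodule.zero_mem _
  | add x y _ _ hx hy => rw [tmul_add]; exact Submodule.add_mem _ hx hy
  | smul a x _ hx =>
    have : (1 : F) ⊗ₜ[A] (a • x) = (algebraMap A F a) • ((1 : F) ⊗ₜ[A] x) := by
      rw [TensorProduct.smul_tmul', smul_eq_mul, mul_one, ← TensorProduct.smul_tmul,
        Algebra.smul_def, mul_one]
    rw [this]
    exact Submodule.smul_mem _ _ hx

theorem span_one_tmul_of_span {ι : Type*} (m : ι → M)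
    (h : Submodule.span A (Set.range m) = ⊤) :
    Submodule.span F (Set.range fun i => (1 : F) ⊗ₜ[A] m i) = ⊤ := by
  rw [eq_top_iff, ← Groth.Agent.Lib.helper25.Semi.span_one_tmul_eq_top (A := A) (M := M) F,
    Submodule.span_le]
  rintro _ ⟨n, rfl⟩
  exact one_tmul_mem_span F m n (by rw [h]; trivial)

end span

section free
variable (B : Type u) [CommRing B] [IsLocalRing B] [IsDomain B]
  (K : Type u) [Field K] [Algebra B K] [IsFractionRing B K]
  (M : Type u) [AddCommGroup M] [Module B M] [Module.Finite B M]

/-- A finite module over a local domain whose fibre dimensions at the closed and the generic point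
agree is free of that rank. -/
theorem free_of_finrank_eq (d : ℕ)
    (h1 : Module.finrank (ResidueField B) (ResidueField B ⊗[B] M) = d)
    (h2 : Module.finrank K (K ⊗[B] M) = d) :
    Module.Free B M ∧ Module.finrank B M = d := by
  obtain ⟨b, hbs, hbspan, hbli⟩ := exists_linearIndependent (ResidueField B)
    (Set.range fun m : M => (1 : ResidueField B) ⊗ₜ[B] m)
  rw [Groth.Agent.Lib.helper25.Semi.span_one_tmul_eq_top] at hbspan
  have hbfin : b.Finite := hbli.setFinite
  haveI : Fintype b := hbfin.fintype
  have hm : ∀ x : b, ∃ m : M, (1 : ResidueField B) ⊗ₜ[B] m = (x : ResidueField B ⊗[B] M) :=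
    fun x => hbs x.2
  choose m hm using hm
  have hcard : Fintype.card b = d := by
    have := finrank_span_eq_card hbli
    rw [Subtype.range_val, hbspan, finrank_top, h1] at this
    exact this.symm
  let bb : Module.Basis b (ResidueField B) (ResidueField B ⊗[B] M) :=
    Module.Basis.mk hbli (by rw [Subtype.range_val, hbspan])
  have hbb : ∀ i, (1 : ResidueField B) ⊗ₜ[B] m i = bb i := by
    intro i
    rw [hm i, Module.Basis.mk_apply]
  have hspan : Submodule.span B (Set.range m) = ⊤ :=
    IsLocalRing.span_eq_top_of_tmul_eq_basis m bb hbb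
  have hspanK := span_one_tmul_of_span K m hspan
  have hliK : LinearIndependent K (fun i => (1 : K) ⊗ₜ[B] m i) :=
    linearIndependent_of_top_le_span_of_card_eq_finrank hspanK.ge (by rw [hcard, h2])
  have hli : LinearIndependent B m := by
    rw [Fintype.linearIndependent_iff]
    intro c hc i
    have h3 : ∑ j, algebraMap B K (c j) • ((1 : K) ⊗ₜ[B] m j) = 0 := by
      have : ∀ j, algebraMap B K (c j) • ((1 : K) ⊗ₜ[B] m j) = (1 : K) ⊗ₜ[B] (c j • m j) := by
        intro j
        rw [TensorProduct.smul_tmul', smul_eq_mul, mul_one, ← TensorProduct.smul_tmul,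
          Algebra.smul_def, mul_one]
      simp_rw [this]
      rw [← tmul_sum, hc, tmul_zero]
    have h4 := Fintype.linearIndependent_iff.1 hliK _ h3 i
    exact (IsFractionRing.injective B K) (by rw [h4, map_zero])
  let bM : Module.Basis b B M := Module.Basis.mk hli hspan.ge
  exact ⟨Module.Free.of_basis bM, by rw [Module.finrank_eq_card_basis bM, hcard]⟩

end free

end Groth.Agent.Lib.helper25.RatPt
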