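import Mathlib
import Groth.Agent.Lib.helper25.Cart5
import Groth.Agent.Lib.helper7.DimFT

set_option autoImplicit false
set_option linter.unusedSectionVars false
universe u

namespace Groth.Agent.Lib.helper25.RatPt

open TensorProduct IsLocalRing

section perfect
variable (k K : Type u) [Field k] [Field K] [Algebra k K] [PerfectField k]

theorem formallySmooth_of_perfectField : Algebra.FormallySmooth k K := by
  obtain _ | ⟨p, hp, hpk⟩ := CharP.exists' k
  · exact Groth.Agent.Lib.helper25.Sep.formallySmooth_of_charZero'
  · haveI : PerfectRing k p := PerfectField.toPerfectRing p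
    exact Groth.Agent.Lib.helper25.Cart.formallySmooth_of_perfect p

theorem finrank_kaehler_eq_trdeg [Algebra.EssFiniteType k K] :
    Module.finrank K (Ω[K⁄k]) = Cardinal.toNat (Algebra.trdeg k K) := by
  haveI := formallySmooth_of_perfectField k K
  obtain ⟨hf1, hf2, hχ⟩ := Groth.Agent.Lib.helper25.Cart.cartier_h1 (K := k) (L := K)
  haveI : Subsingleton (Algebra.H1Cotangent k K) :=
    Algebra.FormallySmooth.subsingleton_h1Cotangent
  have h0 : Module.finrank K (Algebra.H1Cotangent k K) = 0 := Module.finrank_zero_of_subsingleton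
  rw [h0] at hχ
  have : (Module.finrank K (Ω[K⁄k]) : ℤ) = Cardinal.toNat (Algebra.trdeg k K) := by
    rw [← hχ]; simp
  exact_mod_cast this

end perfect

section dim
variable (k B : Type u) [Field k] [CommRing B] [Algebra k B] [IsLocalRing B] [IsDomain B]
  [Algebra.EssFiniteType k B]
  (hres : Function.Bijective (algebraMap k (ResidueField B)))

include hres in
/-- for a local domain essentially of finite type over `k` with residue field `k`, the dimension
is the transcendence degree of the fraction field. -/
theorem trdeg_fractionRing_eq_dim (K : Type u) [Field K] [Algebra B K] [IsFractionRing B K]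
    [Algebra k K] [IsScalarTower k B K] :
    ∃ n : ℕ, Algebra.trdeg k K = n ∧ ringKrullDim B = n := by
  let A₀ := Algebra.EssFiniteType.subalgebra k B
  let S := Algebra.EssFiniteType.submonoid k B
  haveI : IsLocalization S B := Algebra.EssFiniteType.isLocalization k B
  let P : Ideal A₀ := (maximalIdeal B).comap (algebraMap A₀ B)
  haveI : P.IsPrime := Ideal.comap_isPrime _ _
  have hunit : ∀ r : A₀, r ∈ P.primeCompl → IsUnit (algebraMap A₀ B r) := by
    intro r hr
    by_contra hnu
    exact hr ((mem_maximalIdeal _).2 hnu)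
  haveI : IsLocalization.AtPrime B P := by
    refine IsLocalization.of_le S P.primeCompl ?_ hunit
    intro s hs hsP
    have h1 : IsUnit (algebraMap A₀ B s) := IsLocalization.map_units B ⟨s, hs⟩
    exact ((mem_maximalIdeal _).1 hsP) h1
  have hdimB : ringKrullDim B = P.height := IsLocalization.AtPrime.ringKrullDim_eq_height P B
  -- `P` is maximal
  have hdecomp : ∀ x : A₀, ∃ a : k, x - algebraMap k A₀ a ∈ P := by
    intro x
    obtain ⟨a, ha⟩ := hres.2 (residue B (algebraMap A₀ B x))
    refine ⟨a, ?_⟩
    show algebraMap A₀ B (x - algebraMap k A₀ a) ∈ maximalIdeal B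
    rw [← IsLocalRing.residue_eq_zero_iff, map_sub, map_sub, ← ha, ← IsScalarTower.algebraMap_apply,
      IsScalarTower.algebraMap_apply k B (ResidueField B), IsLocalRing.ResidueField.algebraMap_eq,
      sub_self]
  haveI : P.IsMaximal := by
    rw [Ideal.isMaximal_iff]
    refine ⟨fun h => ?_, fun J x hPJ hxP hxJ => ?_⟩
    · exact (Ideal.IsPrime.ne_top inferInstance) ((Ideal.eq_top_iff_one P).2 h)
    · obtain ⟨a, ha⟩ := hdecomp x
      have ha0 : a ≠ 0 := by
        rintro rfl
        rw [map_zero, sub_zero] at ha
        exact hxP ha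
      have h1 : algebraMap k A₀ a ∈ J := by
        have : algebraMap k A₀ a = x - (x - algebraMap k A₀ a) := by ring
        rw [this]
        exact J.sub_mem hxJ (hPJ ha)
      have h2 : (1 : A₀) = algebraMap k A₀ a⁻¹ * algebraMap k A₀ a := by
        rw [← map_mul, inv_mul_cancel₀ ha0, map_one]
      rw [h2]
      exact J.mul_mem_left _ h1
  have hht := Groth.Agent.Lib.helper7.DimFT.height_of_isMaximal (k := k) A₀ P
  obtain ⟨n, hn1, hn2⟩ := Groth.Agent.Lib.helper7.DimFT.exists_trdeg_eq_ringKrullDim (k := k) A₀
  refine ⟨n, ?_, by rw [hdimB, hht, hn2]⟩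
  -- transcendence degrees
  rw [← hn1]
  haveI : IsScalarTower A₀ B K := inferInstance
  haveI : IsScalarTower k A₀ K := IsScalarTower.of_algebraMap_eq (fun x => by
    rw [IsScalarTower.algebraMap_apply k B K]
    rfl)
  haveI : Algebra.IsAlgebraic A₀ B := IsLocalization.isAlgebraic B S
  haveI : Algebra.IsAlgebraic B K := IsLocalization.isAlgebraic K (nonZeroDivisors B)
  haveI : Algebra.IsAlgebraic A₀ K := Algebra.IsAlgebraic.trans A₀ B K
  have hinj : Function.Injective (algebraMap A₀ K) := by
    have : (algebraMap A₀ K : A₀ → K) = (algebraMap B K) ∘ (algebraMap A₀ B) := by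
      funext x
      exact IsScalarTower.algebraMap_apply A₀ B K x
    rw [this]
    exact (IsFractionRing.injective B K).comp Subtype.val_injective
  haveI : FaithfulSMul A₀ K := (faithfulSMul_iff_algebraMap_injective A₀ K).2 hinj
  have h3 := trdeg_add_eq k A₀ (A := K)
  have h4 : Algebra.trdeg A₀ K = 0 := trdeg_eq_zero
  rw [← h3, h4, add_zero]

end dim

end Groth.Agent.Lib.helper25.RatPt
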