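import Mathlib
import Groth.Agent.Lib.helper25.RatPt1
import Groth.Agent.Lib.helper25.RatPt2
import Groth.Agent.Lib.helper25.RatPt3
import Groth.Agent.Lib.helper5.RegLoc

set_option autoImplicit false
set_option linter.unusedSectionVars false
universe u

namespace Groth.Agent.Lib.helper25.RatPt

open TensorProduct IsLocalRing

section main
variable (k B : Type u) [Field k] [CommRing B] [Algebra k B] [IsLocalRing B]
  [Algebra.EssFiniteType k B]
  (hres : Function.Bijective (algebraMap k (ResidueField B)))

include hres in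
theorem regular_of_free (d : ℕ) (hd : ringKrullDim B = (d : WithBot ℕ∞))
    (hfree : Module.Free B (Ω[B⁄k])) (hrank : Module.finrank B (Ω[B⁄k]) = d) :
    IsRegularLocalRing B := by
  haveI : IsNoetherianRing B := Algebra.EssFiniteType.isNoetherianRing k B
  rw [IsRegularLocalRing.iff_finrank_cotangentSpace,
    ← finrank_tensor_eq_finrank_cotangentSpace k B hres, Module.finrank_baseChange, hrank, hd]

include hres in
theorem free_of_regular [PerfectField k] [IsRegularLocalRing B] (d : ℕ)
    (hd : ringKrullDim B = (d : WithBot ℕ∞)) :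
    Module.Free B (Ω[B⁄k]) ∧ Module.finrank B (Ω[B⁄k]) = d := by
  haveI : IsDomain B := Groth.Agent.H5.RegLoc.isDomain B
  have h1 : Module.finrank (ResidueField B) (ResidueField B ⊗[B] Ω[B⁄k]) = d := by
    rw [finrank_tensor_eq_finrank_cotangentSpace k B hres]
    have := (IsRegularLocalRing.iff_finrank_cotangentSpace B).1 inferInstance
    rw [hd] at this
    exact_mod_cast this
  let K := FractionRing B
  haveI : Algebra.FormallyEtale B K := Algebra.FormallyEtale.of_isLocalization (nonZeroDivisors B)
  haveI : Algebra.EssFiniteType B K := Algebra.EssFiniteType.of_isLocalization K (nonZeroDivisors B)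
  haveI : Algebra.EssFiniteType k K := Algebra.EssFiniteType.comp k B K
  have h2 : Module.finrank K (K ⊗[B] Ω[B⁄k]) = d := by
    rw [(KaehlerDifferential.tensorKaehlerEquivOfFormallyEtale k B K).finrank_eq,
      finrank_kaehler_eq_trdeg k K]
    obtain ⟨n, hn1, hn2⟩ := trdeg_fractionRing_eq_dim k B hres K
    rw [hn1, Cardinal.toNat_natCast]
    rw [hn2] at hd
    exact_mod_cast hd
  exact free_of_finrank_eq B K (Ω[B⁄k]) d h1 h2

include hres in
theorem S11311_aux (d : ℕ) (hd : ringKrullDim B = (d : WithBot ℕ∞)) :
    ((Module.Free B (Ω[B⁄k]) ∧ Module.finrank B (Ω[B⁄k]) = d) → IsRegularLocalRing B) ∧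
      (PerfectField k → IsRegularLocalRing B →
        Module.Free B (Ω[B⁄k]) ∧ Module.finrank B (Ω[B⁄k]) = d) :=
  ⟨fun h => regular_of_free k B hres d hd h.1 h.2,
    fun _ _ => free_of_regular k B hres d hd⟩

end main

end Groth.Agent.Lib.helper25.RatPt
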