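import Mathlib
import Groth.Agent.Lib.helper25.NS1
import Groth.Agent.Lib.helper25.RatPt4
import Groth.Agent.Lib.helper25.OmegaDim
import Groth.Agent.Lib.helper20.RegQuot4

set_option autoImplicit false
set_option linter.unusedSectionVars false
universe u

namespace Groth.Agent.Lib.helper25.NonSing

open TensorProduct IsLocalRing

section
variable (k : Type u) [Field k] (A : Type u) [CommRing A] [Algebra k A] [Algebra.FiniteType k A]

/-- the fibre of `Ω_{A/k}` at `m` computed on the local ring. -/
theorem finrank_fibre_eq (m : Ideal A) [m.IsPrime] :
    Module.finrank m.ResidueField (m.ResidueField ⊗[A] Ω[A⁄k]) =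
      Module.finrank (ResidueField (Localization.AtPrime m))
        (ResidueField (Localization.AtPrime m) ⊗[Localization.AtPrime m]
          Ω[Localization.AtPrime m⁄k]) := by
  haveI : Algebra.FormallyEtale A (Localization.AtPrime m) :=
    Algebra.FormallyEtale.of_isLocalization m.primeCompl
  let e1 := AlgebraTensorModule.cancelBaseChange A (Localization.AtPrime m) m.ResidueField
    m.ResidueField (Ω[A⁄k])
  let e2 := LinearEquiv.baseChange (Localization.AtPrime m) m.ResidueField _ _
    (KaehlerDifferential.tensorKaehlerEquivOfFormallyEtale k A (Localization.AtPrime m))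
  exact (e1.symm.trans e2).finrank_eq

end

end Groth.Agent.Lib.helper25.NonSing

namespace Groth.Agent.Lib.helper25.NonSing

open TensorProduct IsLocalRing

section main
variable (k : Type u) [Field k] (A : Type u) [CommRing A] [Algebra k A] [Algebra.FiniteType k A]
  [IsAlgClosed k] (hirr : (nilradical A).IsPrime) (n : ℕ) (hn : ringKrullDim A = n)

include k hirr hn in
theorem dim_localization (m : Ideal A) [m.IsMaximal] :
    ringKrullDim (Localization.AtPrime m) = n := by
  rw [IsLocalization.AtPrime.ringKrullDim_eq_height m, height_of_isMaximal k A hirr n hn m]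

theorem essFiniteType_localization (m : Ideal A) [m.IsPrime] :
    Algebra.EssFiniteType k (Localization.AtPrime m) := by
  haveI : Algebra.EssFiniteType A (Localization.AtPrime m) :=
    Algebra.EssFiniteType.of_isLocalization _ m.primeCompl
  exact Algebra.EssFiniteType.comp k A _

include hirr hn in
theorem forward (hreg : IsRegularRing A) :
    Module.Projective A (Ω[A⁄k]) ∧ ∀ (P : Ideal A) [P.IsPrime],
      Module.finrank P.ResidueField (P.ResidueField ⊗[A] Ω[A⁄k]) = n := by
  haveI : IsNoetherianRing A := Algebra.FiniteType.isNoetherianRing k A
  have hloc : ∀ (m : Ideal A) [m.IsMaximal],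
      Module.Free (Localization.AtPrime m) (Ω[Localization.AtPrime m⁄k]) ∧
        Module.finrank (Localization.AtPrime m) (Ω[Localization.AtPrime m⁄k]) = n := by
    intro m _
    haveI := essFiniteType_localization k A m
    exact Groth.Agent.Lib.helper25.RatPt.free_of_regular k (Localization.AtPrime m)
      (bijective_algebraMap_residueField k A m) n (dim_localization k A hirr n hn m)
  constructor
  · haveI : Module.FinitePresentation A (Ω[A⁄k]) := Module.finitePresentation_of_finite A _
    refine Module.projective_of_localization_maximal' (fun P _ => Localization.AtPrime P)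
      (fun P _ => Ω[Localization.AtPrime P⁄k])
      (fun P _ => KaehlerDifferential.map k k A (Localization.AtPrime P)) (fun m hm => ?_)
    haveI := hm
    haveI := (hloc m).1
    infer_instance
  · intro P _
    obtain ⟨m, hm, hPm⟩ := Ideal.exists_le_maximal P (Ideal.IsPrime.ne_top inferInstance)
    haveI := hm
    haveI := (hloc m).1
    have h1 : Module.finrank m.ResidueField (m.ResidueField ⊗[A] Ω[A⁄k]) = n := by
      rw [finrank_fibre_eq, Module.finrank_baseChange, (hloc m).2]
    apply le_antisymm
    · rw [← h1]
      exact Groth.Agent.Lib.helper25.Semi.finrank_tensor_le_of_le _ m P hPm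
    · haveI := hirr
      exact Groth.Agent.Lib.helper25.OmegaDim.S10902_aux k A (nilradical A) n P
        (nilradical_le_prime P) (by rw [ringKrullDim_quotient_nilradical, hn])

include hirr hn in
theorem backward (hproj : Module.Projective A (Ω[A⁄k]))
    (hfib : ∀ (P : Ideal A) [P.IsPrime],
      Module.finrank P.ResidueField (P.ResidueField ⊗[A] Ω[A⁄k]) = n) :
    IsReduced A ∧ IsRegularRing A := by
  haveI : IsNoetherianRing A := Algebra.FiniteType.isNoetherianRing k A
  have hloc : ∀ (m : Ideal A) [m.IsMaximal], IsRegularLocalRing (Localization.AtPrime m) := by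
    intro m _
    haveI := essFiniteType_localization k A m
    haveI : Algebra.FormallyEtale A (Localization.AtPrime m) :=
      Algebra.FormallyEtale.of_isLocalization m.primeCompl
    haveI : Module.Projective (Localization.AtPrime m) (Localization.AtPrime m ⊗[A] Ω[A⁄k]) :=
      inferInstance
    haveI : Module.Projective (Localization.AtPrime m) (Ω[Localization.AtPrime m⁄k]) :=
      Module.Projective.of_equiv
        (KaehlerDifferential.tensorKaehlerEquivOfFormallyEtale k A (Localization.AtPrime m))
    haveI : Module.Free (Localization.AtPrime m) (Ω[Localization.AtPrime m⁄k]) :=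
      Module.free_of_flat_of_isLocalRing
    have hrank : Module.finrank (Localization.AtPrime m) (Ω[Localization.AtPrime m⁄k]) = n := by
      rw [← Module.finrank_baseChange (R := ResidueField (Localization.AtPrime m)),
        ← finrank_fibre_eq, hfib m]
    exact Groth.Agent.Lib.helper25.RatPt.regular_of_free k (Localization.AtPrime m)
      (bijective_algebraMap_residueField k A m) n (dim_localization k A hirr n hn m)
      inferInstance hrank
  constructor
  · apply isReduced_ofLocalizationMaximal
    intro m hm
    haveI := hm
    haveI := hloc m
    haveI := Groth.Agent.H5.RegLoc.isDomain (Localization.AtPrime m)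
    infer_instance
  · exact Groth.Agent.Lib.helper20.RegQuot.isRegularRing_of_maximal hloc

include hirr hn in
theorem S10909_aux :
    (IsReduced A ∧ IsRegularRing A) ↔
      (Module.Projective A (Ω[A⁄k]) ∧
        ∀ (P : Ideal A) [P.IsPrime],
          Module.finrank P.ResidueField (P.ResidueField ⊗[A] Ω[A⁄k]) = n) :=
  ⟨fun h => forward k A hirr n hn h.2, fun h => backward k A hirr n hn h.1 h.2⟩

end main

end Groth.Agent.Lib.helper25.NonSing
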