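import Mathlib
import Groth.Agent.Lib.helper6.SmoothRegPt

set_option autoImplicit false
set_option linter.unusedSectionVars false
universe u

namespace Groth.Agent.Lib.helper25.NonSing

open TensorProduct IsLocalRing

section smooth
variable (k : Type u) [Field k] [PerfectField k] (S : Type u) [CommRing S] [Algebra k S]
  [Algebra.FiniteType k S]

/-- over a perfect field, a finite type algebra is (formally) smooth iff it is regular. -/
theorem formallySmooth_iff_isRegularRing : Algebra.FormallySmooth k S ↔ IsRegularRing S := by
  haveI : IsNoetherianRing S := Algebra.FiniteType.isNoetherianRing k S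
  haveI : Algebra.FinitePresentation k S := Algebra.FinitePresentation.of_finiteType.1 inferInstance
  rw [← Algebra.smoothLocus_eq_univ_iff, isRegularRing_iff, Set.eq_univ_iff_forall]
  constructor
  · intro h q hq
    haveI := Groth.Agent.Lib.helper6.SmoothRegPt.isGeometricallyReduced_residueField_of_perfectField
      k S q
    exact (Groth.Agent.Lib.helper6.SmoothRegPt.isSmoothAt_iff_isRegularLocalRing k S q).1
      (h ⟨q, hq⟩)
  · intro h q
    haveI := Groth.Agent.Lib.helper6.SmoothRegPt.isGeometricallyReduced_residueField_of_perfectField
      k S q.asIdeal
    exact (Groth.Agent.Lib.helper6.SmoothRegPt.isSmoothAt_iff_isRegularLocalRing k S q.asIdeal).2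
      (h q.asIdeal)

end smooth

section closed
variable (k : Type u) [Field k] [PerfectField k] (A B : Type u) [CommRing A] [CommRing B]
  [Algebra k A] [Algebra.FiniteType k A] [IsRegularRing A] [Algebra A B] [Algebra k B]
  [IsScalarTower k A B] (hsurj : Function.Surjective (algebraMap A B))

include hsurj in
theorem S10910_aux :
    IsRegularRing B ↔
      (Module.Projective B (Ω[B⁄k]) ∧
        Function.Injective (KaehlerDifferential.kerCotangentToTensor k A B)) := by
  haveI : Algebra.FormallySmooth k A := (formallySmooth_iff_isRegularRing k A).2 inferInstance
  haveI : Algebra.FiniteType k B :=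
    Algebra.FiniteType.of_surjective (IsScalarTower.toAlgHom k A B) hsurj
  rw [← formallySmooth_iff_isRegularRing k B, Algebra.formallySmooth_iff,
    Algebra.FormallySmooth.kerCotangentToTensor_injective_iff hsurj, and_comm]

end closed

end Groth.Agent.Lib.helper25.NonSing
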