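import Mathlib
import Groth.Agent.Lib.helper25.NS3
import Groth.Agent.Lib.helper25.NS2

set_option autoImplicit false
set_option linter.unusedSectionVars false
universe u

namespace Groth.Agent.Lib.helper25.NonSing

open TensorProduct IsLocalRing KaehlerDifferential

section edim
variable (k B : Type u) [Field k] [CommRing B] [Algebra k B] [IsLocalRing B]

/-- If the residue field is formally smooth over `k`, then `m/m² → κ ⊗ Ω_{B/k}` is injective. -/
theorem kerCotangentToTensor_injective_of_formallySmooth
    [Algebra.FormallySmooth k (ResidueField B)] :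
    Function.Injective (kerCotangentToTensor k B (ResidueField B)) := by
  have hf : Function.Surjective (algebraMap B (ResidueField B)) := IsLocalRing.residue_surjective
  have hsurj : Function.Surjective (IsScalarTower.toAlgHom k B (ResidueField B)).kerSquareLift := by
    intro x
    obtain ⟨b, rfl⟩ := hf x
    exact ⟨Ideal.Quotient.mk _ b, rfl⟩
  have hnil : IsNilpotent (RingHom.ker
      ((IsScalarTower.toAlgHom k B (ResidueField B)).kerSquareLift).toRingHom) := by
    refine ⟨2, ?_⟩
    rw [AlgHom.ker_kerSquareLift]
    exact Ideal.cotangentIdeal_square _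
  let g := Algebra.FormallySmooth.liftOfSurjective (AlgHom.id k (ResidueField B))
    (IsScalarTower.toAlgHom k B (ResidueField B)).kerSquareLift hsurj hnil
  have hg : (IsScalarTower.toAlgHom k B (ResidueField B)).kerSquareLift.comp g =
      AlgHom.id k (ResidueField B) :=
    Algebra.FormallySmooth.comp_liftOfSurjective _ _ hsurj hnil
  obtain ⟨l, hl⟩ := (retractionKerCotangentToTensorEquivSection (R := k) hf).symm ⟨g, hg⟩
  exact Function.LeftInverse.injective (g := l) (fun x => LinearMap.congr_fun hl x)

/-- If moreover `Ω_{κ/k} = 0`, the map is bijective. -/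
theorem kerCotangentToTensor_bijective_of_formallyEtale
    [Algebra.FormallySmooth k (ResidueField B)] [Subsingleton (Ω[ResidueField B⁄k])] :
    Function.Bijective (kerCotangentToTensor k B (ResidueField B)) := by
  refine ⟨kerCotangentToTensor_injective_of_formallySmooth k B, fun x => ?_⟩
  have hf : Function.Surjective (algebraMap B (ResidueField B)) := IsLocalRing.residue_surjective
  have hx : mapBaseChange k B (ResidueField B) x = 0 := Subsingleton.elim _ _
  exact (exact_kerCotangentToTensor_mapBaseChange k B (ResidueField B) hf x).1 hx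

theorem finrank_tensor_eq_finrank_cotangentSpace'
    [Algebra.FormallySmooth k (ResidueField B)] [Subsingleton (Ω[ResidueField B⁄k])] :
    Module.finrank (ResidueField B) (ResidueField B ⊗[B] Ω[B⁄k]) =
      Module.finrank (ResidueField B) (CotangentSpace B) := by
  have hker : RingHom.ker (algebraMap B (ResidueField B)) = maximalIdeal B :=
    IsLocalRing.ker_residue
  let e1 : (maximalIdeal B).Cotangent ≃ₗ[B] ResidueField B ⊗[B] Ω[B⁄k] :=
    (Groth.Agent.Lib.helper25.RatPt.cotangentCongr B hker).symm.trans
      (LinearEquiv.ofBijective _ (kerCotangentToTensor_bijective_of_formallyEtale k B))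
  exact (e1.extendScalarsOfSurjective IsLocalRing.residue_surjective).finrank_eq.symm

end edim

end Groth.Agent.Lib.helper25.NonSing

namespace Groth.Agent.Lib.helper25.NonSing

open TensorProduct IsLocalRing KaehlerDifferential

section smooth
variable (k A : Type u) [Field k] [PerfectField k] [CommRing A] [Algebra k A]
  [Algebra.FiniteType k A]

theorem bijective_algebraMap_residueField_of_minimal [IsReduced A] (p : Ideal A) [p.IsPrime]
    (hp : p ∈ minimalPrimes A) :
    Function.Bijective (algebraMap (Localization.AtPrime p) p.ResidueField) := by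
  haveI : Ring.KrullDimLE 0 (Localization.AtPrime p) := .of_isLocalization _ hp _
  have hF : IsField (Localization.AtPrime p) := Ring.KrullDimLE.isField_of_isReduced
  have hm : maximalIdeal (Localization.AtPrime p) = ⊥ :=
    IsLocalRing.isField_iff_maximalIdeal_eq.1 hF
  refine ⟨?_, IsLocalRing.residue_surjective⟩
  rw [RingHom.injective_iff_ker_eq_bot]
  exact (IsLocalRing.ker_residue).trans hm

theorem finrank_fibre_minimal [IsReduced A] (p : Ideal A) [p.IsPrime]
    (hp : p ∈ minimalPrimes A) :
    ∃ r : ℕ, Module.finrank p.ResidueField (p.ResidueField ⊗[A] Ω[A⁄k]) = r ∧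
      ringKrullDim (A ⧸ p) = r := by
  haveI : Algebra.FormallyEtale A (Localization.AtPrime p) :=
    Algebra.FormallyEtale.of_isLocalization p.primeCompl
  haveI : Algebra.FormallyEtale (Localization.AtPrime p) p.ResidueField :=
    Algebra.FormallyEtale.of_equiv (AlgEquiv.ofBijective (Algebra.ofId _ _)
      (bijective_algebraMap_residueField_of_minimal A p hp))
  haveI : Algebra.FormallyEtale A p.ResidueField :=
    Algebra.FormallyEtale.comp A (Localization.AtPrime p) _
  obtain ⟨r, hr1, hr2⟩ := Groth.Agent.Lib.helper25.OmegaDim.trdeg_residueField k A p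
  haveI := Groth.Agent.Lib.helper25.OmegaDim.essFiniteType_residueField k A p
  refine ⟨r, ?_, hr2⟩
  rw [(tensorKaehlerEquivOfFormallyEtale k A p.ResidueField).finrank_eq,
    Groth.Agent.Lib.helper25.RatPt.finrank_kaehler_eq_trdeg, hr1, Cardinal.toNat_natCast]

theorem subsingleton_kaehler_residueField (m : Ideal A) [m.IsMaximal] :
    Subsingleton (Ω[ResidueField (Localization.AtPrime m)⁄k]) := by
  letI : Field (A ⧸ m) := Ideal.Quotient.field m
  haveI : Module.Finite k (A ⧸ m) := finite_of_finite_type_of_isJacobsonRing k (A ⧸ m)
  let e : (A ⧸ m) ≃ₐ[k] m.ResidueField :=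
    AlgEquiv.ofBijective (IsScalarTower.toAlgHom k (A ⧸ m) m.ResidueField)
      m.bijective_algebraMap_quotient_residueField
  haveI : Module.Finite k m.ResidueField := Module.Finite.equiv e.toLinearEquiv
  haveI : Algebra.IsAlgebraic k m.ResidueField := inferInstance
  haveI : Algebra.IsSeparable k m.ResidueField := inferInstance
  haveI : Algebra.FormallyUnramified k m.ResidueField :=
    Algebra.FormallyUnramified.of_isSeparable k m.ResidueField
  exact (inferInstance : Subsingleton (Ω[m.ResidueField⁄k]))

theorem regular_of_projective [IsReduced A] [Module.Projective A (Ω[A⁄k])] : IsRegularRing A := by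
  haveI : IsNoetherianRing A := Algebra.FiniteType.isNoetherianRing k A
  apply Groth.Agent.Lib.helper20.RegQuot.isRegularRing_of_maximal
  intro m _
  obtain ⟨p, hp, hpm⟩ := Ideal.exists_minimalPrimes_le (bot_le : ⊥ ≤ m)
  haveI := hp.1.1
  obtain ⟨r, hr1, hr2⟩ := finrank_fibre_minimal k A p hp
  have hm : Module.finrank m.ResidueField (m.ResidueField ⊗[A] Ω[A⁄k]) = r := by
    rw [← hr1]
    have := Module.rankAtStalk_eq_of_le_of_finite_of_flat' (Ω[A⁄k]) hpm
    rw [← Ideal.finrank_fiber_eq_rankAtStalk, ← Ideal.finrank_fiber_eq_rankAtStalk] at this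
    exact this.symm
  haveI : Algebra.FormallySmooth k (ResidueField (Localization.AtPrime m)) :=
    Groth.Agent.Lib.helper25.RatPt.formallySmooth_of_perfectField k _
  haveI := subsingleton_kaehler_residueField k A m
  have hedim : Module.finrank (ResidueField (Localization.AtPrime m))
      (CotangentSpace (Localization.AtPrime m)) = r := by
    rw [← finrank_tensor_eq_finrank_cotangentSpace' k (Localization.AtPrime m),
      ← finrank_fibre_eq k A m, hm]
  have hdim : (r : WithBot ℕ∞) ≤ ringKrullDim (Localization.AtPrime m) := by
    rw [IsLocalization.AtPrime.ringKrullDim_eq_height m, ← hr2]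
    haveI : (m.map (Ideal.Quotient.mk p)).IsMaximal :=
      Ideal.IsMaximal.map_of_surjective_of_ker_le Ideal.Quotient.mk_surjective
        (by rw [Ideal.mk_ker]; exact hpm)
    have h1 := Groth.Agent.Lib.helper7.DimFT.height_of_isMaximal (k := k) (A ⧸ p)
      (m.map (Ideal.Quotient.mk p))
    rw [← h1]
    exact_mod_cast Groth.Agent.Lib.helper7.DimFT.height_map_quotient_le p m hpm
  apply IsRegularLocalRing.of_spanFinrank_maximalIdeal_le
  rw [IsLocalRing.spanFinrank_maximalIdeal_eq_finrank_cotangentSpace, hedim]
  exact hdim

theorem S7623_aux [IsReduced A] [Module.Projective A (Ω[A⁄k])] : Algebra.Smooth k A := by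
  haveI := regular_of_projective k A
  haveI : Algebra.FormallySmooth k A := (formallySmooth_iff_isRegularRing k A).2 inferInstance
  haveI : Algebra.FinitePresentation k A := Algebra.FinitePresentation.of_finiteType.1 inferInstance
  exact ⟨inferInstance, inferInstance⟩

end smooth

end Groth.Agent.Lib.helper25.NonSing
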