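import Mathlib
import Groth.Prelude.Def_RegImm
import Groth.Agent.Lib.helper6.CplFib
import Groth.Agent.Lib.helper20.SmoothReg
import Groth.Agent.Lib.helper25.NS4

/-! Dimension of smooth algebras over a field; smooth ⟹ LCI (helper25). -/

namespace Groth.Agent.Lib.helper25.SmoothDim

set_option linter.style.haveILetI false
set_option linter.unusedSectionVars false
universe u
open TensorProduct IsLocalRing KaehlerDifferential

section field
variable (k K : Type u) [Field k] [Field K] [Algebra k K]

theorem finrank_kaehler_eq_trdeg_of_formallySmooth [Algebra.EssFiniteType k K]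
    [Algebra.FormallySmooth k K] :
    Module.finrank K (Ω[K⁄k]) = Cardinal.toNat (Algebra.trdeg k K) := by
  obtain ⟨hf1, hf2, hχ⟩ := Groth.Agent.Lib.helper25.Cart.cartier_h1 (K := k) (L := K)
  haveI : Subsingleton (Algebra.H1Cotangent k K) :=
    Algebra.FormallySmooth.subsingleton_h1Cotangent
  have h0 : Module.finrank K (Algebra.H1Cotangent k K) = 0 := Module.finrank_zero_of_subsingleton
  rw [h0] at hχ
  have : (Module.finrank K (Ω[K⁄k]) : ℤ) = Cardinal.toNat (Algebra.trdeg k K) := by
    rw [← hχ]; simp
  exact_mod_cast this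

end field

section smooth
variable (k A : Type u) [Field k] [CommRing A] [Algebra k A] [Algebra.Smooth k A]

include k in
theorem isReduced_of_smooth : IsReduced A := by
  haveI : IsRegularRing k := inferInstance
  haveI : IsRegularRing A := Groth.Agent.Lib.helper20.SmoothReg.isRegularRing_of_smooth k A
  exact Groth.Agent.Lib.helper6.CplFib.isReduced_of_isRegularRing A

theorem finrank_fibre_minimal (p : Ideal A) [p.IsPrime] (hp : p ∈ minimalPrimes A) :
    ∃ r : ℕ, Module.finrank p.ResidueField (p.ResidueField ⊗[A] Ω[A⁄k]) = r ∧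
      ringKrullDim (A ⧸ p) = r := by
  haveI := isReduced_of_smooth k A
  haveI : Algebra.FiniteType k A := inferInstance
  haveI : Algebra.FormallyEtale A (Localization.AtPrime p) :=
    Algebra.FormallyEtale.of_isLocalization p.primeCompl
  haveI : Algebra.FormallyEtale (Localization.AtPrime p) p.ResidueField :=
    Algebra.FormallyEtale.of_equiv (AlgEquiv.ofBijective (Algebra.ofId _ _)
      (Groth.Agent.Lib.helper25.NonSing.bijective_algebraMap_residueField_of_minimal A p hp))
  haveI : Algebra.FormallyEtale A p.ResidueField :=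
    Algebra.FormallyEtale.comp A (Localization.AtPrime p) _
  haveI : Algebra.FormallySmooth k A := Algebra.Smooth.formallySmooth
  haveI : Algebra.FormallySmooth A p.ResidueField :=
    (Algebra.FormallyEtale.iff_formallyUnramified_and_formallySmooth.mp
      (inferInstance : Algebra.FormallyEtale A p.ResidueField)).2
  haveI : Algebra.FormallySmooth k p.ResidueField := Algebra.FormallySmooth.comp k A p.ResidueField
  obtain ⟨r, hr1, hr2⟩ := Groth.Agent.Lib.helper25.OmegaDim.trdeg_residueField k A p
  haveI := Groth.Agent.Lib.helper25.OmegaDim.essFiniteType_residueField k A p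
  refine ⟨r, ?_, hr2⟩
  rw [(tensorKaehlerEquivOfFormallyEtale k A p.ResidueField).finrank_eq,
    finrank_kaehler_eq_trdeg_of_formallySmooth, hr1, Cardinal.toNat_natCast]

/-- A nontrivial smooth algebra over a field with `Ω` free of rank `d` has dimension `d`. -/
theorem ringKrullDim_eq_of_free [Nontrivial A] [Module.Free A (Ω[A⁄k])] (d : ℕ)
    (hd : Module.finrank A (Ω[A⁄k]) = d) : ringKrullDim A = d := by
  haveI : Algebra.FiniteType k A := inferInstance
  haveI : Module.Finite A (Ω[A⁄k]) := inferInstance
  have hm : ∀ (m : Ideal A) [m.IsMaximal], m.height = d := by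
    intro m _
    obtain ⟨p₀, hp₀, hle, hdim⟩ :=
      Groth.Agent.Lib.helper7.DimFT.exists_minimalPrimes_ringKrullDim_eq (k := k) A m
    haveI := hp₀.1.1
    obtain ⟨r, hr1, hr2⟩ := finrank_fibre_minimal k A p₀ hp₀
    have hr : r = d := by
      rw [← hr1, ← hd]
      exact Module.finrank_baseChange
    letI : Field (A ⧸ m) := Ideal.Quotient.field m
    rw [hr2, ringKrullDim_eq_zero_of_field, zero_add, hr] at hdim
    exact_mod_cast hdim.symm
  rw [← Ideal.sup_isMaximal_height_eq_ringKrullDim]
  congr 1
  apply le_antisymm
  · exact iSup₂_le (fun m hm' => (hm m).le)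
  · obtain ⟨m, hm'⟩ := Ideal.exists_maximal A
    exact le_iSup₂_of_le m hm' (hm m).ge

end smooth

theorem isGlobalCI_of_isStandardSmooth (k T : Type u) [Field k] [CommRing T] [Algebra k T]
    [Algebra.IsStandardSmooth k T] : Synt.IsGlobalCI k T := by
  by_cases hT : Subsingleton T
  · exact Or.inl hT
  · right
    haveI : Nontrivial T := not_subsingleton_iff_nontrivial.mp hT
    obtain ⟨ι, σ, hσ, hι, ⟨P⟩⟩ := Algebra.IsStandardSmooth.out (R := k) (S := T)
    haveI := Fintype.ofFinite ι
    haveI := Fintype.ofFinite σ
    let P' := P.reindex (Fintype.equivFin ι).symm (Fintype.equivFin σ).symm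
    have hle : Fintype.card σ ≤ Fintype.card ι := by
      have := P'.card_relations_le_card_vars_of_isFinite
      simpa using this
    refine ⟨Fintype.card ι, Fintype.card σ, hle, MvPolynomial.aeval P'.val, P'.relation, ?_, ?_, ?_⟩
    · have := P'.algebraMap_surjective
      rwa [P'.algebraMap_eq] at this
    · rw [P'.span_range_relation_eq_ker, P'.ker_eq_ker_aeval_val]
      rfl
    · have hrank := P'.rank_kaehlerDifferential
      have hfin : Module.finrank T (Ω[T⁄k]) = Fintype.card ι - Fintype.card σ := by
        rw [Module.finrank, hrank]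
        simp [Algebra.Presentation.dimension]
      exact ringKrullDim_eq_of_free k T _ hfin

theorem S9429_aux (k : Type u) [Field k] (S : Type u) [CommRing S] [Algebra k S]
    [Algebra.Smooth k S] : Synt.IsLCIOver k S := by
  refine ⟨inferInstance, fun p => ?_⟩
  haveI : Algebra.FinitePresentation k S := inferInstance
  haveI : Algebra.FormallySmooth k S := Algebra.Smooth.formallySmooth
  haveI : Algebra.FormallySmooth S (Localization.AtPrime p.asIdeal) :=
    Algebra.FormallySmooth.of_isLocalization p.asIdeal.primeCompl
  haveI : Algebra.IsSmoothAt k p.asIdeal :=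
    Algebra.FormallySmooth.comp k S (Localization.AtPrime p.asIdeal)
  obtain ⟨f, hf, hstd⟩ := Algebra.IsSmoothAt.exists_notMem_isStandardSmooth k p.asIdeal
  exact ⟨f, hf, isGlobalCI_of_isStandardSmooth k _⟩

end Groth.Agent.Lib.helper25.SmoothDim
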