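import Mathlib
import Groth.Agent.S2141
import Groth.Agent.Lib.helper25.SmoothDim
import Groth.Agent.Lib.helper25.OmegaDim
import Groth.Agent.Lib.helper25.Sep1

/-! Adapted germs at a point of a variety (EGA IV 17.15.x) (helper25). -/

namespace Groth.Agent.Lib.helper25.Germs

set_option linter.style.haveILetI false
universe u
open IsLocalRing

section field
variable (k K : Type u) [Field k] [Field K] [Algebra k K] [Algebra.EssFiniteType k K]

/-- `dim Ω_{K/k} ≤ trdeg_k K` forces `K/k` to be formally smooth (separable). -/
theorem formallySmooth_of_finrank_le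
    (h : Module.finrank K (Ω[K⁄k]) ≤ Cardinal.toNat (Algebra.trdeg k K)) :
    Algebra.FormallySmooth k K := by
  obtain ⟨hf1, hf2, hχ⟩ := Groth.Agent.Lib.helper25.Cart.cartier_h1 (K := k) (L := K)
  have h0 : Module.finrank K (Algebra.H1Cotangent k K) = 0 := by omega
  haveI := hf1
  haveI : Subsingleton (Algebra.H1Cotangent k K) := Module.finrank_zero_iff.mp h0
  exact ⟨Module.Projective.of_free, inferInstance⟩

/-- a family of `t = dim Ω` elements whose differentials span. -/
theorem exists_fin_span_D (t : ℕ) (ht : Module.finrank K (Ω[K⁄k]) = t) :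
    ∃ b : Fin t → K, Submodule.span K (Set.range fun i => KaehlerDifferential.D k K (b i)) = ⊤ := by
  haveI : Module.Finite K (Ω[K⁄k]) := inferInstance
  obtain ⟨B, hBs, hBspan, hBli⟩ :=
    exists_linearIndependent K (Set.range (KaehlerDifferential.D k K))
  rw [KaehlerDifferential.span_range_derivation] at hBspan
  haveI : Finite B := LinearIndependent.finite hBli
  haveI : Fintype B := Fintype.ofFinite B
  have hcard : Nat.card B = t := by
    have h1 := finrank_span_set_eq_card hBli
    rw [hBspan, finrank_top, ht] at h1
    rw [Nat.card_eq_fintype_card, h1, Set.toFinset_card]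
  let e : B ≃ Fin t := Finite.equivFinOfCardEq hcard
  have hpre : ∀ x : B, ∃ y : K, KaehlerDifferential.D k K y = x.1 := fun x => hBs x.2
  choose pre hpre using hpre
  refine ⟨fun i => pre (e.symm i), ?_⟩
  have : (Set.range fun i => KaehlerDifferential.D k K (pre (e.symm i))) = B := by
    ext z
    constructor
    · rintro ⟨i, rfl⟩
      change KaehlerDifferential.D k K (pre (e.symm i)) ∈ B
      rw [hpre]; exact (e.symm i).2
    · intro hz
      refine ⟨e ⟨z, hz⟩, ?_⟩
      simp only [Equiv.symm_apply_apply, hpre]
  rw [this, hBspan]

end field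

section main
variable (k A : Type u) [Field k] [CommRing A] [Algebra k A] [Algebra.FiniteType k A]
  (n r : ℕ) (p : Ideal A) [p.IsPrime]

theorem nat_eq (hn : FlatMor.localDim (PrimeSpectrum A) ⟨p, inferInstance⟩ = (n : WithBot ℕ∞))
    (hr : ringKrullDim (Localization.AtPrime p) = (r : WithBot ℕ∞)) (t : ℕ)
    (ht : Algebra.trdeg k p.ResidueField = t) : n = r + t := by
  have h := Groth.Agent.S2141.result (k := k) p t ht
  rw [hn, hr] at h
  exact_mod_cast h

theorem card_lt_le : Fintype.card {i : Fin n // (i : ℕ) < r} ≤ r := by
  have := Fintype.card_le_of_injective (fun i : {i : Fin n // (i : ℕ) < r} => (⟨i.1, i.2⟩ : Fin r))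
    (fun i j h => Subtype.ext (Fin.ext (by simpa using congrArg Fin.val h)))
  simpa using this

theorem card_ge_le (t : ℕ) (h : n = r + t) : Fintype.card {i : Fin n // r ≤ (i : ℕ)} ≤ t := by
  have := Fintype.card_le_of_injective
    (fun i : {i : Fin n // r ≤ (i : ℕ)} => (⟨i.1 - r, by have := i.1.2; omega⟩ : Fin t))
    (fun i j h => Subtype.ext (Fin.ext (by
      have := congrArg Fin.val h
      have hi := i.2
      have hj := j.2
      simp only at this
      omega)))
  simpa using this

theorem S5027_aux
    (hn : FlatMor.localDim (PrimeSpectrum A) ⟨p, inferInstance⟩ = (n : WithBot ℕ∞))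
    (hr : ringKrullDim (Localization.AtPrime p) = (r : WithBot ℕ∞)) :
    (IsRegularLocalRing (Localization.AtPrime p) ∧ Algebra.IsGeometricallyReduced k p.ResidueField) ↔
      ∃ g : Fin n → Localization.AtPrime p,
        Ideal.span (g '' {i : Fin n | (i : ℕ) < r}) = IsLocalRing.maximalIdeal (Localization.AtPrime p) ∧
          Submodule.span p.ResidueField ((fun i : Fin n =>
            KaehlerDifferential.D k p.ResidueField (IsLocalRing.residue (Localization.AtPrime p) (g i))) ''
              {i : Fin n | r ≤ (i : ℕ)}) = ⊤ := by
  haveI : Algebra.EssFiniteType k p.ResidueField :=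
    Groth.Agent.Lib.helper25.OmegaDim.essFiniteType_residueField k A p
  obtain ⟨t, ht, -⟩ := Groth.Agent.Lib.helper25.OmegaDim.trdeg_residueField k A p
  have hnrt := nat_eq k A n r p hn hr t ht
  haveI : IsNoetherianRing A := Algebra.FiniteType.isNoetherianRing k A
  constructor
  · rintro ⟨hreg, hred⟩
    haveI := hreg
    haveI := hred
    haveI : Algebra.FormallySmooth k p.ResidueField :=
      (Groth.Agent.Lib.helper25.Sep.formallySmooth_iff_isGeometricallyReduced).2 hred
    have hΩ : Module.finrank p.ResidueField (Ω[p.ResidueField⁄k]) = t := by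
      rw [Groth.Agent.Lib.helper25.SmoothDim.finrank_kaehler_eq_trdeg_of_formallySmooth, ht]
      simp
    obtain ⟨b, hb⟩ := exists_fin_span_D k p.ResidueField t hΩ
    have hsf : (maximalIdeal (Localization.AtPrime p)).spanFinrank = r := by
      have := hreg.spanFinrank_maximalIdeal
      rw [hr] at this
      exact_mod_cast this
    have hfg : Submodule.FG (maximalIdeal (Localization.AtPrime p)) :=
      IsNoetherian.noetherian _
    have hs_fin := hfg.finite_generators
    have hs_card : (maximalIdeal (Localization.AtPrime p)).generators.ncard = r :=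
      hfg.generators_ncard.trans hsf
    have hs_span : Ideal.span (maximalIdeal (Localization.AtPrime p)).generators =
      maximalIdeal (Localization.AtPrime p) := Submodule.span_generators _
    haveI : Finite (maximalIdeal (Localization.AtPrime p)).generators := hs_fin.to_subtype
    let e : (maximalIdeal (Localization.AtPrime p)).generators ≃ Fin r :=
      Finite.equivFinOfCardEq (by rw [_root_.Nat.card_coe_set_eq]; exact hs_card)
    let f : Fin r → Localization.AtPrime p := fun j => (e.symm j).1
    have hf : Set.range f = (maximalIdeal (Localization.AtPrime p)).generators := by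
      ext z
      constructor
      · rintro ⟨j, rfl⟩; exact (e.symm j).2
      · intro hz; exact ⟨e ⟨z, hz⟩, by simp [f]⟩
    have hsurj : Function.Surjective (residue (Localization.AtPrime p)) := residue_surjective
    choose lift hlift using hsurj
    let g : Fin n → Localization.AtPrime p := fun i =>
      if h : (i : ℕ) < r then f ⟨i, h⟩ else lift (b ⟨i - r, by have := i.2; omega⟩)
    refine ⟨g, ?_, ?_⟩
    · have : g '' {i : Fin n | (i : ℕ) < r} = Set.range f := by
        ext z
        constructor
        · rintro ⟨i, hi, rfl⟩
          have hi' : (i : ℕ) < r := hi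
          exact ⟨⟨i, hi'⟩, by simp only [g, dif_pos hi']⟩
        · rintro ⟨j, rfl⟩
          have hj : (j : ℕ) < n := by have := j.2; omega
          refine ⟨⟨j, hj⟩, j.2, ?_⟩
          have : ((⟨j, hj⟩ : Fin n) : ℕ) < r := j.2
          simp only [g, dif_pos this]
      rw [this, hf, hs_span]
    · have : (fun i : Fin n => KaehlerDifferential.D k p.ResidueField
            (IsLocalRing.residue (Localization.AtPrime p) (g i))) '' {i : Fin n | r ≤ (i : ℕ)} =
          Set.range fun j => KaehlerDifferential.D k p.ResidueField (b j) := by
        ext z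
        constructor
        · rintro ⟨i, hi, rfl⟩
          have hi' : ¬ (i : ℕ) < r := not_lt.mpr hi
          refine ⟨⟨i - r, by have := i.2; omega⟩, ?_⟩
          simp only [g, dif_neg hi', hlift]
        · rintro ⟨j, rfl⟩
          have hj : r + (j : ℕ) < n := by have := j.2; omega
          refine ⟨⟨r + j, hj⟩, Nat.le_add_right r j, ?_⟩
          have h1 : ¬ ((⟨r + j, hj⟩ : Fin n) : ℕ) < r := by simp
          have h2 : (⟨((⟨r + j, hj⟩ : Fin n) : ℕ) - r, by simp⟩ : Fin t) = j := Fin.ext (by simp)
          simp only [g, dif_neg h1, hlift, h2]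
      rw [this, hb]
  · rintro ⟨g, hg1, hg2⟩
    constructor
    · apply IsRegularLocalRing.of_spanFinrank_maximalIdeal_le
      rw [hr, ← hg1]
      have hfin : (g '' {i : Fin n | (i : ℕ) < r}).Finite := (Set.toFinite _).image g
      have h1 := Submodule.spanFinrank_span_le_ncard_of_finite (R := Localization.AtPrime p) hfin
      have h2 : (g '' {i : Fin n | (i : ℕ) < r}).ncard ≤ r := by
        refine (Set.ncard_image_le (Set.toFinite _)).trans ?_
        rw [← _root_.Nat.card_coe_set_eq, Nat.card_eq_fintype_card]
        exact card_lt_le n r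
      exact_mod_cast (h1.trans h2)
    · have hle : Module.finrank p.ResidueField (Ω[p.ResidueField⁄k]) ≤ t := by
        rw [Set.image_eq_range] at hg2
        refine (finrank_le_of_span_eq_top hg2).trans ?_
        exact card_ge_le n r t hnrt
      haveI := formallySmooth_of_finrank_le k p.ResidueField (by rw [ht]; simpa using hle)
      exact (Groth.Agent.Lib.helper25.Sep.formallySmooth_iff_isGeometricallyReduced).1 inferInstance

end main

end Groth.Agent.Lib.helper25.Germs
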