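import Mathlib
import Groth.Agent.Lib.helper25.Germs1
import Groth.Agent.Lib.helper25.NS4

/-! Etale coordinates at a point: linear algebra of `κ ⊗ Ω_{R/k}` (helper25). -/

namespace Groth.Agent.Lib.helper25.Germs

set_option linter.style.haveILetI false
universe u
open IsLocalRing TensorProduct KaehlerDifferential

section core
variable (k : Type u) [Field k] (R : Type u) [CommRing R] [IsLocalRing R] [Algebra k R]
  {n : ℕ} (r : ℕ) (g : Fin n → R)

/-- `1 ⊗ d g_i` in `κ ⊗ Ω_{R/k}` -/
noncomputable def vv (i : Fin n) : ResidueField R ⊗[R] Ω[R⁄k] :=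
  (1 : ResidueField R) ⊗ₜ[R] D k R (g i)

/-- `d ḡ_i` in `Ω_{κ/k}` -/
noncomputable def ww (i : Fin n) : Ω[ResidueField R⁄k] :=
  D k (ResidueField R) (residue R (g i))

theorem pi_one_tmul_D (x : R) :
    mapBaseChange k R (ResidueField R) ((1 : ResidueField R) ⊗ₜ[R] D k R x) =
      D k (ResidueField R) (residue R x) := by
  rw [mapBaseChange_tmul, one_smul, KaehlerDifferential.map_D]
  rfl

theorem pi_vv (i : Fin n) : mapBaseChange k R (ResidueField R) (vv k R g i) = ww k R g i :=
  pi_one_tmul_D k R (g i)

theorem one_tmul_D_mul (a x : R) (hx : x ∈ maximalIdeal R) :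
    (1 : ResidueField R) ⊗ₜ[R] D k R (a * x) =
      residue R a • ((1 : ResidueField R) ⊗ₜ[R] D k R x) := by
  have hx0 : residue R x = 0 := (residue_eq_zero_iff x).2 hx
  rw [Derivation.leibniz, TensorProduct.tmul_add, ← TensorProduct.smul_tmul,
    ← TensorProduct.smul_tmul, Algebra.smul_def, Algebra.smul_def, mul_one, mul_one,
    TensorProduct.smul_tmul', smul_eq_mul, mul_one]
  change residue R a ⊗ₜ[R] D k R x + residue R x ⊗ₜ[R] D k R a = _
  rw [hx0, TensorProduct.zero_tmul, add_zero]

theorem one_tmul_D_mem (hg1 : Ideal.span (g '' {i : Fin n | (i : ℕ) < r}) = maximalIdeal R)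
    (x : R) (hx : x ∈ maximalIdeal R) :
    (1 : ResidueField R) ⊗ₜ[R] D k R x ∈
      Submodule.span (ResidueField R) (Set.range (vv k R g)) := by
  have key : ∀ y ∈ Ideal.span (g '' {i : Fin n | (i : ℕ) < r}),
      (1 : ResidueField R) ⊗ₜ[R] D k R y ∈
        Submodule.span (ResidueField R) (Set.range (vv k R g)) := by
    intro y hy
    induction hy using Submodule.span_induction with
    | mem y hy => obtain ⟨i, hi, rfl⟩ := hy; exact Submodule.subset_span ⟨i, rfl⟩
    | zero => simp
    | add y z _ _ hy hz =>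
      rw [map_add, TensorProduct.tmul_add]
      exact add_mem hy hz
    | smul a y hys hy =>
      have hym : y ∈ maximalIdeal R := by rw [← hg1]; exact hys
      rw [smul_eq_mul, one_tmul_D_mul k R a y hym]
      exact Submodule.smul_mem _ _ hy
  exact key x (by rw [hg1]; exact hx)

theorem hker_eq : RingHom.ker (algebraMap R (ResidueField R)) = maximalIdeal R :=
  IsLocalRing.ker_residue

/-- every element of `ker π` is of the form `1 ⊗ dx` with `x ∈ m`. -/
theorem exists_of_pi_eq_zero (y : ResidueField R ⊗[R] Ω[R⁄k])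
    (hy : mapBaseChange k R (ResidueField R) y = 0) :
    ∃ x ∈ maximalIdeal R, (1 : ResidueField R) ⊗ₜ[R] D k R x = y := by
  have hf : Function.Surjective (algebraMap R (ResidueField R)) := IsLocalRing.residue_surjective
  obtain ⟨c, hc⟩ := (exact_kerCotangentToTensor_mapBaseChange k R (ResidueField R) hf y).1 hy
  obtain ⟨⟨x, hx⟩, rfl⟩ := Ideal.toCotangent_surjective _ c
  rw [kerCotangentToTensor_toCotangent] at hc
  exact ⟨x, by rw [← hker_eq R]; exact hx, hc⟩

/-- Lemma X: generators of `m` and of `Ω_{κ/k}` give generators of `κ ⊗ Ω_{R/k}`. -/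
theorem span_vv_eq_top (hg1 : Ideal.span (g '' {i : Fin n | (i : ℕ) < r}) = maximalIdeal R)
    (hg2 : Submodule.span (ResidueField R) (ww k R g '' {i : Fin n | r ≤ (i : ℕ)}) = ⊤) :
    Submodule.span (ResidueField R) (Set.range (vv k R g)) = ⊤ := by
  rw [eq_top_iff]
  intro y _
  have hlift : ∀ u ∈ Submodule.span (ResidueField R) (ww k R g '' {i : Fin n | r ≤ (i : ℕ)}),
      ∃ z ∈ Submodule.span (ResidueField R) (Set.range (vv k R g)),
        mapBaseChange k R (ResidueField R) z = u := by
    intro u hu
    induction hu using Submodule.span_induction with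
    | mem u hu =>
      obtain ⟨i, -, rfl⟩ := hu
      exact ⟨vv k R g i, Submodule.subset_span ⟨i, rfl⟩, pi_vv k R g i⟩
    | zero => exact ⟨0, Submodule.zero_mem _, map_zero _⟩
    | add u u' _ _ hu hu' =>
      obtain ⟨z, hz, hzu⟩ := hu
      obtain ⟨z', hz', hzu'⟩ := hu'
      exact ⟨z + z', add_mem hz hz', by rw [map_add, hzu, hzu']⟩
    | smul c u _ hu =>
      obtain ⟨z, hz, hzu⟩ := hu
      exact ⟨c • z, Submodule.smul_mem _ _ hz, by rw [map_smul, hzu]⟩
  obtain ⟨z, hz, hzy⟩ := hlift (mapBaseChange k R (ResidueField R) y) (by rw [hg2]; trivial)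
  obtain ⟨x, hx, hxy⟩ := exists_of_pi_eq_zero k R (y - z) (by rw [map_sub, hzy, sub_self])
  have h1 := one_tmul_D_mem k R r g hg1 x hx
  rw [hxy] at h1
  have : y = z + (y - z) := by abel
  rw [this]
  exact add_mem hz h1

end core

section YZ
variable (k : Type u) [Field k] (R : Type u) [CommRing R] [IsLocalRing R] [IsNoetherianRing R]
  [Algebra k R] [Algebra.EssFiniteType k (ResidueField R)]
  {n : ℕ} (r t : ℕ) (g : Fin n → R)

theorem ww_eq_zero (hgm : ∀ i : Fin n, (i : ℕ) < r → g i ∈ maximalIdeal R) (i : Fin n)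
    (hi : (i : ℕ) < r) : ww k R g i = 0 := by
  rw [ww, (residue_eq_zero_iff _).2 (hgm i hi), map_zero]

/-- (Y1) -/
theorem span_ww_eq_top
    (hsp : Submodule.span (ResidueField R) (Set.range (vv k R g)) = ⊤)
    (hgm : ∀ i : Fin n, (i : ℕ) < r → g i ∈ maximalIdeal R) :
    Submodule.span (ResidueField R) (ww k R g '' {i : Fin n | r ≤ (i : ℕ)}) = ⊤ := by
  have key : ∀ y ∈ Submodule.span (ResidueField R) (Set.range (vv k R g)),
      mapBaseChange k R (ResidueField R) y ∈
        Submodule.span (ResidueField R) (ww k R g '' {i : Fin n | r ≤ (i : ℕ)}) := by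
    intro y hy
    induction hy using Submodule.span_induction with
    | mem y hy =>
      obtain ⟨i, rfl⟩ := hy
      rw [pi_vv]
      by_cases hi : r ≤ (i : ℕ)
      · exact Submodule.subset_span ⟨i, hi, rfl⟩
      · rw [ww_eq_zero k R r g hgm i (not_le.1 hi)]
        exact Submodule.zero_mem _
    | zero => rw [map_zero]; exact Submodule.zero_mem _
    | add y z _ _ hy hz => rw [map_add]; exact add_mem hy hz
    | smul c y _ hy => rw [map_smul]; exact Submodule.smul_mem _ _ hy
  rw [eq_top_iff]
  intro u _
  obtain ⟨y, rfl⟩ := KaehlerDifferential.mapBaseChange_surjective k R (ResidueField R)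
    IsLocalRing.residue_surjective u
  exact key y (by rw [hsp]; trivial)

/-- (Y2) -/
theorem formallySmooth_residue
    (hsp : Submodule.span (ResidueField R) (Set.range (vv k R g)) = ⊤)
    (hgm : ∀ i : Fin n, (i : ℕ) < r → g i ∈ maximalIdeal R)
    (ht : Algebra.trdeg k (ResidueField R) = t) (hn : n = r + t) :
    Algebra.FormallySmooth k (ResidueField R) := by
  have h1 := span_ww_eq_top k R r g hsp hgm
  rw [Set.image_eq_range] at h1
  have hle : Module.finrank (ResidueField R) (Ω[ResidueField R⁄k]) ≤ t :=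
    (finrank_le_of_span_eq_top h1).trans (card_ge_le n r t hn)
  exact formallySmooth_of_finrank_le k (ResidueField R) (by rw [ht]; simpa using hle)

theorem card_lt_eq (n r : ℕ) (hrn : r ≤ n) : Fintype.card {i : Fin n // (i : ℕ) < r} = r := by
  let e : {i : Fin n // (i : ℕ) < r} ≃ Fin r :=
    { toFun := fun i => ⟨i.1, i.2⟩
      invFun := fun j => ⟨⟨j, by have := j.2; omega⟩, j.2⟩
      left_inv := fun i => rfl
      right_inv := fun j => rfl }
  rw [Fintype.card_congr e, Fintype.card_fin]

/-- (Y3) -/
theorem span_g_eq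
    (hLI : LinearIndependent (ResidueField R) (vv k R g))
    (hsp : Submodule.span (ResidueField R) (Set.range (vv k R g)) = ⊤)
    (hgm : ∀ i : Fin n, (i : ℕ) < r → g i ∈ maximalIdeal R)
    (ht : Algebra.trdeg k (ResidueField R) = t) (hn : n = r + t) :
    Ideal.span (g '' {i : Fin n | (i : ℕ) < r}) = maximalIdeal R := by
  haveI := formallySmooth_residue k R r t g hsp hgm ht hn
  have hinj := Groth.Agent.Lib.helper25.NonSing.kerCotangentToTensor_injective_of_formallySmooth k R
  haveI : Module.Finite (ResidueField R) (ResidueField R ⊗[R] Ω[R⁄k]) :=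
    Module.finite_def.mpr (hsp ▸ Submodule.fg_span (Set.finite_range _))
  have hW : Module.finrank (ResidueField R) (Ω[ResidueField R⁄k]) = t := by
    rw [Groth.Agent.Lib.helper25.SmoothDim.finrank_kaehler_eq_trdeg_of_formallySmooth, ht]
    simp
  have hV : Module.finrank (ResidueField R) (ResidueField R ⊗[R] Ω[R⁄k]) = n := by
    rw [Module.finrank_eq_card_basis (Module.Basis.mk hLI hsp.ge)]
    simp
  have hπ : Function.Surjective (mapBaseChange k R (ResidueField R)) :=
    KaehlerDifferential.mapBaseChange_surjective k R (ResidueField R) IsLocalRing.residue_surjective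
  have hker : Module.finrank (ResidueField R)
      (LinearMap.ker (mapBaseChange k R (ResidueField R))) = r := by
    have := LinearMap.finrank_range_add_finrank_ker (mapBaseChange k R (ResidueField R))
    rw [LinearMap.range_eq_top.2 hπ, finrank_top, hW, hV] at this
    omega
  set N : Submodule (ResidueField R) (ResidueField R ⊗[R] Ω[R⁄k]) :=
    Submodule.span (ResidueField R)
      (Set.range fun i : {i : Fin n // (i : ℕ) < r} => vv k R g i.1) with hNdef
  have hNle : N ≤ LinearMap.ker (mapBaseChange k R (ResidueField R)) := by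
    rw [hNdef, Submodule.span_le]
    rintro _ ⟨i, rfl⟩
    rw [SetLike.mem_coe, LinearMap.mem_ker, pi_vv, ww_eq_zero k R r g hgm i.1 i.2]
  have hNrank : Module.finrank (ResidueField R) N = r := by
    have hLI' : LinearIndependent (ResidueField R)
        (fun i : {i : Fin n // (i : ℕ) < r} => vv k R g i.1) :=
      hLI.comp _ Subtype.val_injective
    rw [hNdef, finrank_span_eq_card hLI', card_lt_eq n r (by omega)]
  have hNeq : N = LinearMap.ker (mapBaseChange k R (ResidueField R)) :=
    Submodule.eq_of_le_of_finrank_le hNle (by rw [hker, hNrank])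
  have hle : Ideal.span (g '' {i : Fin n | (i : ℕ) < r}) ≤ maximalIdeal R := by
    rw [Ideal.span_le]
    rintro _ ⟨i, hi, rfl⟩
    exact hgm i hi
  have hN : ∀ u ∈ N, ∃ x₀ ∈ Ideal.span (g '' {i : Fin n | (i : ℕ) < r}),
      (1 : ResidueField R) ⊗ₜ[R] D k R x₀ = u := by
    intro u hu
    rw [hNdef] at hu
    induction hu using Submodule.span_induction with
    | mem u hu =>
      obtain ⟨i, rfl⟩ := hu
      exact ⟨g i.1, Ideal.subset_span ⟨i.1, i.2, rfl⟩, rfl⟩
    | zero => exact ⟨0, Submodule.zero_mem _, by simp⟩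
    | add u u' _ _ hu hu' =>
      obtain ⟨x, hx, hxu⟩ := hu
      obtain ⟨x', hx', hxu'⟩ := hu'
      exact ⟨x + x', add_mem hx hx', by rw [map_add, TensorProduct.tmul_add, hxu, hxu']⟩
    | smul c u _ hu =>
      obtain ⟨x, hx, hxu⟩ := hu
      obtain ⟨a, rfl⟩ := IsLocalRing.residue_surjective c
      exact ⟨a * x, Ideal.mul_mem_left _ _ hx, by rw [one_tmul_D_mul k R a x (hle hx), hxu]⟩
  apply le_antisymm hle
  apply Submodule.le_of_le_smul_of_le_jacobson_bot (I := maximalIdeal R)
    (IsNoetherian.noetherian _) (IsLocalRing.maximalIdeal_le_jacobson ⊥)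
  intro x hx
  have hxk : (1 : ResidueField R) ⊗ₜ[R] D k R x ∈
      LinearMap.ker (mapBaseChange k R (ResidueField R)) := by
    rw [LinearMap.mem_ker, pi_one_tmul_D, (residue_eq_zero_iff x).2 hx, map_zero]
  rw [← hNeq] at hxk
  obtain ⟨x₀, hx₀, hx₀x⟩ := hN _ hxk
  have hd : x - x₀ ∈ RingHom.ker (algebraMap R (ResidueField R)) := by
    rw [hker_eq R]; exact sub_mem hx (hle hx₀)
  have h0 : kerCotangentToTensor k R (ResidueField R) (Ideal.toCotangent _ ⟨x - x₀, hd⟩) = 0 := by
    rw [kerCotangentToTensor_toCotangent]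
    change (1 : ResidueField R) ⊗ₜ[R] D k R (x - x₀) = 0
    rw [map_sub, TensorProduct.tmul_sub, hx₀x, sub_self]
  have h1 := hinj (h0.trans (map_zero _).symm)
  rw [Ideal.toCotangent_eq_zero] at h1
  change x - x₀ ∈ _ at h1
  rw [hker_eq R, pow_two] at h1
  have : x = x₀ + (x - x₀) := by ring
  rw [this]
  exact Submodule.add_mem_sup hx₀ (by rwa [Ideal.smul_eq_mul])

/-- (Z) -/
theorem li_vv (hreg : IsRegularLocalRing R) (hr : ringKrullDim R = (r : WithBot ℕ∞))
    [Algebra.FormallySmooth k (ResidueField R)]
    (ht : Algebra.trdeg k (ResidueField R) = t) (hn : n = r + t)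
    (hsp : Submodule.span (ResidueField R) (Set.range (vv k R g)) = ⊤) :
    LinearIndependent (ResidueField R) (vv k R g) := by
  have hinj := Groth.Agent.Lib.helper25.NonSing.kerCotangentToTensor_injective_of_formallySmooth k R
  haveI : Module.Finite (ResidueField R) (ResidueField R ⊗[R] Ω[R⁄k]) :=
    Module.finite_def.mpr (hsp ▸ Submodule.fg_span (Set.finite_range _))
  have hW : Module.finrank (ResidueField R) (Ω[ResidueField R⁄k]) = t := by
    rw [Groth.Agent.Lib.helper25.SmoothDim.finrank_kaehler_eq_trdeg_of_formallySmooth, ht]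
    simp
  have hπ : Function.Surjective (mapBaseChange k R (ResidueField R)) :=
    KaehlerDifferential.mapBaseChange_surjective k R (ResidueField R) IsLocalRing.residue_surjective
  -- the κ-linear injection of the cotangent space
  let ι' : CotangentSpace R →ₗ[ResidueField R] ResidueField R ⊗[R] Ω[R⁄k] :=
    ((kerCotangentToTensor k R (ResidueField R)) ∘ₗ
      (Groth.Agent.Lib.helper25.RatPt.cotangentCongr R (hker_eq R)).symm.toLinearMap
      ).extendScalarsOfSurjective IsLocalRing.residue_surjective
  have hι'inj : Function.Injective ι' := by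
    intro a b hab
    exact (Groth.Agent.Lib.helper25.RatPt.cotangentCongr R (hker_eq R)).symm.injective (hinj hab)
  have hrange : LinearMap.range ι' = LinearMap.ker (mapBaseChange k R (ResidueField R)) := by
    ext y
    constructor
    · rintro ⟨c, rfl⟩
      exact (exact_kerCotangentToTensor_mapBaseChange k R (ResidueField R)
        IsLocalRing.residue_surjective _).2 ⟨_, rfl⟩
    · intro hy
      obtain ⟨c, hc⟩ := (exact_kerCotangentToTensor_mapBaseChange k R (ResidueField R)
        IsLocalRing.residue_surjective y).1 hy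
      exact ⟨Groth.Agent.Lib.helper25.RatPt.cotangentCongr R (hker_eq R) c, by
        change kerCotangentToTensor k R (ResidueField R)
          ((Groth.Agent.Lib.helper25.RatPt.cotangentCongr R (hker_eq R)).symm
            (Groth.Agent.Lib.helper25.RatPt.cotangentCongr R (hker_eq R) c)) = y
        rw [LinearEquiv.symm_apply_apply, hc]⟩
  have hcot : Module.finrank (ResidueField R) (CotangentSpace R) = r := by
    have := (IsRegularLocalRing.iff_finrank_cotangentSpace R).1 hreg
    rw [hr] at this
    exact_mod_cast this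
  have hker : Module.finrank (ResidueField R)
      (LinearMap.ker (mapBaseChange k R (ResidueField R))) = r := by
    rw [← hrange, LinearMap.finrank_range_of_inj hι'inj, hcot]
  have hV : Module.finrank (ResidueField R) (ResidueField R ⊗[R] Ω[R⁄k]) = n := by
    have := LinearMap.finrank_range_add_finrank_ker (mapBaseChange k R (ResidueField R))
    rw [LinearMap.range_eq_top.2 hπ, finrank_top, hW, hker] at this
    omega
  exact linearIndependent_of_top_le_span_of_card_eq_finrank hsp.ge (by rw [hV]; simp)

end YZ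

end Groth.Agent.Lib.helper25.Germs
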