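import Mathlib
import Groth.Agent.Lib.helper25.Germs2
import Groth.Agent.Lib.helper19.TowerSmooth
import Groth.Agent.Lib.helper6.SmoothRegPt

/-! Etale coordinates at a point (EGA IV 17.15.x) (helper25). -/

namespace Groth.Agent.Lib.helper25.Germs

set_option linter.style.haveILetI false
universe u
open IsLocalRing TensorProduct KaehlerDifferential

section bij
variable (k : Type u) [Field k] (n : ℕ) (R : Type u) [CommRing R] [IsLocalRing R] [Algebra k R]
  [Algebra (MvPolynomial (Fin n) k) R] [IsScalarTower k (MvPolynomial (Fin n) k) R]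

/-- images of the variables -/
noncomputable def gg (i : Fin n) : R := algebraMap (MvPolynomial (Fin n) k) R (MvPolynomial.X i)

theorem mapBaseChange_basis (i : Fin n) :
    mapBaseChange k (MvPolynomial (Fin n) k) R
      (((KaehlerDifferential.mvPolynomialBasis k (Fin n)).baseChange R) i) = D k R (gg k n R i) := by
  rw [Module.Basis.baseChange_apply, mapBaseChange_tmul, one_smul,
    KaehlerDifferential.mvPolynomialBasis_apply, KaehlerDifferential.map_D]
  rfl

theorem bij_iff [Module.Finite R (Ω[R⁄k])] [Module.Flat R (Ω[R⁄k])] :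
    Function.Bijective (mapBaseChange k (MvPolynomial (Fin n) k) R) ↔
      (LinearIndependent (ResidueField R) (vv k R (gg k n R)) ∧
        Submodule.span (ResidueField R) (Set.range (vv k R (gg k n R))) = ⊤) := by
  constructor
  · intro hbij
    let b₁ : Module.Basis (Fin n) R (Ω[R⁄k]) :=
      ((KaehlerDifferential.mvPolynomialBasis k (Fin n)).baseChange R).map
        (LinearEquiv.ofBijective _ hbij)
    have hb₁ : ∀ i, b₁ i = D k R (gg k n R i) := fun i => by
      rw [Module.Basis.map_apply]
      exact mapBaseChange_basis k n R i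
    let b₂ : Module.Basis (Fin n) (ResidueField R) (ResidueField R ⊗[R] Ω[R⁄k]) :=
      b₁.baseChange (ResidueField R)
    have hb₂ : ⇑b₂ = vv k R (gg k n R) := by
      funext i
      rw [Module.Basis.baseChange_apply, hb₁]
      rfl
    rw [← hb₂]
    exact ⟨b₂.linearIndependent, b₂.span_eq⟩
  · rintro ⟨hLI, hsp⟩
    have hLI' : LinearIndependent R (fun i => D k R (gg k n R i)) :=
      Module.IsLocalRing.linearIndependent_of_flat _ hLI
    have hsp' : Submodule.span R (Set.range fun i => D k R (gg k n R i)) = ⊤ :=
      IsLocalRing.span_eq_top_of_tmul_eq_basis _ (Module.Basis.mk hLI hsp.ge)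
        (fun i => by rw [Module.Basis.mk_apply]; rfl)
    let b₁ : Module.Basis (Fin n) R (Ω[R⁄k]) := Module.Basis.mk hLI' hsp'.ge
    let e := ((KaehlerDifferential.mvPolynomialBasis k (Fin n)).baseChange R).equiv b₁ (Equiv.refl _)
    have he : mapBaseChange k (MvPolynomial (Fin n) k) R = e.toLinearMap := by
      apply ((KaehlerDifferential.mvPolynomialBasis k (Fin n)).baseChange R).ext
      intro i
      rw [mapBaseChange_basis, LinearEquiv.coe_coe, Module.Basis.equiv_apply, Equiv.refl_apply,
        Module.Basis.mk_apply]
    rw [he]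
    exact e.bijective

end bij

section main
variable (k A : Type u) [Field k] [CommRing A] [Algebra k A] [Algebra.FiniteType k A] (n r : ℕ)
  [Algebra (MvPolynomial (Fin n) k) A] [IsScalarTower k (MvPolynomial (Fin n) k) A]
  (p : Ideal A) [p.IsPrime]

theorem S5026_aux
    (hn : FlatMor.localDim (PrimeSpectrum A) ⟨p, inferInstance⟩ = (n : WithBot ℕ∞))
    (hr : ringKrullDim (Localization.AtPrime p) = (r : WithBot ℕ∞))
    (hg : ∀ i : Fin n, (i : ℕ) < r → algebraMap (MvPolynomial (Fin n) k) A (MvPolynomial.X i) ∈ p) :
    Algebra.IsEtaleAt (MvPolynomial (Fin n) k) p ↔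
      Ideal.span ((fun i : Fin n =>
          algebraMap A (Localization.AtPrime p) (algebraMap (MvPolynomial (Fin n) k) A (MvPolynomial.X i))) ''
            {i : Fin n | (i : ℕ) < r}) = IsLocalRing.maximalIdeal (Localization.AtPrime p) ∧
        Submodule.span p.ResidueField ((fun i : Fin n =>
          KaehlerDifferential.D k p.ResidueField
            (IsLocalRing.residue (Localization.AtPrime p)
              (algebraMap A (Localization.AtPrime p) (algebraMap (MvPolynomial (Fin n) k) A (MvPolynomial.X i))))) ''
            {i : Fin n | r ≤ (i : ℕ)}) = ⊤ := by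
  haveI : Algebra.EssFiniteType k p.ResidueField :=
    Groth.Agent.Lib.helper25.OmegaDim.essFiniteType_residueField k A p
  haveI : Algebra.EssFiniteType A (Localization.AtPrime p) :=
    Algebra.EssFiniteType.of_isLocalization _ p.primeCompl
  haveI : Algebra.EssFiniteType k (Localization.AtPrime p) :=
    Algebra.EssFiniteType.comp k A (Localization.AtPrime p)
  obtain ⟨t, ht, -⟩ := Groth.Agent.Lib.helper25.OmegaDim.trdeg_residueField k A p
  have hnrt := nat_eq k A n r p hn hr t ht
  haveI : IsNoetherianRing A := Algebra.FiniteType.isNoetherianRing k A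
  have hgg : ∀ i, gg k n (Localization.AtPrime p) i =
      algebraMap A (Localization.AtPrime p)
        (algebraMap (MvPolynomial (Fin n) k) A (MvPolynomial.X i)) := fun i =>
    IsScalarTower.algebraMap_apply (MvPolynomial (Fin n) k) A (Localization.AtPrime p) _
  have hfun : (fun i : Fin n => algebraMap A (Localization.AtPrime p)
      (algebraMap (MvPolynomial (Fin n) k) A (MvPolynomial.X i))) = gg k n (Localization.AtPrime p) :=
    funext fun i => (hgg i).symm
  have hgm : ∀ i : Fin n, (i : ℕ) < r →
      gg k n (Localization.AtPrime p) i ∈ maximalIdeal (Localization.AtPrime p) := by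
    intro i hi
    rw [hgg]
    exact (IsLocalization.AtPrime.to_map_mem_maximal_iff (Localization.AtPrime p) p _).2 (hg i hi)
  have hRHS : (Ideal.span ((fun i : Fin n =>
          algebraMap A (Localization.AtPrime p) (algebraMap (MvPolynomial (Fin n) k) A (MvPolynomial.X i))) ''
            {i : Fin n | (i : ℕ) < r}) = IsLocalRing.maximalIdeal (Localization.AtPrime p) ∧
        Submodule.span p.ResidueField ((fun i : Fin n =>
          KaehlerDifferential.D k p.ResidueField
            (IsLocalRing.residue (Localization.AtPrime p)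
              (algebraMap A (Localization.AtPrime p) (algebraMap (MvPolynomial (Fin n) k) A (MvPolynomial.X i))))) ''
            {i : Fin n | r ≤ (i : ℕ)}) = ⊤) ↔
      (Ideal.span (gg k n (Localization.AtPrime p) '' {i : Fin n | (i : ℕ) < r}) =
          maximalIdeal (Localization.AtPrime p) ∧
        Submodule.span (ResidueField (Localization.AtPrime p))
          (ww k (Localization.AtPrime p) (gg k n (Localization.AtPrime p)) ''
            {i : Fin n | r ≤ (i : ℕ)}) = ⊤) := by
    rw [hfun]
    rfl
  rw [hRHS]
  constructor
  · intro het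
    haveI : Algebra.FormallyEtale (MvPolynomial (Fin n) k) (Localization.AtPrime p) := het
    haveI : Algebra.FormallySmooth (MvPolynomial (Fin n) k) (Localization.AtPrime p) :=
      (Algebra.FormallyEtale.iff_formallyUnramified_and_formallySmooth.mp het).2
    haveI : Algebra.FormallySmooth k (Localization.AtPrime p) :=
      Algebra.FormallySmooth.comp k (MvPolynomial (Fin n) k) (Localization.AtPrime p)
    haveI : Module.Flat (Localization.AtPrime p) (Ω[Localization.AtPrime p⁄k]) := inferInstance
    have hbij := ((Groth.Agent.Lib.helper19.TowerSmooth.etale_iff k (MvPolynomial (Fin n) k)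
      (Localization.AtPrime p)).1 ⟨het, inferInstance⟩).2
    obtain ⟨hLI, hsp⟩ := (bij_iff k n (Localization.AtPrime p)).1 hbij
    exact ⟨span_g_eq k (Localization.AtPrime p) r t _ hLI hsp hgm ht hnrt,
      span_ww_eq_top k (Localization.AtPrime p) r _ hsp hgm⟩
  · rintro ⟨h1, h2⟩
    obtain ⟨hreg, hred⟩ := (S5027_aux k A n r p hn hr).2
      ⟨gg k n (Localization.AtPrime p), h1, h2⟩
    haveI := hred
    haveI : Algebra.FormallySmooth k (Localization.AtPrime p) :=
      (Groth.Agent.Lib.helper6.SmoothRegPt.isSmoothAt_iff_isRegularLocalRing k A p).2 hreg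
    haveI : Algebra.FormallySmooth k (ResidueField (Localization.AtPrime p)) :=
      (Groth.Agent.Lib.helper25.Sep.formallySmooth_iff_isGeometricallyReduced).2 hred
    haveI : Module.Flat (Localization.AtPrime p) (Ω[Localization.AtPrime p⁄k]) := inferInstance
    have hsp := span_vv_eq_top k (Localization.AtPrime p) r _ h1 h2
    have hLI := li_vv k (Localization.AtPrime p) r t _ hreg hr ht hnrt hsp
    have hbij := (bij_iff k n (Localization.AtPrime p)).2 ⟨hLI, hsp⟩
    exact ((Groth.Agent.Lib.helper19.TowerSmooth.etale_iff k (MvPolynomial (Fin n) k)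
      (Localization.AtPrime p)).2 ⟨inferInstance, hbij⟩).1

end main

end Groth.Agent.Lib.helper25.Germs
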