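import Groth.Prelude.Def_Isoc
import Mathlib

/-!
# Isocrystals: scalars and lattice basics (helper25)
-/

set_option autoImplicit false
set_option linter.unusedSectionVars false
set_option linter.unusedVariables false
universe u v
open Isoc
open scoped Pointwise

namespace Groth.Agent.Lib.helper25.IsocA

variable {p : ℕ} [Fact p.Prime] {k : Type u} [Field k] [CharP k p] [PerfectRing k p]

local notation "W" => WittVector p k
local notation "L" => FractionRing (WittVector p k)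

/-- A twist preserving `W`. -/
def Good (τ : L →+* L) : Prop :=
  ∃ e : W ≃+* W, ∀ w, τ (algebraMap W L w) = algebraMap W L (e w)

theorem Good.one : Good (1 : L →+* L) := ⟨RingEquiv.refl _, fun w => rfl⟩

theorem good_frob (a : ℤ) : Good (frob p k a) :=
  ⟨WittVector.frobeniusEquiv p k ^ a, fun w => frob_algebraMap p k a w⟩

theorem Good.mul {τ τ' : L →+* L} (h : Good τ) (h' : Good τ') : Good (τ * τ') := by
  obtain ⟨e, he⟩ := h
  obtain ⟨e', he'⟩ := h'
  refine ⟨e'.trans e, fun w => ?_⟩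
  rw [RingHom.mul_def, RingHom.comp_apply, he', he]
  rfl

theorem Good.pow {τ : L →+* L} (h : Good τ) (n : ℕ) : Good (τ ^ n) := by
  induction n with
  | zero => rw [pow_zero]; exact Good.one
  | succ n ih => rw [pow_succ]; exact ih.mul h

theorem pL_ne_zero : (p : L) ≠ 0 := WittVector.FractionRing.p_nonzero p k

theorem pL_zpow_ne_zero (r : ℤ) : (p : L) ^ r ≠ 0 := zpow_ne_zero r pL_ne_zero

theorem map_p_zpow (τ : L →+* L) (r : ℤ) : τ ((p : L) ^ r) = (p : L) ^ r := by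
  rw [map_zpow₀, map_natCast]

theorem algebraMap_p_pow (n : ℕ) : algebraMap W L ((p : W) ^ n) = (p : L) ^ (n : ℤ) := by
  rw [map_pow, map_natCast, zpow_natCast]

theorem Good.exists_preimage {τ : L →+* L} (h : Good τ) (w : W) :
    ∃ w' : W, τ (algebraMap W L w') = algebraMap W L w := by
  obtain ⟨e, he⟩ := h
  exact ⟨e.symm w, by rw [he, RingEquiv.apply_symm_apply]⟩

theorem Good.exists_image {τ : L →+* L} (h : Good τ) (w : W) :
    ∃ w' : W, τ (algebraMap W L w) = algebraMap W L w' := by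
  obtain ⟨e, he⟩ := h
  exact ⟨e w, he w⟩

theorem Good.exists_unit_image {τ : L →+* L} (h : Good τ) (u : Wˣ) :
    ∃ u' : Wˣ, τ (algebraMap W L u) = algebraMap W L u' := by
  obtain ⟨e, he⟩ := h
  exact ⟨Units.map e.toRingHom.toMonoidHom u, he u⟩

/-- every element of `L` becomes integral after multiplying by a power of `p`. -/
theorem exists_pow_mul_eq (a : L) : ∃ (n : ℕ) (w : W), (p : L) ^ (n : ℤ) * a = algebraMap W L w := by
  obtain ⟨x, y, hy, rfl⟩ := IsFractionRing.div_surjective (A := W) a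
  have hy0 : y ≠ 0 := nonZeroDivisors.ne_zero hy
  obtain ⟨m, b, hb⟩ := WittVector.exists_eq_pow_p_mul' y hy0
  refine ⟨m, x * ((b⁻¹ : Wˣ) : W), ?_⟩
  have hyL : algebraMap W L y ≠ 0 := by
    intro h
    exact hy0 ((IsFractionRing.injective W L) (by rw [h, map_zero]))
  rw [zpow_natCast, mul_div_assoc', eq_comm, eq_div_iff hyL, hb]
  simp only [map_mul, map_pow, map_natCast]
  have : algebraMap W L ((b⁻¹ : Wˣ) : W) * algebraMap W L (b : W) = 1 := by
    rw [← map_mul, Units.inv_mul, map_one]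
  calc algebraMap W L x * algebraMap W L ((b⁻¹ : Wˣ) : W) * ((p : L) ^ m * algebraMap W L (b : W))
      = (p : L) ^ m * algebraMap W L x * (algebraMap W L ((b⁻¹ : Wˣ) : W) * algebraMap W L (b : W)) := by
        ring
    _ = (p : L) ^ m * algebraMap W L x := by rw [this, mul_one]

/-! ### `IsOrdP` -/

theorem IsOrdP.ne_zero {c : L} {r : ℤ} (h : IsOrdP c r) : c ≠ 0 := by
  obtain ⟨u, rfl⟩ := h
  refine mul_ne_zero (pL_zpow_ne_zero r) ?_
  intro h0
  have : (u : W) = 0 := (IsFractionRing.injective W L) (by rw [h0, map_zero])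
  exact u.ne_zero this

theorem IsOrdP.map {τ : L →+* L} (hτ : Good τ) {c : L} {r : ℤ} (h : IsOrdP c r) : IsOrdP (τ c) r := by
  obtain ⟨u, rfl⟩ := h
  obtain ⟨u', hu'⟩ := hτ.exists_unit_image u
  exact ⟨u', by rw [map_mul, map_p_zpow, hu']⟩

theorem IsOrdP.mul {c c' : L} {r r' : ℤ} (h : IsOrdP c r) (h' : IsOrdP c' r') :
    IsOrdP (c * c') (r + r') := by
  obtain ⟨u, rfl⟩ := h
  obtain ⟨u', rfl⟩ := h'
  refine ⟨u * u', ?_⟩
  rw [zpow_add₀ pL_ne_zero, Units.val_mul, map_mul]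
  ring

theorem isOrdP_one : IsOrdP (1 : L) 0 := ⟨1, by simp⟩

theorem isOrdP_p_zpow (r : ℤ) : IsOrdP ((p : L) ^ r) r := ⟨1, by simp⟩

theorem IsOrdP.pow {c : L} {r : ℤ} (h : IsOrdP c r) (n : ℕ) : IsOrdP (c ^ n) (n * r) := by
  induction n with
  | zero => simpa using isOrdP_one
  | succ n ih =>
    rw [pow_succ]
    have := IsOrdP.mul ih h
    convert this using 1
    push_cast; ring

theorem not_isUnit_pW : ¬ IsUnit (p : W) := (WittVector.irreducible p).not_isUnit

/-- if `p^d * unit = p^r * w` with `w` integral then `r ≤ d`. -/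
theorem IsOrdP.le_of_eq {c : L} {d r : ℤ} (h : IsOrdP c d) (w : W)
    (hw : c = (p : L) ^ r * algebraMap W L w) : r ≤ d := by
  obtain ⟨u, hu⟩ := h
  by_contra hlt
  rw [not_le] at hlt
  obtain ⟨n, hn⟩ : ∃ n : ℕ, r - d = n + 1 := ⟨(r - d - 1).toNat, by omega⟩
  have hr : r = d + ((n + 1 : ℕ) : ℤ) := by push_cast; omega
  rw [hu, hr, zpow_add₀ pL_ne_zero, mul_assoc] at hw
  have h2 := mul_left_cancel₀ (pL_zpow_ne_zero d) hw
  rw [← algebraMap_p_pow, ← map_mul] at h2
  have h3 : (u : W) = (p : W) ^ (n + 1) * w := IsFractionRing.injective W L h2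
  have : IsUnit ((p : W) ^ (n + 1) * w) := h3 ▸ u.isUnit
  have h4 : IsUnit ((p : W) ^ (n + 1)) := isUnit_of_mul_isUnit_left this
  rw [isUnit_pow_iff (by omega)] at h4
  exact not_isUnit_pW h4

theorem IsOrdP.unique {c : L} {r r' : ℤ} (h : IsOrdP c r) (h' : IsOrdP c r') : r = r' := by
  obtain ⟨u, hu⟩ := id h
  obtain ⟨u', hu'⟩ := id h'
  exact le_antisymm (IsOrdP.le_of_eq h' u hu) (IsOrdP.le_of_eq h u' hu')

theorem exists_isOrdP {c : L} (hc : c ≠ 0) : ∃ r : ℤ, IsOrdP c r := by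
  obtain ⟨x, y, hy, rfl⟩ := IsFractionRing.div_surjective (A := W) c
  have hy0 : y ≠ 0 := nonZeroDivisors.ne_zero hy
  have hx0 : x ≠ 0 := by
    rintro rfl
    simp at hc
  obtain ⟨m, b, hb⟩ := WittVector.exists_eq_pow_p_mul' y hy0
  obtain ⟨m', b', hb'⟩ := WittVector.exists_eq_pow_p_mul' x hx0
  have h1 : IsOrdP (algebraMap W L x) m' := ⟨b', by rw [hb', map_mul, map_pow, map_natCast, zpow_natCast]⟩
  have h2 : IsOrdP (algebraMap W L y)⁻¹ (-m) := by
    refine ⟨b⁻¹, ?_⟩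
    rw [hb, map_mul, map_pow, map_natCast, mul_inv, zpow_neg, zpow_natCast]
    congr 1
    rw [eq_comm, ← mul_eq_one_iff_eq_inv₀, ← map_mul, Units.inv_mul, map_one]
    intro h0
    exact b.ne_zero ((IsFractionRing.injective W L) (by rw [h0, map_zero]))
  refine ⟨m' + -m, ?_⟩
  rw [div_eq_mul_inv]
  exact IsOrdP.mul h1 h2

/-- integral elements of positive order. -/
theorem IsOrdP.algebraMap_nonneg {w : W} {r : ℤ} (h : IsOrdP (algebraMap W L w) r) : 0 ≤ r :=
  IsOrdP.le_of_eq h w (by simp)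

/-- an integral element of order zero is a unit. -/
theorem isUnit_of_isOrdP_zero {w : W} (h : IsOrdP (algebraMap W L w) 0) : IsUnit w := by
  obtain ⟨u, hu⟩ := h
  rw [zpow_zero, one_mul] at hu
  have : w = u := IsFractionRing.injective W L hu
  exact this ▸ u.isUnit

/-! ### `W`-submodules of `N` -/

section Lattice

variable {N : Type v} [AddCommGroup N] [Module (WittVector p k) N]
  [Module (FractionRing (WittVector p k)) N]
  [IsScalarTower (WittVector p k) (FractionRing (WittVector p k)) N]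

theorem algebraMap_smul' (w : W) (x : N) : (algebraMap W L w) • x = w • x :=
  algebraMap_smul L w x

theorem p_zpow_natCast_smul (n : ℕ) (x : N) : ((p : L) ^ (n : ℤ)) • x = ((p : W) ^ n) • x := by
  rw [← algebraMap_p_pow, algebraMap_smul']

theorem mem_pPow {r : ℤ} {M : Submodule W N} {x : N} :
    x ∈ pPow r M ↔ ((p : L) ^ (-r)) • x ∈ M := by
  unfold pPow
  rw [Submodule.mem_smul_pointwise_iff_exists]
  constructor
  · rintro ⟨y, hy, rfl⟩
    rw [smul_smul, ← zpow_add₀ pL_ne_zero, neg_add_cancel, zpow_zero, one_smul]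
    exact hy
  · intro h
    refine ⟨_, h, ?_⟩
    rw [smul_smul, ← zpow_add₀ pL_ne_zero, add_neg_cancel, zpow_zero, one_smul]

theorem smul_mem_pPow {r : ℤ} {M : Submodule W N} {x : N} (hx : x ∈ M) :
    ((p : L) ^ r) • x ∈ pPow r M := by
  rw [mem_pPow, smul_smul, ← zpow_add₀ pL_ne_zero, neg_add_cancel, zpow_zero, one_smul]
  exact hx

theorem pPow_zero (M : Submodule W N) : pPow 0 M = M := by
  ext x; rw [mem_pPow]; simp

theorem pPow_pPow (r s : ℤ) (M : Submodule W N) : pPow r (pPow s M) = pPow (r + s) M := by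
  ext x
  rw [mem_pPow, mem_pPow, mem_pPow, smul_smul, ← zpow_add₀ pL_ne_zero]
  congr! 3
  ring

theorem pPow_mono {r : ℤ} {M M' : Submodule W N} (h : M ≤ M') : pPow r M ≤ pPow r M' := by
  intro x hx
  rw [mem_pPow] at hx ⊢
  exact h hx

theorem pPow_le_pPow_iff {r : ℤ} {M M' : Submodule W N} : pPow r M ≤ pPow r M' ↔ M ≤ M' := by
  refine ⟨fun h => ?_, pPow_mono⟩
  have := pPow_mono (r := -r) h
  rwa [pPow_pPow, pPow_pPow, neg_add_cancel, pPow_zero, pPow_zero] at this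

theorem pPow_anti {r s : ℤ} (h : s ≤ r) (M : Submodule W N) : pPow r M ≤ pPow s M := by
  intro x hx
  rw [mem_pPow] at hx ⊢
  obtain ⟨n, hn⟩ : ∃ n : ℕ, r - s = n := ⟨(r - s).toNat, by omega⟩
  have : ((p : L) ^ (-s)) • x = ((p : W) ^ n) • (((p : L) ^ (-r)) • x) := by
    rw [← p_zpow_natCast_smul, smul_smul, ← zpow_add₀ pL_ne_zero]
    congr 2
    omega
  rw [this]
  exact M.smul_mem _ hx

theorem pPow_le_iff {r : ℤ} {M M' : Submodule W N} : pPow r M ≤ M' ↔ M ≤ pPow (-r) M' := by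
  rw [← pPow_le_pPow_iff (r := -r), pPow_pPow, neg_add_cancel, pPow_zero]

theorem le_pPow_iff {r : ℤ} {M M' : Submodule W N} : M ≤ pPow r M' ↔ pPow (-r) M ≤ M' := by
  rw [pPow_le_iff, neg_neg]

theorem pPow_bot (r : ℤ) : pPow r (⊥ : Submodule W N) = ⊥ := by
  ext x
  rw [mem_pPow, Submodule.mem_bot, Submodule.mem_bot, smul_eq_zero]
  simp [pL_zpow_ne_zero]

theorem pPow_sup (r : ℤ) (M M' : Submodule W N) : pPow r (M ⊔ M') = pPow r M ⊔ pPow r M' := by
  unfold pPow
  exact Submodule.smul_sup' _ _ _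

theorem pPow_inf (r : ℤ) (M M' : Submodule W N) : pPow r (M ⊓ M') = pPow r M ⊓ pPow r M' := by
  ext x
  simp only [mem_pPow, Submodule.mem_inf]

instance pPow_isLattice (r : ℤ) (M : Submodule W N) [hM : M.IsLattice L] : (pPow r M).IsLattice L := by
  have := Submodule.IsLattice.smul L M (Units.mk0 ((p : L) ^ r) (pL_zpow_ne_zero r))
  exact this

theorem isLattice_pPow {r : ℤ} {M : Submodule W N} (hM : M.IsLattice L) : (pPow r M).IsLattice L :=
  pPow_isLattice r M

/-! ### Nakayama-type facts -/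

theorem pW_mem_jacobson : Ideal.span {(p : W)} ≤ Ideal.jacobson (⊥ : Ideal W) := by
  rw [IsLocalRing.jacobson_eq_maximalIdeal (⊥ : Ideal W) bot_ne_top, Ideal.span_le,
    Set.singleton_subset_iff]
  exact (IsLocalRing.mem_maximalIdeal _).2 not_isUnit_pW

theorem pPow_one_le_smul (M : Submodule W N) : pPow 1 M ≤ Ideal.span {(p : W)} • M := by
  intro x hx
  rw [mem_pPow] at hx
  have : x = (p : W) • (((p : L) ^ (-1 : ℤ)) • x) := by
    rw [← algebraMap_smul' (p : W), smul_smul, map_natCast, zpow_neg_one, mul_inv_cancel₀ pL_ne_zero,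
      one_smul]
  rw [this]
  exact Submodule.smul_mem_smul (Ideal.mem_span_singleton_self _) hx

theorem eq_bot_of_le_pPow_one {M : Submodule W N} (hM : M.FG) (h : M ≤ pPow 1 M) : M = ⊥ :=
  Submodule.eq_bot_of_le_smul_of_le_jacobson_bot _ M hM (h.trans (pPow_one_le_smul M)) pW_mem_jacobson

theorem le_of_pPow_le_pPow {M : Submodule W N} (hM : M.FG) (hne : M ≠ ⊥) {r s : ℤ}
    (h : pPow r M ≤ pPow s M) : s ≤ r := by
  by_contra hlt
  rw [not_le] at hlt
  apply hne
  apply eq_bot_of_le_pPow_one hM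
  have h1 : pPow r M ≤ pPow (r + 1) M := h.trans (pPow_anti (by omega) M)
  have := pPow_mono (r := -r) h1
  rwa [pPow_pPow, pPow_pPow, neg_add_cancel, pPow_zero, neg_add_cancel_left] at this

/-- Krull intersection for f.g. submodules. -/
theorem eq_zero_of_forall_mem_pPow {M : Submodule W N} (hM : M.FG) {x : N}
    (hx : ∀ n : ℕ, x ∈ pPow n M) : x = 0 := by
  let Y : Submodule W N :=
    { carrier := {y | ∀ n : ℕ, y ∈ pPow n M}
      add_mem' := fun ha hb n => (pPow n M).add_mem (ha n) (hb n)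
      zero_mem' := fun n => (pPow n M).zero_mem
      smul_mem' := fun c y hy n => (pPow n M).smul_mem c (hy n) }
  have hYM : Y ≤ M := fun y hy => by simpa [pPow_zero] using hy 0
  have : IsNoetherianRing W := inferInstance
  have hMn : IsNoetherian W M := isNoetherian_of_fg_of_noetherian M hM
  have hYfg : Y.FG := by
    have : IsNoetherian W Y := isNoetherian_of_le hYM
    exact (Submodule.fg_top Y).1 (Module.Finite.fg_top) 
  have hY : Y ≤ pPow 1 Y := by
    intro y hy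
    rw [mem_pPow]
    intro n
    have := hy (n + 1)
    rw [mem_pPow] at this ⊢
    rw [smul_smul, ← zpow_add₀ pL_ne_zero]
    convert this using 2
    push_cast; ring_nf
  have hbot := eq_bot_of_le_pPow_one hYfg hY
  have : x ∈ Y := hx
  rw [hbot] at this
  exact this

/-! ### Commensurability -/

theorem exists_pow_smul_mem {M : Submodule W N} (hM : Submodule.span L (M : Set N) = ⊤) (x : N) :
    ∃ n : ℕ, ((p : W) ^ n) • x ∈ M := by
  have hx : x ∈ Submodule.span L (M : Set N) := by rw [hM]; trivial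
  induction hx using Submodule.span_induction with
  | mem x hx => exact ⟨0, by simpa using hx⟩
  | zero => exact ⟨0, by simp⟩
  | add x y _ _ hx hy =>
    obtain ⟨n₁, h₁⟩ := hx
    obtain ⟨n₂, h₂⟩ := hy
    refine ⟨n₁ + n₂, ?_⟩
    rw [smul_add]
    refine M.add_mem ?_ ?_
    · rw [pow_add, mul_comm, mul_smul]; exact M.smul_mem _ h₁
    · rw [pow_add, mul_smul]; exact M.smul_mem _ h₂
  | smul c x _ hx =>
    obtain ⟨n, hn⟩ := hx
    obtain ⟨m, w, hw⟩ := exists_pow_mul_eq (p := p) (k := k) c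
    refine ⟨m + n, ?_⟩
    have : ((p : W) ^ (m + n)) • (c • x) = w • (((p : W) ^ n) • x) := by
      rw [← algebraMap_smul' w, ← hw, ← p_zpow_natCast_smul, ← p_zpow_natCast_smul, smul_smul, smul_smul]
      congr 1
      push_cast
      rw [zpow_add₀ pL_ne_zero]
      ring
    rw [this]
    exact M.smul_mem _ hn

theorem exists_pPow_le {M₁ M₂ : Submodule W N} (h₁ : M₁.FG)
    (h₂ : Submodule.span L (M₂ : Set N) = ⊤) : ∃ c : ℕ, pPow c M₁ ≤ M₂ := by
  obtain ⟨S, rfl⟩ := h₁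
  choose f hf using exists_pow_smul_mem h₂
  refine ⟨S.sup f, ?_⟩
  rw [pPow_le_iff, Submodule.span_le]
  intro x hx
  rw [SetLike.mem_coe, mem_pPow, neg_neg, p_zpow_natCast_smul]
  have hle : f x ≤ S.sup f := Finset.le_sup hx
  obtain ⟨d, hd⟩ := Nat.exists_eq_add_of_le hle
  rw [hd, pow_add, mul_comm, mul_smul]
  exact M₂.smul_mem _ (hf x)

theorem exists_pow_smul_mem' {M : Submodule W N} {x : N}
    (hx : x ∈ Submodule.span L (M : Set N)) : ∃ n : ℕ, ((p : W) ^ n) • x ∈ M := by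
  induction hx using Submodule.span_induction with
  | mem x hx => exact ⟨0, by simpa using hx⟩
  | zero => exact ⟨0, by simp⟩
  | add x y _ _ hx hy =>
    obtain ⟨n₁, h₁⟩ := hx
    obtain ⟨n₂, h₂⟩ := hy
    refine ⟨n₁ + n₂, ?_⟩
    rw [smul_add]
    refine M.add_mem ?_ ?_
    · rw [pow_add, mul_comm, mul_smul]; exact M.smul_mem _ h₁
    · rw [pow_add, mul_smul]; exact M.smul_mem _ h₂
  | smul c x _ hx =>
    obtain ⟨n, hn⟩ := hx
    obtain ⟨m, w, hw⟩ := exists_pow_mul_eq (p := p) (k := k) c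
    refine ⟨m + n, ?_⟩
    have : ((p : W) ^ (m + n)) • (c • x) = w • (((p : W) ^ n) • x) := by
      rw [← algebraMap_smul' w, ← hw, ← p_zpow_natCast_smul, ← p_zpow_natCast_smul, smul_smul, smul_smul]
      congr 1
      push_cast
      rw [zpow_add₀ pL_ne_zero]
      ring
    rw [this]
    exact M.smul_mem _ hn

theorem exists_pPow_le' {M₁ M₂ : Submodule W N} (h₁ : M₁.FG)
    (h₂ : ∀ x ∈ M₁, x ∈ Submodule.span L (M₂ : Set N)) : ∃ c : ℕ, pPow c M₁ ≤ M₂ := by
  obtain ⟨S, rfl⟩ := h₁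
  have hS : ∀ x : S, ∃ n : ℕ, ((p : W) ^ n) • (x : N) ∈ M₂ := fun x =>
    exists_pow_smul_mem' (h₂ _ (Submodule.subset_span x.2))
  choose f hf using hS
  refine ⟨Finset.univ.sup f, ?_⟩
  rw [pPow_le_iff, Submodule.span_le]
  intro x hx
  rw [SetLike.mem_coe, mem_pPow, neg_neg, p_zpow_natCast_smul]
  have hle : f ⟨x, hx⟩ ≤ Finset.univ.sup f := Finset.le_sup (Finset.mem_univ _)
  obtain ⟨d, hd⟩ := Nat.exists_eq_add_of_le hle
  rw [hd, pow_add, mul_comm, mul_smul]
  exact M₂.smul_mem _ (hf ⟨x, hx⟩)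

/-! ### Images under semilinear maps -/

section Semilinear

variable {τ : FractionRing (WittVector p k) →+* FractionRing (WittVector p k)}

theorem iter_smul (F : N →ₛₗ[τ] N) (s : ℕ) (c : L) (x : N) :
    (⇑F)^[s] (c • x) = (τ ^ s) c • (⇑F)^[s] x :=
  (iter F s).map_smulₛₗ c x

theorem iter_add (F : N →ₛₗ[τ] N) (s : ℕ) (x y : N) :
    (⇑F)^[s] (x + y) = (⇑F)^[s] x + (⇑F)^[s] y :=
  (iter F s).map_add x y

theorem iter_zero' (F : N →ₛₗ[τ] N) (s : ℕ) : (⇑F)^[s] (0 : N) = 0 :=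
  (iter F s).map_zero

theorem iter_p_smul (F : N →ₛₗ[τ] N) (s : ℕ) (r : ℤ) (x : N) :
    (⇑F)^[s] (((p : L) ^ r) • x) = ((p : L) ^ r) • (⇑F)^[s] x := by
  rw [iter_smul, map_p_zpow]

/-- the image of a `W`-submodule under `F^s`, as a `W`-submodule. -/
def imgSub (hτ : Good τ) (F : N →ₛₗ[τ] N) (s : ℕ) (M : Submodule W N) : Submodule W N where
  carrier := (⇑F)^[s] '' (M : Set N)
  add_mem' := by
    rintro _ _ ⟨x, hx, rfl⟩ ⟨y, hy, rfl⟩
    exact ⟨x + y, M.add_mem hx hy, iter_add F s x y⟩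
  zero_mem' := ⟨0, M.zero_mem, iter_zero' F s⟩
  smul_mem' := by
    rintro w _ ⟨x, hx, rfl⟩
    obtain ⟨w', hw'⟩ := (hτ.pow s).exists_preimage w
    refine ⟨w' • x, M.smul_mem _ hx, ?_⟩
    rw [← algebraMap_smul' w', iter_smul, hw', algebraMap_smul']

theorem latImg_eq_imgSub (hτ : Good τ) (F : N →ₛₗ[τ] N) (s : ℕ) (M : Submodule W N) :
    latImg F s M = imgSub hτ F s M := by
  unfold latImg
  exact Submodule.span_eq (imgSub hτ F s M)

theorem mem_latImg (hτ : Good τ) {F : N →ₛₗ[τ] N} {s : ℕ} {M : Submodule W N} {y : N} :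
    y ∈ latImg F s M ↔ ∃ x ∈ M, (⇑F)^[s] x = y := by
  rw [latImg_eq_imgSub hτ]
  rfl

theorem iter_mem_latImg {F : N →ₛₗ[τ] N} {s : ℕ} {M : Submodule W N} {x : N} (hx : x ∈ M) :
    (⇑F)^[s] x ∈ latImg F s M :=
  Submodule.subset_span ⟨x, hx, rfl⟩

theorem latImg_mono {F : N →ₛₗ[τ] N} {s : ℕ} {M M' : Submodule W N} (h : M ≤ M') :
    latImg F s M ≤ latImg F s M' :=
  Submodule.span_mono (Set.image_mono h)

theorem latImg_zero (F : N →ₛₗ[τ] N) (M : Submodule W N) : latImg F 0 M = M := by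
  unfold latImg
  simp

theorem latImg_add (hτ : Good τ) (F : N →ₛₗ[τ] N) (s t : ℕ) (M : Submodule W N) :
    latImg F (s + t) M = latImg F s (latImg F t M) := by
  ext y
  rw [mem_latImg hτ, mem_latImg hτ]
  constructor
  · rintro ⟨x, hx, rfl⟩
    exact ⟨(⇑F)^[t] x, iter_mem_latImg hx, by rw [Function.iterate_add_apply]⟩
  · rintro ⟨z, hz, rfl⟩
    obtain ⟨x, hx, rfl⟩ := (mem_latImg hτ).1 hz
    exact ⟨x, hx, by rw [Function.iterate_add_apply]⟩

theorem latImg_pPow (hτ : Good τ) (F : N →ₛₗ[τ] N) (s : ℕ) (r : ℤ) (M : Submodule W N) :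
    latImg F s (pPow r M) = pPow r (latImg F s M) := by
  ext y
  rw [mem_latImg hτ, mem_pPow, mem_latImg hτ]
  constructor
  · rintro ⟨x, hx, rfl⟩
    rw [mem_pPow] at hx
    exact ⟨_, hx, iter_p_smul F s _ x⟩
  · rintro ⟨x, hx, hxy⟩
    refine ⟨((p : L) ^ r) • x, smul_mem_pPow hx, ?_⟩
    rw [iter_p_smul, hxy, smul_smul, ← zpow_add₀ pL_ne_zero, add_neg_cancel, zpow_zero, one_smul]

theorem latImg_sup (hτ : Good τ) (F : N →ₛₗ[τ] N) (s : ℕ) (M M' : Submodule W N) :
    latImg F s (M ⊔ M') = latImg F s M ⊔ latImg F s M' := by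
  apply le_antisymm
  · intro y hy
    obtain ⟨x, hx, rfl⟩ := (mem_latImg hτ).1 hy
    obtain ⟨a, ha, b, hb, rfl⟩ := Submodule.mem_sup.1 hx
    rw [iter_add]
    exact Submodule.add_mem_sup (iter_mem_latImg ha) (iter_mem_latImg hb)
  · exact sup_le (latImg_mono le_sup_left) (latImg_mono le_sup_right)

theorem latImg_le_iff (hτ : Good τ) {F : N →ₛₗ[τ] N} {s : ℕ} {M M' : Submodule W N} :
    latImg F s M ≤ M' ↔ ∀ x ∈ M, (⇑F)^[s] x ∈ M' := by
  constructor
  · intro h x hx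
    exact h (iter_mem_latImg hx)
  · intro h y hy
    obtain ⟨x, hx, rfl⟩ := (mem_latImg hτ).1 hy
    exact h x hx

theorem latImg_span (hτ : Good τ) (F : N →ₛₗ[τ] N) (s : ℕ) (S : Set N) :
    latImg F s (Submodule.span W S) = Submodule.span W ((⇑F)^[s] '' S) := by
  apply le_antisymm
  · rw [latImg_le_iff hτ]
    intro x hx
    induction hx using Submodule.span_induction with
    | mem x hx => exact Submodule.subset_span ⟨x, hx, rfl⟩
    | zero => rw [iter_zero']; exact Submodule.zero_mem _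
    | add x y _ _ hx hy => rw [iter_add]; exact Submodule.add_mem _ hx hy
    | smul w x _ hx =>
      obtain ⟨w', hw'⟩ := (hτ.pow s).exists_image w
      rw [← algebraMap_smul' w, iter_smul, hw', algebraMap_smul']
      exact Submodule.smul_mem _ _ hx
  · rw [Submodule.span_le]
    rintro _ ⟨x, hx, rfl⟩
    exact iter_mem_latImg (Submodule.subset_span hx)

theorem latImg_fg (hτ : Good τ) (F : N →ₛₗ[τ] N) (s : ℕ) {M : Submodule W N} (hM : M.FG) :
    (latImg F s M).FG := by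
  obtain ⟨S, rfl⟩ := hM
  rw [latImg_span hτ]
  exact Submodule.fg_span (Set.Finite.image _ S.finite_toSet)

theorem iterate_bijective {F : N →ₛₗ[τ] N} (hF : Function.Bijective F) (s : ℕ) :
    Function.Bijective ((⇑F)^[s]) :=
  Function.Bijective.iterate hF s

theorem latImg_isLattice (hτ : Good τ) {F : N →ₛₗ[τ] N} (hF : Function.Bijective F) (s : ℕ)
    {M : Submodule W N} (hM : M.IsLattice L) : (latImg F s M).IsLattice L where
  fg := latImg_fg hτ F s hM.fg
  span_eq_top := by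
    rw [eq_top_iff]
    intro y _
    obtain ⟨x, rfl⟩ := (iterate_bijective hF s).surjective y
    have hx : x ∈ Submodule.span L (M : Set N) := by rw [hM.span_eq_top]; trivial
    induction hx using Submodule.span_induction with
    | mem x hx => exact Submodule.subset_span (iter_mem_latImg hx)
    | zero => rw [iter_zero']; exact Submodule.zero_mem _
    | add x y _ _ hx hy => rw [iter_add]; exact Submodule.add_mem _ (hx trivial) (hy trivial)
    | smul c x _ hx => rw [iter_smul]; exact Submodule.smul_mem _ _ (hx trivial)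

theorem latImg_le_latImg_iff (hτ : Good τ) {F : N →ₛₗ[τ] N} (hF : Function.Bijective F) {s : ℕ}
    {M M' : Submodule W N} : latImg F s M ≤ latImg F s M' ↔ M ≤ M' := by
  refine ⟨fun h x hx => ?_, latImg_mono⟩
  obtain ⟨x', hx', hxx'⟩ := (mem_latImg hτ).1 (h (iter_mem_latImg hx))
  rw [← (iterate_bijective hF s).injective hxx']
  exact hx'

theorem latImg_le_latImg_iff' (hτ : Good τ) {F : N →ₛₗ[τ] N} (hF : Function.Injective F) {s : ℕ}
    {M M' : Submodule W N} : latImg F s M ≤ latImg F s M' ↔ M ≤ M' := by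
  refine ⟨fun h x hx => ?_, latImg_mono⟩
  obtain ⟨x', hx', hxx'⟩ := (mem_latImg hτ).1 (h (iter_mem_latImg hx))
  rw [← (Function.Injective.iterate hF s) hxx']
  exact hx'

theorem latImg_eq_bot_iff (hτ : Good τ) {F : N →ₛₗ[τ] N} (hF : Function.Bijective F) {s : ℕ}
    {M : Submodule W N} : latImg F s M = ⊥ ↔ M = ⊥ := by
  rw [eq_bot_iff, eq_bot_iff]
  have : latImg F s (⊥ : Submodule W N) = ⊥ := by
    rw [eq_bot_iff]
    intro y hy
    obtain ⟨x, hx, rfl⟩ := (mem_latImg hτ).1 hy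
    rw [Submodule.mem_bot] at hx
    rw [hx, iter_zero']
    exact Submodule.zero_mem _
  conv_lhs => rw [← this, latImg_le_latImg_iff hτ hF]

/-! ### Orders -/

theorem IsOrd.le_of_le {M : Submodule W N} {F : N →ₛₗ[τ] N} {s : ℕ} {r r' : ℤ}
    (h : IsOrd M F s r) (h' : latImg F s M ≤ pPow r' M) : r' ≤ r := by
  by_contra hlt
  rw [not_le] at hlt
  exact h.2 (h'.trans (pPow_anti (by omega) M))

theorem IsOrd.unique {M : Submodule W N} {F : N →ₛₗ[τ] N} {s : ℕ} {r r' : ℤ}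
    (h : IsOrd M F s r) (h' : IsOrd M F s r') : r = r' :=
  le_antisymm (IsOrd.le_of_le h' h.1) (IsOrd.le_of_le h h'.1)

theorem IsOrd.ne_bot {M : Submodule W N} {F : N →ₛₗ[τ] N} {s : ℕ} {r : ℤ}
    (h : IsOrd M F s r) : M ≠ ⊥ := by
  rintro rfl
  apply h.2
  unfold latImg
  rw [Submodule.span_le]
  rintro _ ⟨x, hx, rfl⟩
  rw [SetLike.mem_coe, Submodule.mem_bot] at hx
  rw [hx, iter_zero']
  exact Submodule.zero_mem _

theorem exists_isOrd (hτ : Good τ) {F : N →ₛₗ[τ] N} (hF : Function.Bijective F)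
    {M : Submodule W N} (hM : M.IsLattice L) (hne : M ≠ ⊥) (s : ℕ) : ∃ r : ℤ, IsOrd M F s r := by
  have hM' := latImg_isLattice hτ hF s hM
  have hne' : latImg F s M ≠ ⊥ := fun h => hne ((latImg_eq_bot_iff hτ hF).1 h)
  obtain ⟨c₁, hc₁⟩ := exists_pPow_le hM'.fg hM.span_eq_top
  obtain ⟨c₂, hc₂⟩ := exists_pPow_le hM.fg hM'.span_eq_top
  have hbdd : ∃ b : ℤ, ∀ z : ℤ, latImg F s M ≤ pPow z M → z ≤ b := by
    refine ⟨c₂, fun z hz => ?_⟩
    have h1 : pPow c₂ M ≤ pPow z M := hc₂.trans hz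
    exact le_of_pPow_le_pPow hM.fg hne h1
  have hex : ∃ z : ℤ, latImg F s M ≤ pPow z M := ⟨-c₁, by rwa [le_pPow_iff, neg_neg]⟩
  obtain ⟨r, hr, hmax⟩ := Int.exists_greatest_of_bdd hbdd hex
  refine ⟨r, hr, fun h => ?_⟩
  have := hmax _ h
  omega

theorem isOrd_compare (hτ : Good τ) (F : N →ₛₗ[τ] N) {M₁ M₂ : Submodule W N}
    (h₁ : M₁.IsLattice L) (h₂ : M₂.IsLattice L) :
    ∃ C : ℕ, ∀ (n : ℕ) (r₁ r₂ : ℤ), IsOrd M₁ F n r₁ → IsOrd M₂ F n r₂ → r₁ - C ≤ r₂ := by
  obtain ⟨c, hc⟩ := exists_pPow_le h₁.fg h₂.span_eq_top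
  obtain ⟨c', hc'⟩ := exists_pPow_le h₂.fg h₁.span_eq_top
  refine ⟨c + c', fun n r₁ r₂ ho₁ ho₂ => ?_⟩
  have e1 : M₂ ≤ pPow (-(c' : ℤ)) M₁ := by rwa [le_pPow_iff, neg_neg]
  have e2 : latImg F n M₂ ≤ pPow (r₁ - ((c + c' : ℕ) : ℤ)) M₂ := by
    calc latImg F n M₂ ≤ latImg F n (pPow (-(c' : ℤ)) M₁) := latImg_mono e1
      _ = pPow (-(c' : ℤ)) (latImg F n M₁) := latImg_pPow hτ F n _ M₁
      _ ≤ pPow (-(c' : ℤ)) (pPow r₁ M₁) := pPow_mono ho₁.1
      _ = pPow (-(c' : ℤ) + r₁ + -(c : ℤ)) (pPow c M₁) := by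
          rw [pPow_pPow, pPow_pPow]; congr 1; ring
      _ ≤ pPow (-(c' : ℤ) + r₁ + -(c : ℤ)) M₂ := pPow_mono hc
      _ = pPow (r₁ - ((c + c' : ℕ) : ℤ)) M₂ := by congr 1; push_cast; ring
  exact IsOrd.le_of_le ho₂ e2

theorem latImg_mul_of_eq (hτ : Good τ) {F : N →ₛₗ[τ] N} {s : ℕ} {r : ℤ} {M : Submodule W N}
    (h : latImg F s M = pPow r M) (m : ℕ) : latImg F (s * m) M = pPow (r * m) M := by
  induction m with
  | zero => simp [latImg_zero, pPow_zero]
  | succ m ih =>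
    rw [Nat.mul_succ, add_comm, latImg_add hτ, ih, latImg_pPow hτ, h, pPow_pPow]
    congr 1
    push_cast; ring

theorem latImg_mul_le_of_le (hτ : Good τ) {F : N →ₛₗ[τ] N} {s : ℕ} {r : ℤ} {M : Submodule W N}
    (h : latImg F s M ≤ pPow r M) (m : ℕ) : latImg F (s * m) M ≤ pPow (r * m) M := by
  induction m with
  | zero => simp [latImg_zero, pPow_zero]
  | succ m ih =>
    rw [Nat.mul_succ, add_comm, latImg_add hτ]
    calc latImg F s (latImg F (s * m) M) ≤ latImg F s (pPow (r * m) M) := latImg_mono ih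
      _ = pPow (r * m) (latImg F s M) := latImg_pPow hτ _ _ _ _
      _ ≤ pPow (r * m) (pPow r M) := pPow_mono h
      _ = pPow (r * (m + 1 : ℕ)) M := by rw [pPow_pPow]; congr 1; push_cast; ring

theorem eq_bot_of_forall_le_pPow {Y M : Submodule W N} (hM : M.FG) (h : ∀ m : ℕ, Y ≤ pPow m M) :
    Y = ⊥ := by
  rw [eq_bot_iff]
  intro y hy
  rw [Submodule.mem_bot]
  exact eq_zero_of_forall_mem_pPow hM (fun n => h n hy)

/-! ### Inverse of a bijective semilinear map -/

theorem Good.bijective (hτ : Good τ) : Function.Bijective τ := by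
  refine ⟨τ.injective, fun y => ?_⟩
  obtain ⟨a, b, hb, rfl⟩ := IsFractionRing.div_surjective (A := W) y
  obtain ⟨a', ha'⟩ := hτ.exists_preimage a
  obtain ⟨b', hb'⟩ := hτ.exists_preimage b
  exact ⟨algebraMap W L a' / algebraMap W L b', by rw [map_div₀, ha', hb']⟩

theorem exists_inverse (hτ : Good τ) (F : N →ₛₗ[τ] N) (hF : Function.Bijective F) :
    ∃ (τ' : L →+* L) (_ : Good τ') (G : N →ₛₗ[τ'] N), (∀ x, G (F x) = x) ∧ (∀ x, F (G x) = x) := by
  let τe : L ≃+* L := RingEquiv.ofBijective τ hτ.bijective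
  have hτe : ∀ c, τ (τe.symm c) = c := fun c => τe.apply_symm_apply c
  let Fe : N ≃ N := Equiv.ofBijective F hF
  have hFe : ∀ x, F (Fe.symm x) = x := fun x => Fe.apply_symm_apply x
  have hFe' : ∀ x, Fe.symm (F x) = x := fun x => Fe.symm_apply_apply x
  refine ⟨τe.symm.toRingHom, ?_, ?_⟩
  · obtain ⟨e, he⟩ := hτ
    refine ⟨e.symm, fun w => ?_⟩
    apply τ.injective
    show τ (τe.symm _) = _
    rw [hτe, he, RingEquiv.apply_symm_apply]
  · refine ⟨{ toFun := Fe.symm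
              map_add' := fun x y => ?_
              map_smul' := fun c x => ?_ }, hFe', hFe⟩
    · apply hF.injective
      rw [hFe, map_add, hFe, hFe]
    · apply hF.injective
      rw [hFe, map_smulₛₗ, hFe]
      show c • x = τ (τe.symm c) • x
      rw [hτe]

theorem iterate_inverse {F G : N → N} (h : ∀ x, G (F x) = x) (s : ℕ) (x : N) :
    G^[s] (F^[s] x) = x :=
  Function.LeftInverse.iterate h s x

end Semilinear

end Lattice

end Groth.Agent.Lib.helper25.IsocA
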