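import Groth.Agent.Lib.helper25.IsocA

/-!
# Isocrystals: determinants of semilinear maps (helper25)
-/

set_option autoImplicit false
set_option linter.unusedSectionVars false
set_option linter.unusedVariables false
universe u v w
open Isoc
open scoped Pointwise

namespace Groth.Agent.Lib.helper25.IsocB

open Groth.Agent.Lib.helper25.IsocA

variable {p : ℕ} [Fact p.Prime] {k : Type u} [Field k] [CharP k p] [PerfectRing k p]

local notation "W" => WittVector p k
local notation "L" => FractionRing (WittVector p k)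

variable {N : Type v} [AddCommGroup N] [Module (WittVector p k) N]
  [Module (FractionRing (WittVector p k)) N]
  [IsScalarTower (WittVector p k) (FractionRing (WittVector p k)) N]
variable {τ : FractionRing (WittVector p k) →+* FractionRing (WittVector p k)}
variable {n : ℕ}

/-- the matrix of a function in a basis. -/
noncomputable def matf (b : Module.Basis (Fin n) L N) (g : N → N) : Matrix (Fin n) (Fin n) L :=
  Matrix.of fun i j => b.repr (g (b j)) i

theorem matf_apply (b : Module.Basis (Fin n) L N) (g : N → N) (i j : Fin n) :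
    matf b g i j = b.repr (g (b j)) i := rfl

theorem detCoeff_eq (b : Module.Basis (Fin n) L N) (F : N →ₛₗ[τ] N) :
    detCoeff b F = (matf b F).det := rfl

theorem repr_apply (b : Module.Basis (Fin n) L N) (F : N →ₛₗ[τ] N) (x : N) (i : Fin n) :
    b.repr (F x) i = ∑ j, matf b F i j * τ (b.repr x j) := by
  conv_lhs => rw [← b.sum_repr x]
  rw [map_sum, map_sum, Finsupp.coe_finsetSum, Finset.sum_apply]
  apply Finset.sum_congr rfl
  intro j _
  rw [map_smulₛₗ, map_smul, Finsupp.smul_apply, smul_eq_mul, mul_comm]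
  rfl

theorem matf_comp (b : Module.Basis (Fin n) L N) (F : N →ₛₗ[τ] N) (g : N → N) :
    matf b (F ∘ g) = matf b F * (matf b g).map τ := by
  ext i j
  rw [matf_apply, Function.comp_apply, repr_apply, Matrix.mul_apply]
  rfl

theorem matf_id (b : Module.Basis (Fin n) L N) : matf b id = 1 := by
  ext i j
  rw [matf_apply, id, Module.Basis.repr_self, Finsupp.single_apply, Matrix.one_apply]
  simp [eq_comm]

theorem det_matf_comp (b : Module.Basis (Fin n) L N) (F : N →ₛₗ[τ] N) (g : N → N) :
    (matf b (F ∘ g)).det = (matf b F).det * τ (matf b g).det := by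
  rw [matf_comp, Matrix.det_mul, RingHom.map_det]
  rfl

theorem isOrdP_det_iterate (hτ : Good τ) (b : Module.Basis (Fin n) L N) (F : N →ₛₗ[τ] N) {d : ℤ}
    (hd : IsOrdP (detCoeff b F) d) (s : ℕ) : IsOrdP (matf b ((⇑F)^[s])).det (s * d) := by
  induction s with
  | zero =>
    rw [Function.iterate_zero, matf_id, Matrix.det_one]
    simpa using isOrdP_one (p := p) (k := k)
  | succ s ih =>
    rw [Function.iterate_succ', det_matf_comp]
    have := IsOrdP.mul hd (IsOrdP.map hτ ih)
    rw [detCoeff_eq] at this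
    convert this using 1
    push_cast; ring

theorem IsOrdP.inv {c : L} {r : ℤ} (h : IsOrdP c r) : IsOrdP c⁻¹ (-r) := by
  obtain ⟨u, rfl⟩ := h
  refine ⟨u⁻¹, ?_⟩
  rw [mul_inv, zpow_neg]
  congr 1
  rw [eq_comm, ← mul_eq_one_iff_eq_inv₀, ← map_mul, Units.inv_mul, map_one]
  intro h0
  exact u.ne_zero ((IsFractionRing.injective W L) (by rw [h0, map_zero]))

theorem IsOrdP.of_mul_left {c c' : L} {e d : ℤ} (hc : IsOrdP c e) (h : IsOrdP (c * c') (e + d)) :
    IsOrdP c' d := by
  have h1 := IsOrdP.mul (IsOrdP.inv hc) h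
  have hc0 := IsOrdP.ne_zero hc
  rw [← mul_assoc, inv_mul_cancel₀ hc0, one_mul] at h1
  convert h1 using 1
  ring

/-- independence of the basis. -/
theorem isOrdP_detCoeff_basis (hτ : Good τ) (b b' : Module.Basis (Fin n) L N) (F : N →ₛₗ[τ] N)
    {d : ℤ} (hd : IsOrdP (detCoeff b F) d) : IsOrdP (detCoeff b' F) d := by
  set P := b.toMatrix b' with hP
  have key : P * matf b' F = matf b F * P.map τ := by
    ext l j
    rw [Matrix.mul_apply, Matrix.mul_apply]
    have h1 : ∑ m, P l m * matf b' F m j = b.repr (F (b' j)) l := by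
      conv_rhs => rw [← b'.sum_repr (F (b' j))]
      rw [map_sum, Finsupp.coe_finsetSum, Finset.sum_apply]
      apply Finset.sum_congr rfl
      intro m _
      rw [map_smul, Finsupp.smul_apply, smul_eq_mul, mul_comm]
      rfl
    rw [h1, repr_apply]
    rfl
  have hdet : P.det * (matf b' F).det = (matf b F).det * τ P.det := by
    rw [← Matrix.det_mul, key, Matrix.det_mul, RingHom.map_det]
    rfl
  have hP0 : P.det ≠ 0 := by
    have h1 : P * b'.toMatrix b = 1 := Module.Basis.toMatrix_mul_toMatrix_flip b b'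
    intro h0
    have := congrArg Matrix.det h1
    rw [Matrix.det_mul, h0, zero_mul, Matrix.det_one] at this
    exact zero_ne_one this
  obtain ⟨e, he⟩ := exists_isOrdP (p := p) (k := k) hP0
  have h2 : IsOrdP (P.det * (matf b' F).det) (e + d) := by
    rw [hdet, add_comm]
    exact IsOrdP.mul hd (IsOrdP.map hτ he)
  exact IsOrdP.of_mul_left he h2

/-! ### Bases adapted to a lattice -/

/-- an `L`-basis of `N` which is a `W`-basis of the lattice `M`. -/
structure Adapted (M : Submodule W N) (n : ℕ) where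
  e : Module.Basis (Fin n) L N
  mem : ∀ i, e i ∈ M
  repr_int : ∀ x ∈ M, ∀ i, ∃ w : W, e.repr x i = algebraMap W L w

theorem Adapted.mem_of_repr {M : Submodule W N} (A : Adapted M n) {x : N}
    (hx : ∀ i, ∃ w : W, A.e.repr x i = algebraMap W L w) : x ∈ M := by
  choose w hw using hx
  rw [← A.e.sum_repr x]
  apply Submodule.sum_mem
  intro i _
  rw [hw, algebraMap_smul']
  exact M.smul_mem _ (A.mem i)

theorem Adapted.mem_iff {M : Submodule W N} (A : Adapted M n) {x : N} :
    x ∈ M ↔ ∀ i, ∃ w : W, A.e.repr x i = algebraMap W L w :=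
  ⟨fun hx => A.repr_int x hx, A.mem_of_repr⟩

theorem exists_adapted {M : Submodule W N} (hM : M.IsLattice L) :
    ∃ (n : ℕ), Nonempty (Adapted M n) := by
  classical
  have : Module.Free W M := Submodule.IsLattice.free (K := L) M
  have : Module.Finite W M := Submodule.IsLattice.finite L M
  let ε₀ := Module.Free.chooseBasis W M
  let n := Fintype.card (Module.Free.ChooseBasisIndex W M)
  let ε : Module.Basis (Fin n) W M := ε₀.reindex (Fintype.equivFin _)
  let e : Module.Basis (Fin n) L N := ε.extendOfIsLattice L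
  have he : ∀ i, e i = (ε i : N) := fun i => Module.Basis.extendOfIsLattice_apply L ε i
  refine ⟨n, ⟨⟨e, fun i => by rw [he]; exact (ε i).2, ?_⟩⟩⟩
  intro x hx i
  refine ⟨ε.repr ⟨x, hx⟩ i, ?_⟩
  have h1 : x = ∑ j, (algebraMap W L (ε.repr ⟨x, hx⟩ j)) • e j := by
    have := congrArg Subtype.val (ε.sum_repr ⟨x, hx⟩)
    simp only at this
    rw [Submodule.coe_sum] at this
    refine this.symm.trans ?_
    apply Finset.sum_congr rfl
    intro j _
    rw [Submodule.coe_smul, he, algebraMap_smul']
  conv_lhs => rw [h1]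
  rw [Module.Basis.repr_sum_self]

theorem Adapted.card_eq {M : Submodule W N} (A : Adapted M n) : Module.finrank L N = n := by
  rw [Module.finrank_eq_card_basis A.e, Fintype.card_fin]

/-- integrality of the matrix from an inclusion `g(M) ⊆ p^r M`. -/
theorem Adapted.exists_matrix {M : Submodule W N} (A : Adapted M n) (g : N → N) (r : ℤ)
    (h : ∀ x ∈ M, g x ∈ pPow r M) :
    ∃ B : Matrix (Fin n) (Fin n) W, matf A.e g = ((p : L) ^ r) • B.map (algebraMap W L) := by
  have h1 : ∀ j i, ∃ w : W, A.e.repr (((p : L) ^ (-r)) • g (A.e j)) i = algebraMap W L w := by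
    intro j i
    have := h _ (A.mem j)
    rw [mem_pPow] at this
    exact A.repr_int _ this i
  choose B hB using h1
  refine ⟨Matrix.of fun i j => B j i, ?_⟩
  ext i j
  rw [matf_apply, Matrix.smul_apply, Matrix.map_apply, Matrix.of_apply, ← hB, map_smul,
    Finsupp.smul_apply, smul_eq_mul, smul_eq_mul, ← mul_assoc, ← zpow_add₀ pL_ne_zero, add_neg_cancel,
    zpow_zero, one_mul]

theorem det_smul_map (r : ℤ) (B : Matrix (Fin n) (Fin n) W) :
    (((p : L) ^ r) • B.map (algebraMap W L)).det = (p : L) ^ (r * n) * algebraMap W L B.det := by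
  rw [Matrix.det_smul, Fintype.card_fin, ← zpow_natCast, ← zpow_mul, RingHom.map_det]
  rfl

/-- `g(M) ⊆ p^r M` bounds the order of the determinant. -/
theorem Adapted.le_of_isOrdP {M : Submodule W N} (A : Adapted M n) (g : N → N) (r : ℤ)
    (h : ∀ x ∈ M, g x ∈ pPow r M) {d : ℤ} (hd : IsOrdP (matf A.e g).det d) : r * n ≤ d := by
  obtain ⟨B, hB⟩ := A.exists_matrix g r h
  rw [hB, det_smul_map] at hd
  exact IsOrdP.le_of_eq hd _ rfl

theorem algebraMap_matrix_injective {A B : Matrix (Fin n) (Fin n) W}
    (h : A.map (algebraMap W L) = B.map (algebraMap W L)) : A = B := by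
  refine Matrix.ext fun i j => ?_
  have := congrFun (congrFun h i) j
  exact IsFractionRing.injective W L this

/-- coordinates of `g x` for `x` with integral coordinates `c`, when `matf = p^r • B`. -/
theorem repr_of_matrix (hτ : Good τ) (e : Module.Basis (Fin n) L N) (g : N →ₛₗ[τ] N) (r : ℤ)
    (B : Matrix (Fin n) (Fin n) W) (hB : matf e g = ((p : L) ^ r) • B.map (algebraMap W L))
    (c c' : Fin n → W) (hc : ∀ i, τ (algebraMap W L (c i)) = algebraMap W L (c' i)) (l : Fin n) :
    e.repr (g (∑ i, c i • e i)) l = (p : L) ^ r * algebraMap W L (∑ i, B l i * c' i) := by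
  rw [repr_apply, map_sum (algebraMap W L), Finset.mul_sum]
  apply Finset.sum_congr rfl
  intro i _
  have h1 : e.repr (∑ i, c i • e i) i = algebraMap W L (c i) := by
    have : ∑ i, c i • e i = ∑ i, (algebraMap W L (c i)) • e i := by
      apply Finset.sum_congr rfl
      intro j _
      rw [algebraMap_smul']
    rw [this, Module.Basis.repr_sum_self]
  rw [h1, hc, hB, Matrix.smul_apply, Matrix.map_apply, smul_eq_mul, map_mul, mul_assoc]

/-- `g(M) = p^r M` determines the order of the determinant. -/
theorem Adapted.isOrdP_of_eq (hτ : Good τ) {M : Submodule W N} (A : Adapted M n) (g : N →ₛₗ[τ] N)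
    (r : ℤ) (h : latImg g 1 M = pPow r M) : IsOrdP (matf A.e g).det (r * n) := by
  classical
  have hle : ∀ x ∈ M, g x ∈ pPow r M := by
    intro x hx
    rw [← h]
    exact iter_mem_latImg (s := 1) hx
  obtain ⟨B, hB⟩ := A.exists_matrix g r hle
  have hsurj : ∀ j, ∃ x ∈ M, g x = ((p : L) ^ r) • A.e j := by
    intro j
    have : ((p : L) ^ r) • A.e j ∈ latImg g 1 M := by rw [h]; exact smul_mem_pPow (A.mem j)
    obtain ⟨x, hx, hxy⟩ := (mem_latImg hτ).1 this
    exact ⟨x, hx, hxy⟩
  choose x hxM hx using hsurj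
  have hC : ∀ j i, ∃ w : W, A.e.repr (x j) i = algebraMap W L w := fun j i => A.repr_int _ (hxM j) i
  choose C hC using hC
  have hC' : ∀ j i, ∃ w : W, τ (algebraMap W L (C j i)) = algebraMap W L w :=
    fun j i => hτ.exists_image _
  choose C' hC' using hC'
  have hxj : ∀ j, x j = ∑ i, C j i • A.e i := by
    intro j
    conv_lhs => rw [← A.e.sum_repr (x j)]
    apply Finset.sum_congr rfl
    intro i _
    rw [hC, algebraMap_smul']
  have hprod : B * (Matrix.of fun i j => C' j i) = 1 := by
    apply algebraMap_matrix_injective (p := p) (k := k)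
    ext l j
    have h1 := repr_of_matrix hτ A.e g r B hB (C j) (C' j) (hC' j) l
    rw [← hxj, hx, map_smul, Finsupp.smul_apply, Module.Basis.repr_self, smul_eq_mul] at h1
    have h2 := mul_left_cancel₀ (pL_zpow_ne_zero r) h1
    rw [Matrix.map_apply, Matrix.map_apply, Matrix.mul_apply, Matrix.one_apply]
    simp only [Matrix.of_apply]
    rw [← h2, Finsupp.single_apply]
    split_ifs with h3 h4 h4
    · simp
    · exact absurd h3.symm h4
    · exact absurd h4.symm h3
    · simp
  have hunit : IsUnit B.det := by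
    have := congrArg Matrix.det hprod
    rw [Matrix.det_mul, Matrix.det_one] at this
    exact IsUnit.of_mul_eq_one _ this
  rw [hB, det_smul_map]
  obtain ⟨u, hu⟩ := hunit
  exact ⟨u, by rw [hu]⟩

/-- inclusion with unit determinant is an equality. -/
theorem Adapted.eq_of_isOrdP (hτ : Good τ) {M : Submodule W N} (A : Adapted M n) (g : N →ₛₗ[τ] N)
    (r : ℤ) (h : latImg g 1 M ≤ pPow r M) (hd : IsOrdP (matf A.e g).det (r * n)) :
    latImg g 1 M = pPow r M := by
  classical
  have hle : ∀ x ∈ M, g x ∈ pPow r M := fun x hx => h (iter_mem_latImg (s := 1) hx)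
  obtain ⟨B, hB⟩ := A.exists_matrix g r hle
  rw [hB, det_smul_map] at hd
  have h0 : IsOrdP (algebraMap W L B.det) 0 :=
    IsOrdP.of_mul_left (isOrdP_p_zpow (r * n)) (by simpa using hd)
  have hunit : IsUnit B.det := isUnit_of_isOrdP_zero h0
  have hBD : B * B⁻¹ = 1 := Matrix.mul_nonsing_inv B hunit
  have hD' : ∀ i j, ∃ w : W, τ (algebraMap W L w) = algebraMap W L (B⁻¹ i j) :=
    fun i j => hτ.exists_preimage _
  choose D' hD' using hD'
  have hgen : ∀ j, ((p : L) ^ r) • A.e j ∈ latImg g 1 M := by
    intro j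
    rw [mem_latImg hτ]
    refine ⟨∑ i, D' i j • A.e i, Submodule.sum_mem _ fun i _ => M.smul_mem _ (A.mem i), ?_⟩
    rw [Function.iterate_one]
    apply A.e.repr.injective
    ext l
    rw [repr_of_matrix hτ A.e g r B hB (fun i => D' i j) (fun i => B⁻¹ i j) (fun i => hD' i j) l,
      map_smul, Finsupp.smul_apply, Module.Basis.repr_self, smul_eq_mul]
    congr 1
    have := congrFun (congrFun hBD l) j
    rw [Matrix.mul_apply] at this
    rw [this, Matrix.one_apply, Finsupp.single_apply]
    split_ifs with h3 h4 h4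
    · simp
    · exact absurd h3.symm h4
    · exact absurd h4.symm h3
    · simp
  apply le_antisymm h
  intro y hy
  rw [mem_pPow] at hy
  have hw := A.repr_int _ hy
  choose w hw using hw
  have hy' : y = ∑ j, w j • (((p : L) ^ r) • A.e j) := by
    have h1 : ((p : L) ^ (-r)) • y = ∑ j, (algebraMap W L (w j)) • A.e j := by
      conv_lhs => rw [← A.e.sum_repr (((p : L) ^ (-r)) • y)]
      apply Finset.sum_congr rfl
      intro j _
      rw [hw]
    have h2 : y = ((p : L) ^ r) • (((p : L) ^ (-r)) • y) := by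
      rw [smul_smul, ← zpow_add₀ pL_ne_zero, add_neg_cancel, zpow_zero, one_smul]
    rw [h2, h1, Finset.smul_sum]
    apply Finset.sum_congr rfl
    intro j _
    rw [← algebraMap_smul' (w j), smul_comm]
  rw [hy']
  exact Submodule.sum_mem _ fun j _ => Submodule.smul_mem _ _ (hgen j)

/-! ### Consequences for lattices -/

theorem latImg_iter_one (F : N →ₛₗ[τ] N) (s : ℕ) (M : Submodule W N) :
    latImg (iter F s) 1 M = latImg F s M := by
  unfold latImg
  rw [Function.iterate_one]
  rfl

theorem exists_adapted_fin {h : ℕ} (b : Module.Basis (Fin h) L N) {M : Submodule W N}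
    (hM : M.IsLattice L) : Nonempty (Adapted M h) := by
  obtain ⟨n, ⟨A⟩⟩ := exists_adapted hM
  have h1 := A.card_eq
  rw [Module.finrank_eq_card_basis b, Fintype.card_fin] at h1
  subst h1
  exact ⟨A⟩

theorem mul_le_of_latImg_le (hτ : Good τ) (F : N →ₛₗ[τ] N) {h : ℕ} (b : Module.Basis (Fin h) L N)
    {d : ℤ} (hd : IsOrdP (detCoeff b F) d) {M : Submodule W N} (hM : M.IsLattice L) (s : ℕ) (r : ℤ)
    (hle : latImg F s M ≤ pPow r M) : r * h ≤ s * d := by
  obtain ⟨A⟩ := exists_adapted_fin b hM
  have h1 := isOrdP_detCoeff_basis hτ b A.e F hd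
  have h2 := isOrdP_det_iterate hτ A.e F h1 s
  exact A.le_of_isOrdP _ r (fun x hx => hle (iter_mem_latImg hx)) h2

theorem mul_eq_of_latImg_eq (hτ : Good τ) (F : N →ₛₗ[τ] N) {h : ℕ} (b : Module.Basis (Fin h) L N)
    {d : ℤ} (hd : IsOrdP (detCoeff b F) d) {M : Submodule W N} (hM : M.IsLattice L) (s : ℕ) (r : ℤ)
    (heq : latImg F s M = pPow r M) : r * h = s * d := by
  obtain ⟨A⟩ := exists_adapted_fin b hM
  have h1 := isOrdP_detCoeff_basis hτ b A.e F hd
  have h2 := isOrdP_det_iterate hτ A.e F h1 s
  have h3 := A.isOrdP_of_eq (hτ.pow s) (iter F s) r (by rw [latImg_iter_one]; exact heq)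
  exact IsOrdP.unique h3 h2

theorem latImg_eq_of_le_of_mul_eq (hτ : Good τ) (F : N →ₛₗ[τ] N) {h : ℕ}
    (b : Module.Basis (Fin h) L N) {d : ℤ} (hd : IsOrdP (detCoeff b F) d) {M : Submodule W N}
    (hM : M.IsLattice L) (s : ℕ) (r : ℤ) (hle : latImg F s M ≤ pPow r M) (hrs : r * h = s * d) :
    latImg F s M = pPow r M := by
  obtain ⟨A⟩ := exists_adapted_fin b hM
  have h1 := isOrdP_detCoeff_basis hτ b A.e F hd
  have h2 := isOrdP_det_iterate hτ A.e F h1 s
  rw [← hrs] at h2
  have := A.eq_of_isOrdP (hτ.pow s) (iter F s) r (by rw [latImg_iter_one]; exact hle) h2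
  rwa [latImg_iter_one] at this

/-- existence of the order of the determinant for a bijective map. -/
theorem exists_isOrdP_detCoeff (hτ : Good τ) (F : N →ₛₗ[τ] N) (hF : Function.Bijective F) {h : ℕ}
    (b : Module.Basis (Fin h) L N) : ∃ d : ℤ, IsOrdP (detCoeff b F) d := by
  apply exists_isOrdP
  intro h0
  -- a vanishing determinant contradicts injectivity
  rw [detCoeff_eq] at h0
  obtain ⟨v, hv0, hv⟩ := Matrix.exists_mulVec_eq_zero_iff.2 h0
  obtain ⟨τ', hτ', G, hGF, hFG⟩ := exists_inverse hτ F hF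
  have hτsurj := hτ.bijective.surjective
  choose v' hv' using hτsurj
  have hx : F (∑ j, v' (v j) • b j) = 0 := by
    apply b.repr.injective
    ext i
    rw [repr_apply, map_zero, Finsupp.zero_apply]
    have := congrFun hv i
    rw [Matrix.mulVec, dotProduct] at this
    rw [Pi.zero_apply] at this
    rw [← this]
    apply Finset.sum_congr rfl
    intro j _
    rw [Module.Basis.repr_sum_self, hv']
  have hx0 : ∑ j, v' (v j) • b j = 0 := hF.injective (by rw [hx, map_zero])
  apply hv0
  ext j
  have := congrArg (fun y => b.repr y j) hx0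
  simp only [Module.Basis.repr_sum_self, map_zero, Finsupp.zero_apply] at this
  rw [Pi.zero_apply, ← hv' (v j), this, map_zero]

end Groth.Agent.Lib.helper25.IsocB
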