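import Groth.Agent.Lib.helper25.IsocA

/-!
# Isocrystals: isoclinic lemmas (helper25)
-/

set_option autoImplicit false
set_option linter.unusedSectionVars false
set_option linter.unusedVariables false
universe u v w
open Isoc
open scoped Pointwise

namespace Groth.Agent.Lib.helper25.IsocC

open Groth.Agent.Lib.helper25.IsocA

variable {p : ℕ} [Fact p.Prime] {k : Type u} [Field k] [CharP k p] [PerfectRing k p]

local notation "W" => WittVector p k
local notation "L" => FractionRing (WittVector p k)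

section Hom

variable {N₁ : Type v} [AddCommGroup N₁] [Module (WittVector p k) N₁]
  [Module (FractionRing (WittVector p k)) N₁]
  [IsScalarTower (WittVector p k) (FractionRing (WittVector p k)) N₁]
variable {N₂ : Type w} [AddCommGroup N₂] [Module (WittVector p k) N₂]
  [Module (FractionRing (WittVector p k)) N₂]
  [IsScalarTower (WittVector p k) (FractionRing (WittVector p k)) N₂]
variable {τ : FractionRing (WittVector p k) →+* FractionRing (WittVector p k)}

/-- the `W`-linear image of a `W`-submodule under an `L`-linear map. -/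
noncomputable def mapW (f : N₁ →ₗ[L] N₂) (M : Submodule W N₁) : Submodule W N₂ :=
  M.map (f.restrictScalars W)

theorem mem_mapW {f : N₁ →ₗ[L] N₂} {M : Submodule W N₁} {y : N₂} :
    y ∈ mapW f M ↔ ∃ x ∈ M, f x = y := by
  unfold mapW
  rw [Submodule.mem_map]
  rfl

theorem mapW_pPow (f : N₁ →ₗ[L] N₂) (r : ℤ) (M : Submodule W N₁) :
    mapW f (pPow r M) = pPow r (mapW f M) := by
  ext y
  rw [mem_mapW, mem_pPow, mem_mapW]
  constructor
  · rintro ⟨x, hx, rfl⟩
    rw [mem_pPow] at hx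
    exact ⟨_, hx, by rw [map_smul]⟩
  · rintro ⟨x, hx, hxy⟩
    refine ⟨((p : L) ^ r) • x, smul_mem_pPow hx, ?_⟩
    rw [map_smul, hxy, smul_smul, ← zpow_add₀ pL_ne_zero, add_neg_cancel, zpow_zero, one_smul]

theorem iter_comm {F₁ : N₁ →ₛₗ[τ] N₁} {F₂ : N₂ →ₛₗ[τ] N₂} {f : N₁ →ₗ[L] N₂}
    (hf : ∀ x, f (F₁ x) = F₂ (f x)) (n : ℕ) (x : N₁) : f ((⇑F₁)^[n] x) = (⇑F₂)^[n] (f x) := by
  induction n generalizing x with
  | zero => rfl
  | succ n ih => rw [Function.iterate_succ_apply, Function.iterate_succ_apply, ih, hf]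

theorem mapW_latImg (hτ : Good τ) {F₁ : N₁ →ₛₗ[τ] N₁} {F₂ : N₂ →ₛₗ[τ] N₂} {f : N₁ →ₗ[L] N₂}
    (hf : ∀ x, f (F₁ x) = F₂ (f x)) (n : ℕ) (M : Submodule W N₁) :
    mapW f (latImg F₁ n M) = latImg F₂ n (mapW f M) := by
  ext y
  rw [mem_mapW, mem_latImg hτ]
  constructor
  · rintro ⟨x, hx, rfl⟩
    obtain ⟨x', hx', rfl⟩ := (mem_latImg hτ).1 hx
    exact ⟨f x', mem_mapW.2 ⟨x', hx', rfl⟩, (iter_comm hf n x').symm⟩
  · rintro ⟨z, hz, rfl⟩
    obtain ⟨x, hx, rfl⟩ := mem_mapW.1 hz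
    exact ⟨_, iter_mem_latImg hx, iter_comm hf n x⟩

theorem mapW_fg (f : N₁ →ₗ[L] N₂) {M : Submodule W N₁} (hM : M.FG) : (mapW f M).FG :=
  Submodule.FG.map _ hM

/-- morphisms between isoclinic isocrystals of different slopes vanish. -/
theorem hom_eq_zero (hτ : Good τ) {F₁ : N₁ →ₛₗ[τ] N₁} {F₂ : N₂ →ₛₗ[τ] N₂}
    (hF₂ : Function.Bijective F₂)
    {M₁ : Submodule W N₁} (hM₁ : M₁.IsLattice L) {M₂ : Submodule W N₂} (hM₂ : M₂.IsLattice L)
    {r₁ r₂ : ℤ} {s₁ s₂ : ℕ} (hs₁ : 0 < s₁) (hs₂ : 0 < s₂)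
    (h₁ : latImg F₁ s₁ M₁ = pPow r₁ M₁) (h₂ : latImg F₂ s₂ M₂ = pPow r₂ M₂)
    (hne : r₁ * s₂ ≠ r₂ * s₁)
    (f : N₁ →ₗ[L] N₂) (hf : ∀ x, f (F₁ x) = F₂ (f x)) : f = 0 := by
  set Y := mapW f M₁ with hY
  have hYfg : Y.FG := mapW_fg f hM₁.fg
  obtain ⟨c, hc⟩ := exists_pPow_le hYfg hM₂.span_eq_top
  have hYc : Y ≤ pPow (-(c : ℤ)) M₂ := by rwa [le_pPow_iff, neg_neg]
  -- common period
  have e₁ : ∀ n : ℕ, latImg F₂ (s₁ * (s₂ * n)) Y = pPow (r₁ * ((s₂ * n : ℕ) : ℤ)) Y := by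
    intro n
    rw [hY, ← mapW_latImg hτ hf, latImg_mul_of_eq hτ h₁, mapW_pPow]
  have e₂ : ∀ n : ℕ, latImg F₂ (s₁ * (s₂ * n)) M₂ = pPow (r₂ * ((s₁ * n : ℕ) : ℤ)) M₂ := by
    intro n
    rw [show s₁ * (s₂ * n) = s₂ * (s₁ * n) by ring, latImg_mul_of_eq hτ h₂]
  have key : ∀ n : ℕ, Y ≤ pPow ((r₂ * s₁ - r₁ * s₂) * n - c) M₂ ∧
      Y ≤ pPow ((r₁ * s₂ - r₂ * s₁) * n - c) M₂ := by
    intro n
    constructor
    · have h1 : pPow (r₁ * ((s₂ * n : ℕ) : ℤ)) Y ≤ pPow (-(c : ℤ)) (pPow (r₂ * ((s₁ * n : ℕ) : ℤ)) M₂) := by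
        rw [← e₁ n, ← e₂ n, ← latImg_pPow hτ]
        exact latImg_mono hYc
      rw [pPow_le_iff, pPow_pPow, pPow_pPow] at h1
      convert h1 using 2
      push_cast; ring
    · have h1 : latImg F₂ (s₁ * (s₂ * n)) Y ≤
          latImg F₂ (s₁ * (s₂ * n)) (pPow ((r₁ * s₂ - r₂ * s₁) * n - c) M₂) := by
        rw [e₁ n, latImg_pPow hτ, e₂ n, pPow_pPow]
        refine (pPow_mono hYc).trans ?_
        rw [pPow_pPow]
        apply le_of_eq
        congr 1
        push_cast; ring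
      exact (latImg_le_latImg_iff hτ hF₂).1 h1
  have hYbot : Y = ⊥ := by
    apply eq_bot_of_forall_le_pPow hM₂.fg
    intro m
    rcases lt_or_gt_of_ne hne with hlt | hgt
    · have hpos : 1 ≤ r₂ * s₁ - r₁ * s₂ := by omega
      refine ((key (m + c)).1).trans (pPow_anti ?_ M₂)
      push_cast
      nlinarith
    · have hpos : 1 ≤ r₁ * s₂ - r₂ * s₁ := by omega
      refine ((key (m + c)).2).trans (pPow_anti ?_ M₂)
      push_cast
      nlinarith
  -- conclude
  have hker : (M₁ : Set N₁) ⊆ LinearMap.ker f := by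
    intro x hx
    have : f x ∈ Y := mem_mapW.2 ⟨x, hx, rfl⟩
    rw [hYbot, Submodule.mem_bot] at this
    exact this
  have : LinearMap.ker f = ⊤ := by
    rw [eq_top_iff, ← hM₁.span_eq_top]
    exact Submodule.span_le.2 hker
  exact LinearMap.ker_eq_top.1 this

theorem isIsoclinic_of_surjective (hτ : Good τ) {F₁ : N₁ →ₛₗ[τ] N₁} {F₂ : N₂ →ₛₗ[τ] N₂}
    (f : N₁ →ₗ[L] N₂) (hsurj : Function.Surjective f) (hf : ∀ x, f (F₁ x) = F₂ (f x)) {μ : ℚ}
    (h : IsIsoclinic F₁ μ) : IsIsoclinic F₂ μ := by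
  obtain ⟨M, hM, r, s, hs, hrs, hFM⟩ := h
  refine ⟨mapW f M, ⟨mapW_fg f hM.fg, ?_⟩, r, s, hs, hrs, ?_⟩
  · have : Submodule.span L (mapW f M : Set N₂) = (Submodule.span L (M : Set N₁)).map f := by
      rw [Submodule.map_span]; rfl
    rw [this, hM.span_eq_top, Submodule.map_top, LinearMap.range_eq_top.2 hsurj]
  · rw [← mapW_latImg hτ hf, hFM, mapW_pPow]

end Hom

section Twist

variable {N : Type v} [AddCommGroup N] [Module (WittVector p k) N]
  [Module (FractionRing (WittVector p k)) N]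
  [IsScalarTower (WittVector p k) (FractionRing (WittVector p k)) N]
variable {τ : FractionRing (WittVector p k) →+* FractionRing (WittVector p k)}

theorem twist_iterate (F : N →ₛₗ[τ] N) (m : ℤ) (n : ℕ) (j : ℕ) (x : N) :
    (⇑(((p : L) ^ m) • iter F n))^[j] x = ((p : L) ^ (m * j)) • (⇑F)^[n * j] x := by
  induction j with
  | zero => simp
  | succ j ih =>
    rw [Function.iterate_succ_apply', ih, LinearMap.smul_apply, iter_apply, iter_p_smul, smul_smul,
      ← zpow_add₀ pL_ne_zero, ← Function.iterate_add_apply, Nat.mul_succ, add_comm n]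
    congr 2
    push_cast; ring

theorem latImg_twist (hτ : Good τ) (F : N →ₛₗ[τ] N) (m : ℤ) (n : ℕ) (j : ℕ) (M : Submodule W N) :
    latImg (((p : L) ^ m) • iter F n) j M = pPow (m * j) (latImg F (n * j) M) := by
  ext y
  rw [mem_latImg (hτ.pow n), mem_pPow, mem_latImg hτ]
  constructor
  · rintro ⟨x, hx, rfl⟩
    refine ⟨x, hx, ?_⟩
    rw [twist_iterate, smul_smul, ← zpow_add₀ pL_ne_zero, neg_add_cancel, zpow_zero, one_smul]
  · rintro ⟨x, hx, hxy⟩
    refine ⟨x, hx, ?_⟩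
    rw [twist_iterate, hxy, smul_smul, ← zpow_add₀ pL_ne_zero, add_neg_cancel, zpow_zero, one_smul]

theorem isOrd_twist_iff (hτ : Good τ) (F : N →ₛₗ[τ] N) (m : ℤ) (n : ℕ) (j : ℕ) (M : Submodule W N)
    (r : ℤ) : IsOrd M (((p : L) ^ m) • iter F n) j (r + m * j) ↔ IsOrd M F (n * j) r := by
  unfold IsOrd
  rw [latImg_twist hτ, ← pPow_le_pPow_iff (r := -(m * j)), pPow_pPow, pPow_pPow, neg_add_cancel,
    pPow_zero, ← pPow_le_pPow_iff (r := -(m * j)) (M' := pPow (r + m * j + 1) M), pPow_pPow, pPow_pPow,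
    neg_add_cancel, pPow_zero]
  have e1 : -(m * j) + (r + m * j) = r := by ring
  have e2 : -(m * j) + (r + m * j + 1) = r + 1 := by ring
  rw [e1, e2]

theorem isOrd_zero_iter {M : Submodule W N} (hM : M.FG) (hne : M ≠ ⊥) (F : N →ₛₗ[τ] N) :
    IsOrd M F 0 0 := by
  refine ⟨by rw [latImg_zero, pPow_zero], fun h => ?_⟩
  rw [latImg_zero, zero_add] at h
  exact hne (eq_bot_of_le_pPow_one hM h)

end Twist

section IsoOn

variable {N : Type v} [AddCommGroup N] [Module (WittVector p k) N]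
  [Module (FractionRing (WittVector p k)) N]
  [IsScalarTower (WittVector p k) (FractionRing (WittVector p k)) N]
variable {τ : FractionRing (WittVector p k) →+* FractionRing (WittVector p k)}

/-- "isoclinic of slope `μ` on the subspace `P`", in ambient terms. -/
def IsoOn (F : N →ₛₗ[τ] N) (μ : ℚ) (P : Submodule L N) : Prop :=
  ∃ M : Submodule W N, M.FG ∧ Submodule.span L (M : Set N) = P ∧
    ∃ (r : ℤ) (s : ℕ), 0 < s ∧ (r : ℚ) / s = μ ∧ latImg F s M = pPow r M

theorem mapW_injective {N₁ : Type v} {N₂ : Type w} [AddCommGroup N₁] [Module (WittVector p k) N₁]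
    [Module (FractionRing (WittVector p k)) N₁]
    [IsScalarTower (WittVector p k) (FractionRing (WittVector p k)) N₁]
    [AddCommGroup N₂] [Module (WittVector p k) N₂]
    [Module (FractionRing (WittVector p k)) N₂]
    [IsScalarTower (WittVector p k) (FractionRing (WittVector p k)) N₂]
    (f : N₁ →ₗ[L] N₂) (hf : Function.Injective f) : Function.Injective (mapW f) :=
  Submodule.map_injective_of_injective (f := f.restrictScalars W) hf

theorem span_mapW {N₁ : Type v} {N₂ : Type w} [AddCommGroup N₁] [Module (WittVector p k) N₁]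
    [Module (FractionRing (WittVector p k)) N₁]
    [IsScalarTower (WittVector p k) (FractionRing (WittVector p k)) N₁]
    [AddCommGroup N₂] [Module (WittVector p k) N₂]
    [Module (FractionRing (WittVector p k)) N₂]
    [IsScalarTower (WittVector p k) (FractionRing (WittVector p k)) N₂]
    (f : N₁ →ₗ[L] N₂) (M : Submodule W N₁) :
    Submodule.span L (mapW f M : Set N₂) = (Submodule.span L (M : Set N₁)).map f := by
  rw [Submodule.map_span]
  rfl

theorem restrict_comm (F : N →ₛₗ[τ] N) (P : Submodule L N) (hP : ∀ x ∈ P, F x ∈ P) (x : P) :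
    P.subtype ((F.restrict hP) x) = F (P.subtype x) := rfl

/-- from the subtype to the ambient formulation. -/
theorem isoOn_of_isIsoclinic_restrict (hτ : Good τ) (F : N →ₛₗ[τ] N) (μ : ℚ) (P : Submodule L N)
    (hP : ∀ x ∈ P, F x ∈ P) (h : IsIsoclinic (F.restrict hP) μ) : IsoOn F μ P := by
  obtain ⟨M', hM', r, s, hs, hrs, hFM⟩ := h
  refine ⟨mapW P.subtype M', mapW_fg _ hM'.fg, ?_, r, s, hs, hrs, ?_⟩
  · rw [span_mapW, hM'.span_eq_top, Submodule.map_top, Submodule.range_subtype]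
  · rw [← mapW_latImg hτ (restrict_comm F P hP), hFM, mapW_pPow]

/-- from the ambient formulation to the subtype. -/
theorem isIsoclinic_restrict_of_isoOn (hτ : Good τ) (F : N →ₛₗ[τ] N) (μ : ℚ) (P : Submodule L N)
    (hP : ∀ x ∈ P, F x ∈ P) (h : IsoOn F μ P) : IsIsoclinic (F.restrict hP) μ := by
  obtain ⟨M, hMfg, hMP, r, s, hs, hrs, hFM⟩ := h
  have hMleP : ∀ x ∈ M, x ∈ P := fun x hx => by
    rw [← hMP]; exact Submodule.subset_span hx
  set M' : Submodule W P := M.comap (P.subtype.restrictScalars W) with hM'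
  have hmap : mapW P.subtype M' = M := by
    ext y
    rw [mem_mapW]
    constructor
    · rintro ⟨x, hx, rfl⟩
      exact hx
    · intro hy
      exact ⟨⟨y, hMleP y hy⟩, hy, rfl⟩
  have hinj : Function.Injective P.subtype := Subtype.val_injective
  refine ⟨M', ⟨?_, ?_⟩, r, s, hs, hrs, ?_⟩
  · apply Submodule.fg_of_fg_map_injective (P.subtype.restrictScalars W) hinj
    show (mapW P.subtype M').FG
    rw [hmap]; exact hMfg
  · apply Submodule.map_injective_of_injective (f := P.subtype) hinj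
    rw [← span_mapW, hmap, hMP, Submodule.map_top, Submodule.range_subtype]
  · apply mapW_injective P.subtype hinj
    rw [mapW_latImg hτ (restrict_comm F P hP), mapW_pPow, hmap, hFM]

theorem isoOn_bot (F : N →ₛₗ[τ] N) (μ : ℚ) : IsoOn F μ ⊥ := by
  refine ⟨⊥, Submodule.fg_bot, by simp, μ.num, μ.den, μ.den_pos, by exact_mod_cast Rat.num_div_den μ, ?_⟩
  rw [pPow_bot, eq_bot_iff]
  unfold latImg
  rw [Submodule.span_le]
  rintro _ ⟨x, hx, rfl⟩
  rw [SetLike.mem_coe, Submodule.mem_bot] at hx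
  rw [hx, iter_zero']
  exact Submodule.zero_mem _

theorem isoOn_sup (hτ : Good τ) (F : N →ₛₗ[τ] N) (μ : ℚ) {P₁ P₂ : Submodule L N}
    (h₁ : IsoOn F μ P₁) (h₂ : IsoOn F μ P₂) : IsoOn F μ (P₁ ⊔ P₂) := by
  obtain ⟨M₁, hfg₁, hsp₁, r₁, s₁, hs₁, hrs₁, hF₁⟩ := h₁
  obtain ⟨M₂, hfg₂, hsp₂, r₂, s₂, hs₂, hrs₂, hF₂⟩ := h₂
  have hs₁' : (s₁ : ℚ) ≠ 0 := by exact_mod_cast hs₁.ne'
  have hs₂' : (s₂ : ℚ) ≠ 0 := by exact_mod_cast hs₂.ne'
  have hr : r₁ * s₂ = r₂ * s₁ := by
    have := hrs₁.trans hrs₂.symm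
    rw [div_eq_div_iff hs₁' hs₂'] at this
    exact_mod_cast this
  refine ⟨M₁ ⊔ M₂, hfg₁.sup hfg₂, ?_, r₁ * s₂, s₁ * s₂, Nat.mul_pos hs₁ hs₂, ?_, ?_⟩
  · rw [Submodule.coe_sup, ← hsp₁, ← hsp₂, ← Submodule.span_union]
    apply le_antisymm
    · rw [Submodule.span_le]
      rintro _ ⟨a, ha, b, hb, rfl⟩
      exact Submodule.add_mem _ (Submodule.subset_span (Or.inl ha)) (Submodule.subset_span (Or.inr hb))
    · apply Submodule.span_mono
      rintro x (hx | hx)
      · exact ⟨x, hx, 0, M₂.zero_mem, add_zero x⟩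
      · exact ⟨0, M₁.zero_mem, x, hx, zero_add x⟩
  · rw [← hrs₁]
    push_cast
    field_simp
  · rw [latImg_sup hτ, pPow_sup, latImg_mul_of_eq hτ hF₁, hr, mul_comm s₁ s₂,
      latImg_mul_of_eq hτ hF₂]

theorem slopePart_spec (hτ : Good τ) [Module.Finite L N] (F : N →ₛₗ[τ] N) (μ : ℚ) :
    (∀ x ∈ slopePart F μ, F x ∈ slopePart F μ) ∧ IsoOn F μ (slopePart F μ) := by
  have hwf : WellFoundedGT (Submodule L N) := inferInstance
  obtain ⟨t, ht, hsup⟩ := CompleteLattice.WellFoundedGT.isSupFiniteCompact (Submodule L N)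
    {P : Submodule L N | ∃ hP : ∀ x ∈ P, F x ∈ P, IsIsoclinic (F.restrict hP) μ}
  unfold slopePart
  rw [hsup]
  apply Finset.sup_induction (p := fun P : Submodule L N => (∀ x ∈ P, F x ∈ P) ∧ IsoOn F μ P)
  · refine ⟨fun x hx => ?_, isoOn_bot F μ⟩
    rw [Submodule.mem_bot] at hx
    rw [hx, map_zero]
    exact Submodule.zero_mem _
  · rintro P₁ ⟨hP₁, hI₁⟩ P₂ ⟨hP₂, hI₂⟩
    refine ⟨fun x hx => ?_, isoOn_sup hτ F μ hI₁ hI₂⟩
    obtain ⟨a, ha, b, hb, rfl⟩ := Submodule.mem_sup.1 hx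
    rw [map_add]
    exact Submodule.add_mem_sup (hP₁ a ha) (hP₂ b hb)
  · intro P hP
    obtain ⟨hP', hiso⟩ := ht hP
    exact ⟨hP', isoOn_of_isIsoclinic_restrict hτ F μ P hP' hiso⟩

theorem semilinear_surjective_of_injective {K : Type*} [Field K] {σ : K →+* K}
    (hσ : Function.Surjective σ) {V : Type*} [AddCommGroup V] [Module K V] [FiniteDimensional K V]
    (G : V →ₛₗ[σ] V) (hG : Function.Injective G) : Function.Surjective G := by
  classical
  let b := Module.finBasis K V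
  have hli : LinearIndependent K (fun i => G (b i)) := by
    rw [linearIndependent_iff']
    intro s g hg i hi
    choose g' hg' using hσ
    have h1 : G (∑ j ∈ s, g' (g j) • b j) = 0 := by
      rw [map_sum, ← hg]
      apply Finset.sum_congr rfl
      intro j _
      rw [map_smulₛₗ, hg']
    have h2 : ∑ j ∈ s, g' (g j) • b j = 0 := hG (by rw [h1, map_zero])
    have h3 := linearIndependent_iff'.1 b.linearIndependent s (fun j => g' (g j)) h2 i hi
    have : g i = σ (g' (g i)) := (hg' (g i)).symm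
    rw [this, h3, map_zero]
  have hsp : Submodule.span K (Set.range fun i => G (b i)) = ⊤ :=
    hli.span_eq_top_of_card_eq_finrank' (by simp)
  intro y
  have hy : y ∈ Submodule.span K (Set.range fun i => G (b i)) := by rw [hsp]; trivial
  obtain ⟨c, rfl⟩ := (Submodule.mem_span_range_iff_exists_fun K).1 hy
  choose g' hg' using hσ
  refine ⟨∑ i, g' (c i) • b i, ?_⟩
  rw [map_sum]
  apply Finset.sum_congr rfl
  intro j _
  rw [map_smulₛₗ, hg']

theorem isoOn_of_isIsoclinic_stable (hτ : Good τ) [Module.Finite L N] (F : N →ₛₗ[τ] N)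
    (hF : Function.Bijective F) (μ : ℚ) (h : IsIsoclinic F μ) (P : Submodule L N)
    (hP : ∀ x ∈ P, F x ∈ P) : IsoOn F μ P := by
  obtain ⟨M, hM, r, s, hs, hrs, hFM⟩ := h
  set MP : Submodule W N := M ⊓ P.restrictScalars W with hMP
  have hiterP : ∀ (n : ℕ) (x : N), x ∈ P → (⇑F)^[n] x ∈ P := by
    intro n
    induction n with
    | zero => intro x hx; exact hx
    | succ n ih => intro x hx; rw [Function.iterate_succ_apply']; exact hP _ (ih x hx)
  have hrestr_inj : Function.Injective (F.restrict hP) := by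
    intro x y hxy
    apply Subtype.ext
    apply hF.injective
    exact congrArg Subtype.val hxy
  have hrestr_surj : Function.Surjective (F.restrict hP) :=
    semilinear_surjective_of_injective hτ.bijective.surjective _ hrestr_inj
  have hiter_surj : ∀ (n : ℕ) (y : N), y ∈ P → ∃ x ∈ P, (⇑F)^[n] x = y := by
    intro n
    induction n with
    | zero => intro y hy; exact ⟨y, hy, rfl⟩
    | succ n ih =>
      intro y hy
      obtain ⟨⟨z, hz⟩, hzy⟩ := hrestr_surj ⟨y, hy⟩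
      obtain ⟨x, hx, hxz⟩ := ih z hz
      refine ⟨x, hx, ?_⟩
      rw [Function.iterate_succ_apply', hxz]
      exact congrArg Subtype.val hzy
  refine ⟨MP, ?_, ?_, r, s, hs, hrs, ?_⟩
  · have : IsNoetherian W M := isNoetherian_of_fg_of_noetherian M hM.fg
    have : IsNoetherian W MP := isNoetherian_of_le (inf_le_left : MP ≤ M)
    exact (Submodule.fg_top MP).1 Module.Finite.fg_top
  · apply le_antisymm
    · rw [Submodule.span_le]
      intro x hx
      exact hx.2
    · intro x hx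
      obtain ⟨n, hn⟩ := exists_pow_smul_mem hM.span_eq_top x
      have h1 : ((p : W) ^ n) • x ∈ MP := by
        refine ⟨hn, ?_⟩
        show ((p : W) ^ n) • x ∈ P
        rw [← algebraMap_smul' ((p : W) ^ n)]
        exact P.smul_mem _ hx
      have h2 : x = ((p : L) ^ (-(n : ℤ))) • (((p : W) ^ n) • x) := by
        rw [← p_zpow_natCast_smul, smul_smul, ← zpow_add₀ pL_ne_zero, neg_add_cancel, zpow_zero,
          one_smul]
      rw [h2]
      exact Submodule.smul_mem _ _ (Submodule.subset_span h1)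
  · apply le_antisymm
    · rw [latImg_le_iff hτ]
      intro x hx
      have h1 : (⇑F)^[s] x ∈ pPow r M := by rw [← hFM]; exact iter_mem_latImg hx.1
      rw [mem_pPow] at h1 ⊢
      exact ⟨h1, P.smul_mem _ (hiterP s x hx.2)⟩
    · intro y hy
      rw [mem_pPow] at hy
      have hyP : y ∈ P := by
        have := P.smul_mem ((p : L) ^ r) hy.2
        rwa [smul_smul, ← zpow_add₀ pL_ne_zero, add_neg_cancel, zpow_zero, one_smul] at this
      have hyM : y ∈ latImg F s M := by rw [hFM, mem_pPow]; exact hy.1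
      obtain ⟨x, hx, hxy⟩ := (mem_latImg hτ).1 hyM
      obtain ⟨x', hx', hxy'⟩ := hiter_surj s y hyP
      have : x = x' := (iterate_bijective hF s).injective (hxy.trans hxy'.symm)
      rw [mem_latImg hτ]
      exact ⟨x, ⟨hx, this ▸ hx'⟩, hxy⟩

end IsoOn

end Groth.Agent.Lib.helper25.IsocC
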