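import Groth.Agent.Lib.helper25.IsocB
import Groth.Agent.Lib.helper25.IsocC

/-!
# Isocrystals: first slope (helper25)
-/

set_option autoImplicit false
set_option linter.unusedSectionVars false
set_option linter.unusedVariables false
universe u v w
open Isoc
open scoped Pointwise

namespace Groth.Agent.Lib.helper25.IsocD

open Groth.Agent.Lib.helper25.IsocA Groth.Agent.Lib.helper25.IsocB Groth.Agent.Lib.helper25.IsocC

variable {p : ℕ} [Fact p.Prime] {k : Type u} [Field k] [CharP k p] [PerfectRing k p]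

local notation "W" => WittVector p k
local notation "L" => FractionRing (WittVector p k)

variable {N : Type v} [AddCommGroup N] [Module (WittVector p k) N]
  [Module (FractionRing (WittVector p k)) N]
  [IsScalarTower (WittVector p k) (FractionRing (WittVector p k)) N]
variable {τ : FractionRing (WittVector p k) →+* FractionRing (WittVector p k)}

theorem lattice_ne_bot [Nontrivial N] {M : Submodule W N} (hM : M.IsLattice L) : M ≠ ⊥ := by
  rintro rfl
  have h := hM.span_eq_top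
  rw [Submodule.bot_coe, Submodule.span_zero_singleton] at h
  obtain ⟨x, hx⟩ := exists_ne (0 : N)
  have : x ∈ (⊥ : Submodule L N) := by rw [h]; trivial
  exact hx ((Submodule.mem_bot L).1 this)

theorem exists_ord_fun (hτ : Good τ) {F : N →ₛₗ[τ] N} (hF : Function.Bijective F)
    {M : Submodule W N} (hM : M.IsLattice L) (hne : M ≠ ⊥) :
    ∃ o : ℕ → ℤ, ∀ n, IsOrd M F n (o n) := by
  choose o ho using exists_isOrd hτ hF hM hne
  exact ⟨o, ho⟩

theorem ord_superadditive (hτ : Good τ) {F : N →ₛₗ[τ] N} {M : Submodule W N} {o : ℕ → ℤ}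
    (ho : ∀ n, 1 ≤ n → IsOrd M F n (o n)) (m n : ℕ) (hm : 1 ≤ m) (hn : 1 ≤ n) :
    o m + o n ≤ o (m + n) := by
  apply IsOrd.le_of_le (ho (m + n) (by omega))
  calc latImg F (m + n) M = latImg F m (latImg F n M) := latImg_add hτ F m n M
    _ ≤ latImg F m (pPow (o n) M) := latImg_mono (ho n hn).1
    _ = pPow (o n) (latImg F m M) := latImg_pPow hτ _ _ _ _
    _ ≤ pPow (o n) (pPow (o m) M) := pPow_mono (ho m hm).1
    _ = pPow (o m + o n) M := by rw [pPow_pPow, add_comm]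

/-- Fekete for orders. -/
theorem exists_tendsto_ord (hτ : Good τ) {F : N →ₛₗ[τ] N} {h : ℕ} (b : Module.Basis (Fin h) L N)
    {d : ℤ} (hd : IsOrdP (detCoeff b F) d) (hh : 0 < h)
    {M : Submodule W N} (hM : M.IsLattice L) {o : ℕ → ℤ}
    (ho : ∀ n, 1 ≤ n → IsOrd M F n (o n)) :
    ∃ lam : ℝ, Filter.Tendsto (fun n : ℕ => (o n : ℝ) / n) Filter.atTop (nhds lam) ∧
      ∀ n, 1 ≤ n → (o n : ℝ) / n ≤ lam := by
  -- modify `o` at zero
  set o' : ℕ → ℤ := fun n => if n = 0 then 0 else o n with ho'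
  have ho'n : ∀ n, 1 ≤ n → o' n = o n := fun n hn => by simp [ho', Nat.one_le_iff_ne_zero.1 hn]
  have hsuper : ∀ m n, o' m + o' n ≤ o' (m + n) := by
    intro m n
    rcases Nat.eq_zero_or_pos m with rfl | hm
    · simp [ho']
    rcases Nat.eq_zero_or_pos n with rfl | hn
    · simp [ho']
    rw [ho'n m hm, ho'n n hn, ho'n (m + n) (by omega)]
    exact ord_superadditive hτ ho m n hm hn
  have hsub : Subadditive (fun n => -(o' n : ℝ)) := by
    intro m n
    have := hsuper m n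
    have h1 : ((o' m + o' n : ℤ) : ℝ) ≤ (o' (m + n) : ℝ) := by exact_mod_cast this
    push_cast at h1
    simp only
    linarith
  have hh' : (0 : ℝ) < h := by exact_mod_cast hh
  have hbound : ∀ n, 1 ≤ n → (o n : ℝ) / n ≤ (d : ℝ) / h := by
    intro n hn
    have hn' : (0 : ℝ) < n := by exact_mod_cast hn
    have := mul_le_of_latImg_le hτ F b hd hM n (o n) (ho n hn).1
    have h1 : ((o n * h : ℤ) : ℝ) ≤ ((n * d : ℤ) : ℝ) := by exact_mod_cast this
    push_cast at h1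
    rw [div_le_div_iff₀ hn' hh']
    linarith
  have hbdd : BddBelow (Set.range fun n => (fun n => -(o' n : ℝ)) n / n) := by
    refine ⟨min (-((d : ℝ) / h)) 0, ?_⟩
    rintro _ ⟨n, rfl⟩
    rcases Nat.eq_zero_or_pos n with rfl | hn
    · simp
    · simp only
      rw [ho'n n hn, neg_div]
      exact (min_le_left _ _).trans (neg_le_neg (hbound n hn))
  have hlim := hsub.tendsto_lim hbdd
  refine ⟨-hsub.lim, ?_, ?_⟩
  · have h2 := hlim.neg
    apply h2.congr'
    filter_upwards [Filter.eventually_ge_atTop 1] with n hn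
    rw [ho'n n hn, neg_div, neg_neg]
  · intro n hn
    have := hsub.lim_le_div hbdd (Nat.one_le_iff_ne_zero.1 hn)
    rw [ho'n n hn, neg_div] at this
    linarith

theorem isOrd_add_mul_iff (hτ : Good τ) {F : N →ₛₗ[τ] N} {s : ℕ} {r : ℤ} {M : Submodule W N}
    (h : latImg F s M = pPow r M) (q t : ℕ) (ρ : ℤ) :
    IsOrd M F (t + s * q) (ρ + r * q) ↔ IsOrd M F t ρ := by
  unfold IsOrd
  rw [latImg_add hτ, latImg_mul_of_eq hτ h, latImg_pPow hτ]
  have e1 : pPow (ρ + r * q) M = pPow (r * q) (pPow ρ M) := by rw [pPow_pPow, add_comm]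
  have e2 : pPow (ρ + r * q + 1) M = pPow (r * q) (pPow (ρ + 1) M) := by
    rw [pPow_pPow]; congr 1; ring
  rw [e1, e2, pPow_le_pPow_iff, pPow_le_pPow_iff]

theorem tendsto_of_latImg_eq (hτ : Good τ) {F : N →ₛₗ[τ] N} (hF : Function.Bijective F)
    {M : Submodule W N} (hM : M.IsLattice L) (hne : M ≠ ⊥) {s : ℕ} (hs : 0 < s) {r : ℤ}
    (h : latImg F s M = pPow r M) {o : ℕ → ℤ} (ho : ∀ n, 1 ≤ n → IsOrd M F n (o n)) :
    Filter.Tendsto (fun n : ℕ => (o n : ℝ) / n) Filter.atTop (nhds ((r : ℝ) / s)) := by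
  obtain ⟨o₀, ho₀⟩ := exists_ord_fun hτ hF hM hne
  have hoo : ∀ n, 1 ≤ n → o n = o₀ n := fun n hn => IsOrd.unique (ho n hn) (ho₀ n)
  have hper : ∀ n, o₀ n = o₀ (n % s) + r * (n / s : ℕ) := by
    intro n
    have h1 := (isOrd_add_mul_iff hτ h (n / s) (n % s) (o₀ (n % s))).2 (ho₀ _)
    rw [Nat.mod_add_div] at h1
    exact IsOrd.unique (ho₀ n) h1
  set C : ℝ := ∑ t ∈ Finset.range s, |(o₀ t : ℝ)| with hC
  have hCb : ∀ t, t < s → |(o₀ t : ℝ)| ≤ C := by
    intro t ht
    exact Finset.single_le_sum (f := fun t => |(o₀ t : ℝ)|) (fun i _ => abs_nonneg _)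
      (Finset.mem_range.2 ht)
  have hs' : (0 : ℝ) < s := by exact_mod_cast hs
  rw [← tendsto_sub_nhds_zero_iff]
  have hb : Filter.Tendsto (fun n : ℕ => (C + |(r : ℝ)|) / n) Filter.atTop (nhds 0) :=
    tendsto_const_div_atTop_nhds_zero_nat _
  apply squeeze_zero_norm' _ hb
  filter_upwards [Filter.eventually_ge_atTop 1] with n hn
  have hn' : (0 : ℝ) < n := by exact_mod_cast hn
  have hmod : n % s < s := Nat.mod_lt n hs
  have hdecomp : (n : ℝ) = ((n % s : ℕ) : ℝ) + (s : ℝ) * ((n / s : ℕ) : ℝ) := by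
    exact_mod_cast (Nat.mod_add_div n s).symm
  have key : (o n : ℝ) / n - (r : ℝ) / s =
      ((o₀ (n % s) : ℝ) - ((n % s : ℕ) : ℝ) * r / s) / n := by
    rw [hoo n hn, hper n, Int.cast_add, Int.cast_mul, Int.cast_natCast]
    generalize ((n / s : ℕ) : ℝ) = Q at hdecomp ⊢
    generalize ((n % s : ℕ) : ℝ) = T at hdecomp ⊢
    generalize (o₀ (n % s) : ℝ) = O
    have hn0 : (n : ℝ) ≠ 0 := hn'.ne'
    have hs0 : (s : ℝ) ≠ 0 := hs'.ne'
    field_simp
    rw [hdecomp]
    ring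
  rw [key, Real.norm_eq_abs, abs_div, abs_of_pos hn']
  apply div_le_div_of_nonneg_right _ hn'.le
  have h1 : |((n % s : ℕ) : ℝ) * r / s| ≤ |(r : ℝ)| := by
    rw [abs_div, abs_mul, abs_of_pos hs', div_le_iff₀ hs']
    have h2 : |((n % s : ℕ) : ℝ)| ≤ s := by
      rw [abs_of_nonneg (Nat.cast_nonneg _)]
      exact_mod_cast hmod.le
    calc |((n % s : ℕ) : ℝ)| * |(r : ℝ)| ≤ s * |(r : ℝ)| :=
          mul_le_mul_of_nonneg_right h2 (abs_nonneg _)
      _ = |(r : ℝ)| * s := mul_comm _ _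
  calc |(o₀ (n % s) : ℝ) - ((n % s : ℕ) : ℝ) * r / s|
      ≤ |(o₀ (n % s) : ℝ)| + |((n % s : ℕ) : ℝ) * r / s| := abs_sub _ _
    _ ≤ C + |(r : ℝ)| := add_le_add (hCb _ hmod) h1

end Groth.Agent.Lib.helper25.IsocD
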