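import Groth.Agent.Lib.helper25.IsocD

/-!
# Isocrystals: chains of lattices and effectivity (helper25)
-/

set_option autoImplicit false
set_option linter.unusedSectionVars false
set_option linter.unusedVariables false
universe u v w
open Isoc
open scoped Pointwise

namespace Groth.Agent.Lib.helper25.IsocE

open Groth.Agent.Lib.helper25.IsocA Groth.Agent.Lib.helper25.IsocB Groth.Agent.Lib.helper25.IsocC
  Groth.Agent.Lib.helper25.IsocD

variable {p : ℕ} [Fact p.Prime] {k : Type u} [Field k] [CharP k p] [PerfectRing k p]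

local notation "W" => WittVector p k
local notation "L" => FractionRing (WittVector p k)

variable {N : Type v} [AddCommGroup N] [Module (WittVector p k) N]
  [Module (FractionRing (WittVector p k)) N]
  [IsScalarTower (WittVector p k) (FractionRing (WittVector p k)) N]

theorem good_id : Good (RingHom.id L) := ⟨RingEquiv.refl _, fun w => rfl⟩

variable {h : ℕ}

/-- the linear map sending the basis of `Y` to the basis of `X`. -/
noncomputable def trans {X Y : Submodule W N} (BX : Adapted X h) (BY : Adapted Y h) : N →ₗ[L] N :=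
  BY.e.constr L BX.e

theorem trans_basis {X Y : Submodule W N} (BX : Adapted X h) (BY : Adapted Y h) (i : Fin h) :
    trans BX BY (BY.e i) = BX.e i := by
  unfold trans
  rw [Module.Basis.constr_basis]

theorem trans_bijective {X Y : Submodule W N} (BX : Adapted X h) (BY : Adapted Y h) :
    Function.Bijective (trans BX BY) := by
  have : trans BX BY = (BY.e.equiv BX.e (Equiv.refl _)).toLinearMap := by
    apply BY.e.ext
    intro i
    rw [trans_basis]
    simp
  rw [this]
  exact (BY.e.equiv BX.e (Equiv.refl _)).bijective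

theorem trans_mem {X Y : Submodule W N} (BX : Adapted X h) (BY : Adapted Y h) {y : N} (hy : y ∈ Y) :
    trans BX BY y ∈ X := by
  have hw := BY.repr_int y hy
  choose w hw using hw
  rw [← BY.e.sum_repr y, map_sum]
  apply Submodule.sum_mem
  intro i _
  rw [map_smul, trans_basis, hw, algebraMap_smul']
  exact X.smul_mem _ (BX.mem i)

theorem index_pos {X Y : Submodule W N} (hXY : X ≤ Y) (hne : X ≠ Y) (BX : Adapted X h)
    (BY : Adapted Y h) :
    ∃ t : ℤ, 1 ≤ t ∧ IsOrdP (detCoeff BY.e (trans BX BY)) t := by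
  obtain ⟨t, ht⟩ := exists_isOrdP_detCoeff good_id (trans BX BY) (trans_bijective BX BY) BY.e
  have hmem : ∀ y ∈ Y, (trans BX BY) y ∈ pPow 0 Y := by
    intro y hy
    rw [pPow_zero]
    exact hXY (trans_mem BX BY hy)
  have h0 : (0 : ℤ) * h ≤ t := BY.le_of_isOrdP _ 0 hmem ht
  rw [zero_mul] at h0
  refine ⟨t, ?_, ht⟩
  by_contra hlt
  have ht0 : t = 0 := by omega
  subst ht0
  apply hne
  apply le_antisymm hXY
  have hle : latImg (trans BX BY : N →ₛₗ[RingHom.id L] N) 1 Y ≤ pPow 0 Y := by
    rw [latImg_le_iff good_id]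
    intro y hy
    rw [Function.iterate_one]
    exact hmem y hy
  have heq := BY.eq_of_isOrdP good_id (trans BX BY) 0 hle (by rw [zero_mul]; exact ht)
  rw [pPow_zero] at heq
  intro y hy
  rw [← heq] at hy
  obtain ⟨x, hx, rfl⟩ := (mem_latImg good_id).1 hy
  rw [Function.iterate_one]
  exact trans_mem BX BY hx

theorem isLattice_of_between {A X : Submodule W N} (hA : A.IsLattice L) (hAX : A ≤ X) {r : ℤ}
    (hXA : X ≤ pPow r A) : X.IsLattice L := by
  refine ⟨?_, ?_⟩
  · have h1 : (pPow r A).FG := (isLattice_pPow hA).fg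
    have : IsNoetherian W (pPow r A) := isNoetherian_of_fg_of_noetherian _ h1
    have : IsNoetherian W X := isNoetherian_of_le hXA
    exact (Submodule.fg_top X).1 Module.Finite.fg_top
  · rw [eq_top_iff, ← hA.span_eq_top]
    exact Submodule.span_mono hAX

/-- pigeonhole for chains of lattices between `A` and `p⁻¹A`. -/
theorem chain_stationary [Module.Finite L N] (hfin : Module.finrank L N = h) {A : Submodule W N}
    (hA : A.IsLattice L) (X : ℕ → Submodule W N) (hAX : ∀ j, A ≤ X j)
    (hXA : ∀ j, X j ≤ pPow (-1) A) (hmono : ∀ j, X j ≤ X (j + 1)) :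
    ∃ j, j ≤ h ∧ X j = X (j + 1) := by
  classical
  by_contra hcon
  rw [not_exists] at hcon
  have hne : ∀ j, j ≤ h → X j ≠ X (j + 1) := fun j hj heq => hcon j ⟨hj, heq⟩
  have hlat : ∀ j, (X j).IsLattice L := fun j => isLattice_of_between hA (hAX j) (hXA j)
  let b₀ : Module.Basis (Fin h) L N := hfin ▸ Module.finBasis L N
  have hB : ∀ j, Nonempty (Adapted (X j) h) := fun j => exists_adapted_fin b₀ (hlat j)
  let B : ∀ j, Adapted (X j) h := fun j => (hB j).some
  set e₀ := (B 0).e with he₀
  -- the maps `g j : e₀ ↦ basis of X j`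
  have hg : ∀ j, ∃ c : ℤ, IsOrdP (detCoeff e₀ (trans (B j) (B 0))) c := fun j =>
    exists_isOrdP_detCoeff good_id _ (trans_bijective (B j) (B 0)) e₀
  choose c hc using hg
  have hstep : ∀ j, j ≤ h → c (j + 1) + 1 ≤ c j := by
    intro j hj
    obtain ⟨t, ht1, ht⟩ := index_pos (hmono j) (hne j hj) (B j) (B (j + 1))
    have hcomp : (trans (B j) (B 0) : N → N) = (trans (B j) (B (j + 1))) ∘ (trans (B (j + 1)) (B 0)) := by
      have : trans (B j) (B 0) = (trans (B j) (B (j + 1))).comp (trans (B (j + 1)) (B 0)) := by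
        apply (B 0).e.ext
        intro i
        rw [LinearMap.comp_apply, trans_basis, trans_basis, trans_basis]
      rw [this]; rfl
    have h1 := det_matf_comp e₀ (trans (B j) (B (j + 1)) : N →ₛₗ[RingHom.id L] N)
      (trans (B (j + 1)) (B 0))
    rw [← hcomp, RingHom.id_apply] at h1
    have h2 := isOrdP_detCoeff_basis good_id (B (j + 1)).e e₀ (trans (B j) (B (j + 1))) ht
    have h3 := IsOrdP.mul h2 (hc (j + 1))
    rw [detCoeff_eq, detCoeff_eq, ← h1] at h3
    have h4 := IsOrdP.unique (hc j) h3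
    omega
  have hc0 : c 0 = 0 := by
    have : (trans (B 0) (B 0) : N → N) = id := by
      have : trans (B 0) (B 0) = LinearMap.id := by
        apply (B 0).e.ext
        intro i
        rw [trans_basis]; rfl
      rw [this]; rfl
    have h1 := hc 0
    rw [detCoeff_eq, this, matf_id, Matrix.det_one] at h1
    exact IsOrdP.unique h1 isOrdP_one
  have hlast : (-1 : ℤ) * h ≤ c (h + 1) := by
    apply (B 0).le_of_isOrdP _ (-1) _ (hc (h + 1))
    intro x hx
    have := trans_mem (B (h + 1)) (B 0) hx
    exact pPow_mono (hAX 0) (hXA _ this)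
  have hsum : ∀ j, j ≤ h + 1 → c j + j ≤ c 0 := by
    intro j
    induction j with
    | zero => intro _; simp
    | succ j ih =>
      intro hj
      have := hstep j (by omega)
      have := ih (by omega)
      push_cast
      omega
  have := hsum (h + 1) le_rfl
  push_cast at this
  omega

/-! ### Effectivity -/

section Eff

variable {τ : FractionRing (WittVector p k) →+* FractionRing (WittVector p k)}

/-- the auxiliary lattices of the effectivity argument. -/
def Lt (hτ : Good τ) (F : N →ₛₗ[τ] N) (M : Submodule W N) (n q t : ℕ) : Submodule W N where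
  carrier := {x | ∀ i, i < n → (⇑F)^[i] x ∈ pPow (-(((t + i * q) / n : ℕ) : ℤ)) M}
  add_mem' := by
    intro x y hx hy i hi
    rw [iter_add]
    exact Submodule.add_mem _ (hx i hi) (hy i hi)
  zero_mem' := by
    intro i hi
    rw [iter_zero']
    exact Submodule.zero_mem _
  smul_mem' := by
    intro w x hx i hi
    obtain ⟨w', hw'⟩ := (hτ.pow i).exists_image w
    rw [← algebraMap_smul' w, iter_smul, hw', algebraMap_smul']
    exact Submodule.smul_mem _ _ (hx i hi)

theorem mem_Lt (hτ : Good τ) (F : N →ₛₗ[τ] N) (M : Submodule W N) (n q t : ℕ) (x : N) :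
    x ∈ Lt hτ F M n q t ↔ ∀ i, i < n → (⇑F)^[i] x ∈ pPow (-(((t + i * q) / n : ℕ) : ℤ)) M :=
  Iff.rfl

theorem Lt_mono (hτ : Good τ) (F : N →ₛₗ[τ] N) (M : Submodule W N) (n q : ℕ) {t t' : ℕ}
    (htt : t ≤ t') : Lt hτ F M n q t ≤ Lt hτ F M n q t' := by
  intro x hx i hi
  refine pPow_anti ?_ M (hx i hi)
  have : (t + i * q) / n ≤ (t' + i * q) / n := Nat.div_le_div_right (by omega)
  omega

theorem Lt_add (hτ : Good τ) (F : N →ₛₗ[τ] N) (M : Submodule W N) (n q t : ℕ) (hn : 0 < n) :
    Lt hτ F M n q (t + n) = pPow (-1) (Lt hτ F M n q t) := by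
  ext x
  rw [mem_pPow, mem_Lt, mem_Lt]
  have e : ∀ i, (t + n + i * q) / n = (t + i * q) / n + 1 := by
    intro i
    rw [show t + n + i * q = t + i * q + n by ring, Nat.add_div_right _ hn]
  constructor
  · intro hx i hi
    have := hx i hi
    rw [e, mem_pPow] at this
    rw [iter_p_smul, mem_pPow, smul_smul, ← zpow_add₀ pL_ne_zero]
    convert this using 3
    push_cast; ring_nf
  · intro hx i hi
    have := hx i hi
    rw [iter_p_smul, mem_pPow, smul_smul, ← zpow_add₀ pL_ne_zero] at this
    rw [e, mem_pPow]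
    convert this using 3
    push_cast; ring_nf

theorem Lt_map (hτ : Good τ) (F : N →ₛₗ[τ] N) (M : Submodule W N) (n q t : ℕ) (hn : 0 < n)
    (hle : latImg F n M ≤ pPow (-(q : ℤ)) M) {x : N} (hx : x ∈ Lt hτ F M n q t) :
    F x ∈ Lt hτ F M n q (t + q) := by
  intro i hi
  rw [← Function.iterate_succ_apply]
  by_cases h1 : i + 1 < n
  · have := hx (i + 1) h1
    convert this using 4
    ring_nf
  · have hin : i + 1 = n := by omega
    have h0 := hx 0 hn
    rw [Function.iterate_zero, id, zero_mul, add_zero] at h0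
    have h2 : (⇑F)^[n] x ∈ latImg F n (pPow (-((t / n : ℕ) : ℤ)) M) := iter_mem_latImg h0
    rw [latImg_pPow hτ] at h2
    have h3 := pPow_mono (r := -((t / n : ℕ) : ℤ)) hle h2
    rw [pPow_pPow] at h3
    rw [show i.succ = n from hin]
    convert h3 using 2
    have : t + q + i * q = t + n * q := by rw [← hin]; ring
    rw [this, Nat.add_mul_div_left _ _ hn]
    push_cast; ring

theorem Lt_zero_le (hτ : Good τ) (F : N →ₛₗ[τ] N) (M : Submodule W N) (n q : ℕ) (hn : 0 < n) :
    Lt hτ F M n q 0 ≤ M := by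
  intro x hx
  have := hx 0 hn
  simpa [pPow_zero] using this

theorem Lt_zero_isLattice (hτ : Good τ) (F : N →ₛₗ[τ] N) {M : Submodule W N} (hM : M.IsLattice L)
    (n q : ℕ) (hn : 0 < n) : (Lt hτ F M n q 0).IsLattice L := by
  refine ⟨?_, ?_⟩
  · have : IsNoetherian W M := isNoetherian_of_fg_of_noetherian _ hM.fg
    have : IsNoetherian W (Lt hτ F M n q 0) := isNoetherian_of_le (Lt_zero_le hτ F M n q hn)
    exact (Submodule.fg_top _).1 Module.Finite.fg_top
  · rw [eq_top_iff]
    intro x _
    have hc : ∀ i, ∃ c : ℕ, ((p : W) ^ c) • (⇑F)^[i] x ∈ M :=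
      fun i => exists_pow_smul_mem hM.span_eq_top _
    choose c hc using hc
    set C := (Finset.range n).sup c with hC
    have hmem : ((p : W) ^ C) • x ∈ Lt hτ F M n q 0 := by
      intro i hi
      rw [← p_zpow_natCast_smul, iter_p_smul, p_zpow_natCast_smul]
      have hci : c i ≤ C := Finset.le_sup (Finset.mem_range.2 hi)
      obtain ⟨e, he⟩ := Nat.exists_eq_add_of_le hci
      have h1 : ((p : W) ^ C) • (⇑F)^[i] x ∈ M := by
        rw [he, pow_add, mul_comm, mul_smul]
        exact M.smul_mem _ (hc i)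
      refine pPow_anti ?_ M (by rwa [pPow_zero])
      have : (0 : ℤ) ≤ (((0 + i * q) / n : ℕ) : ℤ) := Int.natCast_nonneg _
      omega
    have h2 : x = ((p : L) ^ (-(C : ℤ))) • (((p : W) ^ C) • x) := by
      rw [← p_zpow_natCast_smul, smul_smul, ← zpow_add₀ pL_ne_zero, neg_add_cancel, zpow_zero,
        one_smul]
    rw [h2]
    exact Submodule.smul_mem _ _ (Submodule.subset_span hmem)

/-- the effectivity lemma. -/
theorem isEffective_of_le (hτ : Good τ) [Module.Finite L N] (hfin : Module.finrank L N = h)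
    (F : N →ₛₗ[τ] N) {M : Submodule W N} (hM : M.IsLattice L) (n q : ℕ) (hn : 0 < n)
    (hle : latImg F n M ≤ pPow (-(q : ℤ)) M) (hq : (h + 1) * q ≤ n) : IsEffective F := by
  set A := Lt hτ F M n q 0 with hA
  have hAlat : A.IsLattice L := Lt_zero_isLattice hτ F hM n q hn
  have hn' : Lt hτ F M n q n = pPow (-1) A := by
    have := Lt_add hτ F M n q 0 hn
    rwa [zero_add] at this
  let X : ℕ → Submodule W N := fun j => Lt hτ F M n q (min (j * q) n)
  have hAX : ∀ j, A ≤ X j := fun j => Lt_mono hτ F M n q (Nat.zero_le _)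
  have hXA : ∀ j, X j ≤ pPow (-1) A := fun j => by
    rw [← hn']; exact Lt_mono hτ F M n q (min_le_right _ _)
  have hmono : ∀ j, X j ≤ X (j + 1) := fun j => by
    apply Lt_mono
    apply min_le_min_right
    exact Nat.mul_le_mul_right q (Nat.le_succ j)
  obtain ⟨j, hj, hjeq⟩ := chain_stationary hfin hAlat X hAX hXA hmono
  have e1 : min (j * q) n = j * q := by
    apply min_eq_left
    calc j * q ≤ (h + 1) * q := Nat.mul_le_mul_right q (by omega)
      _ ≤ n := hq
  have e2 : min ((j + 1) * q) n = j * q + q := by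
    rw [min_eq_left, Nat.succ_mul]
    calc (j + 1) * q ≤ (h + 1) * q := Nat.mul_le_mul_right q (by omega)
      _ ≤ n := hq
  simp only [X] at hjeq
  rw [e1, e2] at hjeq
  refine ⟨Lt hτ F M n q (j * q),
    isLattice_of_between (r := -1) hAlat (Lt_mono hτ F M n q (Nat.zero_le _)) ?_, ?_⟩
  · have := hXA j
    simp only [X] at this
    rwa [e1] at this
  · rw [latImg_le_iff hτ]
    intro x hx
    rw [Function.iterate_one, hjeq]
    exact Lt_map hτ F M n q (j * q) hn hle hx

end Eff

end Groth.Agent.Lib.helper25.IsocE
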