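import Groth.Agent.Lib.helper25.IsocE

/-!
# Isocrystals: first slope, rationality (helper25)
-/

set_option autoImplicit false
set_option linter.unusedSectionVars false
set_option linter.unusedVariables false
universe u v w
open Isoc
open scoped Pointwise

namespace Groth.Agent.Lib.helper25.IsocF

open Groth.Agent.Lib.helper25.IsocA Groth.Agent.Lib.helper25.IsocB Groth.Agent.Lib.helper25.IsocC
  Groth.Agent.Lib.helper25.IsocD Groth.Agent.Lib.helper25.IsocE

variable {p : ℕ} [Fact p.Prime] {k : Type u} [Field k] [CharP k p] [PerfectRing k p]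

local notation "W" => WittVector p k
local notation "L" => FractionRing (WittVector p k)

variable {N : Type v} [AddCommGroup N] [Module (WittVector p k) N]
  [Module (FractionRing (WittVector p k)) N]
  [IsScalarTower (WittVector p k) (FractionRing (WittVector p k)) N]
variable {τ : FractionRing (WittVector p k) →+* FractionRing (WittVector p k)}
variable {h : ℕ}

/-- the first slope of a twisted iterate (general twist). -/
theorem isFirstSlope_twist (hτ : Good τ) (F : N →ₛₗ[τ] N) {lam : ℝ} (hlam : IsFirstSlope F lam)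
    (m : ℤ) (n : ℕ) : IsFirstSlope (((p : L) ^ m) • iter F n) (n * lam + m) := by
  obtain ⟨M, hM, o, ho, hlim⟩ := hlam
  have hne : M ≠ ⊥ := IsOrd.ne_bot (ho 1 le_rfl)
  refine ⟨M, hM, fun j => (if n = 0 then 0 else o (n * j)) + m * j, ?_, ?_⟩
  · intro j hj
    rw [isOrd_twist_iff hτ]
    by_cases hn : n = 0
    · subst hn
      rw [if_pos rfl, zero_mul]
      exact isOrd_zero_iter hM.fg hne F
    · rw [if_neg hn]
      exact ho _ (Nat.one_le_iff_ne_zero.2 (Nat.mul_ne_zero hn (by omega)))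
  · by_cases hn : n = 0
    · subst hn
      simp only [if_true, Nat.cast_zero, zero_mul, zero_add]
      apply tendsto_const_nhds.congr'
      filter_upwards [Filter.eventually_ge_atTop 1] with j hj
      have hj0 : (j : ℝ) ≠ 0 := by
        have : (0 : ℝ) < j := by exact_mod_cast hj
        exact this.ne'
      push_cast
      field_simp
    · simp only [if_neg hn]
      have hn1 : 1 ≤ n := Nat.one_le_iff_ne_zero.2 hn
      have hcomp : Filter.Tendsto (fun j : ℕ => (o (n * j) : ℝ) / ((n * j : ℕ) : ℝ)) Filter.atTop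
          (nhds lam) := by
        have hmul : Filter.Tendsto (fun j : ℕ => n * j) Filter.atTop Filter.atTop :=
          Filter.tendsto_atTop_mono (fun j => Nat.le_mul_of_pos_left j hn1) Filter.tendsto_id
        exact hlim.comp hmul
      have h2 : Filter.Tendsto (fun j : ℕ => (n : ℝ) * ((o (n * j) : ℝ) / ((n * j : ℕ) : ℝ)) + m)
          Filter.atTop (nhds (n * lam + m)) := (hcomp.const_mul (n : ℝ)).add_const _
      apply h2.congr'
      filter_upwards [Filter.eventually_ge_atTop 1] with j hj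
      have hj0 : (j : ℝ) ≠ 0 := by
        have : (0 : ℝ) < j := by exact_mod_cast hj
        exact this.ne'
      have hn0 : (n : ℝ) ≠ 0 := by exact_mod_cast hn
      push_cast
      field_simp

/-- if `λ₁ > -1/(h+1)` then effective. -/
theorem isEffective_of_slope_gt (hτ : Good τ) [Module.Finite L N] (hfin : Module.finrank L N = h)
    (F : N →ₛₗ[τ] N) {lam : ℝ} (hlam : IsFirstSlope F lam) (hpos : -(1 : ℝ) / (h + 1) < lam) :
    IsEffective F := by
  obtain ⟨M, hM, o, ho, hlim⟩ := hlam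
  have hev : ∀ᶠ j : ℕ in Filter.atTop, -(1 : ℝ) / (h + 1) < (o j : ℝ) / j :=
    hlim.eventually (lt_mem_nhds hpos)
  obtain ⟨j, hj1, hj⟩ := ((Filter.eventually_ge_atTop 1).and hev).exists
  have hj0 : (0 : ℝ) < j := by exact_mod_cast hj1
  have hh0 : (0 : ℝ) < (h : ℝ) + 1 := by positivity
  set v := o j with hv
  -- `(h+1) * v > -j`
  have hv1 : -(j : ℝ) < ((h : ℝ) + 1) * v := by
    rw [div_lt_div_iff₀ hh0 hj0] at hj
    linarith
  have hv2 : -(j : ℤ) < ((h : ℤ) + 1) * v := by exact_mod_cast hv1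
  set q := (-v).toNat with hq
  have hqv : -(q : ℤ) ≤ v := by
    rw [hq]
    have := Int.self_le_toNat (-v)
    omega
  have hq2 : (h + 1) * q ≤ j := by
    have : ((h : ℤ) + 1) * (q : ℤ) ≤ j := by
      rcases le_or_gt 0 v with hv0 | hv0
      · have : q = 0 := by rw [hq]; exact Int.toNat_eq_zero.2 (by omega)
        rw [this]; simp
      · have : (q : ℤ) = -v := by rw [hq]; exact Int.toNat_of_nonneg (by omega)
        rw [this]
        nlinarith
    exact_mod_cast this
  exact isEffective_of_le hτ hfin F hM j q hj1 ((ho j hj1).1.trans (pPow_anti hqv M)) hq2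

/-- existence of a lattice realising a slope bound. -/
theorem exists_lattice_of_le_slope (hτ : Good τ) [Module.Finite L N]
    (hfin : Module.finrank L N = h) (F : N →ₛₗ[τ] N) {lam : ℝ} (hlam : IsFirstSlope F lam)
    (r : ℤ) (s : ℕ) (hs : 0 < s) (hrs : (r : ℝ) / s ≤ lam) :
    ∃ M : Submodule W N, M.IsLattice L ∧ latImg F s M ≤ pPow r M := by
  have h1 := isFirstSlope_twist hτ F hlam (-r) s
  have hs' : (0 : ℝ) < s := by exact_mod_cast hs
  have h2 : -(1 : ℝ) / (h + 1) < s * lam + ((-r : ℤ) : ℝ) := by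
    have h3 : (0 : ℝ) ≤ s * lam + ((-r : ℤ) : ℝ) := by
      rw [div_le_iff₀ hs'] at hrs
      push_cast
      linarith
    have h4 : -(1 : ℝ) / (h + 1) < 0 := by
      apply div_neg_of_neg_of_pos (by norm_num) (by positivity)
    linarith
  obtain ⟨M, hM, hle⟩ := isEffective_of_slope_gt (hτ.pow s) hfin _ h1 h2
  refine ⟨M, hM, ?_⟩
  rw [latImg_twist hτ] at hle
  simp only [Nat.cast_one, mul_one] at hle
  rwa [pPow_le_iff, neg_neg] at hle

theorem nontrivial_of_isFirstSlope {F : N →ₛₗ[τ] N} {lam : ℝ} (hlam : IsFirstSlope F lam) :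
    Nontrivial N := by
  obtain ⟨M, hM, o, ho, -⟩ := hlam
  have hne : M ≠ ⊥ := IsOrd.ne_bot (ho 1 le_rfl)
  by_contra hnt
  rw [not_nontrivial_iff_subsingleton] at hnt
  apply hne
  rw [eq_bot_iff]
  intro x _
  rw [Submodule.mem_bot]
  exact Subsingleton.elim _ _

/-- the first slope can be computed on any lattice, and is the supremum of `o n / n`. -/
theorem isFirstSlope_lattice (hτ : Good τ) (F : N →ₛₗ[τ] N) (hF : Function.Bijective F) {lam : ℝ}
    (hlam : IsFirstSlope F lam) {M : Submodule W N} (hM : M.IsLattice L) :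
    ∃ o : ℕ → ℤ, (∀ n, IsOrd M F n (o n)) ∧
      Filter.Tendsto (fun n : ℕ => (o n : ℝ) / n) Filter.atTop (nhds lam) ∧
      ∀ n, 1 ≤ n → (o n : ℝ) / n ≤ lam := by
  have := nontrivial_of_isFirstSlope hlam
  obtain ⟨M₁, hM₁, o₁, ho₁, hlim₁⟩ := hlam
  obtain ⟨o, ho⟩ := exists_ord_fun hτ hF hM (lattice_ne_bot hM)
  obtain ⟨C, hC⟩ := isOrd_compare hτ F hM hM₁
  obtain ⟨C', hC'⟩ := isOrd_compare hτ F hM₁ hM
  have hlim : Filter.Tendsto (fun n : ℕ => (o n : ℝ) / n) Filter.atTop (nhds lam) := by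
    have hzero : Filter.Tendsto (fun n : ℕ => (o n : ℝ) / n - (o₁ n : ℝ) / n) Filter.atTop
        (nhds 0) := by
      have hb : Filter.Tendsto (fun n : ℕ => ((C + C' : ℕ) : ℝ) / n) Filter.atTop (nhds 0) :=
        tendsto_const_div_atTop_nhds_zero_nat _
      apply squeeze_zero_norm' _ hb
      filter_upwards [Filter.eventually_ge_atTop 1] with n hn
      have hn0 : (0 : ℝ) < n := by exact_mod_cast hn
      have e1 := hC n _ _ (ho n) (ho₁ n hn)
      have e2 := hC' n _ _ (ho₁ n hn) (ho n)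
      rw [← sub_div, Real.norm_eq_abs, abs_div, abs_of_pos hn0]
      apply div_le_div_of_nonneg_right _ hn0.le
      rw [abs_le]
      have e1' : ((o n : ℤ) : ℝ) - (C : ℝ) ≤ (o₁ n : ℝ) := by exact_mod_cast e1
      have e2' : ((o₁ n : ℤ) : ℝ) - (C' : ℝ) ≤ (o n : ℝ) := by exact_mod_cast e2
      push_cast
      have hCn : (0 : ℝ) ≤ C := Nat.cast_nonneg _
      have hCn' : (0 : ℝ) ≤ C' := Nat.cast_nonneg _
      constructor <;> linarith
    have := hzero.add hlim₁
    simp only [sub_add_cancel, zero_add] at this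
    exact this
  refine ⟨o, ho, hlim, ?_⟩
  intro n hn
  have hn0 : (0 : ℝ) < n := by exact_mod_cast hn
  -- `o (n m) ≥ o n * m`
  have hmul : ∀ m : ℕ, o n * m ≤ o (n * m) := fun m =>
    IsOrd.le_of_le (ho (n * m)) (latImg_mul_le_of_le hτ (ho n).1 m)
  have hcomp : Filter.Tendsto (fun m : ℕ => (o (n * m) : ℝ) / ((n * m : ℕ) : ℝ)) Filter.atTop
      (nhds lam) := by
    have hmulT : Filter.Tendsto (fun m : ℕ => n * m) Filter.atTop Filter.atTop :=
      Filter.tendsto_atTop_mono (fun m => Nat.le_mul_of_pos_left m hn) Filter.tendsto_id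
    exact hlim.comp hmulT
  apply ge_of_tendsto hcomp
  filter_upwards [Filter.eventually_ge_atTop 1] with m hm
  have hm0 : (0 : ℝ) < m := by exact_mod_cast hm
  have h1 : ((o n * m : ℤ) : ℝ) ≤ (o (n * m) : ℝ) := by exact_mod_cast hmul m
  push_cast at h1 ⊢
  rw [div_le_div_iff₀ hn0 (by positivity)]
  nlinarith

theorem latImg_le_self_of_one (hτ : Good τ) {F : N →ₛₗ[τ] N} {M : Submodule W N}
    (hle : latImg F 1 M ≤ M) (i : ℕ) : latImg F i M ≤ M := by
  induction i with
  | zero => rw [latImg_zero]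
  | succ i ih =>
    rw [add_comm, latImg_add hτ]
    exact (latImg_mono ih).trans hle

/-- the kernel filtration of `F` modulo `p` on an `F`-stable lattice. -/
def Kf (hτ : Good τ) (F : N →ₛₗ[τ] N) (M : Submodule W N) (i : ℕ) : Submodule W N where
  carrier := {x | x ∈ M ∧ (⇑F)^[i] x ∈ pPow 1 M}
  add_mem' := by
    intro x y hx hy
    refine ⟨M.add_mem hx.1 hy.1, ?_⟩
    rw [iter_add]
    exact Submodule.add_mem _ hx.2 hy.2
  zero_mem' := ⟨M.zero_mem, by rw [iter_zero']; exact Submodule.zero_mem _⟩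
  smul_mem' := by
    intro w x hx
    refine ⟨M.smul_mem _ hx.1, ?_⟩
    obtain ⟨w', hw'⟩ := (hτ.pow i).exists_image w
    rw [← algebraMap_smul' w, iter_smul, hw', algebraMap_smul']
    exact Submodule.smul_mem _ _ hx.2

theorem mem_Kf (hτ : Good τ) (F : N →ₛₗ[τ] N) (M : Submodule W N) (i : ℕ) (x : N) :
    x ∈ Kf hτ F M i ↔ x ∈ M ∧ (⇑F)^[i] x ∈ pPow 1 M := Iff.rfl

/-- a positive first slope is at least `1/h`. -/
theorem one_div_le_of_pos (hτ : Good τ) [Module.Finite L N] (hfin : Module.finrank L N = h)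
    (F : N →ₛₗ[τ] N) (hF : Function.Bijective F) {θ : ℝ} (hθ : IsFirstSlope F θ) (hpos : 0 < θ) :
    1 / (h : ℝ) ≤ θ := by
  have hnt := nontrivial_of_isFirstSlope hθ
  have hh : 0 < h := by rw [← hfin]; exact Module.finrank_pos
  have hh' : (0 : ℝ) < h := by exact_mod_cast hh
  have hgt : -(1 : ℝ) / (h + 1) < θ := by
    have : -(1 : ℝ) / (h + 1) < 0 := div_neg_of_neg_of_pos (by norm_num) (by positivity)
    linarith
  obtain ⟨M, hM, hle⟩ := isEffective_of_slope_gt hτ hfin F hθ hgt
  obtain ⟨o, ho, hlim, hsup⟩ := isFirstSlope_lattice hτ F hF hθ hM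
  have hiter := latImg_le_self_of_one hτ hle
  -- some iterate is divisible by `p`
  have hev : ∀ᶠ n : ℕ in Filter.atTop, (0 : ℝ) < (o n : ℝ) / n := hlim.eventually (lt_mem_nhds hpos)
  obtain ⟨n, hn1, hn⟩ := ((Filter.eventually_ge_atTop 1).and hev).exists
  have hn0 : (0 : ℝ) < n := by exact_mod_cast hn1
  have hon : 1 ≤ o n := by
    have : (0 : ℝ) < (o n : ℝ) := by
      rcases (div_pos_iff.1 hn) with h1 | h1
      · exact h1.1
      · exact absurd h1.2 (not_lt.2 hn0.le)
    have : (0 : ℤ) < o n := by exact_mod_cast this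
    omega
  have hpM : ∀ i, latImg F i (pPow 1 M) ≤ pPow 1 M := fun i => by
    rw [latImg_pPow hτ]; exact pPow_mono (hiter i)
  have hpM_le : pPow 1 M ≤ M := by
    have := pPow_anti (show (0 : ℤ) ≤ 1 by norm_num) M
    rwa [pPow_zero] at this
  have hAlat : (pPow 1 M).IsLattice L := isLattice_pPow hM
  have hAX : ∀ j, pPow 1 M ≤ Kf hτ F M j := fun j x hx =>
    ⟨hpM_le hx, hpM j (iter_mem_latImg hx)⟩
  have hXA : ∀ j, Kf hτ F M j ≤ pPow (-1) (pPow 1 M) := fun j x hx => by
    rw [pPow_pPow]; simpa [pPow_zero] using hx.1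
  have hmono : ∀ j, Kf hτ F M j ≤ Kf hτ F M (j + 1) := fun j x hx => by
    refine ⟨hx.1, ?_⟩
    rw [Function.iterate_succ_apply']
    have := hpM 1 (iter_mem_latImg (s := 1) hx.2)
    rwa [Function.iterate_one] at this
  obtain ⟨j, hj, hjeq⟩ := chain_stationary hfin hAlat (Kf hτ F M) hAX hXA hmono
  have hmono' : ∀ a b, a ≤ b → Kf hτ F M a ≤ Kf hτ F M b := by
    intro a b hab
    induction hab with
    | refl => exact le_rfl
    | step _ ih => exact ih.trans (hmono _)
  have hstat : ∀ m, Kf hτ F M (j + m) ≤ Kf hτ F M j := by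
    intro m
    induction m with
    | zero => exact le_rfl
    | succ m ih =>
      intro x hx
      have hFx : F x ∈ Kf hτ F M (j + m) := by
        refine ⟨hle (by simpa using iter_mem_latImg (F := F) (s := 1) hx.1), ?_⟩
        rw [← Function.iterate_succ_apply]
        exact hx.2
      have h1 := ih hFx
      have h2 : x ∈ Kf hτ F M (j + 1) := by
        refine ⟨hx.1, ?_⟩
        rw [Function.iterate_succ_apply]
        exact h1.2
      rw [← hjeq] at h2
      exact h2
  have hall : ∀ x ∈ M, x ∈ Kf hτ F M h := by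
    intro x hx
    apply hmono' j h hj
    apply hstat n
    refine ⟨hx, ?_⟩
    rw [Function.iterate_add_apply]
    have h1 : (⇑F)^[n] x ∈ pPow 1 M :=
      pPow_anti hon M ((ho n).1 (iter_mem_latImg hx))
    exact hpM j (iter_mem_latImg h1)
  have hoh : 1 ≤ o h := by
    apply IsOrd.le_of_le (ho h)
    rw [latImg_le_iff hτ]
    intro x hx
    exact (hall x hx).2
  have h3 := hsup h hh
  have h4 : (1 : ℝ) ≤ (o h : ℝ) := by exact_mod_cast hoh
  calc 1 / (h : ℝ) ≤ (o h : ℝ) / h := div_le_div_of_nonneg_right h4 hh'.le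
    _ ≤ θ := h3

theorem twist_bijective {F : N →ₛₗ[τ] N} (hF : Function.Bijective F) (m : ℤ) (n : ℕ) :
    Function.Bijective (((p : L) ^ m) • iter F n) := by
  have hb := iterate_bijective hF n
  constructor
  · intro x y hxy
    rw [LinearMap.smul_apply, LinearMap.smul_apply] at hxy
    have := smul_right_injective N (pL_zpow_ne_zero (p := p) (k := k) m) hxy
    exact hb.injective this
  · intro y
    obtain ⟨x, hx⟩ := hb.surjective (((p : L) ^ (-m)) • y)
    refine ⟨x, ?_⟩
    rw [LinearMap.smul_apply, iter_apply, hx, smul_smul, ← zpow_add₀ pL_ne_zero, add_neg_cancel,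
      zpow_zero, one_smul]

/-- a first slope of absolute value `< 1/h` vanishes. -/
theorem slope_eq_zero_of_abs_lt (hτ : Good τ) [Module.Finite L N] (hfin : Module.finrank L N = h)
    (F : N →ₛₗ[τ] N) (hF : Function.Bijective F) {θ : ℝ} (hθ : IsFirstSlope F θ)
    (habs : |θ| < 1 / (h : ℝ)) : θ = 0 := by
  have hnt := nontrivial_of_isFirstSlope hθ
  have hh : 0 < h := by rw [← hfin]; exact Module.finrank_pos
  have hh' : (0 : ℝ) < h := by exact_mod_cast hh
  rcases lt_trichotomy θ 0 with hneg | hzero | hpos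
  · exfalso
    have hnθ : 0 < -θ := by linarith
    set x : ℝ := 1 / (-θ) with hx
    have hxpos : 0 < x := by positivity
    set Mc : ℕ := ⌈x⌉₊ with hMc
    have hM1 : x ≤ Mc := Nat.le_ceil x
    have hM2 : (Mc : ℝ) < x + 1 := Nat.ceil_lt_add_one hxpos.le
    have hMpos : 0 < Mc := Nat.ceil_pos.2 hxpos
    set m : ℕ := Mc - 1 with hm
    have hmM : (m : ℝ) = Mc - 1 := by
      rw [hm, Nat.cast_sub hMpos]; simp
    have hxθ : x * (-θ) = 1 := by rw [hx]; exact one_div_mul_cancel hnθ.ne'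
    have e1 : (m : ℝ) * (-θ) < 1 := by
      have : (m : ℝ) < x := by rw [hmM]; linarith
      calc (m : ℝ) * (-θ) < x * (-θ) := mul_lt_mul_of_pos_right this hnθ
        _ = 1 := hxθ
    have e2 : 1 ≤ (Mc : ℝ) * (-θ) := by
      calc 1 = x * (-θ) := hxθ.symm
        _ ≤ Mc * (-θ) := mul_le_mul_of_nonneg_right hM1 hnθ.le
    have hslope := isFirstSlope_twist hτ F hθ 1 m
    have hpos' : 0 < (m : ℝ) * θ + ((1 : ℤ) : ℝ) := by push_cast; nlinarith
    have hlt : (m : ℝ) * θ + ((1 : ℤ) : ℝ) < 1 / (h : ℝ) := by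
      have h1 : |θ| = -θ := abs_of_neg hneg
      rw [h1] at habs
      push_cast
      have : (m : ℝ) * θ + 1 = 1 - Mc * (-θ) + (-θ) := by rw [hmM]; ring
      rw [this]
      linarith
    have := one_div_le_of_pos (hτ.pow m) hfin _ (twist_bijective hF 1 m) hslope hpos'
    linarith
  · exact hzero
  · exfalso
    have := one_div_le_of_pos hτ hfin F hF hθ hpos
    rw [abs_of_pos hpos] at habs
    linarith

/-- rationality of the first slope with denominator at most the height. -/
theorem exists_rat_slope (hτ : Good τ) [Module.Finite L N] (hfin : Module.finrank L N = h)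
    (F : N →ₛₗ[τ] N) (hF : Function.Bijective F) {lam : ℝ} (hlam : IsFirstSlope F lam) :
    ∃ (r : ℤ) (s : ℕ), 0 < s ∧ s ≤ h ∧ lam = (r : ℝ) / s := by
  have hnt := nontrivial_of_isFirstSlope hlam
  have hh : 0 < h := by rw [← hfin]; exact Module.finrank_pos
  have hh' : (0 : ℝ) < h := by exact_mod_cast hh
  obtain ⟨j, kk, hk0, hk1, habs⟩ := Real.exists_int_int_abs_mul_sub_le lam hh
  obtain ⟨s, rfl⟩ : ∃ s : ℕ, kk = s := ⟨kk.toNat, (Int.toNat_of_nonneg hk0.le).symm⟩
  have hs : 0 < s := by exact_mod_cast hk0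
  have hsh : s ≤ h := by exact_mod_cast hk1
  have hs' : (0 : ℝ) < s := by exact_mod_cast hs
  refine ⟨j, s, hs, hsh, ?_⟩
  have hslope := isFirstSlope_twist hτ F hlam (-j) s
  have hlt : |(s : ℝ) * lam + ((-j : ℤ) : ℝ)| < 1 / (h : ℝ) := by
    have h1 : (s : ℝ) * lam + ((-j : ℤ) : ℝ) = ((s : ℤ) : ℝ) * lam - j := by push_cast; ring
    rw [h1]
    refine lt_of_le_of_lt habs ?_
    apply one_div_lt_one_div_of_lt hh'
    linarith
  have hzero := slope_eq_zero_of_abs_lt (hτ.pow s) hfin _ (twist_bijective hF (-j) s) hslope hlt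
  push_cast at hzero
  rw [eq_div_iff hs'.ne']
  linarith

end Groth.Agent.Lib.helper25.IsocF
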