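import Groth.Agent.Lib.helper25.IsocF

/-!
# Isocrystals: independence of slope parts (helper25)
-/

set_option autoImplicit false
set_option linter.unusedSectionVars false
set_option linter.unusedVariables false
universe u v w
open Isoc
open scoped Pointwise

namespace Groth.Agent.Lib.helper25.IsocG

open Groth.Agent.Lib.helper25.IsocA Groth.Agent.Lib.helper25.IsocB Groth.Agent.Lib.helper25.IsocC
  Groth.Agent.Lib.helper25.IsocD Groth.Agent.Lib.helper25.IsocE Groth.Agent.Lib.helper25.IsocF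

variable {p : ℕ} [Fact p.Prime] {k : Type u} [Field k] [CharP k p] [PerfectRing k p]

local notation "W" => WittVector p k
local notation "L" => FractionRing (WittVector p k)

section Hom

variable {N₁ : Type v} [AddCommGroup N₁] [Module (WittVector p k) N₁]
  [Module (FractionRing (WittVector p k)) N₁]
  [IsScalarTower (WittVector p k) (FractionRing (WittVector p k)) N₁]
variable {N₂ : Type w} [AddCommGroup N₂] [Module (WittVector p k) N₂]
  [Module (FractionRing (WittVector p k)) N₂]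
  [IsScalarTower (WittVector p k) (FractionRing (WittVector p k)) N₂]
variable {τ : FractionRing (WittVector p k) →+* FractionRing (WittVector p k)}

/-- ambient version of the vanishing of morphisms between different slopes. -/
theorem hom_vanish (hτ : Good τ) {F₁ : N₁ →ₛₗ[τ] N₁} {F₂ : N₂ →ₛₗ[τ] N₂}
    (hF₂ : Function.Injective F₂)
    {M₁ : Submodule W N₁} (hM₁ : M₁.FG) {M₂ : Submodule W N₂} (hM₂ : M₂.FG)
    {r₁ r₂ : ℤ} {s₁ s₂ : ℕ} (hs₁ : 0 < s₁) (hs₂ : 0 < s₂)
    (h₁ : latImg F₁ s₁ M₁ = pPow r₁ M₁) (h₂ : latImg F₂ s₂ M₂ = pPow r₂ M₂)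
    (hne : r₁ * s₂ ≠ r₂ * s₁)
    (f : N₁ →ₗ[L] N₂) (hf : ∀ x, f (F₁ x) = F₂ (f x))
    (hfM : ∀ x ∈ M₁, f x ∈ Submodule.span L (M₂ : Set N₂)) : ∀ x ∈ M₁, f x = 0 := by
  set Y := mapW f M₁ with hY
  have hYfg : Y.FG := mapW_fg f hM₁
  obtain ⟨c, hc⟩ := exists_pPow_le' hYfg (fun y hy => by
    obtain ⟨x, hx, rfl⟩ := mem_mapW.1 hy
    exact hfM x hx)
  have hYc : Y ≤ pPow (-(c : ℤ)) M₂ := by rwa [le_pPow_iff, neg_neg]
  have e₁ : ∀ n : ℕ, latImg F₂ (s₁ * (s₂ * n)) Y = pPow (r₁ * ((s₂ * n : ℕ) : ℤ)) Y := by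
    intro n
    rw [hY, ← mapW_latImg hτ hf, latImg_mul_of_eq hτ h₁, mapW_pPow]
  have e₂ : ∀ n : ℕ, latImg F₂ (s₁ * (s₂ * n)) M₂ = pPow (r₂ * ((s₁ * n : ℕ) : ℤ)) M₂ := by
    intro n
    rw [show s₁ * (s₂ * n) = s₂ * (s₁ * n) by ring, latImg_mul_of_eq hτ h₂]
  have key : ∀ n : ℕ, Y ≤ pPow ((r₂ * s₁ - r₁ * s₂) * n - c) M₂ ∧
      Y ≤ pPow ((r₁ * s₂ - r₂ * s₁) * n - c) M₂ := by
    intro n
    constructor
    · have h1 : pPow (r₁ * ((s₂ * n : ℕ) : ℤ)) Y ≤ pPow (-(c : ℤ)) (pPow (r₂ * ((s₁ * n : ℕ) : ℤ)) M₂) := by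
        rw [← e₁ n, ← e₂ n, ← latImg_pPow hτ]
        exact latImg_mono hYc
      rw [pPow_le_iff, pPow_pPow, pPow_pPow] at h1
      convert h1 using 2
      push_cast; ring
    · have h1 : latImg F₂ (s₁ * (s₂ * n)) Y ≤
          latImg F₂ (s₁ * (s₂ * n)) (pPow ((r₁ * s₂ - r₂ * s₁) * n - c) M₂) := by
        rw [e₁ n, latImg_pPow hτ, e₂ n, pPow_pPow]
        refine (pPow_mono hYc).trans ?_
        rw [pPow_pPow]
        apply le_of_eq
        congr 1
        push_cast; ring
      exact (latImg_le_latImg_iff' hτ hF₂).1 h1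
  have hYbot : Y = ⊥ := by
    apply eq_bot_of_forall_le_pPow hM₂
    intro m
    rcases lt_or_gt_of_ne hne with hlt | hgt
    · have hpos : 1 ≤ r₂ * s₁ - r₁ * s₂ := by omega
      refine ((key (m + c)).1).trans (pPow_anti ?_ M₂)
      push_cast
      nlinarith
    · have hpos : 1 ≤ r₁ * s₂ - r₂ * s₁ := by omega
      refine ((key (m + c)).2).trans (pPow_anti ?_ M₂)
      push_cast
      nlinarith
  intro x hx
  have : f x ∈ Y := mem_mapW.2 ⟨x, hx, rfl⟩
  rw [hYbot, Submodule.mem_bot] at this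
  exact this

end Hom

section Indep

variable {N : Type v} [AddCommGroup N] [Module (WittVector p k) N]
  [Module (FractionRing (WittVector p k)) N]
  [IsScalarTower (WittVector p k) (FractionRing (WittVector p k)) N]
variable {τ : FractionRing (WittVector p k) →+* FractionRing (WittVector p k)}

/-- a bijective semilinear map restricts to a surjection on stable subspaces. -/
theorem exists_preimage_mem_of_stable (hτ : Good τ) [Module.Finite L N] (F : N →ₛₗ[τ] N)
    (hF : Function.Bijective F) (P : Submodule L N) (hP : ∀ x ∈ P, F x ∈ P) :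
    ∀ y ∈ P, ∃ x ∈ P, F x = y := by
  have hrestr_inj : Function.Injective (F.restrict hP) := by
    intro x y hxy
    apply Subtype.ext
    apply hF.injective
    exact congrArg Subtype.val hxy
  have hrestr_surj : Function.Surjective (F.restrict hP) :=
    semilinear_surjective_of_injective hτ.bijective.surjective _ hrestr_inj
  intro y hy
  obtain ⟨⟨x, hx⟩, hxy⟩ := hrestr_surj ⟨y, hy⟩
  exact ⟨x, hx, congrArg Subtype.val hxy⟩

theorem iter_mem_of_stable (F : N →ₛₗ[τ] N) (P : Submodule L N) (hP : ∀ x ∈ P, F x ∈ P) (n : ℕ)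
    (x : N) (hx : x ∈ P) : (⇑F)^[n] x ∈ P := by
  induction n with
  | zero => exact hx
  | succ n ih => rw [Function.iterate_succ_apply']; exact hP _ ih

theorem exists_iter_preimage_mem_of_stable (hτ : Good τ) [Module.Finite L N] (F : N →ₛₗ[τ] N)
    (hF : Function.Bijective F) (P : Submodule L N) (hP : ∀ x ∈ P, F x ∈ P) (n : ℕ) :
    ∀ y ∈ P, ∃ x ∈ P, (⇑F)^[n] x = y := by
  induction n with
  | zero => intro y hy; exact ⟨y, hy, rfl⟩
  | succ n ih =>
    intro y hy
    obtain ⟨z, hz, hzy⟩ := exists_preimage_mem_of_stable hτ F hF P hP y hy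
    obtain ⟨x, hx, hxz⟩ := ih z hz
    refine ⟨x, hx, ?_⟩
    rw [Function.iterate_succ_apply', hxz, hzy]

/-- stable subspaces of an isoclinic subspace are isoclinic of the same slope. -/
theorem isoOn_of_le (hτ : Good τ) [Module.Finite L N] (F : N →ₛₗ[τ] N)
    (hF : Function.Bijective F) {μ : ℚ} {P₀ P : Submodule L N} (h₀ : IsoOn F μ P₀) (hPP₀ : P ≤ P₀)
    (hP : ∀ x ∈ P, F x ∈ P) : IsoOn F μ P := by
  obtain ⟨M, hMfg, hMsp, r, s, hs, hrs, hFM⟩ := h₀
  set MP : Submodule W N := M ⊓ P.restrictScalars W with hMP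
  refine ⟨MP, ?_, ?_, r, s, hs, hrs, ?_⟩
  · have : IsNoetherian W M := isNoetherian_of_fg_of_noetherian M hMfg
    have : IsNoetherian W MP := isNoetherian_of_le (inf_le_left : MP ≤ M)
    exact (Submodule.fg_top MP).1 Module.Finite.fg_top
  · apply le_antisymm
    · rw [Submodule.span_le]
      intro x hx
      exact hx.2
    · intro x hx
      have hx0 : x ∈ Submodule.span L (M : Set N) := by rw [hMsp]; exact hPP₀ hx
      obtain ⟨n, hn⟩ := exists_pow_smul_mem' hx0
      have h1 : ((p : W) ^ n) • x ∈ MP := by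
        refine ⟨hn, ?_⟩
        show ((p : W) ^ n) • x ∈ P
        rw [← algebraMap_smul' ((p : W) ^ n)]
        exact P.smul_mem _ hx
      have h2 : x = ((p : L) ^ (-(n : ℤ))) • (((p : W) ^ n) • x) := by
        rw [← p_zpow_natCast_smul, smul_smul, ← zpow_add₀ pL_ne_zero, neg_add_cancel, zpow_zero,
          one_smul]
      rw [h2]
      exact Submodule.smul_mem _ _ (Submodule.subset_span h1)
  · apply le_antisymm
    · rw [latImg_le_iff hτ]
      intro x hx
      have h1 : (⇑F)^[s] x ∈ pPow r M := by rw [← hFM]; exact iter_mem_latImg hx.1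
      rw [mem_pPow] at h1 ⊢
      exact ⟨h1, P.smul_mem _ (iter_mem_of_stable F P hP s x hx.2)⟩
    · intro y hy
      rw [mem_pPow] at hy
      have hyP : y ∈ P := by
        have := P.smul_mem ((p : L) ^ r) hy.2
        rwa [smul_smul, ← zpow_add₀ pL_ne_zero, add_neg_cancel, zpow_zero, one_smul] at this
      have hyM : y ∈ latImg F s M := by rw [hFM, mem_pPow]; exact hy.1
      obtain ⟨x, hx, hxy⟩ := (mem_latImg hτ).1 hyM
      obtain ⟨x', hx', hxy'⟩ := exists_iter_preimage_mem_of_stable hτ F hF P hP s y hyP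
      have : x = x' := (iterate_bijective hF s).injective (hxy.trans hxy'.symm)
      rw [mem_latImg hτ]
      exact ⟨x, ⟨hx, this ▸ hx'⟩, hxy⟩

/-- an isoclinic subspace of slope `μ` inside a finite sum of stable isoclinic subspaces of other
slopes vanishes. -/
theorem eq_bot_of_isoOn_le_sup (hτ : Good τ) [Module.Finite L N] (F : N →ₛₗ[τ] N)
    (hF : Function.Bijective F) (μ : ℚ) (T : Finset (Submodule L N))
    (hT : ∀ X ∈ T, (∀ x ∈ X, F x ∈ X) ∧ ∃ ν : ℚ, ν ≠ μ ∧ IsoOn F ν X)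
    (Q : Submodule L N) (hQ : IsoOn F μ Q) (hle : Q ≤ T.sup id) : Q = ⊥ := by
  classical
  induction T using Finset.induction_on generalizing Q with
  | empty => simpa using hle
  | insert X₀ T' hX₀ ih =>
    have hT' : ∀ X ∈ T', (∀ x ∈ X, F x ∈ X) ∧ ∃ ν : ℚ, ν ≠ μ ∧ IsoOn F ν X :=
      fun X hX => hT X (Finset.mem_insert_of_mem hX)
    obtain ⟨hX₀st, ν₀, hν₀, hX₀iso⟩ := hT X₀ (Finset.mem_insert_self _ _)
    set S := T'.sup id with hS
    have hSst : ∀ x ∈ S, F x ∈ S := by
      rw [hS]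
      apply Finset.sup_induction (p := fun X : Submodule L N => ∀ x ∈ X, F x ∈ X)
      · intro x hx
        rw [Submodule.mem_bot] at hx
        rw [hx, map_zero]; exact Submodule.zero_mem _
      · intro A hA B hB x hx
        obtain ⟨a, ha, b, hb, rfl⟩ := Submodule.mem_sup.1 hx
        rw [map_add]
        exact Submodule.add_mem_sup (hA a ha) (hB b hb)
      · intro X hX
        exact (hT' X hX).1
    rw [Finset.sup_insert, id] at hle
    apply ih hT' Q hQ
    -- show `Q ≤ S`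
    obtain ⟨MQ, hMQfg, hMQsp, r, s, hs, hrs, hFMQ⟩ := hQ
    obtain ⟨M₀, hM₀fg, hM₀sp, r₀, s₀, hs₀, hrs₀, hFM₀⟩ := hX₀iso
    have hSle : S ≤ S.comap F := fun x hx => hSst x hx
    set F₂ := S.mapQ S F hSle with hF₂
    have hcomm : ∀ x, S.mkQ (F x) = F₂ (S.mkQ x) := fun x => rfl
    have hF₂inj : Function.Injective F₂ := by
      rw [injective_iff_map_eq_zero]
      intro y hy
      obtain ⟨x, rfl⟩ := Submodule.mkQ_surjective S y
      rw [← hcomm, Submodule.mkQ_apply, Submodule.Quotient.mk_eq_zero] at hy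
      obtain ⟨x', hx', hxx'⟩ := exists_preimage_mem_of_stable hτ F hF S hSst _ hy
      have : x' = x := hF.injective hxx'
      rw [Submodule.mkQ_apply, Submodule.Quotient.mk_eq_zero, ← this]
      exact hx'
    have hne : r * s₀ ≠ r₀ * s := by
      intro h
      apply hν₀
      rw [← hrs, ← hrs₀]
      have hs' : (s : ℚ) ≠ 0 := by exact_mod_cast hs.ne'
      have hs₀' : (s₀ : ℚ) ≠ 0 := by exact_mod_cast hs₀.ne'
      rw [div_eq_div_iff hs₀' hs']
      exact_mod_cast h.symm
    have hvan := hom_vanish hτ hF₂inj hMQfg (mapW_fg S.mkQ hM₀fg) hs hs₀ hFMQ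
      (by rw [← mapW_latImg hτ hcomm, hFM₀, mapW_pPow]) hne S.mkQ hcomm
      (by
        intro x hx
        rw [span_mapW, hM₀sp]
        have hxQ : x ∈ Q := by rw [← hMQsp]; exact Submodule.subset_span hx
        obtain ⟨a, ha, b, hb, rfl⟩ := Submodule.mem_sup.1 (hle hxQ)
        refine ⟨a, ha, ?_⟩
        rw [map_add, (Submodule.mkQ_apply S b), (Submodule.Quotient.mk_eq_zero S).2 hb, add_zero])
    rw [← hMQsp, Submodule.span_le]
    intro x hx
    have := hvan x hx
    rwa [Submodule.mkQ_apply, Submodule.Quotient.mk_eq_zero] at this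

theorem slopePart_iSupIndep (hτ : Good τ) [Module.Finite L N] (F : N →ₛₗ[τ] N)
    (hF : Function.Bijective F) : iSupIndep (fun μ : ℚ => slopePart F μ) := by
  classical
  rw [iSupIndep_def']
  intro μ
  have hwf : WellFoundedGT (Submodule L N) := inferInstance
  obtain ⟨T, hTsub, hTsup⟩ := CompleteLattice.WellFoundedGT.isSupFiniteCompact (Submodule L N)
    ((fun ν : ℚ => slopePart F ν) '' {ν | ν ≠ μ})
  rw [hTsup, disjoint_iff]
  have hT : ∀ X ∈ T, (∀ x ∈ X, F x ∈ X) ∧ ∃ ν : ℚ, ν ≠ μ ∧ IsoOn F ν X := by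
    intro X hX
    obtain ⟨ν, hν, rfl⟩ := hTsub hX
    exact ⟨(slopePart_spec hτ F ν).1, ν, hν, (slopePart_spec hτ F ν).2⟩
  have hTst : ∀ x ∈ T.sup id, F x ∈ T.sup id := by
    apply Finset.sup_induction (p := fun X : Submodule L N => ∀ x ∈ X, F x ∈ X)
    · intro x hx
      rw [Submodule.mem_bot] at hx
      rw [hx, map_zero]; exact Submodule.zero_mem _
    · intro A hA B hB x hx
      obtain ⟨a, ha, b, hb, rfl⟩ := Submodule.mem_sup.1 hx
      rw [map_add]
      exact Submodule.add_mem_sup (hA a ha) (hB b hb)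
    · intro X hX
      exact (hT X hX).1
  apply eq_bot_of_isoOn_le_sup hτ F hF μ T hT _ _ inf_le_right
  apply isoOn_of_le hτ F hF (slopePart_spec hτ F μ).2 inf_le_left
  intro x hx
  exact ⟨(slopePart_spec hτ F μ).1 x hx.1, hTst x hx.2⟩

end Indep

end Groth.Agent.Lib.helper25.IsocG
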