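import Groth.Agent.Lib.helper25.IsocG

/-!
# Isocrystals: completeness of lattices and the unit-root part (helper25)
-/

set_option autoImplicit false
set_option linter.unusedSectionVars false
set_option linter.unusedVariables false
universe u v w
open Isoc
open scoped Pointwise

namespace Groth.Agent.Lib.helper25.IsocH

open Groth.Agent.Lib.helper25.IsocA Groth.Agent.Lib.helper25.IsocB Groth.Agent.Lib.helper25.IsocC
  Groth.Agent.Lib.helper25.IsocD Groth.Agent.Lib.helper25.IsocE Groth.Agent.Lib.helper25.IsocF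
  Groth.Agent.Lib.helper25.IsocG

variable {p : ℕ} [Fact p.Prime] {k : Type u} [Field k] [CharP k p] [PerfectRing k p]

local notation "W" => WittVector p k
local notation "L" => FractionRing (WittVector p k)

variable {N : Type v} [AddCommGroup N] [Module (WittVector p k) N]
  [Module (FractionRing (WittVector p k)) N]
  [IsScalarTower (WittVector p k) (FractionRing (WittVector p k)) N]

variable {h : ℕ}

/-- pigeonhole for increasing chains of lattices between `A` and `p^{-m}A`. -/
theorem chain_stationary_gen [Module.Finite L N] (hfin : Module.finrank L N = h) {A : Submodule W N}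
    (hA : A.IsLattice L) (m : ℕ) (X : ℕ → Submodule W N) (hAX : ∀ j, A ≤ X j)
    (hXA : ∀ j, X j ≤ pPow (-(m : ℤ)) A) (hmono : ∀ j, X j ≤ X (j + 1)) :
    ∃ j, j ≤ h * m ∧ X j = X (j + 1) := by
  classical
  by_contra hcon
  rw [not_exists] at hcon
  have hne : ∀ j, j ≤ h * m → X j ≠ X (j + 1) := fun j hj heq => hcon j ⟨hj, heq⟩
  have hlat : ∀ j, (X j).IsLattice L := fun j => isLattice_of_between hA (hAX j) (hXA j)
  let b₀ : Module.Basis (Fin h) L N := hfin ▸ Module.finBasis L N
  have hB : ∀ j, Nonempty (Adapted (X j) h) := fun j => exists_adapted_fin b₀ (hlat j)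
  let B : ∀ j, Adapted (X j) h := fun j => (hB j).some
  set e₀ := (B 0).e with he₀
  have hg : ∀ j, ∃ c : ℤ, IsOrdP (detCoeff e₀ (trans (B j) (B 0))) c := fun j =>
    exists_isOrdP_detCoeff good_id _ (trans_bijective (B j) (B 0)) e₀
  choose c hc using hg
  have hstep : ∀ j, j ≤ h * m → c (j + 1) + 1 ≤ c j := by
    intro j hj
    obtain ⟨t, ht1, ht⟩ := index_pos (hmono j) (hne j hj) (B j) (B (j + 1))
    have hcomp : (trans (B j) (B 0) : N → N) = (trans (B j) (B (j + 1))) ∘ (trans (B (j + 1)) (B 0)) := by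
      have : trans (B j) (B 0) = (trans (B j) (B (j + 1))).comp (trans (B (j + 1)) (B 0)) := by
        apply (B 0).e.ext
        intro i
        rw [LinearMap.comp_apply, trans_basis, trans_basis, trans_basis]
      rw [this]; rfl
    have h1 := det_matf_comp e₀ (trans (B j) (B (j + 1)) : N →ₛₗ[RingHom.id L] N)
      (trans (B (j + 1)) (B 0))
    rw [← hcomp, RingHom.id_apply] at h1
    have h2 := isOrdP_detCoeff_basis good_id (B (j + 1)).e e₀ (trans (B j) (B (j + 1))) ht
    have h3 := IsOrdP.mul h2 (hc (j + 1))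
    rw [detCoeff_eq, detCoeff_eq, ← h1] at h3
    have h4 := IsOrdP.unique (hc j) h3
    omega
  have hc0 : c 0 = 0 := by
    have : (trans (B 0) (B 0) : N → N) = id := by
      have : trans (B 0) (B 0) = LinearMap.id := by
        apply (B 0).e.ext
        intro i
        rw [trans_basis]; rfl
      rw [this]; rfl
    have h1 := hc 0
    rw [detCoeff_eq, this, matf_id, Matrix.det_one] at h1
    exact IsOrdP.unique h1 isOrdP_one
  have hlast : (-(m : ℤ)) * h ≤ c (h * m + 1) := by
    apply (B 0).le_of_isOrdP _ (-(m : ℤ)) _ (hc (h * m + 1))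
    intro x hx
    have := trans_mem (B (h * m + 1)) (B 0) hx
    exact pPow_mono (hAX 0) (hXA _ this)
  have hsum : ∀ j, j ≤ h * m + 1 → c j + j ≤ c 0 := by
    intro j
    induction j with
    | zero => intro _; simp
    | succ j ih =>
      intro hj
      have := hstep j (by omega)
      have := ih (by omega)
      push_cast
      omega
  have := hsum (h * m + 1) le_rfl
  push_cast at this
  have e : (-(m : ℤ)) * h = -((h : ℤ) * m) := by ring
  rw [e] at hlast
  omega

/-- decreasing chains of lattices between `p^m A` and `A` have a repetition. -/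
theorem antitone_stationary [Module.Finite L N] (hfin : Module.finrank L N = h) {A : Submodule W N}
    (hA : A.IsLattice L) (m : ℕ) (Y : ℕ → Submodule W N) (hAY : ∀ j, pPow (m : ℤ) A ≤ Y j)
    (hYA : ∀ j, Y j ≤ A) (hanti : ∀ j, Y (j + 1) ≤ Y j) :
    ∃ j, Y j = Y (j + 1) := by
  set B := h * m + 1 with hB
  have hA' : (pPow (m : ℤ) A).IsLattice L := isLattice_pPow hA
  have hanti' : ∀ i j, i ≤ j → Y j ≤ Y i := by
    intro i j hij
    induction j, hij using Nat.le_induction with
    | base => exact le_rfl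
    | succ j _ ih => exact (hanti j).trans ih
  obtain ⟨j, hj, hjeq⟩ := chain_stationary_gen hfin hA' m (fun j => Y (B - j))
    (fun j => hAY _) (fun j => by
      rw [pPow_pPow, neg_add_cancel, pPow_zero]; exact hYA _)
    (fun j => hanti' _ _ (by omega))
  refine ⟨B - (j + 1), ?_⟩
  have e : B - (j + 1) + 1 = B - j := by omega
  rw [e]
  exact hjeq.symm


/-- `W` is `p`-adically complete, in elementary form. -/
theorem exists_limit_W (c : ℕ → W) (hc : ∀ m, ∃ w : W, c (m + 1) - c m = (p : W) ^ m * w) :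
    ∃ d : W, ∀ m, ∃ w : W, d - c m = (p : W) ^ m * w := by
  have hcomp : IsAdicComplete (Ideal.span {(p : W)}) W := WittVector.isAdicCompleteIdealSpanP
  have hprec : IsPrecomplete (Ideal.span {(p : W)}) W := hcomp.toIsPrecomplete
  have hmem : ∀ (m : ℕ) (x : W), x ∈ (Ideal.span {(p : W)} ^ m • ⊤ : Submodule W W) ↔
      ∃ w : W, x = (p : W) ^ m * w := by
    intro m x
    rw [smul_eq_mul, Ideal.mul_top, Ideal.span_singleton_pow, Ideal.mem_span_singleton']
    constructor
    · rintro ⟨a, rfl⟩; exact ⟨a, mul_comm _ _⟩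
    · rintro ⟨a, rfl⟩; exact ⟨a, mul_comm _ _⟩
  have hstep : ∀ m n, m ≤ n → ∃ w : W, c n - c m = (p : W) ^ m * w := by
    intro m n hmn
    induction n, hmn using Nat.le_induction with
    | base => exact ⟨0, by simp⟩
    | succ n hmn ih =>
      obtain ⟨w, hw⟩ := ih
      obtain ⟨w', hw'⟩ := hc n
      obtain ⟨t, rfl⟩ := Nat.exists_eq_add_of_le hmn
      refine ⟨w + (p : W) ^ t * w', ?_⟩
      have : c (m + t + 1) - c m = (c (m + t + 1) - c (m + t)) + (c (m + t) - c m) := by ring
      rw [this, hw, hw', pow_add]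
      ring
  obtain ⟨d, hd⟩ := hprec.prec (f := c) (by
    intro m n hmn
    rw [SModEq.sub_mem, hmem]
    obtain ⟨w, hw⟩ := hstep m n hmn
    exact ⟨-w, by rw [mul_neg, ← hw]; ring⟩)
  refine ⟨d, fun m => ?_⟩
  have := hd m
  rw [SModEq.sub_mem, hmem] at this
  obtain ⟨w, hw⟩ := this
  exact ⟨-w, by rw [mul_neg, ← hw]; ring⟩

/-- lattices are `p`-adically complete. -/
theorem exists_limit {M : Submodule W N} (hM : M.IsLattice L) (f : ℕ → N) (hf : ∀ m, f m ∈ M)
    (hdiff : ∀ m : ℕ, f (m + 1) - f m ∈ pPow (m : ℤ) M) :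
    ∃ y ∈ M, ∀ m : ℕ, y - f m ∈ pPow (m : ℤ) M := by
  classical
  obtain ⟨n, ⟨A⟩⟩ := exists_adapted hM
  have hco : ∀ m i, ∃ w : W, A.e.repr (f m) i = algebraMap W L w := fun m i =>
    A.repr_int (f m) (hf m) i
  choose c hc using hco
  have hcd : ∀ i m, ∃ w : W, c (m + 1) i - c m i = (p : W) ^ m * w := by
    intro i m
    have h1 := hdiff m
    rw [mem_pPow] at h1
    obtain ⟨w, hw⟩ := A.repr_int _ h1 i
    refine ⟨w, ?_⟩
    apply IsFractionRing.injective W L
    rw [map_sub, map_mul, ← hw, ← hc, ← hc, map_smul, map_sub, algebraMap_p_pow]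
    simp only [Finsupp.smul_apply, Finsupp.sub_apply, smul_eq_mul]
    rw [← mul_assoc, ← zpow_add₀ pL_ne_zero, add_neg_cancel, zpow_zero, one_mul]
  have hlim : ∀ i, ∃ d : W, ∀ m, ∃ w : W, d - c m i = (p : W) ^ m * w := fun i =>
    exists_limit_W (fun m => c m i) (hcd i)
  choose d hd using hlim
  refine ⟨∑ i, (d i) • A.e i, ?_, ?_⟩
  · exact Submodule.sum_mem _ fun i _ => M.smul_mem _ (A.mem i)
  · intro m
    rw [mem_pPow]
    apply A.mem_of_repr
    intro i
    obtain ⟨w, hw⟩ := hd i m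
    refine ⟨w, ?_⟩
    have h1 : A.e.repr (∑ j, (d j) • A.e j) i = algebraMap W L (d i) := by
      have : (∑ j, (d j) • A.e j) = ∑ j, (algebraMap W L (d j)) • A.e j := by
        apply Finset.sum_congr rfl
        intro j _
        rw [algebraMap_smul']
      rw [this, Module.Basis.repr_sum_self]
    rw [map_smul, map_sub]
    simp only [Finsupp.smul_apply, Finsupp.sub_apply, smul_eq_mul]
    rw [h1, hc, ← map_sub, hw, map_mul, algebraMap_p_pow, ← mul_assoc, ← zpow_add₀ pL_ne_zero,
      neg_add_cancel, zpow_zero, one_mul]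

variable {τ : FractionRing (WittVector p k) →+* FractionRing (WittVector p k)}

theorem latImg_anti_of_le (hτ : Good τ) {Φ : N →ₛₗ[τ] N} {M : Submodule W N}
    (hle : latImg Φ 1 M ≤ M) (n : ℕ) : latImg Φ (n + 1) M ≤ latImg Φ n M := by
  rw [latImg_add hτ]
  exact latImg_mono hle

theorem latImg_anti_of_le' (hτ : Good τ) {Φ : N →ₛₗ[τ] N} {M : Submodule W N}
    (hle : latImg Φ 1 M ≤ M) {i j : ℕ} (hij : i ≤ j) : latImg Φ j M ≤ latImg Φ i M := by
  induction j, hij using Nat.le_induction with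
  | base => exact le_rfl
  | succ j _ ih => exact (latImg_anti_of_le hτ hle j).trans ih

/-- the key compactness statement: if no `Φ^n M` lies in `pM`, the intersection of the `Φ^n M`
is not contained in `pM`. -/
theorem exists_mem_forall_latImg (hτ : Good τ) [Module.Finite L N] (hfin : Module.finrank L N = h)
    (Φ : N →ₛₗ[τ] N) (hΦ : Function.Bijective Φ) {M : Submodule W N} (hM : M.IsLattice L)
    (hle : latImg Φ 1 M ≤ M) (hnot : ∀ n, ¬ latImg Φ n M ≤ pPow 1 M) :
    ∃ y, (∀ n, y ∈ latImg Φ n M) ∧ y ∉ pPow 1 M := by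
  classical
  set D : ℕ → Submodule W N := fun n => latImg Φ n M with hD
  have hDM : ∀ n, D n ≤ M := fun n => latImg_le_self_of_one hτ hle n
  have hDanti : ∀ i j, i ≤ j → D j ≤ D i := fun i j hij => latImg_anti_of_le' hτ hle hij
  have hDlat : ∀ n, (D n).IsLattice L := fun n => latImg_isLattice hτ hΦ n hM
  have hc : ∀ n, ∃ c : ℕ, pPow (c : ℤ) M ≤ D n := fun n =>
    exists_pPow_le hM.fg (hDlat n).span_eq_top
  set Y : ℕ → ℕ → Submodule W N := fun m n => D n ⊔ pPow (m : ℤ) M with hY
  have hpM : ∀ m : ℕ, pPow (m : ℤ) M ≤ M := fun m => by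
    have := pPow_anti (show (0 : ℤ) ≤ (m : ℤ) by positivity) M
    rwa [pPow_zero] at this
  have hYM : ∀ m n, Y m n ≤ M := fun m n => sup_le (hDM n) (hpM m)
  have hYanti : ∀ m i j, i ≤ j → Y m j ≤ Y m i := fun m i j hij =>
    sup_le_sup_right (hDanti i j hij) _
  have hYrec : ∀ m n, Y m (n + 1) = latImg Φ 1 (Y m n) ⊔ pPow (m : ℤ) M := by
    intro m n
    simp only [hY, hD]
    rw [latImg_sup hτ, latImg_pPow hτ, ← latImg_add hτ, add_comm 1 n, sup_assoc]
    congr 1
    exact (sup_eq_right.2 (pPow_mono hle)).symm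
  have hstat : ∀ m, ∃ j, ∀ n, j ≤ n → Y m n = Y m j := by
    intro m
    obtain ⟨j, hj⟩ := antitone_stationary hfin hM m (Y m) (fun n => le_sup_right) (hYM m)
      (fun n => hYanti m n (n + 1) (Nat.le_succ n))
    refine ⟨j, fun n hn => ?_⟩
    induction n, hn using Nat.le_induction with
    | base => rfl
    | succ n _ ih => rw [hYrec, ih, ← hYrec, ← hj]
  choose j hj using hstat
  set S : ℕ → Submodule W N := fun m => Y m (j m) with hS
  have hSle : ∀ m n, S m ≤ Y m n := by
    intro m n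
    rcases le_total (j m) n with h1 | h1
    · rw [hj m n h1]
    · exact hYanti m n (j m) h1
  have hSeq : ∀ m n, j m ≤ n → S m = Y m n := fun m n hn => (hj m n hn).symm
  have hSsup : ∀ m, S m ≤ S (m + 1) ⊔ pPow (m : ℤ) M := by
    intro m
    set n := max (j m) (j (m + 1)) with hn
    rw [hSeq m n (le_max_left _ _), hSeq (m + 1) n (le_max_right _ _)]
    simp only [hY]
    rw [sup_assoc]
    refine sup_le_sup_left ?_ _
    exact le_sup_right
  have hS1 : ¬ S 1 ≤ pPow 1 M := by
    intro hcon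
    apply hnot (j 1)
    exact (le_sup_left : D (j 1) ≤ Y 1 (j 1)).trans hcon
  obtain ⟨x₁, hx₁S, hx₁⟩ := SetLike.not_le_iff_exists.1 hS1
  have hstep : ∀ m (x : {x // x ∈ S (m + 1)}), ∃ y : {y // y ∈ S (m + 2)},
      y.1 - x.1 ∈ pPow ((m + 1 : ℕ) : ℤ) M := by
    intro m x
    obtain ⟨y, hy, z, hz, hyz⟩ := Submodule.mem_sup.1 (hSsup (m + 1) x.2)
    refine ⟨⟨y, hy⟩, ?_⟩
    have : y - x.1 = -z := by rw [← hyz]; abel
    rw [this]
    exact Submodule.neg_mem _ hz
  choose nxt hnxt using hstep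
  let g : (m : ℕ) → {x // x ∈ S (m + 1)} := fun m => Nat.rec ⟨x₁, hx₁S⟩ (fun m x => nxt m x) m
  have hg0 : (g 0).1 = x₁ := rfl
  have hgs : ∀ m, g (m + 1) = nxt m (g m) := fun m => rfl
  obtain ⟨y, hyM, hy⟩ := exists_limit hM (fun m => (g m).1) (fun m => hYM _ _ (g m).2)
    (fun m => by
      rw [hgs]
      exact pPow_anti (by push_cast; omega) M (hnxt m (g m)))
  refine ⟨y, fun n => ?_, fun hcon => ?_⟩
  · obtain ⟨c, hc⟩ := hc n
    have h1 : y - (g c).1 ∈ D n := hc (hy c)
    have h2 : (g c).1 ∈ D n := by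
      have := hSle (c + 1) n (g c).2
      refine (sup_le le_rfl ?_ : Y (c + 1) n ≤ D n) this
      exact (pPow_anti (by push_cast; omega) M).trans hc
    have := (D n).add_mem h1 h2
    rwa [sub_add_cancel] at this
  · apply hx₁
    have h1 : y - (g 1).1 ∈ pPow 1 M := by simpa using hy 1
    have h2 : (g 1).1 - (g 0).1 ∈ pPow 1 M := by
      have := hnxt 0 (g 0)
      rw [← hgs 0] at this
      simpa using this
    have h3 : x₁ = y - (y - (g 1).1) - ((g 1).1 - (g 0).1) := by rw [hg0]; abel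
    rw [h3]
    exact Submodule.sub_mem _ (Submodule.sub_mem _ hcon h1) h2


/-- the unit-root sublattice `⋂ Φ^n M`. -/
theorem unitRoot (hτ : Good τ) [Module.Finite L N] (hfin : Module.finrank L N = h)
    (Φ : N →ₛₗ[τ] N) (hΦ : Function.Bijective Φ) {M : Submodule W N} (hM : M.IsLattice L)
    (hle : latImg Φ 1 M ≤ M) (hnot : ∀ n, ¬ latImg Φ n M ≤ pPow 1 M) :
    (⨅ n, latImg Φ n M).FG ∧ (⨅ n, latImg Φ n M) ≠ ⊥ ∧
      latImg Φ 1 (⨅ n, latImg Φ n M) = ⨅ n, latImg Φ n M := by
  set Mu : Submodule W N := ⨅ n, latImg Φ n M with hMu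
  have hMuM : Mu ≤ M := by
    have := iInf_le (fun n => latImg Φ n M) 0
    rwa [latImg_zero] at this
  refine ⟨?_, ?_, ?_⟩
  · have : IsNoetherian W M := isNoetherian_of_fg_of_noetherian M hM.fg
    have : IsNoetherian W Mu := isNoetherian_of_le hMuM
    exact (Submodule.fg_top Mu).1 Module.Finite.fg_top
  · obtain ⟨y, hy, hyp⟩ := exists_mem_forall_latImg hτ hfin Φ hΦ hM hle hnot
    intro hbot
    apply hyp
    have : y ∈ Mu := (Submodule.mem_iInf _).2 hy
    rw [hbot, Submodule.mem_bot] at this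
    rw [this]
    exact Submodule.zero_mem _
  · apply le_antisymm
    · rw [latImg_le_iff hτ]
      intro x hx
      rw [hMu, Submodule.mem_iInf]
      intro n
      have hxn : x ∈ latImg Φ n M := (Submodule.mem_iInf _).1 hx n
      have : (⇑Φ)^[1] x ∈ latImg Φ 1 (latImg Φ n M) := iter_mem_latImg hxn
      rw [← latImg_add hτ, add_comm] at this
      exact latImg_anti_of_le hτ hle n this
    · intro y hy
      have hy' : ∀ n, y ∈ latImg Φ n M := (Submodule.mem_iInf _).1 hy
      have hpre : ∀ n, ∃ x ∈ latImg Φ n M, (⇑Φ)^[1] x = y := by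
        intro n
        have := hy' (1 + n)
        rw [latImg_add hτ] at this
        exact (mem_latImg hτ).1 this
      obtain ⟨x, hx0, hxy⟩ := hpre 0
      have hx : x ∈ Mu := by
        rw [hMu, Submodule.mem_iInf]
        intro n
        obtain ⟨x', hx', hx'y⟩ := hpre n
        have : x' = x := (iterate_bijective hΦ 1).injective (hx'y.trans hxy.symm)
        rw [← this]
        exact hx'
      rw [← hxy]
      exact iter_mem_latImg hx

theorem latImg_comm_twist (hτ : Good τ) (F : N →ₛₗ[τ] N) (m : ℤ) (s : ℕ) (n : ℕ)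
    (X : Submodule W N) :
    latImg F 1 (latImg (((p : L) ^ m) • iter F s) n X) =
      latImg (((p : L) ^ m) • iter F s) n (latImg F 1 X) := by
  rw [latImg_twist hτ, latImg_twist hτ, latImg_pPow hτ, ← latImg_add hτ, ← latImg_add hτ, add_comm]

/-- Step A: the first slope is realised by a non-zero isoclinic sub-isocrystal. -/
theorem exists_isoOn_firstSlope (hτ : Good τ) [Module.Finite L N] (hfin : Module.finrank L N = h)
    (F : N →ₛₗ[τ] N) (hF : Function.Bijective F) {lam : ℝ} (hlam : IsFirstSlope F lam)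
    (r : ℤ) (s : ℕ) (hs : 0 < s) (hrs : lam = (r : ℝ) / s) :
    ∃ P : Submodule L N, P ≠ ⊥ ∧ (∀ x ∈ P, F x ∈ P) ∧ IsoOn F ((r : ℚ) / s) P := by
  have hs' : (s : ℝ) ≠ 0 := by exact_mod_cast hs.ne'
  set Φ : N →ₛₗ[τ ^ s] N := ((p : L) ^ (-r)) • iter F s with hΦdef
  have hτs : Good (τ ^ s) := hτ.pow s
  have hΦ : Function.Bijective Φ := twist_bijective hF (-r) s
  have hslope : IsFirstSlope Φ 0 := by
    have := isFirstSlope_twist hτ F hlam (-r) s
    have e : (s : ℝ) * lam + ((-r : ℤ) : ℝ) = 0 := by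
      rw [hrs]; push_cast; field_simp; ring
    rwa [e] at this
  obtain ⟨M, hM, hle0⟩ := exists_lattice_of_le_slope hτs hfin Φ hslope 0 1 one_pos (by simp)
  have hle : latImg Φ 1 M ≤ M := by rwa [pPow_zero] at hle0
  obtain ⟨o, ho, -, hole⟩ := isFirstSlope_lattice hτs Φ hΦ hslope hM
  have hMne : M ≠ ⊥ := IsOrd.ne_bot (ho 1)
  have hnot : ∀ n, ¬ latImg Φ n M ≤ pPow 1 M := by
    intro n hcon
    rcases Nat.eq_zero_or_pos n with rfl | hn
    · rw [latImg_zero] at hcon
      exact hMne (eq_bot_of_le_pPow_one hM.fg hcon)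
    · have h1 := hole n hn
      have hn' : (0 : ℝ) < n := by exact_mod_cast hn
      have h2 : (o n : ℝ) ≤ 0 := by
        by_contra hpos
        rw [not_le] at hpos
        have : (0 : ℝ) < (o n : ℝ) / n := div_pos hpos hn'
        linarith
      have h3 : o n ≤ 0 := by exact_mod_cast h2
      exact (ho n).2 (hcon.trans (pPow_anti (by omega) M))
  obtain ⟨hfg, hne, hfix⟩ := unitRoot hτs hfin Φ hΦ hM hle hnot
  set Mu : Submodule W N := ⨅ n, latImg Φ n M with hMu
  have hFs : latImg F s Mu = pPow r Mu := by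
    have h1 := latImg_twist hτ F (-r) s 1 Mu
    rw [← hΦdef, hfix] at h1
    simp only [Nat.cast_one, mul_one] at h1
    conv_rhs => rw [h1]
    rw [pPow_pPow, add_neg_cancel, pPow_zero]
  obtain ⟨c, hc⟩ := exists_pPow_le (latImg_fg hτ F 1 hM.fg) hM.span_eq_top
  have hFMu : ∀ x ∈ Mu, ((p : L) ^ (c : ℤ)) • F x ∈ Mu := by
    intro x hx
    rw [hMu, Submodule.mem_iInf]
    intro n
    have hxn : x ∈ latImg Φ n M := (Submodule.mem_iInf _).1 hx n
    have h1 : (⇑F)^[1] x ∈ latImg F 1 (latImg Φ n M) := iter_mem_latImg hxn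
    rw [hΦdef, latImg_comm_twist hτ, ← hΦdef] at h1
    have h2 : latImg Φ n (latImg F 1 M) ≤ pPow (-(c : ℤ)) (latImg Φ n M) := by
      rw [← latImg_pPow hτs]
      apply latImg_mono
      rwa [← pPow_le_iff]
    have h3 := h2 h1
    rw [mem_pPow, neg_neg] at h3
    exact h3
  refine ⟨Submodule.span L (Mu : Set N), ?_, ?_, ⟨Mu, hfg, rfl, r, s, hs, rfl, hFs⟩⟩
  · intro hbot
    apply hne
    rw [eq_bot_iff]
    intro x hx
    have : x ∈ Submodule.span L (Mu : Set N) := Submodule.subset_span hx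
    rw [hbot] at this
    exact this
  · intro x hx
    induction hx using Submodule.span_induction with
    | mem x hx =>
      have h1 := Submodule.subset_span (R := L) (hFMu x hx)
      have h2 := Submodule.smul_mem _ ((p : L) ^ (-(c : ℤ))) h1
      rwa [smul_smul, ← zpow_add₀ pL_ne_zero, neg_add_cancel, zpow_zero, one_smul] at h2
    | zero => rw [map_zero]; exact Submodule.zero_mem _
    | add x y _ _ hx hy => rw [map_add]; exact Submodule.add_mem _ hx hy
    | smul a x _ hx => rw [map_smulₛₗ]; exact Submodule.smul_mem _ _ hx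

end Groth.Agent.Lib.helper25.IsocH
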