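import Groth.Agent.Lib.helper25.IsocH

/-!
# Isocrystals: isoclinic criterion, inverse transfer, sub-isocrystals (helper25)
-/

set_option autoImplicit false
set_option linter.unusedSectionVars false
set_option linter.unusedVariables false
universe u v w
open Isoc
open scoped Pointwise

namespace Groth.Agent.Lib.helper25.IsocI

open Groth.Agent.Lib.helper25.IsocA Groth.Agent.Lib.helper25.IsocB Groth.Agent.Lib.helper25.IsocC
  Groth.Agent.Lib.helper25.IsocD Groth.Agent.Lib.helper25.IsocE Groth.Agent.Lib.helper25.IsocF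
  Groth.Agent.Lib.helper25.IsocG Groth.Agent.Lib.helper25.IsocH

variable {p : ℕ} [Fact p.Prime] {k : Type u} [Field k] [CharP k p] [PerfectRing k p]

local notation "W" => WittVector p k
local notation "L" => FractionRing (WittVector p k)

variable {N : Type v} [AddCommGroup N] [Module (WittVector p k) N]
  [Module (FractionRing (WittVector p k)) N]
  [IsScalarTower (WittVector p k) (FractionRing (WittVector p k)) N]

variable {h : ℕ}
variable {τ τ' : FractionRing (WittVector p k) →+* FractionRing (WittVector p k)}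

theorem latImg_iSup {ι : Sort*} (F : N →ₛₗ[τ] N) (s : ℕ) (X : ι → Submodule W N) :
    latImg F s (⨆ i, X i) = ⨆ i, latImg F s (X i) := by
  apply le_antisymm
  · unfold latImg
    rw [Submodule.span_le]
    rintro _ ⟨x, hx, rfl⟩
    rw [SetLike.mem_coe] at hx ⊢
    induction hx using Submodule.iSup_induction' with
    | mem i x hx =>
      exact (le_iSup (fun i => Submodule.span W ((⇑F)^[s] '' (X i : Set N))) i)
        (Submodule.subset_span ⟨x, hx, rfl⟩)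
    | zero => rw [iter_zero']; exact Submodule.zero_mem _
    | add x y _ _ hx hy => rw [iter_add]; exact Submodule.add_mem _ hx hy
  · exact iSup_le fun i => latImg_mono (le_iSup X i)

/-- if `F^s G^s = id` then `F^s(G^s M) = M`. -/
theorem latImg_latImg_inverse (hτ : Good τ) (hτ' : Good τ') (F : N →ₛₗ[τ] N) (G : N →ₛₗ[τ'] N)
    (hFG : ∀ x, F (G x) = x) (s : ℕ) (M : Submodule W N) :
    latImg F s (latImg G s M) = M := by
  ext y
  rw [mem_latImg hτ]
  constructor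
  · rintro ⟨x, hx, rfl⟩
    obtain ⟨z, hz, rfl⟩ := (mem_latImg hτ').1 hx
    rw [iterate_inverse hFG]
    exact hz
  · intro hy
    exact ⟨(⇑G)^[s] y, iter_mem_latImg hy, iterate_inverse hFG s y⟩

/-- transfer of an isoclinic lattice equation to the inverse. -/
theorem latImg_inverse_eq (hτ : Good τ) (hτ' : Good τ') (F : N →ₛₗ[τ] N) (G : N →ₛₗ[τ'] N)
    (hFG : ∀ x, F (G x) = x) {s : ℕ} {r : ℤ} {M : Submodule W N}
    (h : latImg G s M = pPow r M) : latImg F s M = pPow (-r) M := by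
  have h1 := latImg_latImg_inverse hτ hτ' F G hFG s M
  rw [h, latImg_pPow hτ] at h1
  conv_rhs => rw [← h1]
  rw [pPow_pPow, neg_add_cancel, pPow_zero]

theorem latImg_inverse_le (hτ : Good τ) (hτ' : Good τ') (F : N →ₛₗ[τ] N) (G : N →ₛₗ[τ'] N)
    (hFG : ∀ x, F (G x) = x) {s : ℕ} {r : ℤ} {M : Submodule W N}
    (h : latImg G s M ≤ pPow r M) : pPow (-r) M ≤ latImg F s M := by
  have h1 := latImg_latImg_inverse hτ hτ' F G hFG s M
  have h2 : latImg F s (latImg G s M) ≤ latImg F s (pPow r M) := latImg_mono h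
  rw [h1, latImg_pPow hτ] at h2
  rwa [pPow_le_iff, neg_neg]

theorem isoOn_inverse (hτ : Good τ) (hτ' : Good τ') (F : N →ₛₗ[τ] N) (G : N →ₛₗ[τ'] N)
    (hFG : ∀ x, F (G x) = x) {μ : ℚ} {B : Submodule L N} (h : IsoOn G μ B) : IsoOn F (-μ) B := by
  obtain ⟨M, hfg, hsp, r, s, hs, hrs, hGM⟩ := h
  refine ⟨M, hfg, hsp, -r, s, hs, ?_, latImg_inverse_eq hτ hτ' F G hFG hGM⟩
  rw [← hrs]; push_cast; ring

theorem stable_inverse (hτ' : Good τ') [Module.Finite L N] (F : N →ₛₗ[τ] N) (G : N →ₛₗ[τ'] N)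
    (hG : Function.Bijective G) (hFG : ∀ x, F (G x) = x) {B : Submodule L N}
    (hB : ∀ x ∈ B, G x ∈ B) : ∀ x ∈ B, F x ∈ B := by
  intro y hy
  obtain ⟨x, hx, rfl⟩ := exists_preimage_mem_of_stable hτ' G hG B hB y hy
  rw [hFG]
  exact hx

/-- isoclinic criterion: `λ₁(F) = r/s` and `λ₁(F⁻¹) = -r/s`. -/
theorem isIsoclinic_of_slopes (hτ : Good τ) (hτ' : Good τ') [Module.Finite L N]
    (hfin : Module.finrank L N = h) (F : N →ₛₗ[τ] N) (G : N →ₛₗ[τ'] N)
    (hF : Function.Bijective F) (hFG : ∀ x, F (G x) = x) (r : ℤ) (s : ℕ) (hs : 0 < s)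
    (hF1 : IsFirstSlope F ((r : ℝ) / s)) (hG1 : IsFirstSlope G (-((r : ℝ) / s))) :
    IsIsoclinic F ((r : ℚ) / s) := by
  obtain ⟨M₁, hM₁, h₁⟩ := exists_lattice_of_le_slope hτ hfin F hF1 r s hs le_rfl
  obtain ⟨M₂, hM₂, h₂⟩ := exists_lattice_of_le_slope hτ' hfin G hG1 (-r) s hs
    (by push_cast; rw [neg_div])
  have h₂' : pPow r M₂ ≤ latImg F s M₂ := by
    have := latImg_inverse_le hτ hτ' F G hFG h₂
    rwa [neg_neg] at this
  set Φ : N →ₛₗ[τ ^ s] N := ((p : L) ^ (-r)) • iter F s with hΦdef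
  have hτs : Good (τ ^ s) := hτ.pow s
  have hΦ1 : ∀ X : Submodule W N, latImg Φ 1 X = pPow (-r) (latImg F s X) := by
    intro X
    have := latImg_twist hτ F (-r) s 1 X
    rw [Nat.cast_one, mul_one, mul_one] at this
    exact this
  have hΦM₁ : latImg Φ 1 M₁ ≤ M₁ := by
    rw [hΦ1, pPow_le_iff, neg_neg]; exact h₁
  obtain ⟨c, hc⟩ := exists_pPow_le hM₂.fg hM₁.span_eq_top
  set M₂' : Submodule W N := pPow (c : ℤ) M₂ with hM₂'def
  have hM₂' : M₂'.IsLattice L := isLattice_pPow hM₂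
  have hΦM₂ : M₂' ≤ latImg Φ 1 M₂' := by
    rw [hΦ1, hM₂'def, latImg_pPow hτ, pPow_pPow, add_comm, ← pPow_pPow, pPow_le_pPow_iff,
      le_pPow_iff, neg_neg]
    exact h₂'
  set D : ℕ → Submodule W N := fun n => latImg Φ n M₂' with hD
  have hDmono : ∀ n, D n ≤ D (n + 1) := by
    intro n
    simp only [hD]
    rw [latImg_add hτs]
    exact latImg_mono hΦM₂
  have hDM₁ : ∀ n, D n ≤ M₁ := fun n =>
    (latImg_mono hc).trans (latImg_le_self_of_one hτs hΦM₁ n)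
  set M₃ : Submodule W N := ⨆ n, D n with hM₃def
  have hM₂'M₃ : M₂' ≤ M₃ := by
    have := le_iSup D 0
    simp only [hD] at this
    rwa [latImg_zero] at this
  obtain ⟨c', hc'⟩ := exists_pPow_le hM₁.fg hM₂'.span_eq_top
  have hM₃ : M₃.IsLattice L := isLattice_of_between hM₂' hM₂'M₃ (r := -(c' : ℤ))
    ((iSup_le hDM₁).trans (by rwa [← pPow_le_iff]))
  have hfix : latImg Φ 1 M₃ = M₃ := by
    rw [hM₃def, latImg_iSup]
    have e : ∀ n, latImg Φ 1 (D n) = D (n + 1) := by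
      intro n
      simp only [hD]
      rw [← latImg_add hτs, add_comm]
    simp only [e]
    apply le_antisymm
    · exact iSup_le fun n => le_iSup D (n + 1)
    · exact iSup_le fun n => (hDmono n).trans (le_iSup (fun n => D (n + 1)) n)
  refine ⟨M₃, hM₃, r, s, hs, rfl, ?_⟩
  have h1 := hΦ1 M₃
  rw [hfix] at h1
  conv_rhs => rw [h1]
  rw [pPow_pPow, add_neg_cancel, pPow_zero]

/-! ### Sub-isocrystals -/

theorem le_slopePart (hτ : Good τ) (F : N →ₛₗ[τ] N) {μ : ℚ} {P : Submodule L N}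
    (hP : ∀ x ∈ P, F x ∈ P) (h : IsoOn F μ P) : P ≤ slopePart F μ := by
  unfold slopePart
  apply le_sSup
  exact ⟨hP, isIsoclinic_restrict_of_isoOn hτ F μ P hP h⟩

theorem slopePart_eq_top_of_isIsoclinic (hτ : Good τ) (F : N →ₛₗ[τ] N) {μ : ℚ}
    (h : IsIsoclinic F μ) : slopePart F μ = ⊤ := by
  rw [eq_top_iff]
  apply le_slopePart hτ F (P := ⊤) (fun x _ => Submodule.mem_top)
  obtain ⟨M, hM, r, s, hs, hrs, hFM⟩ := h
  exact ⟨M, hM.fg, hM.span_eq_top, r, s, hs, hrs, hFM⟩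

theorem isIsoclinic_of_slopePart_eq_top (hτ : Good τ) [Module.Finite L N] (F : N →ₛₗ[τ] N) {μ : ℚ}
    (h : slopePart F μ = ⊤) : IsIsoclinic F μ := by
  obtain ⟨M, hfg, hsp, r, s, hs, hrs, hFM⟩ := (slopePart_spec hτ F μ).2
  rw [h] at hsp
  exact ⟨M, ⟨hfg, hsp⟩, r, s, hs, hrs, hFM⟩

section Map

variable {N₂ : Type w} [AddCommGroup N₂] [Module (WittVector p k) N₂]
  [Module (FractionRing (WittVector p k)) N₂]
  [IsScalarTower (WittVector p k) (FractionRing (WittVector p k)) N₂]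

theorem isoOn_map (hτ : Good τ) {F₁ : N →ₛₗ[τ] N} {F₂ : N₂ →ₛₗ[τ] N₂} (f : N →ₗ[L] N₂)
    (hf : ∀ x, f (F₁ x) = F₂ (f x)) {μ : ℚ} {Q : Submodule L N} (h : IsoOn F₁ μ Q) :
    IsoOn F₂ μ (Q.map f) := by
  obtain ⟨M, hfg, hsp, r, s, hs, hrs, hFM⟩ := h
  refine ⟨mapW f M, mapW_fg f hfg, ?_, r, s, hs, hrs, ?_⟩
  · rw [span_mapW, hsp]
  · rw [← mapW_latImg hτ hf, hFM, mapW_pPow]

theorem stable_map {F₁ : N →ₛₗ[τ] N} {F₂ : N₂ →ₛₗ[τ] N₂} (f : N →ₗ[L] N₂)
    (hf : ∀ x, f (F₁ x) = F₂ (f x)) {Q : Submodule L N} (hQ : ∀ x ∈ Q, F₁ x ∈ Q) :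
    ∀ y ∈ Q.map f, F₂ y ∈ Q.map f := by
  rintro _ ⟨x, hx, rfl⟩
  exact ⟨F₁ x, hQ x hx, hf x⟩

end Map

theorem map_slopePart_restrict_le (hτ : Good τ) [Module.Finite L N] (F : N →ₛₗ[τ] N)
    (P : Submodule L N) (hP : ∀ x ∈ P, F x ∈ P) (μ : ℚ) :
    (slopePart (F.restrict hP) μ).map P.subtype ≤ slopePart F μ := by
  obtain ⟨hst, hiso⟩ := slopePart_spec hτ (F.restrict hP) μ
  exact le_slopePart hτ F (stable_map P.subtype (restrict_comm F P hP) hst)
    (isoOn_map hτ P.subtype (restrict_comm F P hP) hiso)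

theorem le_iSup_slopePart_of_restrict (hτ : Good τ) [Module.Finite L N] (F : N →ₛₗ[τ] N)
    (P : Submodule L N) (hP : ∀ x ∈ P, F x ∈ P)
    (hdec : ⨆ μ : ℚ, slopePart (F.restrict hP) μ = ⊤) : P ≤ ⨆ μ : ℚ, slopePart F μ := by
  have h1 : P = (⊤ : Submodule L P).map P.subtype := by
    rw [Submodule.map_top, Submodule.range_subtype]
  rw [h1, ← hdec, Submodule.map_iSup]
  exact iSup_mono fun μ => map_slopePart_restrict_le hτ F P hP μ

end Groth.Agent.Lib.helper25.IsocI
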