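import Groth.Agent.Lib.helper25.IsocI

/-!
# Isocrystals: quotients and the slope decomposition (helper25)
-/

set_option autoImplicit false
set_option linter.unusedSectionVars false
set_option linter.unusedVariables false
universe u v w
open Isoc
open scoped Pointwise

namespace Groth.Agent.Lib.helper25.IsocJ

open Groth.Agent.Lib.helper25.IsocA Groth.Agent.Lib.helper25.IsocB Groth.Agent.Lib.helper25.IsocC
  Groth.Agent.Lib.helper25.IsocD Groth.Agent.Lib.helper25.IsocE Groth.Agent.Lib.helper25.IsocF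
  Groth.Agent.Lib.helper25.IsocG Groth.Agent.Lib.helper25.IsocH Groth.Agent.Lib.helper25.IsocI

variable {p : ℕ} [Fact p.Prime] {k : Type u} [Field k] [CharP k p] [PerfectRing k p]

local notation "W" => WittVector p k
local notation "L" => FractionRing (WittVector p k)

section

variable {N : Type v} [AddCommGroup N] [Module (WittVector p k) N]
  [Module (FractionRing (WittVector p k)) N]
  [IsScalarTower (WittVector p k) (FractionRing (WittVector p k)) N]

variable {h : ℕ}
variable {τ τ' : FractionRing (WittVector p k) →+* FractionRing (WittVector p k)}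

/-- existence of the first slope. -/
theorem exists_isFirstSlope (hτ : Good τ) [Module.Finite L N] [Nontrivial N] (F : N →ₛₗ[τ] N)
    (hF : Function.Bijective F) : ∃ lam : ℝ, IsFirstSlope F lam := by
  classical
  let b := Module.finBasis L N
  have hh : 0 < Module.finrank L N := Module.finrank_pos
  obtain ⟨d, hd⟩ := exists_isOrdP_detCoeff hτ F hF b
  set M : Submodule W N := Submodule.span W (Set.range b) with hMdef
  have hM : M.IsLattice L := by
    refine ⟨Submodule.fg_span (Set.finite_range _), ?_⟩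
    rw [eq_top_iff, ← b.span_eq]
    exact Submodule.span_mono Submodule.subset_span
  obtain ⟨o, ho⟩ := exists_ord_fun hτ hF hM (lattice_ne_bot hM)
  obtain ⟨lam, hlim, -⟩ := exists_tendsto_ord hτ b hd hh hM (fun n _ => ho n)
  exact ⟨lam, M, hM, o, fun n _ => ho n, hlim⟩

/-- the induced map on a quotient by a stable subspace. -/
noncomputable def quotF (F : N →ₛₗ[τ] N) (A : Submodule L N) (hA : ∀ x ∈ A, F x ∈ A) :
    (N ⧸ A) →ₛₗ[τ] (N ⧸ A) :=
  A.mapQ A F (fun x hx => hA x hx)

theorem quotF_mkQ (F : N →ₛₗ[τ] N) (A : Submodule L N) (hA : ∀ x ∈ A, F x ∈ A) (x : N) :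
    A.mkQ (F x) = quotF F A hA (A.mkQ x) := rfl

theorem quotF_bijective (hτ : Good τ) [Module.Finite L N] (F : N →ₛₗ[τ] N)
    (hF : Function.Bijective F) (A : Submodule L N) (hA : ∀ x ∈ A, F x ∈ A) :
    Function.Bijective (quotF F A hA) := by
  constructor
  · rw [injective_iff_map_eq_zero]
    intro y hy
    obtain ⟨x, rfl⟩ := A.mkQ_surjective y
    rw [← quotF_mkQ, Submodule.mkQ_apply, Submodule.Quotient.mk_eq_zero] at hy
    obtain ⟨a, ha, hax⟩ := exists_preimage_mem_of_stable hτ F hF A hA _ hy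
    have : a = x := hF.injective hax
    rw [Submodule.mkQ_apply, Submodule.Quotient.mk_eq_zero, ← this]
    exact ha
  · intro y
    obtain ⟨x, rfl⟩ := A.mkQ_surjective y
    obtain ⟨x', rfl⟩ := hF.surjective x
    exact ⟨A.mkQ x', (quotF_mkQ F A hA x').symm⟩

theorem quot_analysis (hτ : Good τ) [Module.Finite L N] (F : N →ₛₗ[τ] N)
    (hF : Function.Bijective F) (A : Submodule L N) (hA : ∀ x ∈ A, F x ∈ A)
    (hdecQ : ⨆ ρ : ℚ, slopePart (quotF F A hA) ρ = ⊤)
    (hdecSub : ∀ P : Submodule L N, P ≠ ⊤ → ∀ hP : (∀ x ∈ P, F x ∈ P),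
      ⨆ μ : ℚ, slopePart (F.restrict hP) μ = ⊤) :
    (⨆ μ : ℚ, slopePart F μ = ⊤) ∨ ∃ ρ : ℚ, IsIsoclinic (quotF F A hA) ρ := by
  by_cases hex : ∃ ρ : ℚ, (slopePart (quotF F A hA) ρ).comap A.mkQ = ⊤
  · right
    obtain ⟨ρ, hρ⟩ := hex
    refine ⟨ρ, isIsoclinic_of_slopePart_eq_top hτ _ ?_⟩
    rw [← Submodule.map_comap_eq_of_surjective A.mkQ_surjective (slopePart (quotF F A hA) ρ), hρ,
      Submodule.map_top, Submodule.range_mkQ]
  · left
    rw [not_exists] at hex
    set T := ⨆ μ : ℚ, slopePart F μ with hT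
    have hPst : ∀ ρ : ℚ, ∀ x ∈ (slopePart (quotF F A hA) ρ).comap A.mkQ,
        F x ∈ (slopePart (quotF F A hA) ρ).comap A.mkQ := by
      intro ρ x hx
      rw [Submodule.mem_comap] at hx ⊢
      rw [quotF_mkQ]
      exact (slopePart_spec hτ (quotF F A hA) ρ).1 _ hx
    have hPle : ∀ ρ : ℚ, (slopePart (quotF F A hA) ρ).comap A.mkQ ≤ T := fun ρ =>
      le_iSup_slopePart_of_restrict hτ F _ (hPst ρ) (hdecSub _ (hex ρ) (hPst ρ))
    rw [eq_top_iff]
    have h1 : (⊤ : Submodule L N) = (⨆ ρ : ℚ, slopePart (quotF F A hA) ρ).comap A.mkQ := by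
      rw [hdecQ, Submodule.comap_top]
    have h2 : (⨆ ρ : ℚ, slopePart (quotF F A hA) ρ) =
        (⨆ ρ : ℚ, (slopePart (quotF F A hA) ρ).comap A.mkQ).map A.mkQ := by
      rw [Submodule.map_iSup]
      congr 1
      ext ρ : 1
      rw [Submodule.map_comap_eq_of_surjective A.mkQ_surjective]
    rw [h1, h2, Submodule.comap_map_eq, Submodule.ker_mkQ]
    refine sup_le (iSup_le hPle) ?_
    refine le_trans ?_ (hPle 0)
    intro x hx
    rw [Submodule.mem_comap, Submodule.mkQ_apply, (Submodule.Quotient.mk_eq_zero A).2 hx]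
    exact Submodule.zero_mem _


theorem slope_ne {r₁ r₂ : ℤ} {s₁ s₂ : ℕ} (hs₁ : 0 < s₁) (hs₂ : 0 < s₂)
    (h : (r₁ : ℚ) / s₁ ≠ (r₂ : ℚ) / s₂) : r₁ * s₂ ≠ r₂ * s₁ := by
  intro heq
  apply h
  have h1 : (s₁ : ℚ) ≠ 0 := by exact_mod_cast hs₁.ne'
  have h2 : (s₂ : ℚ) ≠ 0 := by exact_mod_cast hs₂.ne'
  rw [div_eq_div_iff h1 h2]
  exact_mod_cast heq

/-- a subspace isoclinic of two different slopes vanishes. -/
theorem eq_bot_of_isoOn_two (hτ : Good τ) [Module.Finite L N] (F : N →ₛₗ[τ] N)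
    (hF : Function.Bijective F) {μ ν : ℚ} (hne : ν ≠ μ) {B : Submodule L N}
    (hB : ∀ x ∈ B, F x ∈ B) (h₁ : IsoOn F μ B) (h₂ : IsoOn F ν B) : B = ⊥ := by
  classical
  apply eq_bot_of_isoOn_le_sup hτ F hF μ {B} ?_ B h₁ (by simp)
  intro X hX
  rw [Finset.mem_singleton] at hX
  subst hX
  exact ⟨hB, ν, hne, h₂⟩

/-- if `N/A` is isoclinic of slope `ρ` and `B` is a non-zero stable subspace isoclinic of a
slope different from that of `A`, then `ρ` is the slope of `B`. -/
theorem quot_slope_eq (hτ : Good τ) [Module.Finite L N] (F : N →ₛₗ[τ] N)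
    (hF : Function.Bijective F) {A B : Submodule L N} (hA : ∀ x ∈ A, F x ∈ A)
    (hB : ∀ x ∈ B, F x ∈ B) (hBne : B ≠ ⊥) {lamA lamB : ℚ} (hne : lamA ≠ lamB)
    (isoA : IsoOn F lamA A) (isoB : IsoOn F lamB B) {ρ : ℚ}
    (hQA : IsIsoclinic (quotF F A hA) ρ) : ρ = lamB := by
  by_contra hρ
  apply hBne
  have hBA : B ≤ A := by
    obtain ⟨MB, hfgB, hspB, rB, sB, hsB, hrsB, hFB⟩ := isoB
    obtain ⟨MQ, hMQ, rQ, sQ, hsQ, hrsQ, hFQ⟩ := hQA
    have hvan := hom_vanish hτ (F₁ := F) (F₂ := quotF F A hA)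
      (quotF_bijective hτ F hF A hA).injective hfgB hMQ.fg hsB hsQ hFB hFQ
      (slope_ne hsB hsQ (by rw [hrsB, hrsQ]; exact fun h => hρ h.symm)) A.mkQ
      (quotF_mkQ F A hA) (fun x _ => by rw [hMQ.span_eq_top]; trivial)
    rw [← hspB, Submodule.span_le]
    intro x hx
    have := hvan x hx
    rwa [Submodule.mkQ_apply, Submodule.Quotient.mk_eq_zero] at this
  exact eq_bot_of_isoOn_two hτ F hF hne.symm hB (isoOn_of_le hτ F hF isoA hBA hB) isoB

theorem sup_eq_top_of_quot (hτ : Good τ) [Module.Finite L N] (F : N →ₛₗ[τ] N)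
    (hF : Function.Bijective F) {A B : Submodule L N} (hA : ∀ x ∈ A, F x ∈ A)
    (hB : ∀ x ∈ B, F x ∈ B) (hAne : A ≠ ⊥) (hBne : B ≠ ⊥) {lamA lamB : ℚ} (hne : lamA ≠ lamB)
    (isoA : IsoOn F lamA A) (isoB : IsoOn F lamB B) {ρ ρ' : ℚ}
    (hQA : IsIsoclinic (quotF F A hA) ρ) (hQB : IsIsoclinic (quotF F B hB) ρ') :
    A ⊔ B = ⊤ := by
  have hρ : ρ = lamB := quot_slope_eq hτ F hF hA hB hBne hne isoA isoB hQA
  have hρ' : ρ' = lamA := quot_slope_eq hτ F hF hB hA hAne hne.symm isoB isoA hQB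
  subst hρ hρ'
  set C := A ⊔ B with hCdef
  have hC : ∀ x ∈ C, F x ∈ C := by
    intro x hx
    obtain ⟨a, ha, b, hb, rfl⟩ := Submodule.mem_sup.1 hx
    rw [map_add]
    exact Submodule.add_mem _ (le_sup_left (a := A) (b := B) (hA a ha))
      (le_sup_right (a := A) (b := B) (hB b hb))
  have hAC : A ≤ C := le_sup_left
  have hBC : B ≤ C := le_sup_right
  have h1 : IsIsoclinic (quotF F C hC) ρ :=
    isIsoclinic_of_surjective hτ (Submodule.factor hAC) (Submodule.factor_surjective hAC)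
      (fun y => by
        obtain ⟨x, rfl⟩ := A.mkQ_surjective y
        rfl) hQA
  have h2 : IsIsoclinic (quotF F C hC) ρ' :=
    isIsoclinic_of_surjective hτ (Submodule.factor hBC) (Submodule.factor_surjective hBC)
      (fun y => by
        obtain ⟨x, rfl⟩ := B.mkQ_surjective y
        rfl) hQB
  obtain ⟨M₁, hM₁, r₁, s₁, hs₁, hrs₁, hF₁⟩ := h1
  obtain ⟨M₂, hM₂, r₂, s₂, hs₂, hrs₂, hF₂⟩ := h2
  have hvan := hom_vanish hτ (F₁ := quotF F C hC) (F₂ := quotF F C hC)
    (quotF_bijective hτ F hF C hC).injective hM₁.fg hM₂.fg hs₁ hs₂ hF₁ hF₂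
    (slope_ne hs₁ hs₂ (by rw [hrs₁, hrs₂]; exact hne.symm)) LinearMap.id
    (fun x => rfl) (fun x _ => by rw [hM₂.span_eq_top]; trivial)
  have hM₁bot : M₁ = ⊥ := by
    rw [eq_bot_iff]
    intro x hx
    exact hvan x hx
  rw [eq_top_iff]
  intro x _
  have hx : C.mkQ x ∈ Submodule.span L (M₁ : Set (N ⧸ C)) := by
    rw [hM₁.span_eq_top]; trivial
  rw [hM₁bot, Submodule.bot_coe, Submodule.span_zero_singleton, Submodule.mem_bot,
    Submodule.mkQ_apply, Submodule.Quotient.mk_eq_zero] at hx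
  exact hx

end


section

variable {N : Type v} [AddCommGroup N] [Module (WittVector p k) N]
  [Module (FractionRing (WittVector p k)) N]
  [IsScalarTower (WittVector p k) (FractionRing (WittVector p k)) N]

variable {h : ℕ}
variable {τ τ' : FractionRing (WittVector p k) →+* FractionRing (WittVector p k)}

theorem restrict_bijective (hτ : Good τ) [Module.Finite L N] (F : N →ₛₗ[τ] N)
    (hF : Function.Bijective F) (P : Submodule L N) (hP : ∀ x ∈ P, F x ∈ P) :
    Function.Bijective (F.restrict hP) := by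
  constructor
  · intro x y hxy
    apply Subtype.ext
    apply hF.injective
    exact congrArg Subtype.val hxy
  · intro y
    obtain ⟨x, hx, hxy⟩ := exists_preimage_mem_of_stable hτ F hF P hP y.1 y.2
    exact ⟨⟨x, hx⟩, Subtype.ext hxy⟩

end

/-- the slope parts span. -/
theorem iSup_slopePart_eq_top {τ : FractionRing (WittVector p k) →+* FractionRing (WittVector p k)}
    (hτ : Good τ) : ∀ (n : ℕ) (N : Type v) [AddCommGroup N] [Module (WittVector p k) N]
    [Module (FractionRing (WittVector p k)) N]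
    [IsScalarTower (WittVector p k) (FractionRing (WittVector p k)) N]
    [Module.Finite (FractionRing (WittVector p k)) N] (F : N →ₛₗ[τ] N),
    Function.Bijective F → Module.finrank (FractionRing (WittVector p k)) N = n →
    ⨆ μ : ℚ, slopePart F μ = ⊤ := by
  intro n
  induction n using Nat.strong_induction_on with
  | _ n ih =>
  intro N _ _ _ _ _ F hF hn
  by_cases hsub : Subsingleton N
  · exact Subsingleton.elim _ _
  rw [not_subsingleton_iff_nontrivial] at hsub
  obtain ⟨lam, hlam⟩ := exists_isFirstSlope hτ F hF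
  obtain ⟨r, s, hs, -, hrs⟩ := exists_rat_slope hτ hn F hF hlam
  obtain ⟨A, hAne, hA, isoA⟩ := exists_isoOn_firstSlope hτ hn F hF hlam r s hs hrs
  obtain ⟨τ', hτ', G, hGF, hFG⟩ := exists_inverse hτ F hF
  have hG : Function.Bijective G :=
    ⟨Function.LeftInverse.injective hFG, Function.RightInverse.surjective hGF⟩
  obtain ⟨lam', hlam'⟩ := exists_isFirstSlope hτ' G hG
  obtain ⟨r', s', hs', -, hrs'⟩ := exists_rat_slope hτ' hn G hG hlam'
  obtain ⟨B, hBne, hBG, isoBG⟩ := exists_isoOn_firstSlope hτ' hn G hG hlam' r' s' hs' hrs'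
  have hB : ∀ x ∈ B, F x ∈ B := stable_inverse hτ' F G hG hFG hBG
  have isoB : IsoOn F (-((r' : ℚ) / s')) B := isoOn_inverse hτ hτ' F G hFG isoBG
  by_cases heq : (r : ℚ) / s = -((r' : ℚ) / s')
  · have hG1 : IsFirstSlope G (-((r : ℝ) / s)) := by
      have e : -((r : ℝ) / s) = lam' := by
        rw [hrs']
        have h1 : (((r : ℚ) / s : ℚ) : ℝ) = ((-((r' : ℚ) / s') : ℚ) : ℝ) := by rw [heq]
        push_cast at h1
        rw [h1, neg_neg]
      rw [e]; exact hlam'
    have hiso := isIsoclinic_of_slopes hτ hτ' hn F G hF hFG r s hs (hrs ▸ hlam) hG1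
    rw [eq_top_iff, ← slopePart_eq_top_of_isIsoclinic hτ F hiso]
    exact le_iSup (fun μ : ℚ => slopePart F μ) _
  · have hdecSub : ∀ P : Submodule (FractionRing (WittVector p k)) N, P ≠ ⊤ →
        ∀ hP : (∀ x ∈ P, F x ∈ P), ⨆ μ : ℚ, slopePart (F.restrict hP) μ = ⊤ := by
      intro P hPne hP
      exact ih (Module.finrank (FractionRing (WittVector p k)) P)
        (by rw [← hn]; exact Submodule.finrank_lt hPne) P (F.restrict hP)
        (restrict_bijective hτ F hF P hP) rfl
    have hquot : ∀ A : Submodule (FractionRing (WittVector p k)) N, A ≠ ⊥ →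
        ∀ hA : (∀ x ∈ A, F x ∈ A), ⨆ ρ : ℚ, slopePart (quotF F A hA) ρ = ⊤ := by
      intro A hAne hA
      refine ih (Module.finrank (FractionRing (WittVector p k)) (N ⧸ A)) ?_ (N ⧸ A) (quotF F A hA)
        (quotF_bijective hτ F hF A hA) rfl
      have h1 := Submodule.finrank_quotient_add_finrank A
      have h2 : 0 < Module.finrank (FractionRing (WittVector p k)) A := by
        rw [Module.finrank_pos_iff]
        exact Submodule.nontrivial_iff_ne_bot.2 hAne
      omega
    rcases quot_analysis hτ F hF A hA (hquot A hAne hA) hdecSub with h | ⟨ρ, hρ⟩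
    · exact h
    rcases quot_analysis hτ F hF B hB (hquot B hBne hB) hdecSub with h | ⟨ρ', hρ'⟩
    · exact h
    have hsup := sup_eq_top_of_quot hτ F hF hA hB hAne hBne heq isoA isoB hρ hρ'
    rw [eq_top_iff, ← hsup]
    exact sup_le ((le_slopePart hτ F hA isoA).trans (le_iSup (fun μ : ℚ => slopePart F μ) _))
      ((le_slopePart hτ F hB isoB).trans (le_iSup (fun μ : ℚ => slopePart F μ) _))

/-- the slope decomposition. -/
theorem isInternal_slopePart {τ : FractionRing (WittVector p k) →+* FractionRing (WittVector p k)}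
    (hτ : Good τ) {N : Type v} [AddCommGroup N] [Module (WittVector p k) N]
    [Module (FractionRing (WittVector p k)) N]
    [IsScalarTower (WittVector p k) (FractionRing (WittVector p k)) N]
    [Module.Finite (FractionRing (WittVector p k)) N] (F : N →ₛₗ[τ] N)
    (hF : Function.Bijective F) : DirectSum.IsInternal (fun μ : ℚ => slopePart F μ) := by
  rw [DirectSum.isInternal_submodule_iff_iSupIndep_and_iSup_eq_top]
  exact ⟨slopePart_iSupIndep hτ F hF, iSup_slopePart_eq_top hτ _ N F hF rfl⟩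

end Groth.Agent.Lib.helper25.IsocJ
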