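import Groth.Agent.Lib.helper25.IsocJ

/-!
# Isocrystals: the sum of the Newton slopes is the order of the determinant (helper25)
-/

set_option autoImplicit false
set_option linter.unusedSectionVars false
set_option linter.unusedVariables false
universe u v w
open Isoc
open scoped Pointwise

namespace Groth.Agent.Lib.helper25.IsocK

open Groth.Agent.Lib.helper25.IsocA Groth.Agent.Lib.helper25.IsocB Groth.Agent.Lib.helper25.IsocC
  Groth.Agent.Lib.helper25.IsocD Groth.Agent.Lib.helper25.IsocE Groth.Agent.Lib.helper25.IsocF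
  Groth.Agent.Lib.helper25.IsocG Groth.Agent.Lib.helper25.IsocH Groth.Agent.Lib.helper25.IsocI
  Groth.Agent.Lib.helper25.IsocJ

variable {p : ℕ} [Fact p.Prime] {k : Type u} [Field k] [CharP k p] [PerfectRing k p]

local notation "W" => WittVector p k
local notation "L" => FractionRing (WittVector p k)

variable {N : Type v} [AddCommGroup N] [Module (WittVector p k) N]
  [Module (FractionRing (WittVector p k)) N]
  [IsScalarTower (WittVector p k) (FractionRing (WittVector p k)) N]

variable {h : ℕ}
variable {τ : FractionRing (WittVector p k) →+* FractionRing (WittVector p k)}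

theorem isOrdP_prod {ι : Type*} (s : Finset ι) (c : ι → L) (r : ι → ℤ)
    (hc : ∀ i ∈ s, IsOrdP (c i) (r i)) : IsOrdP (∏ i ∈ s, c i) (∑ i ∈ s, r i) := by
  classical
  induction s using Finset.induction_on with
  | empty => simpa using isOrdP_one (p := p) (k := k)
  | insert i s hi ih =>
    rw [Finset.prod_insert hi, Finset.sum_insert hi]
    exact IsOrdP.mul (hc i (Finset.mem_insert_self i s))
      (ih fun j hj => hc j (Finset.mem_insert_of_mem hj))

/-- a diagonal scaling in a basis: `b j ↦ p^(a j) • b j`. -/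
noncomputable def diagMap (b : Module.Basis (Fin h) L N) (a : Fin h → ℤ) : N →ₗ[L] N :=
  b.constr L fun j => ((p : L) ^ (a j)) • b j

theorem diagMap_basis (b : Module.Basis (Fin h) L N) (a : Fin h → ℤ) (j : Fin h) :
    diagMap b a (b j) = ((p : L) ^ (a j)) • b j := by
  unfold diagMap
  rw [Module.Basis.constr_basis]

theorem diagMap_inv (b : Module.Basis (Fin h) L N) (a : Fin h → ℤ) (x : N) :
    diagMap b (fun j => -a j) (diagMap b a x) = x := by
  have : (diagMap b (fun j => -a j)).comp (diagMap b a) = LinearMap.id := by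
    apply b.ext
    intro j
    rw [LinearMap.comp_apply, diagMap_basis, map_smul, diagMap_basis, smul_smul,
      ← zpow_add₀ pL_ne_zero, add_neg_cancel, zpow_zero, one_smul, LinearMap.id_apply]
  exact LinearMap.congr_fun this x

theorem isOrdP_det_diagMap (b : Module.Basis (Fin h) L N) (a : Fin h → ℤ) :
    IsOrdP (detCoeff b (diagMap b a : N →ₛₗ[RingHom.id L] N)) (∑ j, a j) := by
  have h1 : matf b (diagMap b a) = Matrix.diagonal fun j => (p : L) ^ (a j) := by
    ext i j
    rw [matf_apply, diagMap_basis, map_smul, Finsupp.smul_apply, Module.Basis.repr_self,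
      Finsupp.single_apply, Matrix.diagonal_apply, smul_eq_mul]
    by_cases hij : i = j
    · subst hij; simp
    · rw [if_neg hij, if_neg (fun h => hij h.symm), mul_zero]
  rw [detCoeff_eq, h1, Matrix.det_diagonal]
  exact isOrdP_prod _ _ _ fun j _ => isOrdP_p_zpow (a j)


/-- if `F^s M = D M` for a diagonal scaling `D`, the orders of the determinants agree. -/
theorem mul_eq_sum_of_latImg_eq (hτ : Good τ) (F : N →ₛₗ[τ] N) (b : Module.Basis (Fin h) L N)
    {d : ℤ} (hd : IsOrdP (detCoeff b F) d) (b' : Module.Basis (Fin h) L N) (a : Fin h → ℤ) (s : ℕ)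
    {M : Submodule W N} (hM : M.IsLattice L)
    (heq : latImg F s M = latImg (diagMap b' a : N →ₛₗ[RingHom.id L] N) 1 M) :
    (s : ℤ) * d = ∑ j, a j := by
  set D : N →ₛₗ[RingHom.id L] N := diagMap b' a with hD
  set Dinv : N →ₛₗ[RingHom.id L] N := diagMap b' (fun j => -a j) with hDinv
  have hDinvD : ∀ x, Dinv (D x) = x := fun x => diagMap_inv b' a x
  have hDDinv : ∀ x, D (Dinv x) = x := fun x => by
    have := diagMap_inv b' (fun j => -a j) x
    simp only [neg_neg] at this
    exact this
  have hτs : Good (τ ^ s) := hτ.pow s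
  set U : N →ₛₗ[τ ^ s] N := Dinv.comp (iter F s) with hU
  have hUapp : ∀ x, U x = Dinv ((⇑F)^[s] x) := fun x => rfl
  have hUM : latImg U 1 M = pPow 0 M := by
    rw [pPow_zero]
    apply le_antisymm
    · rw [latImg_le_iff hτs]
      intro x hx
      rw [Function.iterate_one, hUapp]
      have h1 : (⇑F)^[s] x ∈ latImg D 1 M := by rw [← heq]; exact iter_mem_latImg hx
      obtain ⟨z, hz, hzx⟩ := (mem_latImg good_id).1 h1
      rw [Function.iterate_one] at hzx
      rw [← hzx, hDinvD]
      exact hz
    · intro z hz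
      have h1 : (⇑D)^[1] z ∈ latImg F s M := by rw [heq]; exact iter_mem_latImg hz
      obtain ⟨x, hx, hxz⟩ := (mem_latImg hτ).1 h1
      rw [Function.iterate_one] at hxz
      rw [mem_latImg hτs]
      refine ⟨x, hx, ?_⟩
      rw [Function.iterate_one, hUapp, hxz, hDinvD]
  obtain ⟨A⟩ := exists_adapted_fin b hM
  have h1 := A.isOrdP_of_eq hτs U 0 hUM
  rw [zero_mul] at h1
  have h2 : IsOrdP (matf A.e ((⇑F)^[s])).det (s * d) :=
    isOrdP_det_iterate hτ A.e F (isOrdP_detCoeff_basis hτ b A.e F hd) s
  have h3 : ((⇑F)^[s] : N → N) = D ∘ U := by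
    funext x
    rw [Function.comp_apply, hUapp, hDDinv]
  rw [h3, det_matf_comp, RingHom.id_apply, mul_comm] at h2
  have h4 : IsOrdP (matf A.e D).det (s * d) :=
    IsOrdP.of_mul_left h1 (by rw [zero_add]; exact h2)
  have h5 : IsOrdP (detCoeff b' D) (s * d) := isOrdP_detCoeff_basis good_id A.e b' D h4
  exact IsOrdP.unique h5 (isOrdP_det_diagMap b' a)


/-- the sum of the slopes with multiplicities is the order of the determinant. -/
theorem finsum_mul_newtonMult (hτ : Good τ) [Module.Finite L N] (F : N →ₛₗ[τ] N)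
    (hF : Function.Bijective F) (b : Module.Basis (Fin h) L N) {d : ℤ}
    (hd : IsOrdP (detCoeff b F) d) : ∑ᶠ μ : ℚ, μ * (newtonMult F μ : ℚ) = d := by
  classical
  have hint := isInternal_slopePart hτ F hF
  have hfinS : {μ : ℚ | slopePart F μ ≠ ⊥}.Finite :=
    WellFoundedGT.finite_ne_bot_of_iSupIndep hint.submodule_iSupIndep
  let ι := {μ : ℚ // slopePart F μ ≠ ⊥}
  letI : Fintype ι := hfinS.fintype
  have hint' : DirectSum.IsInternal (fun i : ι => slopePart F i.1) :=
    DirectSum.isInternal_ne_bot_iff.mpr hint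
  have hdata : ∀ i : ι, ∃ (M : Submodule W N) (r : ℤ) (s : ℕ), M.FG ∧
      Submodule.span L (M : Set N) = slopePart F i.1 ∧ 0 < s ∧ (r : ℚ) / s = i.1 ∧
      latImg F s M = pPow r M := fun i => by
    obtain ⟨M, hfg, hsp, r, s, hs, hrs, hFM⟩ := (slopePart_spec hτ F i.1).2
    exact ⟨M, r, s, hfg, hsp, hs, hrs, hFM⟩
  choose Mi ri si hfg hsp hsi hrsi hFMi using hdata
  set s : ℕ := ∏ i, si i with hsdef
  have hs : 0 < s := Finset.prod_pos fun i _ => hsi i
  set ti : ι → ℕ := fun i => ∏ j ∈ Finset.univ.erase i, si j with htidef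
  have hst : ∀ i, s = si i * ti i := fun i =>
    (Finset.mul_prod_erase Finset.univ si (Finset.mem_univ i)).symm
  set ai : ι → ℤ := fun i => ri i * ti i with haidef
  have hFs : ∀ i, latImg F s (Mi i) = pPow (ai i) (Mi i) := fun i => by
    rw [hst i]; exact latImg_mul_of_eq hτ (hFMi i) (ti i)
  have hai : ∀ i : ι, (ai i : ℚ) = i.1 * s := by
    intro i
    have h1 : (si i : ℚ) ≠ 0 := by exact_mod_cast (hsi i).ne'
    rw [← hrsi i, hst i]
    simp only [haidef]
    push_cast
    field_simp
  let mi : ι → ℕ := fun i => Module.finrank L (slopePart F i.1)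
  let bi : ∀ i : ι, Module.Basis (Fin (mi i)) L (slopePart F i.1) := fun i => Module.finBasis L _
  let cb := hint'.collectedBasis bi
  have hcard : Fintype.card (Σ i, Fin (mi i)) = h := by
    rw [← Module.finrank_eq_card_basis cb, Module.finrank_eq_card_basis b, Fintype.card_fin]
  let e : (Σ i, Fin (mi i)) ≃ Fin h := Fintype.equivFinOfCardEq hcard
  let b' : Module.Basis (Fin h) L N := cb.reindex e
  let a : Fin h → ℤ := fun j => ai (e.symm j).1
  have hDact : ∀ i : ι, ∀ x ∈ slopePart F i.1, diagMap b' a x = ((p : L) ^ (ai i)) • x := by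
    intro i x hx
    have hcomp : (diagMap b' a).comp (slopePart F i.1).subtype =
        ((p : L) ^ (ai i)) • (slopePart F i.1).subtype := by
      apply (bi i).ext
      intro j
      have hbj : ((bi i j : slopePart F i.1) : N) = b' (e ⟨i, j⟩) := by
        simp only [b', cb]
        rw [Module.Basis.reindex_apply, Equiv.symm_apply_apply,
          DirectSum.IsInternal.collectedBasis_coe]
      rw [LinearMap.comp_apply, Submodule.subtype_apply, hbj, diagMap_basis, LinearMap.smul_apply,
        Submodule.subtype_apply, hbj]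
      simp only [a, Equiv.symm_apply_apply]
    exact LinearMap.congr_fun hcomp ⟨x, hx⟩
  set M : Submodule W N := ⨆ i, Mi i with hMdef
  have hM : M.IsLattice L := by
    refine ⟨Submodule.fg_iSup _ hfg, ?_⟩
    rw [eq_top_iff, ← hint'.submodule_iSup_eq_top]
    refine iSup_le fun i => ?_
    rw [← hsp i]
    exact Submodule.span_mono (le_iSup Mi i)
  have hMiN : ∀ i, ∀ x ∈ Mi i, x ∈ slopePart F i.1 := fun i x hx => by
    rw [← hsp i]; exact Submodule.subset_span hx
  have hDM : ∀ i, latImg (diagMap b' a : N →ₛₗ[RingHom.id L] N) 1 (Mi i) = pPow (ai i) (Mi i) := by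
    intro i
    ext y
    rw [mem_latImg good_id, mem_pPow]
    constructor
    · rintro ⟨x, hx, rfl⟩
      rw [Function.iterate_one]
      erw [hDact i x (hMiN i x hx)]
      rw [smul_smul, ← zpow_add₀ pL_ne_zero, neg_add_cancel, zpow_zero, one_smul]
      exact hx
    · intro hy
      refine ⟨((p : L) ^ (-ai i)) • y, hy, ?_⟩
      rw [Function.iterate_one]
      erw [hDact i _ (hMiN i _ hy)]
      rw [smul_smul, ← zpow_add₀ pL_ne_zero, add_neg_cancel, zpow_zero, one_smul]
  have heq : latImg F s M = latImg (diagMap b' a : N →ₛₗ[RingHom.id L] N) 1 M := by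
    rw [hMdef, latImg_iSup, latImg_iSup]
    congr 1
    ext i : 1
    rw [hFs, hDM]
  have key := mul_eq_sum_of_latImg_eq hτ F b hd b' a s hM heq
  have hsum : ∑ j, a j = ∑ i, (mi i : ℤ) * ai i := by
    rw [← Equiv.sum_comp e (fun j => a j)]
    simp only [a, Equiv.symm_apply_apply]
    rw [Fintype.sum_sigma]
    apply Finset.sum_congr rfl
    intro i _
    simp only [Finset.sum_const, Finset.card_univ, Fintype.card_fin, nsmul_eq_mul]
  have hfs : ∑ᶠ μ : ℚ, μ * (newtonMult F μ : ℚ) = ∑ i : ι, i.1 * (mi i : ℚ) := by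
    rw [finsum_eq_sum_of_support_subset (s := hfinS.toFinset)]
    · rw [Finset.sum_subtype (p := fun μ : ℚ => slopePart F μ ≠ ⊥) hfinS.toFinset
        (fun x => by rw [Set.Finite.mem_toFinset]; rfl)]
      rfl
    · intro μ hμ
      rw [Function.mem_support] at hμ
      rw [Set.Finite.coe_toFinset]
      show slopePart F μ ≠ ⊥
      intro hbot
      apply hμ
      unfold newtonMult
      rw [hbot, finrank_bot]
      simp
  rw [hfs]
  have hs' : (s : ℚ) ≠ 0 := by exact_mod_cast hs.ne'
  have h1 : (s : ℚ) * ∑ i : ι, i.1 * (mi i : ℚ) = (s : ℚ) * d := by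
    have h2 : ((s : ℤ) * d : ℚ) = ((∑ i, (mi i : ℤ) * ai i : ℤ) : ℚ) := by
      rw [← hsum, ← key]; push_cast; ring
    push_cast at h2
    rw [h2, Finset.mul_sum]
    apply Finset.sum_congr rfl
    intro i _
    rw [hai i]
    ring
  exact mul_left_cancel₀ hs' h1

end Groth.Agent.Lib.helper25.IsocK
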