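import Mathlib

/-!
# Lang's theorem for `GL_n` over an algebraically closed field, in semilinear form (helper25)

For a field `k` algebraically closed, a ring endomorphism `ε` of `k` with `ε x = x ^ q`, `q ≥ 2`, and
an injective `ε`-semilinear endomorphism `φ` of a finite-dimensional `k`-vector space `V`: the fixed
vectors of `φ` span `V`, and `φ - 1` is surjective.
-/

set_option autoImplicit false
set_option linter.unusedSectionVars false
set_option linter.unusedVariables false

namespace Groth.Agent.Lib.helper25.IsocL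

open Polynomial

variable {k : Type*} [Field k] {ε : k →+* k} {q : ℕ}
variable {V : Type*} [AddCommGroup V] [Module k V]

/-- the coefficients of the candidate fixed vector. -/
def beta (ε : k →+* k) (c : ℕ → k) (lam : k) : ℕ → k
  | 0 => lam * c 0
  | (j + 1) => ε (beta ε c lam j) + lam * c (j + 1)

theorem beta_identity (ε : k →+* k) (c : ℕ → k) (lam : k) (vs : ℕ → V) (m : ℕ) :
    ∑ j ∈ Finset.range m, ε (beta ε c lam j) • vs (j + 1) -
        ∑ j ∈ Finset.range m, beta ε c lam j • vs j =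
      beta ε c lam m • vs m - lam • ∑ j ∈ Finset.range (m + 1), c j • vs j := by
  induction m with
  | zero => simp [beta, mul_smul]
  | succ m ih =>
    rw [Finset.sum_range_succ, Finset.sum_range_succ (fun j => beta ε c lam j • vs j),
      Finset.sum_range_succ (fun j => c j • vs j) (m + 1), smul_add]
    have e : beta ε c lam (m + 1) = ε (beta ε c lam m) + lam * c (m + 1) := rfl
    rw [e, add_smul, mul_smul]
    have := ih
    rw [sub_eq_iff_eq_add] at this
    rw [this]
    abel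

/-- the polynomial `R_j` with `X * R_j` evaluating to `beta`. -/
noncomputable def Rpoly (q : ℕ) (c : ℕ → k) : ℕ → k[X]
  | 0 => C (c 0)
  | (j + 1) => X ^ (q - 1) * (Rpoly q c j) ^ q + C (c (j + 1))

theorem eval_Rpoly (hq : 2 ≤ q) (hε : ∀ x, ε x = x ^ q) (c : ℕ → k) (lam : k) (j : ℕ) :
    lam * (Rpoly q c j).eval lam = beta ε c lam j := by
  induction j with
  | zero => simp [Rpoly, beta]
  | succ j ih =>
    have e : beta ε c lam (j + 1) = ε (beta ε c lam j) + lam * c (j + 1) := rfl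
    rw [e, ← ih, hε]
    simp only [Rpoly, eval_add, eval_mul, eval_pow, eval_X, eval_C]
    have hq' : lam ^ q = lam * lam ^ (q - 1) := by
      rw [← pow_succ']; congr 1; omega
    rw [mul_pow, hq']
    ring

theorem Rpoly_eval_zero (hq : 2 ≤ q) (c : ℕ → k) (j : ℕ) : (Rpoly q c j).eval 0 = c j := by
  cases j with
  | zero => simp [Rpoly]
  | succ j =>
    simp only [Rpoly, eval_add, eval_mul, eval_pow, eval_X, eval_C]
    rw [zero_pow (by omega), zero_mul, zero_add]

theorem Rpoly_ne_zero (hq : 2 ≤ q) (c : ℕ → k) (j : ℕ) (h : ∃ i, i ≤ j ∧ c i ≠ 0) :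
    Rpoly q c j ≠ 0 := by
  induction j with
  | zero =>
    obtain ⟨i, hi, hci⟩ := h
    have : i = 0 := by omega
    subst this
    simpa [Rpoly] using hci
  | succ j ih =>
    intro hzero
    by_cases hj : ∃ i, i ≤ j ∧ c i ≠ 0
    · have hR := ih hj
      have h1 : (X ^ (q - 1) * (Rpoly q c j) ^ q : k[X]) ≠ 0 :=
        mul_ne_zero (pow_ne_zero _ X_ne_zero) (pow_ne_zero _ hR)
      have h2 : 0 < (X ^ (q - 1) * (Rpoly q c j) ^ q : k[X]).degree := by
        rw [degree_mul, degree_pow, degree_X, nsmul_eq_mul, mul_one]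
        have h3 : (0 : WithBot ℕ) ≤ ((Rpoly q c j) ^ q).degree :=
          zero_le_degree_iff.2 (pow_ne_zero _ hR)
        have h4 : (0 : WithBot ℕ) < ((q - 1 : ℕ) : WithBot ℕ) := by
          exact_mod_cast (by omega : 0 < q - 1)
        calc (0 : WithBot ℕ) < ((q - 1 : ℕ) : WithBot ℕ) + 0 := by simpa using h4
          _ ≤ ((q - 1 : ℕ) : WithBot ℕ) + ((Rpoly q c j) ^ q).degree := by gcongr
      have h5 := degree_add_C (a := c (j + 1)) h2
      have : Rpoly q c (j + 1) = X ^ (q - 1) * (Rpoly q c j) ^ q + C (c (j + 1)) := rfl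
      rw [this] at hzero
      rw [hzero, degree_zero] at h5
      rw [← h5] at h2
      exact absurd h2 (by simp)
    · obtain ⟨i, hi, hci⟩ := h
      have hij : i = j + 1 := by
        by_contra hne
        exact hj ⟨i, by omega, hci⟩
      subst hij
      have := Rpoly_eval_zero hq c (j + 1)
      rw [hzero, eval_zero] at this
      exact hci this.symm


theorem iterate_ne_zero (φ : V →ₛₗ[ε] V) (hφ : Function.Injective φ) {v : V} (hv : v ≠ 0) (j : ℕ) :
    (⇑φ)^[j] v ≠ 0 := by
  induction j with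
  | zero => exact hv
  | succ j ih =>
    rw [Function.iterate_succ_apply']
    intro h
    exact ih (hφ (by rw [h, map_zero]))

/-- existence of a non-zero fixed vector. -/
theorem exists_fixed_ne_zero [IsAlgClosed k] (hq : 2 ≤ q) (hε : ∀ x, ε x = x ^ q)
    [FiniteDimensional k V] [Nontrivial V] (φ : V →ₛₗ[ε] V) (hφ : Function.Injective φ) :
    ∃ x : V, x ≠ 0 ∧ φ x = x := by
  classical
  obtain ⟨v, hv⟩ := exists_ne (0 : V)
  set vs : ℕ → V := fun j => (⇑φ)^[j] v with hvs
  have hvs_succ : ∀ j, φ (vs j) = vs (j + 1) := fun j => by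
    simp only [hvs]; rw [Function.iterate_succ_apply']
  have hvs_ne : ∀ j, vs j ≠ 0 := fun j => iterate_ne_zero φ hφ hv j
  let U : ℕ → Submodule k V := fun m => Submodule.span k (Set.range fun j : Fin m => vs j)
  have hUmono : Monotone U := by
    intro a b hab
    apply Submodule.span_mono
    rintro _ ⟨j, rfl⟩
    exact ⟨⟨j.1, lt_of_lt_of_le j.2 hab⟩, rfl⟩
  have hex : ∃ m, vs m ∈ U m := by
    obtain ⟨n, hn⟩ := monotone_stabilizes_iff_noetherian.2 (inferInstance : IsNoetherian k V)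
      ⟨U, hUmono⟩
    refine ⟨n, ?_⟩
    have h1 : vs n ∈ U (n + 1) := Submodule.subset_span ⟨⟨n, Nat.lt_succ_self n⟩, rfl⟩
    have h2 : U n = U (n + 1) := hn (n + 1) (Nat.le_succ n)
    rw [h2]; exact h1
  obtain ⟨m, hmem, hmin⟩ : ∃ m, vs m ∈ U m ∧ ∀ j, j < m → vs j ∉ U j :=
    ⟨Nat.find hex, Nat.find_spec hex, fun j hj => Nat.find_min hex hj⟩
  have hm1 : 1 ≤ m := by
    by_contra h0
    have h0' : m = 0 := by omega
    have : vs m ∈ U 0 := by rw [← h0']; exact hmem
    have hU0 : U 0 = ⊥ := by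
      simp only [U]
      rw [Submodule.span_eq_bot]
      rintro _ ⟨j, rfl⟩
      exact j.elim0
    rw [hU0, Submodule.mem_bot] at this
    exact hvs_ne m this
  -- coefficients
  obtain ⟨c₀, hc₀⟩ := (Submodule.mem_span_range_iff_exists_fun k).1 hmem
  set c : ℕ → k := fun j => if hj : j < m then c₀ ⟨j, hj⟩ else -1 with hc
  have hsum : ∑ j ∈ Finset.range m, c j • vs j = vs m := by
    rw [← hc₀, ← Fin.sum_univ_eq_sum_range (fun j => c j • vs j) m]
    apply Finset.sum_congr rfl
    intro j _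
    simp only [hc, dif_pos j.2]
  have hcm : c m = -1 := by simp only [hc, dif_neg (lt_irrefl m)]
  have hrel : ∑ j ∈ Finset.range (m + 1), c j • vs j = 0 := by
    rw [Finset.sum_range_succ, hsum, hcm, neg_one_smul, add_neg_cancel]
  have hci : ∃ i, i ≤ m - 1 ∧ c i ≠ 0 := by
    by_contra hcon
    rw [not_exists] at hcon
    apply hvs_ne m
    rw [← hsum]
    apply Finset.sum_eq_zero
    intro j hj
    rw [Finset.mem_range] at hj
    have : c j = 0 := by
      by_contra hne
      exact hcon j ⟨by omega, hne⟩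
    rw [this, zero_smul]
  -- the polynomial
  obtain ⟨m', rfl⟩ : ∃ m', m = m' + 1 := ⟨m - 1, by omega⟩
  have hRne : Rpoly q c m' ≠ 0 := Rpoly_ne_zero hq c m' (by simpa using hci)
  have hdeg : (Rpoly q c (m' + 1)).degree ≠ 0 := by
    have h1 : (X ^ (q - 1) * (Rpoly q c m') ^ q : k[X]) ≠ 0 :=
      mul_ne_zero (pow_ne_zero _ X_ne_zero) (pow_ne_zero _ hRne)
    have h2 : 0 < (X ^ (q - 1) * (Rpoly q c m') ^ q : k[X]).degree := by
      rw [degree_mul, degree_pow, degree_X, nsmul_eq_mul, mul_one]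
      have h3 : (0 : WithBot ℕ) ≤ ((Rpoly q c m') ^ q).degree :=
        zero_le_degree_iff.2 (pow_ne_zero _ hRne)
      have h4 : (0 : WithBot ℕ) < ((q - 1 : ℕ) : WithBot ℕ) := by
        exact_mod_cast (by omega : 0 < q - 1)
      calc (0 : WithBot ℕ) < ((q - 1 : ℕ) : WithBot ℕ) + 0 := by simpa using h4
        _ ≤ ((q - 1 : ℕ) : WithBot ℕ) + ((Rpoly q c m') ^ q).degree := by gcongr
    have h5 := degree_add_C (a := c (m' + 1)) h2
    have : Rpoly q c (m' + 1) = X ^ (q - 1) * (Rpoly q c m') ^ q + C (c (m' + 1)) := rfl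
    rw [this, h5]
    exact h2.ne'
  obtain ⟨lam, hlam⟩ := IsAlgClosed.exists_root _ hdeg
  have hlam0 : lam ≠ 0 := by
    rintro rfl
    rw [IsRoot.def, Rpoly_eval_zero hq, hcm] at hlam
    exact absurd hlam (by simp)
  have hβ : beta ε c lam (m' + 1) = 0 := by
    rw [← eval_Rpoly hq hε, hlam.eq_zero, mul_zero]
  set x : V := ∑ j ∈ Finset.range (m' + 1), beta ε c lam j • vs j with hx
  have hfix : φ x = x := by
    have h1 := beta_identity ε c lam vs (m' + 1)
    rw [hβ, zero_smul, hrel, smul_zero, sub_zero, sub_eq_zero] at h1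
    rw [hx, map_sum]
    rw [← h1]
    apply Finset.sum_congr rfl
    intro j _
    rw [map_smulₛₗ, hvs_succ]
  refine ⟨x, ?_, hfix⟩
  -- non-vanishing
  have hβm' : beta ε c lam m' ≠ 0 := by
    intro h0
    have e : beta ε c lam (m' + 1) = ε (beta ε c lam m') + lam * c (m' + 1) := rfl
    rw [e, h0, map_zero, zero_add, hcm, mul_neg, mul_one, neg_eq_zero] at hβ
    exact hlam0 hβ
  intro hx0
  apply hmin m' (Nat.lt_succ_self m')
  rw [hx, Finset.sum_range_succ] at hx0
  have h1 : vs m' = -(beta ε c lam m')⁻¹ • ∑ j ∈ Finset.range m', beta ε c lam j • vs j := by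
    have h2 : beta ε c lam m' • vs m' = -∑ j ∈ Finset.range m', beta ε c lam j • vs j :=
      eq_neg_of_add_eq_zero_right hx0
    rw [neg_smul, ← smul_neg, ← h2, smul_smul, inv_mul_cancel₀ hβm', one_smul]
  rw [h1]
  apply Submodule.smul_mem
  apply Submodule.sum_mem
  intro j hj
  rw [Finset.mem_range] at hj
  exact Submodule.smul_mem _ _ (Submodule.subset_span ⟨⟨j, hj⟩, rfl⟩)


theorem exists_artinSchreier [IsAlgClosed k] (hq : 2 ≤ q) (a : k) : ∃ t : k, t ^ q - t = a := by
  have hdeg : (X ^ q - X - C a : k[X]).degree ≠ 0 := by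
    have h1 : (X ^ q - X - C a : k[X]) = X ^ q - (X + C a) := by ring
    rw [h1, degree_sub_eq_left_of_degree_lt]
    · rw [degree_X_pow]; exact_mod_cast (by omega : q ≠ 0)
    · rw [degree_X_pow, degree_X_add_C]; exact_mod_cast (by omega : 1 < q)
  obtain ⟨t, ht⟩ := IsAlgClosed.exists_root _ hdeg
  refine ⟨t, ?_⟩
  rw [IsRoot.def] at ht
  simp only [eval_sub, eval_pow, eval_X, eval_C] at ht
  exact sub_eq_zero.1 ht

theorem eps_surjective [IsAlgClosed k] (hq : 2 ≤ q) (hε : ∀ x, ε x = x ^ q) :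
    Function.Surjective ε := by
  intro a
  obtain ⟨z, hz⟩ := IsAlgClosed.exists_pow_nat_eq a (by omega : 0 < q)
  exact ⟨z, by rw [hε, hz]⟩

/-- Artin–Schreier on the span of the fixed vectors. -/
theorem exists_sub_eq_of_mem_span [IsAlgClosed k] (hq : 2 ≤ q) (hε : ∀ x, ε x = x ^ q)
    (φ : V →ₛₗ[ε] V) {y : V} (hy : y ∈ Submodule.span k {x | φ x = x}) :
    ∃ s ∈ Submodule.span k {x | φ x = x}, φ s - s = y := by
  have key : ∀ a : k, ∃ s ∈ Submodule.span k {x | φ x = x}, φ s - s = a • y := by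
    induction hy using Submodule.span_induction with
    | mem x hx =>
      intro a
      obtain ⟨t, ht⟩ := exists_artinSchreier hq a
      refine ⟨t • x, Submodule.smul_mem _ _ (Submodule.subset_span hx), ?_⟩
      rw [map_smulₛₗ, hε, hx, ← sub_smul, ht]
    | zero => intro a; exact ⟨0, Submodule.zero_mem _, by simp⟩
    | add y₁ y₂ _ _ h₁ h₂ =>
      intro a
      obtain ⟨s₁, hs₁, e₁⟩ := h₁ a
      obtain ⟨s₂, hs₂, e₂⟩ := h₂ a
      refine ⟨s₁ + s₂, Submodule.add_mem _ hs₁ hs₂, ?_⟩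
      rw [map_add, smul_add, ← e₁, ← e₂]; abel
    | smul b y _ h =>
      intro a
      obtain ⟨s, hs, e⟩ := h (a * b)
      exact ⟨s, hs, by rw [e, mul_smul]⟩
  obtain ⟨s, hs, e⟩ := key 1
  exact ⟨s, hs, by rw [e, one_smul]⟩

theorem exists_preimage_of_mem_span [IsAlgClosed k] (hq : 2 ≤ q) (hε : ∀ x, ε x = x ^ q)
    (φ : V →ₛₗ[ε] V) {y : V} (hy : y ∈ Submodule.span k {x | φ x = x}) :
    ∃ s ∈ Submodule.span k {x | φ x = x}, φ s = y := by
  induction hy using Submodule.span_induction with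
  | mem x hx => exact ⟨x, Submodule.subset_span hx, hx⟩
  | zero => exact ⟨0, Submodule.zero_mem _, map_zero _⟩
  | add y₁ y₂ _ _ h₁ h₂ =>
    obtain ⟨s₁, hs₁, e₁⟩ := h₁
    obtain ⟨s₂, hs₂, e₂⟩ := h₂
    exact ⟨s₁ + s₂, Submodule.add_mem _ hs₁ hs₂, by rw [map_add, e₁, e₂]⟩
  | smul b y _ h =>
    obtain ⟨s, hs, e⟩ := h
    obtain ⟨b', hb'⟩ := eps_surjective hq hε b
    exact ⟨b' • s, Submodule.smul_mem _ _ hs, by rw [map_smulₛₗ, hb', e]⟩

theorem map_mem_span (φ : V →ₛₗ[ε] V) {y : V} (hy : y ∈ Submodule.span k {x | φ x = x}) :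
    φ y ∈ Submodule.span k {x | φ x = x} := by
  induction hy using Submodule.span_induction with
  | mem x hx => rw [hx]; exact Submodule.subset_span hx
  | zero => rw [map_zero]; exact Submodule.zero_mem _
  | add y₁ y₂ _ _ h₁ h₂ => rw [map_add]; exact Submodule.add_mem _ h₁ h₂
  | smul b y _ h => rw [map_smulₛₗ]; exact Submodule.smul_mem _ _ h

/-- Lang: the fixed vectors span. -/
theorem span_fixed_eq_top [IsAlgClosed k] (hq : 2 ≤ q) (hε : ∀ x, ε x = x ^ q)
    [FiniteDimensional k V] (φ : V →ₛₗ[ε] V) (hφ : Function.Injective φ) :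
    Submodule.span k {x | φ x = x} = ⊤ := by
  set S := Submodule.span k {x | φ x = x} with hS
  by_contra hne
  have hlt : S < ⊤ := lt_top_iff_ne_top.2 hne
  have : Nontrivial (V ⧸ S) := Submodule.Quotient.nontrivial_iff.2 hne
  let φq : (V ⧸ S) →ₛₗ[ε] (V ⧸ S) := S.mapQ S φ (fun x hx => map_mem_span φ hx)
  have hφq : ∀ x, φq (S.mkQ x) = S.mkQ (φ x) := fun x => rfl
  have hinj : Function.Injective φq := by
    rw [injective_iff_map_eq_zero]
    intro y hy
    obtain ⟨x, rfl⟩ := S.mkQ_surjective y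
    rw [hφq, Submodule.mkQ_apply, Submodule.Quotient.mk_eq_zero] at hy
    obtain ⟨s, hs, hsx⟩ := exists_preimage_of_mem_span hq hε φ hy
    have : s = x := hφ hsx
    rw [Submodule.mkQ_apply, Submodule.Quotient.mk_eq_zero, ← this]
    exact hs
  obtain ⟨y, hy0, hyfix⟩ := exists_fixed_ne_zero hq hε φq hinj
  obtain ⟨x, rfl⟩ := S.mkQ_surjective y
  apply hy0
  rw [hφq, ← sub_eq_zero, ← map_sub, Submodule.mkQ_apply, Submodule.Quotient.mk_eq_zero] at hyfix
  obtain ⟨s, hs, hsx⟩ := exists_sub_eq_of_mem_span hq hε φ (Submodule.neg_mem _ hyfix)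
  have hfix : φ (x + s) = x + s := by
    rw [map_add]
    have : φ s = s - (φ x - x) := by
      rw [sub_eq_add_neg s, ← hsx]; abel
    rw [this]; abel
  have h1 : x + s ∈ S := Submodule.subset_span hfix
  have h2 : x ∈ S := by
    have := Submodule.sub_mem _ h1 hs
    rwa [add_sub_cancel_right] at this
  rw [Submodule.mkQ_apply, Submodule.Quotient.mk_eq_zero]
  exact h2

/-- `φ - 1` is surjective. -/
theorem exists_sub_eq [IsAlgClosed k] (hq : 2 ≤ q) (hε : ∀ x, ε x = x ^ q)
    [FiniteDimensional k V] (φ : V →ₛₗ[ε] V) (hφ : Function.Injective φ) (y : V) :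
    ∃ s : V, φ s - s = y := by
  have hy : y ∈ Submodule.span k {x | φ x = x} := by
    rw [span_fixed_eq_top hq hε φ hφ]; trivial
  obtain ⟨s, -, hs⟩ := exists_sub_eq_of_mem_span hq hε φ hy
  exact ⟨s, hs⟩

end Groth.Agent.Lib.helper25.IsocL
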