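import Groth.Agent.Lib.helper25.IsocK
import Groth.Agent.Lib.helper25.IsocL

/-!
# Isocrystals over an algebraically closed field: fixed vectors of unit-root crystals (helper25)
-/

set_option autoImplicit false
set_option linter.unusedSectionVars false
set_option linter.unusedVariables false
universe u v w
open Isoc
open scoped Pointwise

namespace Groth.Agent.Lib.helper25.IsocM

open Groth.Agent.Lib.helper25.IsocA Groth.Agent.Lib.helper25.IsocB Groth.Agent.Lib.helper25.IsocC
  Groth.Agent.Lib.helper25.IsocD Groth.Agent.Lib.helper25.IsocE Groth.Agent.Lib.helper25.IsocF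
  Groth.Agent.Lib.helper25.IsocG Groth.Agent.Lib.helper25.IsocH Groth.Agent.Lib.helper25.IsocI
  Groth.Agent.Lib.helper25.IsocJ Groth.Agent.Lib.helper25.IsocL

variable {p : ℕ} [Fact p.Prime] {k : Type u} [Field k] [CharP k p] [PerfectRing k p]

local notation "W" => WittVector p k
local notation "L" => FractionRing (WittVector p k)

variable {N : Type v} [AddCommGroup N] [Module (WittVector p k) N]
  [Module (FractionRing (WittVector p k)) N]
  [IsScalarTower (WittVector p k) (FractionRing (WittVector p k)) N]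

variable {h : ℕ}
variable {τ : FractionRing (WittVector p k) →+* FractionRing (WittVector p k)}

theorem map_mem_pPow (hτ : Good τ) {Φ : N →ₛₗ[τ] N} {M : Submodule W N}
    (hle : latImg Φ 1 M ≤ M) {r : ℤ} {x : N} (hx : x ∈ pPow r M) : Φ x ∈ pPow r M := by
  rw [mem_pPow] at hx ⊢
  have h1 : (⇑Φ)^[1] (((p : L) ^ (-r)) • x) ∈ latImg Φ 1 M := iter_mem_latImg hx
  rw [iter_p_smul, Function.iterate_one] at h1
  exact hle h1

/-- successive approximation of fixed vectors. -/
theorem exists_fixed_lift (hτ : Good τ) (Φ : N →ₛₗ[τ] N) {M : Submodule W N}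
    (hM : M.IsLattice L) (hle : latImg Φ 1 M ≤ M)
    (hsurj : ∀ z ∈ M, ∃ y ∈ M, Φ y - y - z ∈ pPow 1 M)
    (x₀ : N) (hx₀ : x₀ ∈ M) (hx₀' : Φ x₀ - x₀ ∈ pPow 1 M) :
    ∃ x ∈ M, Φ x = x ∧ x - x₀ ∈ pPow 1 M := by
  classical
  have hstep : ∀ (m : ℕ) (x : {x : N // x ∈ M ∧ Φ x - x ∈ pPow ((m + 1 : ℕ) : ℤ) M}),
      ∃ y : {y : N // y ∈ M ∧ Φ y - y ∈ pPow ((m + 2 : ℕ) : ℤ) M},
        y.1 - x.1 ∈ pPow ((m + 1 : ℕ) : ℤ) M := by
    rintro m ⟨x, hxM, hx⟩
    set z : N := ((p : L) ^ (-((m + 1 : ℕ) : ℤ))) • (Φ x - x) with hz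
    have hzM : z ∈ M := mem_pPow.1 hx
    obtain ⟨y, hyM, hy⟩ := hsurj (-z) (Submodule.neg_mem _ hzM)
    have hpy : ((p : L) ^ ((m + 1 : ℕ) : ℤ)) • y ∈ pPow ((m + 1 : ℕ) : ℤ) M := smul_mem_pPow hyM
    have hpM : ∀ m : ℕ, pPow (m : ℤ) M ≤ M := fun m => by
      have := pPow_anti (show (0 : ℤ) ≤ (m : ℤ) by positivity) M
      rwa [pPow_zero] at this
    refine ⟨⟨x + ((p : L) ^ ((m + 1 : ℕ) : ℤ)) • y, Submodule.add_mem _ hxM (hpM _ hpy), ?_⟩, ?_⟩
    · have e : Φ (x + ((p : L) ^ ((m + 1 : ℕ) : ℤ)) • y) - (x + ((p : L) ^ ((m + 1 : ℕ) : ℤ)) • y) =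
          ((p : L) ^ ((m + 1 : ℕ) : ℤ)) • (Φ y - y - -z) := by
        rw [map_add, map_smulₛₗ, map_p_zpow, hz, smul_sub, smul_sub, smul_neg, smul_smul,
          ← zpow_add₀ pL_ne_zero, add_neg_cancel, zpow_zero, one_smul]
        abel
      rw [e]
      have : pPow ((m + 2 : ℕ) : ℤ) M = pPow ((m + 1 : ℕ) : ℤ) (pPow 1 M) := by
        rw [pPow_pPow]; congr 1
      rw [this]
      exact smul_mem_pPow hy
    · simp only [add_sub_cancel_left]
      exact hpy
  choose nxt hnxt using hstep
  let g : (m : ℕ) → {x : N // x ∈ M ∧ Φ x - x ∈ pPow ((m + 1 : ℕ) : ℤ) M} := fun m =>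
    Nat.rec ⟨x₀, hx₀, by simpa using hx₀'⟩ (fun m x => nxt m x) m
  have hg0 : (g 0).1 = x₀ := rfl
  have hgs : ∀ m, g (m + 1) = nxt m (g m) := fun m => rfl
  obtain ⟨x, hxM, hx⟩ := exists_limit hM (fun m => (g m).1) (fun m => (g m).2.1)
    (fun m => by
      have := hnxt m (g m)
      rw [← hgs m] at this
      exact pPow_anti (by push_cast; omega) M this)
  refine ⟨x, hxM, ?_, ?_⟩
  · rw [← sub_eq_zero]
    apply eq_zero_of_forall_mem_pPow hM.fg
    intro m
    have h1 : Φ (x - (g m).1) ∈ pPow (m : ℤ) M := map_mem_pPow hτ hle (hx m)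
    have h2 : Φ (g m).1 - (g m).1 ∈ pPow (m : ℤ) M :=
      pPow_anti (by push_cast; omega) M (g m).2.2
    have e : Φ x - x = Φ (x - (g m).1) - (x - (g m).1) + (Φ (g m).1 - (g m).1) := by
      rw [map_sub]; abel
    rw [e]
    exact Submodule.add_mem _ (Submodule.sub_mem _ h1 (hx m)) h2
  · have h1 : x - (g 1).1 ∈ pPow 1 M := by simpa using hx 1
    have h2 : (g 1).1 - (g 0).1 ∈ pPow 1 M := by
      have := hnxt 0 (g 0)
      rw [← hgs 0] at this
      simpa using this
    have e : x - x₀ = (x - (g 1).1) + ((g 1).1 - (g 0).1) := by rw [hg0]; abel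
    rw [e]
    exact Submodule.add_mem _ h1 h2


/-- the semilinear map `v ↦ B · v^(q)` on `k^n`. -/
noncomputable def matSemi {n : ℕ} (ε : k →+* k) (B : Matrix (Fin n) (Fin n) k) :
    (Fin n → k) →ₛₗ[ε] (Fin n → k) where
  toFun v := B.mulVec (fun i => ε (v i))
  map_add' x y := by
    rw [← Matrix.mulVec_add]
    congr 1
    ext i
    simp
  map_smul' a x := by
    rw [← Matrix.mulVec_smul]
    congr 1
    ext i
    simp

theorem matSemi_apply {n : ℕ} (ε : k →+* k) (B : Matrix (Fin n) (Fin n) k) (v : Fin n → k) :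
    matSemi ε B v = B.mulVec (fun i => ε (v i)) := rfl

theorem matSemi_injective {n : ℕ} (ε : k →+* k) (B : Matrix (Fin n) (Fin n) k) (hB : IsUnit B.det) :
    Function.Injective (matSemi ε B) := by
  intro x y hxy
  rw [matSemi_apply, matSemi_apply] at hxy
  have h1 := Matrix.mulVec_injective_of_isUnit ((Matrix.isUnit_iff_isUnit_det B).2 hB) hxy
  ext i
  exact ε.injective (congrFun h1 i)


/-- fixed vectors of a unit-root crystal over an algebraically closed field generate the lattice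
(twist of positive Frobenius type). -/
theorem le_span_fixed_of_pos [IsAlgClosed k] (e : WittVector p k ≃+* WittVector p k)
    (he : ∀ w, τ (algebraMap W L w) = algebraMap W L (e w)) (b : ℕ) (hb : 1 ≤ b)
    (hq : ∀ w : W, (e w).coeff 0 = (w.coeff 0) ^ (p ^ b)) (Φ : N →ₛₗ[τ] N) {M : Submodule W N}
    (hM : M.IsLattice L) (hΦM : latImg Φ 1 M = M) :
    M ≤ Submodule.span W {x | x ∈ M ∧ Φ x = x} := by
  classical
  have hτ : Good τ := ⟨e, he⟩
  have hle : latImg Φ 1 M ≤ M := hΦM.le
  obtain ⟨n, ⟨A⟩⟩ := exists_adapted hM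
  have hΦmem : ∀ x ∈ M, Φ x ∈ pPow 0 M := by
    intro x hx
    rw [pPow_zero, ← hΦM]
    exact iter_mem_latImg (s := 1) hx
  obtain ⟨B, hB⟩ := A.exists_matrix Φ 0 hΦmem
  have hBdet : IsUnit B.det := by
    have h1 := A.isOrdP_of_eq hτ Φ 0 (by rw [pPow_zero]; exact hΦM)
    rw [hB, det_smul_map, zero_mul, zpow_zero, one_mul] at h1
    exact isUnit_of_isOrdP_zero h1
  let param : (Fin n → W) →ₗ[W] N := Fintype.linearCombination W (fun i => A.e i)
  have hparam : ∀ c, param c = ∑ i, c i • A.e i := fun c => Fintype.linearCombination_apply W _ c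
  have hparam_mem : ∀ c, param c ∈ M := fun c => by
    rw [hparam]
    exact Submodule.sum_mem _ fun i _ => M.smul_mem _ (A.mem i)
  have hparam_repr : ∀ c i, A.e.repr (param c) i = algebraMap W L (c i) := by
    intro c i
    have : param c = ∑ j, (algebraMap W L (c j)) • A.e j := by
      rw [hparam]
      apply Finset.sum_congr rfl
      intro j _
      rw [algebraMap_smul']
    rw [this, Module.Basis.repr_sum_self]
  have hparam_surj : ∀ x ∈ M, ∃ c, param c = x := by
    intro x hx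
    choose w hw using A.repr_int x hx
    refine ⟨w, ?_⟩
    apply A.e.repr.injective
    ext i
    rw [hparam_repr, hw]
  have hΦparam : ∀ c, Φ (param c) = param (B.mulVec (fun i => e (c i))) := by
    intro c
    apply A.e.repr.injective
    ext l
    rw [hparam_repr, hparam, repr_of_matrix hτ A.e Φ 0 B hB c (fun i => e (c i)) (fun i => he (c i)) l,
      zpow_zero, one_mul]
    rfl
  let red : (Fin n → W) → (Fin n → k) := fun c i => WittVector.constantCoeff (c i)
  have hred_sub : ∀ c c', red (c - c') = red c - red c' := by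
    intro c c'; ext i; exact map_sub WittVector.constantCoeff (c i) (c' i)
  have hred_surj : ∀ v : Fin n → k, ∃ c, red c = v := by
    intro v
    choose c hc using fun i => WittVector.constantCoeff_surjective (p := p) (v i)
    exact ⟨c, funext hc⟩
  have hpM : ∀ c, red c = 0 → param c ∈ pPow 1 M := by
    intro c hc
    rw [mem_pPow]
    apply A.mem_of_repr
    intro i
    have h1 : (c i) ∈ Ideal.span {(p : W)} := by
      rw [WittVector.mem_span_p_iff_coeff_zero_eq_zero]
      exact congrFun hc i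
    obtain ⟨a, ha⟩ := Ideal.mem_span_singleton'.1 h1
    refine ⟨a, ?_⟩
    rw [map_smul, Finsupp.smul_apply, hparam_repr, ← ha, map_mul, map_natCast, smul_eq_mul,
      zpow_neg_one, mul_comm (algebraMap W L a), ← mul_assoc, inv_mul_cancel₀ pL_ne_zero, one_mul]
  -- the reduction
  set ε : k →+* k := iterateFrobenius k p b with hε
  have hεq : ∀ x, ε x = x ^ (p ^ b) := fun x => rfl
  have hq2 : 2 ≤ p ^ b := by
    have hp2 : 2 ≤ p := (Fact.out : p.Prime).two_le
    calc 2 ≤ p := hp2
      _ = p ^ 1 := (pow_one p).symm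
      _ ≤ p ^ b := Nat.pow_le_pow_right (by omega) hb
  set Bbar : Matrix (Fin n) (Fin n) k := B.map WittVector.constantCoeff with hBbar
  have hBbardet : IsUnit Bbar.det := by
    have : Bbar.det = WittVector.constantCoeff B.det := by
      rw [hBbar, RingHom.map_det]; rfl
    rw [this]
    exact hBdet.map _
  set φ := matSemi ε Bbar with hφ
  have hφinj : Function.Injective φ := matSemi_injective ε Bbar hBbardet
  have hredΦ : ∀ c, red (B.mulVec (fun i => e (c i))) = φ (red c) := by
    intro c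
    ext l
    simp only [red, hφ, matSemi_apply, Matrix.mulVec, dotProduct, map_sum, map_mul, hBbar,
      Matrix.map_apply]
    apply Finset.sum_congr rfl
    intro i _
    congr 1
    rw [hεq]
    exact hq (c i)
  have hsurj : ∀ z ∈ M, ∃ y ∈ M, Φ y - y - z ∈ pPow 1 M := by
    intro z hz
    obtain ⟨cz, rfl⟩ := hparam_surj z hz
    obtain ⟨s, hs⟩ := exists_sub_eq hq2 hεq φ hφinj (red cz)
    obtain ⟨cy, rfl⟩ := hred_surj s
    refine ⟨param cy, hparam_mem cy, ?_⟩
    rw [hΦparam, ← map_sub, ← map_sub]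
    apply hpM
    rw [hred_sub, hred_sub, hredΦ, hs, sub_self]
  -- spanning
  set SW : Submodule W N := Submodule.span W {x | x ∈ M ∧ Φ x = x} with hSW
  have hP : ∀ v : Fin n → k, v ∈ Submodule.span k {x | φ x = x} →
      ∀ c, red c = v → param c ∈ SW ⊔ pPow 1 M := by
    intro v hv
    induction hv using Submodule.span_induction with
    | mem v hv =>
      intro c hc
      have h0 : Φ (param c) - param c ∈ pPow 1 M := by
        rw [hΦparam, ← map_sub]
        apply hpM
        rw [hred_sub, hredΦ, hc, hv, sub_self]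
      obtain ⟨x, hxM, hxfix, hx⟩ := exists_fixed_lift hτ Φ hM hle hsurj (param c) (hparam_mem c) h0
      have e1 : param c = x - (x - param c) := by abel
      rw [e1]
      exact Submodule.sub_mem _ (Submodule.mem_sup_left (Submodule.subset_span ⟨hxM, hxfix⟩))
        (Submodule.mem_sup_right hx)
    | zero =>
      intro c hc
      exact Submodule.mem_sup_right (hpM c hc)
    | add v₁ v₂ _ _ h₁ h₂ =>
      intro c hc
      obtain ⟨c₁, hc₁⟩ := hred_surj v₁
      have h2 : red (c - c₁) = v₂ := by rw [hred_sub, hc, hc₁, add_sub_cancel_left]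
      have e1 : param c = param c₁ + param (c - c₁) := by rw [map_sub]; abel
      rw [e1]
      exact Submodule.add_mem _ (h₁ c₁ hc₁) (h₂ _ h2)
    | smul a v _ h₁ =>
      intro c hc
      obtain ⟨c₁, hc₁⟩ := hred_surj v
      obtain ⟨a', ha'⟩ := WittVector.constantCoeff_surjective (p := p) a
      have h2 : red (c - a' • c₁) = 0 := by
        rw [hred_sub, hc, ← hc₁]
        ext i
        show a * WittVector.constantCoeff (c₁ i) - WittVector.constantCoeff (a' * c₁ i) = 0
        rw [map_mul, ha', sub_self]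
      have e1 : param c = a' • param c₁ + param (c - a' • c₁) := by
        rw [map_sub, map_smul]; abel
      rw [e1]
      exact Submodule.add_mem _ (Submodule.smul_mem _ _ (h₁ c₁ hc₁))
        (Submodule.mem_sup_right (hpM _ h2))
  have hMle : M ≤ SW ⊔ pPow 1 M := by
    intro x hx
    obtain ⟨c, rfl⟩ := hparam_surj x hx
    apply hP (red c) _ c rfl
    rw [span_fixed_eq_top hq2 hεq φ hφinj]
    trivial
  exact Submodule.le_of_le_smul_of_le_jacobson_bot hM.fg pW_mem_jacobson
    (hMle.trans (sup_le_sup_left (pPow_one_le_smul M) _))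


/-- the twist restricts to an automorphism of `W` reducing to `x ↦ x^(p^b)` on `k`. -/
def PosType (τ : L →+* L) (b : ℕ) : Prop :=
  ∃ e : W ≃+* W, (∀ w, τ (algebraMap W L w) = algebraMap W L (e w)) ∧
    ∀ w : W, (e w).coeff 0 = (w.coeff 0) ^ (p ^ b)

/-- the twist restricts to an automorphism of `W` reducing to the inverse of `x ↦ x^(p^b)`. -/
def NegType (τ : L →+* L) (b : ℕ) : Prop :=
  ∃ e : W ≃+* W, (∀ w, τ (algebraMap W L w) = algebraMap W L (e w)) ∧
    ∀ w : W, w.coeff 0 = ((e w).coeff 0) ^ (p ^ b)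

theorem PosType.good {b : ℕ} (h : PosType τ b) : Good τ := by
  obtain ⟨e, he, -⟩ := h; exact ⟨e, he⟩

theorem NegType.good {b : ℕ} (h : NegType τ b) : Good τ := by
  obtain ⟨e, he, -⟩ := h; exact ⟨e, he⟩

theorem PosType.pow {b : ℕ} (h : PosType τ b) (n : ℕ) : PosType (τ ^ n) (b * n) := by
  obtain ⟨e, he, hq⟩ := h
  induction n with
  | zero =>
    refine ⟨RingEquiv.refl _, fun w => by rw [pow_zero]; rfl, fun w => by simp⟩
  | succ n ih =>
    obtain ⟨e', he', hq'⟩ := ih
    refine ⟨e.trans e', fun w => ?_, fun w => ?_⟩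
    · rw [pow_succ, RingHom.mul_def, RingHom.comp_apply, he, he']
      rfl
    · rw [RingEquiv.trans_apply, hq', hq, ← pow_mul, ← pow_add, Nat.mul_succ, add_comm]

theorem NegType.pow {b : ℕ} (h : NegType τ b) (n : ℕ) : NegType (τ ^ n) (b * n) := by
  obtain ⟨e, he, hq⟩ := h
  induction n with
  | zero =>
    refine ⟨RingEquiv.refl _, fun w => by rw [pow_zero]; rfl, fun w => by simp⟩
  | succ n ih =>
    obtain ⟨e', he', hq'⟩ := ih
    refine ⟨e.trans e', fun w => ?_, fun w => ?_⟩
    · rw [pow_succ, RingHom.mul_def, RingHom.comp_apply, he, he']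
      rfl
    · rw [RingEquiv.trans_apply, hq w, hq' (e w), ← pow_mul, ← pow_add, Nat.mul_succ]

theorem frobeniusEquiv_pow_coeff (n : ℕ) (w : W) :
    ((WittVector.frobeniusEquiv p k ^ n) w).coeff 0 = (w.coeff 0) ^ (p ^ n) := by
  induction n generalizing w with
  | zero => simp
  | succ n ih =>
    rw [pow_succ, RingAut.mul_apply, ih, WittVector.frobeniusEquiv_apply,
      WittVector.coeff_frobenius_charP, ← pow_mul, pow_succ']

theorem posType_frob (n : ℕ) : PosType (frob p k (n : ℤ)) n := by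
  refine ⟨WittVector.frobeniusEquiv p k ^ (n : ℤ), fun w => frob_algebraMap p k n w, fun w => ?_⟩
  rw [zpow_natCast, frobeniusEquiv_pow_coeff]

theorem negType_frob (n : ℕ) : NegType (frob p k (-(n : ℤ))) n := by
  refine ⟨WittVector.frobeniusEquiv p k ^ (-(n : ℤ)), fun w => frob_algebraMap p k _ w, fun w => ?_⟩
  rw [← frobeniusEquiv_pow_coeff, ← RingAut.mul_apply, zpow_neg, zpow_natCast, mul_inv_cancel]
  rfl

/-- an inverse with inverse twist. -/
theorem exists_inverse' (hτ : Good τ) (F : N →ₛₗ[τ] N) (hF : Function.Bijective F) :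
    ∃ (τ' : L →+* L) (_ : ∀ c, τ (τ' c) = c) (G : N →ₛₗ[τ'] N),
      (∀ x, G (F x) = x) ∧ (∀ x, F (G x) = x) := by
  let τe : L ≃+* L := RingEquiv.ofBijective τ hτ.bijective
  have hτe : ∀ c, τ (τe.symm c) = c := fun c => τe.apply_symm_apply c
  let Fe : N ≃ N := Equiv.ofBijective F hF
  have hFe : ∀ x, F (Fe.symm x) = x := fun x => Fe.apply_symm_apply x
  have hFe' : ∀ x, Fe.symm (F x) = x := fun x => Fe.symm_apply_apply x
  refine ⟨τe.symm.toRingHom, hτe, ?_⟩
  refine ⟨{ toFun := Fe.symm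
            map_add' := fun x y => ?_
            map_smul' := fun c x => ?_ }, hFe', hFe⟩
  · apply hF.injective
    rw [hFe, map_add, hFe, hFe]
  · apply hF.injective
    rw [hFe, map_smulₛₗ, hFe]
    show c • x = τ (τe.symm c) • x
    rw [hτe]

theorem posType_of_negType_inverse {τ' : L →+* L} {b : ℕ} (h : NegType τ b)
    (hinv : ∀ c, τ (τ' c) = c) : PosType τ' b := by
  obtain ⟨e, he, hq⟩ := h
  refine ⟨e.symm, fun w => ?_, fun w => ?_⟩
  · apply τ.injective
    rw [hinv, he, RingEquiv.apply_symm_apply]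
  · have := hq (e.symm w)
    rw [RingEquiv.apply_symm_apply] at this
    exact this

/-- fixed vectors generate, for twists of negative type. -/
theorem le_span_fixed_of_neg [IsAlgClosed k] {b : ℕ} (hb : 1 ≤ b) (hτ : NegType τ b)
    (Φ : N →ₛₗ[τ] N) (hΦ : Function.Bijective Φ) {M : Submodule W N}
    (hM : M.IsLattice L) (hΦM : latImg Φ 1 M = M) :
    M ≤ Submodule.span W {x | x ∈ M ∧ Φ x = x} := by
  obtain ⟨τ', hinv, Ψ, hΨΦ, hΦΨ⟩ := exists_inverse' hτ.good Φ hΦ
  obtain ⟨e', he', hq'⟩ := posType_of_negType_inverse hτ hinv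
  have hτ' : Good τ' := ⟨e', he'⟩
  have hΨM : latImg Ψ 1 M = M := by
    have := latImg_latImg_inverse hτ' hτ.good Ψ Φ hΨΦ 1 M
    rw [hΦM] at this
    exact this
  have h1 := le_span_fixed_of_pos e' he' b hb hq' Ψ hM hΨM
  refine h1.trans (Submodule.span_mono ?_)
  rintro x ⟨hxM, hx⟩
  refine ⟨hxM, ?_⟩
  have := hΦΨ x
  rw [hx] at this
  exact this


/-- over an algebraically closed field and for `a ≠ 0`: if `F^h M = p^d M`, the vectors of `M` with
`F^h x = p^d x` generate `M`. -/
theorem le_span_fixed_frob [IsAlgClosed k] (a : ℤ) (ha : a ≠ 0) (F : N →ₛₗ[frob p k a] N)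
    (hF : Function.Bijective F) (d : ℤ) (h : ℕ) (hh : 0 < h) {M : Submodule W N}
    (hM : M.IsLattice L) (hFM : latImg F h M = pPow d M) :
    M ≤ Submodule.span W {x | x ∈ M ∧ (⇑F)^[h] x = ((p : L) ^ d) • x} := by
  have hτ : Good (frob p k a) := good_frob a
  set Φ : N →ₛₗ[(frob p k a) ^ h] N := ((p : L) ^ (-d)) • iter F h with hΦdef
  have hΦ : Function.Bijective Φ := twist_bijective hF (-d) h
  have hΦM : latImg Φ 1 M = M := by
    have h1 := latImg_twist hτ F (-d) h 1 M
    rw [Nat.cast_one, mul_one, mul_one, hFM, pPow_pPow, neg_add_cancel, pPow_zero] at h1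
    exact h1
  have hfixed : ∀ x, Φ x = x → (⇑F)^[h] x = ((p : L) ^ d) • x := by
    intro x hx
    have h1 : Φ x = ((p : L) ^ (-d)) • (⇑F)^[h] x := rfl
    rw [h1] at hx
    rw [← hx, smul_smul, ← zpow_add₀ pL_ne_zero, add_neg_cancel, zpow_zero, one_smul, hx]
  have hmono : {x | x ∈ M ∧ Φ x = x} ⊆ {x | x ∈ M ∧ (⇑F)^[h] x = ((p : L) ^ d) • x} :=
    fun x hx => ⟨hx.1, hfixed x hx.2⟩
  obtain ⟨n, rfl | rfl⟩ := Int.eq_nat_or_neg a
  · have hn : 1 ≤ n := by
      rcases Nat.eq_zero_or_pos n with rfl | hn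
      · exact absurd rfl ha
      · exact hn
    obtain ⟨e, he, hq⟩ := (posType_frob (p := p) (k := k) n).pow h
    exact (le_span_fixed_of_pos e he (n * h) (Nat.mul_pos hn hh) hq Φ hM hΦM).trans
      (Submodule.span_mono hmono)
  · have hn : 1 ≤ n := by
      rcases Nat.eq_zero_or_pos n with rfl | hn
      · exact absurd (by simp) ha
      · exact hn
    exact (le_span_fixed_of_neg (Nat.mul_pos hn hh) ((negType_frob (p := p) (k := k) n).pow h)
      Φ hΦ hM hΦM).trans (Submodule.span_mono hmono)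

end Groth.Agent.Lib.helper25.IsocM
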