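import Groth.Agent.Lib.helper25.IsocD

/-!
# Isocrystals: the standard isocrystals (helper25)
-/

set_option autoImplicit false
set_option linter.unusedSectionVars false
set_option linter.unusedVariables false
universe u v w
open Isoc
open scoped Pointwise

namespace Groth.Agent.Lib.helper25.IsocStd

open Groth.Agent.Lib.helper25.IsocA Groth.Agent.Lib.helper25.IsocB Groth.Agent.Lib.helper25.IsocC
  Groth.Agent.Lib.helper25.IsocD

variable {p : ℕ} [Fact p.Prime] {k : Type u} [Field k] [CharP k p] [PerfectRing k p]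

local notation "W" => WittVector p k
local notation "L" => FractionRing (WittVector p k)

variable (τ : FractionRing (WittVector p k) →+* FractionRing (WittVector p k)) (d : ℤ) (h : ℕ)

theorem std_single (j : Fin h) :
    stdIsoc τ d h (Pi.single j 1) =
      (if (finRotate h j).val = 0 then (p : L) ^ d else 1) • Pi.single (finRotate h j) (1 : L) := by
  ext i
  rw [stdIsoc_apply, Pi.smul_apply, smul_eq_mul]
  by_cases hi : i = finRotate h j
  · subst hi
    rw [Equiv.symm_apply_apply, Pi.single_eq_same, Pi.single_eq_same, map_one]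
  · have : (finRotate h).symm i ≠ j := fun hh => hi (by rw [← hh, Equiv.apply_symm_apply])
    rw [Pi.single_eq_of_ne this, Pi.single_eq_of_ne hi, map_zero, mul_zero, mul_zero]

theorem finRotate_val (hh : 0 < h) (i : ℕ) (hi : i < h) :
    (finRotate h ⟨i, hi⟩).val = if i + 1 = h then 0 else i + 1 := by
  obtain ⟨n, rfl⟩ := Nat.exists_eq_succ_of_ne_zero hh.ne'
  rw [coe_finRotate]
  by_cases h1 : i + 1 = n + 1
  · rw [if_pos h1, if_pos]
    ext
    simp only [Fin.val_last]
    omega
  · rw [if_neg h1, if_neg]
    intro h2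
    apply h1
    have := congrArg Fin.val h2
    simp only [Fin.val_last] at this
    omega

theorem std_iterate_single (hh : 0 < h) (j : Fin h) (m : ℕ) :
    (⇑(stdIsoc τ d h))^[m] (Pi.single j 1) =
      ((p : L) ^ (d * ((j.val + m) / h : ℕ))) •
        Pi.single (⟨(j.val + m) % h, Nat.mod_lt _ hh⟩ : Fin h) (1 : L) := by
  induction m with
  | zero =>
    have h1 : (j.val + 0) / h = 0 := by rw [add_zero]; exact Nat.div_eq_of_lt j.2
    have h2 : (⟨(j.val + 0) % h, Nat.mod_lt _ hh⟩ : Fin h) = j := by
      ext; simp [Nat.mod_eq_of_lt j.2]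
    rw [Function.iterate_zero, id, h1, h2]
    simp
  | succ m ih =>
    rw [Function.iterate_succ_apply', ih, map_smulₛₗ, map_p_zpow, std_single, smul_smul]
    set i := (j.val + m) % h with hi
    set q := (j.val + m) / h with hq
    have hih : i < h := Nat.mod_lt _ hh
    have hdecomp : j.val + m = h * q + i := (Nat.div_add_mod _ _).symm
    have hrot := finRotate_val h hh i hih
    by_cases h1 : i + 1 = h
    · have e1 : (j.val + (m + 1)) / h = q + 1 := by
        have : j.val + (m + 1) = h * (q + 1) := by rw [← add_assoc, hdecomp]; ring_nf; omega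
        rw [this, Nat.mul_div_cancel_left _ hh]
      have e2 : (j.val + (m + 1)) % h = 0 := by
        have : j.val + (m + 1) = h * (q + 1) := by rw [← add_assoc, hdecomp]; ring_nf; omega
        rw [this, Nat.mul_mod_right]
      have e3 : finRotate h ⟨i, hih⟩ = ⟨(j.val + (m + 1)) % h, Nat.mod_lt _ hh⟩ := by
        ext
        rw [hrot, if_pos h1]
        exact e2.symm
      rw [hrot, if_pos h1, if_pos rfl, e3, e1, ← zpow_add₀ pL_ne_zero]
      congr 2
      push_cast; ring
    · have hlt : i + 1 < h := by omega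
      have e1 : (j.val + (m + 1)) / h = q := by
        have : j.val + (m + 1) = h * q + (i + 1) := by rw [← add_assoc, hdecomp]; ring
        rw [this, Nat.mul_add_div hh, Nat.div_eq_of_lt hlt, add_zero]
      have e2 : (j.val + (m + 1)) % h = i + 1 := by
        have : j.val + (m + 1) = h * q + (i + 1) := by rw [← add_assoc, hdecomp]; ring
        rw [this, Nat.mul_add_mod, Nat.mod_eq_of_lt hlt]
      have e3 : finRotate h ⟨i, hih⟩ = ⟨(j.val + (m + 1)) % h, Nat.mod_lt _ hh⟩ := by
        ext
        rw [hrot, if_neg h1]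
        exact e2.symm
      rw [hrot, if_neg h1, if_neg (Nat.succ_ne_zero i), e3, e1, mul_one]

theorem std_iterate_h (hh : 0 < h) (j : Fin h) :
    (⇑(stdIsoc τ d h))^[h] (Pi.single j 1) = ((p : L) ^ d) • Pi.single j (1 : L) := by
  rw [std_iterate_single τ d h hh j h]
  have h1 : (j.val + h) / h = 1 := by
    rw [Nat.add_div_right _ hh, Nat.div_eq_of_lt j.2]
  have h2 : (⟨(j.val + h) % h, Nat.mod_lt _ hh⟩ : Fin h) = j := by
    ext; simp [Nat.mod_eq_of_lt j.2]
  rw [h1, h2]
  simp

/-- the standard lattice. -/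
noncomputable def stdLat : Submodule W (Fin h → L) :=
  Submodule.span W (Set.range fun j : Fin h => (Pi.single j (1 : L) : Fin h → L))

theorem stdLat_isLattice : (stdLat (p := p) (k := k) h).IsLattice L where
  fg := Submodule.fg_span (Set.finite_range _)
  span_eq_top := by
    rw [eq_top_iff]
    have h1 : Submodule.span L (Set.range fun j : Fin h => (Pi.single j (1 : L) : Fin h → L)) = ⊤ := by
      have := (Pi.basisFun L (Fin h)).span_eq
      convert this using 3
      ext j
      simp
    rw [← h1]
    apply Submodule.span_mono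
    exact Submodule.subset_span

theorem latImg_stdLat (hτ : Good τ) (hh : 0 < h) :
    latImg (stdIsoc τ d h) h (stdLat (p := p) (k := k) h) = pPow d (stdLat h) := by
  unfold stdLat
  rw [latImg_span hτ]
  unfold pPow
  rw [Submodule.smul_span]
  congr 1
  ext y
  constructor
  · rintro ⟨_, ⟨j, rfl⟩, rfl⟩
    exact ⟨_, ⟨j, rfl⟩, (std_iterate_h τ d h hh j).symm⟩
  · rintro ⟨_, ⟨j, rfl⟩, rfl⟩
    exact ⟨_, ⟨j, rfl⟩, std_iterate_h τ d h hh j⟩

theorem std_isIsoclinic (hτ : Good τ) (hh : 0 < h) : IsIsoclinic (stdIsoc τ d h) ((d : ℚ) / h) :=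
  ⟨stdLat h, stdLat_isLattice h, d, h, hh, rfl, latImg_stdLat τ d h hτ hh⟩

theorem std_injective (hτ : Good τ) : Function.Injective (stdIsoc τ d h) := by
  rw [injective_iff_map_eq_zero]
  intro x hx
  ext i
  have := congrFun hx (finRotate h i)
  rw [stdIsoc_apply, Equiv.symm_apply_apply, Pi.zero_apply, mul_eq_zero] at this
  rcases this with h1 | h1
  · exfalso
    split_ifs at h1
    · exact pL_zpow_ne_zero d h1
    · exact one_ne_zero h1
  · exact (map_eq_zero τ).1 h1

theorem std_bijective (hτ : Good τ) : Function.Bijective (stdIsoc τ d h) :=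
  ⟨std_injective τ d h hτ,
    semilinear_surjective_of_injective hτ.bijective.surjective _ (std_injective τ d h hτ)⟩

/-- an isoclinic isocrystal of slope `d/h` with `gcd(d,h)=1` and dimension `h` is simple. -/
theorem stable_eq_bot_or_top {τ : FractionRing (WittVector p k) →+* FractionRing (WittVector p k)}
    (hτ : Good τ) {N : Type v} [AddCommGroup N] [Module (WittVector p k) N]
    [Module (FractionRing (WittVector p k)) N]
    [IsScalarTower (WittVector p k) (FractionRing (WittVector p k)) N] [Module.Finite L N]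
    (F : N →ₛₗ[τ] N) (hF : Function.Bijective F) {d : ℤ} {h : ℕ} (hh : 0 < h)
    (hfin : Module.finrank L N = h) (hiso : IsIsoclinic F ((d : ℚ) / h)) (hgcd : Int.gcd d h = 1)
    (P : Submodule L N) (hP : ∀ x ∈ P, F x ∈ P) : P = ⊥ ∨ P = ⊤ := by
  have hiso' : IsIsoclinic (F.restrict hP) ((d : ℚ) / h) :=
    isIsoclinic_restrict_of_isoOn hτ F _ P hP (isoOn_of_isIsoclinic_stable hτ F hF _ hiso P hP)
  obtain ⟨M', hM', r, s, hs, hrs, hFM⟩ := hiso'
  have hinj : Function.Injective (F.restrict hP) := by
    intro x y hxy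
    apply Subtype.ext
    apply hF.injective
    exact congrArg Subtype.val hxy
  have hbij : Function.Bijective (F.restrict hP) :=
    ⟨hinj, semilinear_surjective_of_injective hτ.bijective.surjective _ hinj⟩
  let b' := Module.finBasis L P
  obtain ⟨d', hd'⟩ := exists_isOrdP_detCoeff hτ (F.restrict hP) hbij b'
  have h1 := mul_eq_of_latImg_eq hτ (F.restrict hP) b' hd' hM' s r hFM
  set h' := Module.finrank L P with hh'
  have hs' : (s : ℚ) ≠ 0 := by exact_mod_cast hs.ne'
  have hhq : (h : ℚ) ≠ 0 := by exact_mod_cast hh.ne'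
  have h2 : r * h = d * s := by
    rw [div_eq_div_iff hs' hhq] at hrs
    exact_mod_cast hrs
  have h3 : d' * h = d * h' := by
    have hs0 : (s : ℤ) ≠ 0 := by exact_mod_cast hs.ne'
    apply mul_left_cancel₀ hs0
    calc (s : ℤ) * (d' * h) = (s * d') * h := by ring
      _ = (r * h') * h := by rw [h1]
      _ = (r * h) * h' := by ring
      _ = (d * s) * h' := by rw [h2]
      _ = s * (d * h') := by ring
  have h4 : (h : ℤ) ∣ h' := by
    have : (h : ℤ) ∣ d * h' := ⟨d', by rw [← h3]; ring⟩
    apply Int.dvd_of_dvd_mul_right_of_gcd_one this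
    rw [Int.gcd_comm]; exact hgcd
  have h5 : h ∣ h' := by exact_mod_cast h4
  have h6 : h' ≤ h := by rw [← hfin]; exact Submodule.finrank_le P
  rcases Nat.eq_zero_or_pos h' with h0 | hpos
  · left
    exact Submodule.finrank_eq_zero.1 h0
  · right
    have : h' = h := le_antisymm h6 (Nat.le_of_dvd hpos h5)
    apply Submodule.eq_top_of_finrank_eq
    rw [← hh', this, hfin]

end Groth.Agent.Lib.helper25.IsocStd
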