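import Groth.Agent.Lib.helper25.IsocM
import Groth.Agent.Lib.helper25.IsocStd

/-!
# Isocrystals over an algebraically closed field: standard sub-isocrystals, semisimplicity and the
Dieudonné–Manin classification (helper25)
-/

set_option autoImplicit false
set_option linter.unusedSectionVars false
set_option linter.unusedVariables false
universe u v w
open Isoc
open scoped Pointwise

namespace Groth.Agent.Lib.helper25.IsocN

open Groth.Agent.Lib.helper25.IsocA Groth.Agent.Lib.helper25.IsocB Groth.Agent.Lib.helper25.IsocC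
  Groth.Agent.Lib.helper25.IsocD Groth.Agent.Lib.helper25.IsocE Groth.Agent.Lib.helper25.IsocF
  Groth.Agent.Lib.helper25.IsocG Groth.Agent.Lib.helper25.IsocH Groth.Agent.Lib.helper25.IsocI
  Groth.Agent.Lib.helper25.IsocJ Groth.Agent.Lib.helper25.IsocM Groth.Agent.Lib.helper25.IsocStd

variable {p : ℕ} [Fact p.Prime] {k : Type u} [Field k] [CharP k p] [PerfectRing k p]

local notation "W" => WittVector p k
local notation "L" => FractionRing (WittVector p k)

section

variable {N : Type v} [AddCommGroup N] [Module (WittVector p k) N]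
  [Module (FractionRing (WittVector p k)) N]
  [IsScalarTower (WittVector p k) (FractionRing (WittVector p k)) N]

variable {τ : FractionRing (WittVector p k) →+* FractionRing (WittVector p k)}

/-- an isoclinic isocrystal of slope `d/h` in lowest terms has a lattice with `F^h M = p^d M`. -/
theorem exists_lattice_lowest (hτ : Good τ) (F : N →ₛₗ[τ] N) {d : ℤ} {h : ℕ} (hh : 0 < h)
    (hgcd : Int.gcd d h = 1) (hiso : IsIsoclinic F ((d : ℚ) / h)) :
    ∃ M : Submodule W N, M.IsLattice L ∧ latImg F h M = pPow d M := by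
  obtain ⟨M₀, hM₀, r, s, hs, hrs, hFM⟩ := hiso
  have hs' : (s : ℚ) ≠ 0 := by exact_mod_cast hs.ne'
  have hhq : (h : ℚ) ≠ 0 := by exact_mod_cast hh.ne'
  have h2 : r * h = d * s := by
    rw [div_eq_div_iff hs' hhq] at hrs
    exact_mod_cast hrs
  have h4 : (h : ℤ) ∣ s := by
    have : (h : ℤ) ∣ d * s := ⟨r, by rw [← h2]; ring⟩
    apply Int.dvd_of_dvd_mul_right_of_gcd_one this
    rw [Int.gcd_comm]; exact hgcd
  have h5 : h ∣ s := by exact_mod_cast h4
  obtain ⟨c, rfl⟩ := h5
  have hc : 0 < c := by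
    rcases Nat.eq_zero_or_pos c with rfl | hc
    · simp at hs
    · exact hc
  have hr : r = d * c := by
    have hh0 : (h : ℤ) ≠ 0 := by exact_mod_cast hh.ne'
    apply mul_right_cancel₀ hh0
    rw [h2]; push_cast; ring
  set Φ : N →ₛₗ[τ ^ h] N := ((p : L) ^ (-d)) • iter F h with hΦdef
  have hτh : Good (τ ^ h) := hτ.pow h
  have hΦc : latImg Φ c M₀ = M₀ := by
    rw [hΦdef, latImg_twist hτ, hFM, pPow_pPow, hr]
    have : -d * (c : ℤ) + d * c = 0 := by ring
    rw [this, pPow_zero]
  set M : Submodule W N := ⨆ i : Fin c, latImg Φ i M₀ with hMdef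
  have hM₀M : M₀ ≤ M := by
    have := le_iSup (fun i : Fin c => latImg Φ i M₀) ⟨0, hc⟩
    simp only [latImg_zero] at this
    exact this
  have hM : M.IsLattice L := by
    refine ⟨Submodule.fg_iSup _ fun i => latImg_fg hτh Φ i hM₀.fg, ?_⟩
    rw [eq_top_iff, ← hM₀.span_eq_top]
    exact Submodule.span_mono hM₀M
  have hfix : latImg Φ 1 M = M := by
    rw [hMdef, latImg_iSup]
    have e : ∀ i : Fin c, latImg Φ 1 (latImg Φ i M₀) = latImg Φ (i + 1) M₀ := by
      intro i
      rw [← latImg_add hτh, add_comm]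
    simp only [e]
    apply le_antisymm
    · refine iSup_le fun i => ?_
      by_cases hi : (i : ℕ) + 1 < c
      · exact le_iSup (fun i : Fin c => latImg Φ i M₀) ⟨i + 1, hi⟩
      · have : (i : ℕ) + 1 = c := by have := i.2; omega
        rw [this, hΦc]
        exact hM₀M
    · refine iSup_le fun j => ?_
      rcases Nat.eq_zero_or_pos (j : ℕ) with hj | hj
      · rw [hj, latImg_zero]
        have := le_iSup (fun i : Fin c => latImg Φ ((i : ℕ) + 1) M₀) ⟨c - 1, by omega⟩
        simp only at this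
        have e2 : c - 1 + 1 = c := by omega
        rw [e2, hΦc] at this
        exact this
      · have := le_iSup (fun i : Fin c => latImg Φ ((i : ℕ) + 1) M₀) ⟨j - 1, by have := j.2; omega⟩
        simp only at this
        have e2 : (j : ℕ) - 1 + 1 = j := by omega
        rw [e2] at this
        exact this
  refine ⟨M, hM, ?_⟩
  have h1 := latImg_twist hτ F (-d) h 1 M
  rw [← hΦdef, hfix, Nat.cast_one, mul_one, mul_one] at h1
  conv_rhs => rw [h1]
  rw [pPow_pPow, add_neg_cancel, pPow_zero]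


/-- the span of `x, F x, …, F^(h-1) x`. -/
noncomputable def cyc (F : N →ₛₗ[τ] N) (h : ℕ) (x : N) : Submodule L N :=
  Submodule.span L (Set.range fun j : Fin h => (⇑F)^[j] x)

theorem iter_mem_cyc (F : N →ₛₗ[τ] N) {h : ℕ} (x : N) {j : ℕ} (hj : j < h) :
    (⇑F)^[j] x ∈ cyc F h x :=
  Submodule.subset_span ⟨⟨j, hj⟩, rfl⟩

theorem self_mem_cyc (F : N →ₛₗ[τ] N) {h : ℕ} (hh : 0 < h) (x : N) : x ∈ cyc F h x :=
  iter_mem_cyc F x hh

theorem cyc_stable (F : N →ₛₗ[τ] N) {d : ℤ} {h : ℕ} (hh : 0 < h) {x : N}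
    (hx : (⇑F)^[h] x = ((p : L) ^ d) • x) : ∀ y ∈ cyc F h x, F y ∈ cyc F h x := by
  intro y hy
  unfold cyc at hy
  induction hy using Submodule.span_induction with
  | mem y hy =>
    obtain ⟨j, rfl⟩ := hy
    have e : F ((⇑F)^[(j : ℕ)] x) = (⇑F)^[(j : ℕ) + 1] x :=
      (Function.iterate_succ_apply' (⇑F) j x).symm
    simp only
    rw [e]
    by_cases hj : (j : ℕ) + 1 < h
    · exact iter_mem_cyc F x hj
    · have : (j : ℕ) + 1 = h := by have := j.2; omega
      rw [this, hx]
      exact Submodule.smul_mem _ _ (self_mem_cyc F hh x)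
  | zero => rw [map_zero]; exact Submodule.zero_mem _
  | add y₁ y₂ _ _ h₁ h₂ => rw [map_add]; exact Submodule.add_mem _ h₁ h₂
  | smul a y _ h₁ => rw [map_smulₛₗ]; exact Submodule.smul_mem _ _ h₁

theorem cyc_isoOn (hτ : Good τ) (F : N →ₛₗ[τ] N) {d : ℤ} {h : ℕ} (hh : 0 < h) {x : N}
    (hx : (⇑F)^[h] x = ((p : L) ^ d) • x) : IsoOn F ((d : ℚ) / h) (cyc F h x) := by
  refine ⟨Submodule.span W (Set.range fun j : Fin h => (⇑F)^[j] x),
    Submodule.fg_span (Set.finite_range _), ?_, d, h, hh, rfl, ?_⟩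
  · unfold cyc
    exact Submodule.span_span_of_tower W L _
  · rw [latImg_span hτ]
    unfold pPow
    rw [Submodule.smul_span]
    congr 1
    ext y
    constructor
    · rintro ⟨_, ⟨j, rfl⟩, rfl⟩
      refine ⟨_, ⟨j, rfl⟩, ?_⟩
      simp only
      rw [← Function.iterate_add_apply, add_comm, Function.iterate_add_apply, hx, iter_p_smul]
    · rintro ⟨_, ⟨j, rfl⟩, rfl⟩
      refine ⟨_, ⟨j, rfl⟩, ?_⟩
      simp only
      rw [← Function.iterate_add_apply, add_comm, Function.iterate_add_apply, hx, iter_p_smul]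


/-- the height of a non-zero isoclinic isocrystal of slope `d/h` (lowest terms) is divisible by `h`. -/
theorem dvd_finrank_of_isIsoclinic (hτ : Good τ) [Module.Finite L N] (F : N →ₛₗ[τ] N)
    (hF : Function.Bijective F) {d : ℤ} {h : ℕ} (hh : 0 < h) (hgcd : Int.gcd d h = 1)
    (hiso : IsIsoclinic F ((d : ℚ) / h)) : h ∣ Module.finrank L N := by
  obtain ⟨M', hM', r, s, hs, hrs, hFM⟩ := hiso
  let b' := Module.finBasis L N
  obtain ⟨d', hd'⟩ := exists_isOrdP_detCoeff hτ F hF b'
  have h1 := mul_eq_of_latImg_eq hτ F b' hd' hM' s r hFM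
  set h' := Module.finrank L N with hh'
  have hs' : (s : ℚ) ≠ 0 := by exact_mod_cast hs.ne'
  have hhq : (h : ℚ) ≠ 0 := by exact_mod_cast hh.ne'
  have h2 : r * h = d * s := by
    rw [div_eq_div_iff hs' hhq] at hrs
    exact_mod_cast hrs
  have h3 : d' * h = d * h' := by
    have hs0 : (s : ℤ) ≠ 0 := by exact_mod_cast hs.ne'
    apply mul_left_cancel₀ hs0
    calc (s : ℤ) * (d' * h) = (s * d') * h := by ring
      _ = (r * h') * h := by rw [h1]
      _ = (r * h) * h' := by ring
      _ = (d * s) * h' := by rw [h2]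
      _ = s * (d * h') := by ring
  have h4 : (h : ℤ) ∣ h' := by
    have : (h : ℤ) ∣ d * h' := ⟨d', by rw [← h3]; ring⟩
    apply Int.dvd_of_dvd_mul_right_of_gcd_one this
    rw [Int.gcd_comm]; exact hgcd
  exact_mod_cast h4

theorem cyc_finrank (hτ : Good τ) [Module.Finite L N] (F : N →ₛₗ[τ] N)
    (hF : Function.Bijective F) {d : ℤ} {h : ℕ} (hh : 0 < h) (hgcd : Int.gcd d h = 1) {x : N}
    (hx0 : x ≠ 0) (hx : (⇑F)^[h] x = ((p : L) ^ d) • x) :
    Module.finrank L (cyc F h x) = h := by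
  have hst := cyc_stable F hh hx
  have hiso := isIsoclinic_restrict_of_isoOn hτ F _ _ hst (cyc_isoOn hτ F hh hx)
  have hdvd := dvd_finrank_of_isIsoclinic hτ (F.restrict hst) (restrict_bijective hτ F hF _ hst)
    hh hgcd hiso
  have hle : Module.finrank L (cyc F h x) ≤ h := by
    have := finrank_range_le_card (R := L) (fun j : Fin h => (⇑F)^[j] x)
    rwa [Fintype.card_fin] at this
  have hpos : 0 < Module.finrank L (cyc F h x) := by
    rw [Module.finrank_pos_iff]
    exact ⟨⟨⟨x, self_mem_cyc F hh x⟩, 0, fun h0 => hx0 (congrArg Subtype.val h0)⟩⟩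
  exact le_antisymm hle (Nat.le_of_dvd hpos hdvd)

theorem cyc_linearIndependent (hτ : Good τ) [Module.Finite L N] (F : N →ₛₗ[τ] N)
    (hF : Function.Bijective F) {d : ℤ} {h : ℕ} (hh : 0 < h) (hgcd : Int.gcd d h = 1) {x : N}
    (hx0 : x ≠ 0) (hx : (⇑F)^[h] x = ((p : L) ^ d) • x) :
    LinearIndependent L (fun j : Fin h => (⇑F)^[j] x) := by
  rw [linearIndependent_iff_card_eq_finrank_span, Fintype.card_fin]
  exact (cyc_finrank hτ F hF hh hgcd hx0 hx).symm

theorem cyc_simple (hτ : Good τ) [Module.Finite L N] (F : N →ₛₗ[τ] N)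
    (hF : Function.Bijective F) {d : ℤ} {h : ℕ} (hh : 0 < h) (hgcd : Int.gcd d h = 1) {x : N}
    (hx0 : x ≠ 0) (hx : (⇑F)^[h] x = ((p : L) ^ d) • x) (T : Submodule L N)
    (hT : ∀ y ∈ T, F y ∈ T) (hTle : T ≤ cyc F h x) : T = ⊥ ∨ T = cyc F h x := by
  have hst := cyc_stable F hh hx
  have hiso := isIsoclinic_restrict_of_isoOn hτ F _ _ hst (cyc_isoOn hτ F hh hx)
  have hfin := cyc_finrank hτ F hF hh hgcd hx0 hx
  set S := cyc F h x with hS
  have hT' : ∀ y ∈ T.comap S.subtype, (F.restrict hst) y ∈ T.comap S.subtype := by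
    intro y hy
    exact hT _ hy
  rcases stable_eq_bot_or_top hτ (F.restrict hst) (restrict_bijective hτ F hF _ hst) hh hfin hiso
    hgcd (T.comap S.subtype) hT' with h1 | h1
  · left
    have := Submodule.map_comap_subtype S T
    rw [h1, Submodule.map_bot, inf_eq_right.2 hTle] at this
    exact this.symm
  · right
    exact le_antisymm hTle (Submodule.comap_subtype_eq_top.1 h1)


theorem restrict_iterate (F : N →ₛₗ[τ] N) (P : Submodule L N) (hP : ∀ x ∈ P, F x ∈ P) (n : ℕ)
    (x : P) : (((⇑(F.restrict hP))^[n] x : P) : N) = (⇑F)^[n] (x : N) := by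
  induction n with
  | zero => rfl
  | succ n ih =>
    rw [Function.iterate_succ_apply', Function.iterate_succ_apply', ← ih]
    rfl

/-- standard simple sub-isocrystals. -/
def StdSub (F : N →ₛₗ[τ] N) (S : Submodule L N) : Prop :=
  ∃ (d : ℤ) (h : ℕ) (x : N), 0 < h ∧ Int.gcd d h = 1 ∧ x ≠ 0 ∧
    (⇑F)^[h] x = ((p : L) ^ d) • x ∧ S = cyc F h x

theorem sSup_stdSub_eq_top [IsAlgClosed k] (a : ℤ) (ha : a ≠ 0) [Module.Finite L N]
    (F : N →ₛₗ[frob p k a] N) (hF : Function.Bijective F) : sSup {S | StdSub F S} = ⊤ := by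
  have hτ : Good (frob p k a) := good_frob a
  set T := sSup {S | StdSub F S} with hT
  rw [eq_top_iff, ← iSup_slopePart_eq_top hτ _ N F hF rfl]
  refine iSup_le fun μ => ?_
  obtain ⟨hst, hisoOn⟩ := slopePart_spec hτ F μ
  have hiso' := isIsoclinic_restrict_of_isoOn hτ F μ _ hst hisoOn
  have hh : 0 < μ.den := μ.den_pos
  have hgcd : Int.gcd μ.num μ.den = 1 := by
    have := μ.reduced
    rwa [Nat.Coprime] at this
  have hμ : ((μ.num : ℚ) / μ.den) = μ := Rat.num_div_den μ
  have hiso'' : IsIsoclinic (F.restrict hst) ((μ.num : ℚ) / μ.den) := hμ.symm ▸ hiso'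
  obtain ⟨M', hM', hFM'⟩ := exists_lattice_lowest hτ (F.restrict hst) hh hgcd hiso''
  have hFV := le_span_fixed_frob a ha (F.restrict hst) (restrict_bijective hτ F hF _ hst) μ.num μ.den hh
    hM' hFM'
  have hG : {x' : slopePart F μ | x' ∈ M' ∧
      (⇑(F.restrict hst))^[μ.den] x' = ((p : L) ^ μ.num) • x'} ⊆
      ((T.comap (slopePart F μ).subtype : Submodule L (slopePart F μ)) : Set (slopePart F μ)) := by
    rintro x' ⟨-, hx'⟩
    rw [SetLike.mem_coe, Submodule.mem_comap, Submodule.subtype_apply]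
    by_cases hx0 : (x' : N) = 0
    · rw [hx0]; exact Submodule.zero_mem _
    · have hx : (⇑F)^[μ.den] (x' : N) = ((p : L) ^ μ.num) • (x' : N) := by
        rw [← restrict_iterate F _ hst, hx']
        rfl
      have hmem : cyc F μ.den (x' : N) ∈ {S | StdSub F S} :=
        ⟨μ.num, μ.den, x', hh, hgcd, hx0, hx, rfl⟩
      exact (le_sSup hmem) (self_mem_cyc F hh _)
  have h1 : M' ≤ (T.comap (slopePart F μ).subtype).restrictScalars W :=
    hFV.trans (Submodule.span_le.2 hG)
  have h2 : Submodule.span L (M' : Set (slopePart F μ)) ≤ T.comap (slopePart F μ).subtype :=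
    Submodule.span_le.2 fun y hy => h1 hy
  rw [hM'.span_eq_top] at h2
  intro y hy
  exact h2 (Submodule.mem_top : (⟨y, hy⟩ : slopePart F μ) ∈ ⊤)

/-- semisimplicity: stable subspaces have stable complements. -/
theorem exists_stable_compl [IsAlgClosed k] (a : ℤ) (ha : a ≠ 0) [Module.Finite L N]
    (F : N →ₛₗ[frob p k a] N) (hF : Function.Bijective F) (P : Submodule L N)
    (hP : ∀ x ∈ P, F x ∈ P) : ∃ Q : Submodule L N, (∀ x ∈ Q, F x ∈ Q) ∧ IsCompl P Q := by
  have hτ : Good (frob p k a) := good_frob a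
  induction P using WellFoundedGT.induction with
  | ind P ih =>
  by_cases hPtop : P = ⊤
  · exact ⟨⊥, fun x hx => by rw [Submodule.mem_bot] at hx; rw [hx, map_zero]; exact Submodule.zero_mem _,
      hPtop ▸ isCompl_top_bot⟩
  have hex : ∃ S, StdSub F S ∧ ¬ S ≤ P := by
    by_contra hcon
    apply hPtop
    rw [eq_top_iff, ← sSup_stdSub_eq_top a ha F hF]
    apply sSup_le
    intro S hS
    by_contra hle
    exact hcon ⟨S, hS, hle⟩
  obtain ⟨S, ⟨d, h, x, hh, hgcd, hx0, hx, rfl⟩, hSP⟩ := hex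
  have hSst := cyc_stable F hh hx
  have hinf : cyc F h x ⊓ P = ⊥ := by
    rcases cyc_simple hτ F hF hh hgcd hx0 hx (cyc F h x ⊓ P)
      (fun y hy => ⟨hSst y hy.1, hP y hy.2⟩) inf_le_left with h1 | h1
    · exact h1
    · exact absurd (inf_eq_left.1 h1) hSP
  have hP'st : ∀ y ∈ P ⊔ cyc F h x, F y ∈ P ⊔ cyc F h x := by
    intro y hy
    obtain ⟨y₁, hy₁, y₂, hy₂, rfl⟩ := Submodule.mem_sup.1 hy
    rw [map_add]
    exact Submodule.add_mem _ (Submodule.mem_sup_left (hP y₁ hy₁))
      (Submodule.mem_sup_right (hSst y₂ hy₂))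
  have hlt : P < P ⊔ cyc F h x := by
    refine lt_of_le_of_ne le_sup_left fun heq => hSP ?_
    rw [heq]; exact le_sup_right
  obtain ⟨Q', hQ'st, hQ'⟩ := ih (P ⊔ cyc F h x) hlt hP'st
  refine ⟨cyc F h x ⊔ Q', ?_, ?_⟩
  · intro y hy
    obtain ⟨y₁, hy₁, y₂, hy₂, rfl⟩ := Submodule.mem_sup.1 hy
    rw [map_add]
    exact Submodule.add_mem _ (Submodule.mem_sup_left (hSst y₁ hy₁))
      (Submodule.mem_sup_right (hQ'st y₂ hy₂))
  · constructor
    · rw [Submodule.disjoint_def]
      intro y hyP hy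
      obtain ⟨s, hs, q, hq, rfl⟩ := Submodule.mem_sup.1 hy
      have hq0 : q = 0 := by
        have h1 : q ∈ P ⊔ cyc F h x := by
          have : q = (s + q) - s := by abel
          rw [this]
          exact Submodule.sub_mem _ (Submodule.mem_sup_left hyP) (Submodule.mem_sup_right hs)
        exact (Submodule.disjoint_def.1 hQ'.disjoint) q h1 hq
      rw [hq0, add_zero] at hyP ⊢
      have : s ∈ cyc F h x ⊓ P := ⟨hs, hyP⟩
      rw [hinf] at this
      exact this
    · rw [codisjoint_iff, ← sup_assoc]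
      exact codisjoint_iff.1 hQ'.codisjoint


/-- a family below an independent family and with full supremum coincides with it. -/
theorem eq_of_le_of_iSup_eq_top {ι : Type*} {R M : Type*} [Ring R] [AddCommGroup M] [Module R M]
    (A B : ι → Submodule R M) (hAB : ∀ i, A i ≤ B i) (hA : ⨆ i, A i = ⊤) (hB : iSupIndep B)
    (i : ι) : A i = B i := by
  apply le_antisymm (hAB i)
  intro x hx
  have hx' : x ∈ ⨆ j, A j := by rw [hA]; trivial
  rw [iSup_split_single A i] at hx'
  obtain ⟨a, ha, r, hr, rfl⟩ := Submodule.mem_sup.1 hx'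
  have hr' : r ∈ ⨆ j, ⨆ (_ : j ≠ i), B j :=
    (iSup_mono fun j => iSup_mono fun _ => hAB j) hr
  have hrB : r ∈ B i := by
    have : r = (a + r) - a := by abel
    rw [this]
    exact Submodule.sub_mem _ hx (hAB i ha)
  have hr0 : r = 0 := (Submodule.disjoint_def.1 (hB i)) r hrB hr'
  rw [hr0, add_zero]
  exact ha

/-- additivity of the Newton multiplicities for a stable decomposition. -/
theorem newtonMult_add (hτ : Good τ) [Module.Finite L N] (F : N →ₛₗ[τ] N)
    (hF : Function.Bijective F) (P Q : Submodule L N) (hP : ∀ x ∈ P, F x ∈ P)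
    (hQ : ∀ x ∈ Q, F x ∈ Q) (hPQ : IsCompl P Q) (μ : ℚ) :
    newtonMult F μ = newtonMult (F.restrict hP) μ + newtonMult (F.restrict hQ) μ := by
  set BP : ℚ → Submodule L N := fun μ => (slopePart (F.restrict hP) μ).map P.subtype with hBP
  set BQ : ℚ → Submodule L N := fun μ => (slopePart (F.restrict hQ) μ).map Q.subtype with hBQ
  have hle : ∀ μ, BP μ ⊔ BQ μ ≤ slopePart F μ := fun μ =>
    sup_le (map_slopePart_restrict_le hτ F P hP μ) (map_slopePart_restrict_le hτ F Q hQ μ)
  have hsup : ⨆ μ, (BP μ ⊔ BQ μ) = ⊤ := by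
    rw [iSup_sup_eq]
    simp only [hBP, hBQ]
    rw [← Submodule.map_iSup, ← Submodule.map_iSup,
      iSup_slopePart_eq_top hτ _ P (F.restrict hP) (restrict_bijective hτ F hF P hP) rfl,
      iSup_slopePart_eq_top hτ _ Q (F.restrict hQ) (restrict_bijective hτ F hF Q hQ) rfl,
      Submodule.map_top, Submodule.map_top, Submodule.range_subtype, Submodule.range_subtype]
    exact codisjoint_iff.1 hPQ.codisjoint
  have heq := eq_of_le_of_iSup_eq_top (fun μ => BP μ ⊔ BQ μ) (fun μ => slopePart F μ) hle hsup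
    (slopePart_iSupIndep hτ F hF) μ
  have hdisj : BP μ ⊓ BQ μ = ⊥ := by
    rw [eq_bot_iff]
    refine le_trans (inf_le_inf ?_ ?_) (disjoint_iff.1 hPQ.disjoint).le
    · simp only [hBP]; exact (Submodule.map_subtype_le P _)
    · simp only [hBQ]; exact (Submodule.map_subtype_le Q _)
  unfold newtonMult
  rw [← heq]
  have h1 := Submodule.finrank_sup_add_finrank_inf_eq (BP μ) (BQ μ)
  rw [hdisj, finrank_bot, add_zero] at h1
  rw [h1]
  show Module.finrank L ((slopePart (F.restrict hP) μ).map P.subtype) +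
    Module.finrank L ((slopePart (F.restrict hQ) μ).map Q.subtype) = _
  rw [Submodule.finrank_map_subtype_eq, Submodule.finrank_map_subtype_eq]

/-- the Newton multiplicities of an isoclinic isocrystal. -/
theorem newtonMult_of_isIsoclinic (hτ : Good τ) [Module.Finite L N] (F : N →ₛₗ[τ] N)
    (hF : Function.Bijective F) {ν : ℚ} (hiso : IsIsoclinic F ν) (μ : ℚ) :
    newtonMult F μ = if ν = μ then Module.finrank L N else 0 := by
  have htop := slopePart_eq_top_of_isIsoclinic hτ F hiso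
  unfold newtonMult
  split_ifs with h
  · rw [← h, htop, finrank_top]
  · have hind := slopePart_iSupIndep hτ F hF μ
    have hle : slopePart F ν ≤ ⨆ j, ⨆ (_ : j ≠ μ), slopePart F j :=
      le_iSup₂ (f := fun j (_ : j ≠ μ) => slopePart F j) ν h
    rw [htop, top_le_iff] at hle
    rw [hle, disjoint_top] at hind
    have hind' : slopePart F μ = ⊥ := hind
    rw [hind', finrank_bot]


/-- the action of `F` on the cyclic vectors `F^j x` is the standard one. -/
theorem std_coords (F : N →ₛₗ[τ] N) {d : ℤ} {h : ℕ} (hh : 0 < h) {x : N}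
    (hx : (⇑F)^[h] x = ((p : L) ^ d) • x) (c : Fin h → L) :
    F (∑ j : Fin h, c j • (⇑F)^[j] x) = ∑ j : Fin h, (stdIsoc τ d h c) j • (⇑F)^[j] x := by
  rw [map_sum, ← Equiv.sum_comp (finRotate h) (fun j : Fin h => (stdIsoc τ d h c) j • (⇑F)^[j] x)]
  apply Finset.sum_congr rfl
  intro j _
  rw [map_smulₛₗ, stdIsoc_apply, Equiv.symm_apply_apply, ← Function.iterate_succ_apply' (⇑F)]
  obtain ⟨j, hj⟩ := j
  rw [finRotate_val h hh j hj]
  show τ (c ⟨j, hj⟩) • (⇑F)^[j + 1] x = _
  by_cases h1 : j + 1 = h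
  · rw [if_pos h1, if_pos rfl, Function.iterate_zero, id, mul_comm, mul_smul, ← hx, h1]
  · rw [if_neg h1, if_neg (Nat.succ_ne_zero j), one_mul]


end

/-- Dieudonné–Manin: classification of isocrystals over an algebraically closed field. -/
theorem classify [IsAlgClosed k] (a : ℤ) (ha : a ≠ 0) : ∀ (n : ℕ) (N : Type v) [AddCommGroup N]
    [Module (WittVector p k) N] [Module (FractionRing (WittVector p k)) N]
    [IsScalarTower (WittVector p k) (FractionRing (WittVector p k)) N]
    [Module.Finite (FractionRing (WittVector p k)) N] (F : N →ₛₗ[frob p k a] N),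
    Function.Bijective F → Module.finrank (FractionRing (WittVector p k)) N = n →
    ∃ (t : ℕ) (d : Fin t → ℤ) (h : Fin t → ℕ)
      (e : N ≃ₗ[FractionRing (WittVector p k)]
        ((i : Fin t) → (Fin (h i) → FractionRing (WittVector p k)))),
      (∀ i, 0 < h i ∧ Int.gcd (d i) (h i) = 1) ∧
      (∀ (x : N) (i : Fin t), e (F x) i = stdIsoc (frob p k a) (d i) (h i) (e x i)) ∧
      ∀ μ : ℚ, newtonMult F μ = ∑ i : Fin t, (if ((d i : ℚ) / (h i : ℚ)) = μ then h i else 0) := by
  intro n
  induction n using Nat.strong_induction_on with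
  | _ n ih =>
  intro N _ _ _ _ _ F hF hn
  have hτ : Good (frob p k a) := good_frob a
  by_cases hsub : Subsingleton N
  · refine ⟨0, fun i => i.elim0, fun i => i.elim0, LinearEquiv.ofSubsingleton _ _,
      fun i => i.elim0, fun x i => i.elim0, fun μ => ?_⟩
    rw [Finset.univ_eq_empty, Finset.sum_empty]
    unfold newtonMult
    exact Module.finrank_zero_of_subsingleton
  rw [not_subsingleton_iff_nontrivial] at hsub
  have hex : ∃ S, StdSub F S := by
    by_contra hcon
    rw [not_exists] at hcon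
    have h1 := sSup_stdSub_eq_top a ha F hF
    have h2 : {S | StdSub F S} = ∅ := Set.eq_empty_of_forall_notMem fun S hS => hcon S hS
    rw [h2, sSup_empty] at h1
    exact bot_ne_top h1
  obtain ⟨S, d₀, h₀, x, hh₀, hgcd₀, hx0, hx, rfl⟩ := hex
  have hSst := cyc_stable F hh₀ hx
  obtain ⟨Q, hQst, hcompl⟩ := exists_stable_compl a ha F hF (cyc F h₀ x) hSst
  have hfinS := cyc_finrank hτ F hF hh₀ hgcd₀ hx0 hx
  have hlt : Module.finrank (FractionRing (WittVector p k)) Q < n := by
    have := Submodule.finrank_add_eq_of_isCompl hcompl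
    omega
  obtain ⟨t, d, h, eQ, hdh, heQ, hmult⟩ := ih _ hlt Q (F.restrict hQst)
    (restrict_bijective hτ F hF Q hQst) rfl
  have hli := cyc_linearIndependent hτ F hF hh₀ hgcd₀ hx0 hx
  let bS : Module.Basis (Fin h₀) (FractionRing (WittVector p k)) (cyc F h₀ x) :=
    Module.Basis.span hli
  have hbS : ∀ j : Fin h₀, ((bS j : cyc F h₀ x) : N) = (⇑F)^[j] x := fun j =>
    congrArg Subtype.val (Module.Basis.span_apply hli j)
  let E := Submodule.prodEquivOfIsCompl (cyc F h₀ x) Q hcompl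
  let e' : N ≃ₗ[FractionRing (WittVector p k)]
      ((i : Fin (t + 1)) → (Fin ((Fin.cons h₀ h : Fin (t + 1) → ℕ) i) →
        FractionRing (WittVector p k))) :=
    E.symm ≪≫ₗ (LinearEquiv.prodCongr bS.equivFun eQ) ≪≫ₗ
      Fin.consLinearEquiv (FractionRing (WittVector p k))
        (fun i : Fin (t + 1) => Fin ((Fin.cons h₀ h : Fin (t + 1) → ℕ) i) →
          FractionRing (WittVector p k))
  have he'0 : ∀ y, e' y 0 = bS.equivFun (E.symm y).1 := fun y => rfl
  have he's : ∀ y (i : Fin t), e' y i.succ = eQ (E.symm y).2 i := fun y i => rfl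
  have hEF : ∀ y, E.symm (F y) =
      ((F.restrict hSst) (E.symm y).1, (F.restrict hQst) (E.symm y).2) := by
    intro y
    rw [LinearEquiv.symm_apply_eq, Submodule.coe_prodEquivOfIsCompl']
    have h1 : y = ((E.symm y).1 : N) + ((E.symm y).2 : N) := by
      rw [← Submodule.coe_prodEquivOfIsCompl' (cyc F h₀ x) Q hcompl, LinearEquiv.apply_symm_apply]
    conv_lhs => rw [h1, map_add]
    rfl
  have hstdS : ∀ s : cyc F h₀ x, bS.equivFun ((F.restrict hSst) s) =
      stdIsoc (frob p k a) d₀ h₀ (bS.equivFun s) := by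
    intro s
    have h1 : s = ∑ j, (bS.equivFun s j) • bS j := (bS.sum_equivFun s).symm
    have h2 : (F.restrict hSst) s = ∑ j, (stdIsoc (frob p k a) d₀ h₀ (bS.equivFun s)) j • bS j := by
      apply Subtype.ext
      rw [Submodule.coe_sum]
      simp only [Submodule.coe_smul, hbS]
      rw [← std_coords F hh₀ hx]
      show F (s : N) = _
      conv_lhs => rw [h1]
      rw [Submodule.coe_sum]
      simp only [Submodule.coe_smul, hbS]
    rw [h2, ← bS.equivFun_symm_apply, LinearEquiv.apply_symm_apply]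
  refine ⟨t + 1, Fin.cons d₀ d, Fin.cons h₀ h, e', ?_, ?_, ?_⟩
  · intro i
    refine Fin.cases ?_ (fun i => ?_) i
    · exact ⟨hh₀, hgcd₀⟩
    · exact hdh i
  · intro y i
    refine Fin.cases ?_ (fun i => ?_) i
    · rw [he'0, he'0, hEF]
      exact hstdS _
    · rw [he's, he's, hEF]
      exact heQ _ i
  · intro μ
    rw [newtonMult_add hτ F hF (cyc F h₀ x) Q hSst hQst hcompl μ, hmult μ, Fin.sum_univ_succ]
    congr 1
    have hiso := isIsoclinic_restrict_of_isoOn hτ F _ _ hSst (cyc_isoOn hτ F hh₀ hx)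
    rw [newtonMult_of_isIsoclinic hτ (F.restrict hSst) (restrict_bijective hτ F hF _ hSst) hiso μ,
      hfinS]
    rfl

end Groth.Agent.Lib.helper25.IsocN
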