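import Groth.Agent.Lib.helper25.IsocN

/-!
# Isocrystals over a finite field: Newton slopes from the characteristic polynomial of `F^m` (helper25)
-/

set_option autoImplicit false
set_option linter.unusedSectionVars false
set_option linter.unusedVariables false
universe u v w
open Isoc Polynomial
open scoped Pointwise

namespace Groth.Agent.Lib.helper25.IsocO

open Groth.Agent.Lib.helper25.IsocA Groth.Agent.Lib.helper25.IsocB Groth.Agent.Lib.helper25.IsocC
  Groth.Agent.Lib.helper25.IsocD Groth.Agent.Lib.helper25.IsocE Groth.Agent.Lib.helper25.IsocF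
  Groth.Agent.Lib.helper25.IsocG Groth.Agent.Lib.helper25.IsocH Groth.Agent.Lib.helper25.IsocI
  Groth.Agent.Lib.helper25.IsocJ Groth.Agent.Lib.helper25.IsocN

section Mat

variable {K Ω : Type*} [Field K] [Field Ω] (φ : K →+* Ω) {n : Type*} [Fintype n] [DecidableEq n]

/-- eigenvalues of `c • P^s` from eigenvalues of `P`. -/
theorem isRoot_charpoly_smul_pow (P : Matrix n n K) (α : Ω) (hα : (P.charpoly.map φ).IsRoot α)
    (c : K) (s : ℕ) : (((c • P ^ s).charpoly).map φ).IsRoot (φ c * α ^ s) := by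
  rw [← Matrix.charpoly_map, IsRoot.def, Matrix.eval_charpoly] at hα ⊢
  obtain ⟨v, hv0, hv⟩ := Matrix.exists_mulVec_eq_zero_iff.2 hα
  have h1 : (P.map φ).mulVec v = α • v := by
    rw [Matrix.sub_mulVec, sub_eq_zero] at hv
    rw [← hv]
    ext i
    simp [Matrix.mulVec, dotProduct, Matrix.scalar_apply, Matrix.diagonal_apply]
  have h2 : ∀ s : ℕ, ((P.map φ) ^ s).mulVec v = α ^ s • v := by
    intro s
    induction s with
    | zero => simp
    | succ s ih =>
      rw [pow_succ, ← Matrix.mulVec_mulVec, h1, Matrix.mulVec_smul, ih, smul_smul, pow_succ']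
  have h3 : (c • P ^ s).map φ = φ c • (P.map φ) ^ s := by
    rw [Matrix.map_smul' φ c (P ^ s) (fun a b => map_mul φ a b)]
    congr 1
    exact (map_pow φ.mapMatrix P s)
  apply Matrix.exists_mulVec_eq_zero_iff.1
  refine ⟨v, hv0, ?_⟩
  rw [Matrix.sub_mulVec, h3, Matrix.smul_mulVec, h2, sub_eq_zero, smul_smul]
  ext i
  simp [Matrix.mulVec, dotProduct, Matrix.scalar_apply, Matrix.diagonal_apply]

end Mat


section Int

variable {R Ω : Type*} [CommRing R] [Field Ω] [Algebra R Ω] {n : Type*} [Fintype n] [DecidableEq n]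

/-- roots of the characteristic polynomial of an invertible integral matrix are units of the
integral closure. -/
theorem isIntegral_of_isRoot_charpoly (B : Matrix n n R) (hB : IsUnit B.det) (u : Ω)
    (hu : (B.charpoly.map (algebraMap R Ω)).IsRoot u) :
    u ≠ 0 ∧ IsIntegral R u ∧ IsIntegral R u⁻¹ := by
  set g := B.charpoly with hg
  have hmonic : g.Monic := Matrix.charpoly_monic B
  have hroot : aeval u g = 0 := by
    rw [IsRoot.def, eval_map] at hu
    exact hu
  have hint : IsIntegral R u := ⟨g, hmonic, hroot⟩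
  have hg0 : IsUnit (g.coeff 0) := by
    have h1 := Matrix.det_eq_sign_charpoly_coeff B
    have h2 : g.coeff 0 = (-1) ^ Fintype.card n * B.det := by
      rw [h1, ← mul_assoc, ← pow_add, ← two_mul, pow_mul]
      simp only [neg_one_sq, one_pow, one_mul]
      rfl
    rw [h2]
    exact (IsUnit.pow _ isUnit_one.neg).mul hB
  have hdecomp : aeval u (divX g) * u + algebraMap R Ω (g.coeff 0) = 0 := by
    have h1 := divX_mul_X_add g
    have h2 := congrArg (aeval u) h1
    rw [map_add, map_mul, aeval_X, aeval_C, hroot] at h2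
    exact h2
  set w := aeval u (divX g) with hw
  have hwint : IsIntegral R w := by
    have hmem : u ∈ integralClosure R Ω := hint
    have : w ∈ integralClosure R Ω := by
      have h1 : w ∈ Algebra.adjoin R {u} := aeval_mem_adjoin_singleton R u
      exact (Algebra.adjoin_le (Set.singleton_subset_iff.2 hmem)) h1
    exact this
  obtain ⟨g0u, hg0u⟩ := hg0
  have hunitΩ : algebraMap R Ω (g.coeff 0) ≠ 0 := by
    have : IsUnit (algebraMap R Ω (g.coeff 0)) := (hg0u ▸ g0u.isUnit).map _
    exact this.ne_zero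
  have hu0 : u ≠ 0 := by
    rintro rfl
    rw [mul_zero, zero_add] at hdecomp
    exact hunitΩ hdecomp
  refine ⟨hu0, hint, ?_⟩
  have hinv : u⁻¹ = -(algebraMap R Ω ((g0u⁻¹ : Rˣ) : R)) * w := by
    have h1 : w * u = -algebraMap R Ω (g.coeff 0) := eq_neg_of_add_eq_zero_left hdecomp
    have h2 : algebraMap R Ω ((g0u⁻¹ : Rˣ) : R) * algebraMap R Ω (g.coeff 0) = 1 := by
      rw [← map_mul, ← hg0u, Units.inv_mul, map_one]
    field_simp
    calc (1 : Ω) = algebraMap R Ω ((g0u⁻¹ : Rˣ) : R) * algebraMap R Ω (g.coeff 0) := h2.symm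
      _ = -(algebraMap R Ω ((g0u⁻¹ : Rˣ) : R)) * (w * u) := by rw [h1]; ring
      _ = _ := by ring
  rw [hinv]
  exact (isIntegral_algebraMap.neg).mul hwint

end Int


open Groth.Agent.Lib.helper25.IsocA Groth.Agent.Lib.helper25.IsocB Groth.Agent.Lib.helper25.IsocC
  Groth.Agent.Lib.helper25.IsocD Groth.Agent.Lib.helper25.IsocE Groth.Agent.Lib.helper25.IsocF
  Groth.Agent.Lib.helper25.IsocG Groth.Agent.Lib.helper25.IsocH Groth.Agent.Lib.helper25.IsocI
  Groth.Agent.Lib.helper25.IsocJ Groth.Agent.Lib.helper25.IsocN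

variable {p : ℕ} [Fact p.Prime] {k : Type u} [Field k] [CharP k p] [PerfectRing k p]

local notation "W" => WittVector p k
local notation "L" => FractionRing (WittVector p k)

variable {N : Type v} [AddCommGroup N] [Module (WittVector p k) N]
  [Module (FractionRing (WittVector p k)) N]
  [IsScalarTower (WittVector p k) (FractionRing (WittVector p k)) N]

variable {τ : FractionRing (WittVector p k) →+* FractionRing (WittVector p k)}

variable {Ω : Type w} [Field Ω] [Algebra (WittVector p k) Ω]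
  [Algebra (FractionRing (WittVector p k)) Ω]
  [IsScalarTower (WittVector p k) (FractionRing (WittVector p k)) Ω]

/-- the eigenvalues of `π = F^m` on a lattice with `F^s M = p^r M`. -/
theorem isIntegral_of_latImg_eq (hτ : Good τ) (F : N →ₛₗ[τ] N) (m : ℕ) (π : N →ₗ[L] N)
    (hπ : ∀ x : N, π x = (⇑F)^[m] x) {M : Submodule W N} (hM : M.IsLattice L) {r : ℤ} {s : ℕ}
    (hFM : latImg F s M = pPow r M) [Module.Finite L N] (α : Ω)
    (hα : (π.charpoly.map (algebraMap L Ω)).IsRoot α) :
    α ^ s * (algebraMap L Ω (p : L)) ^ (-(r * (m : ℤ))) ≠ 0 ∧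
      IsIntegral W (α ^ s * (algebraMap L Ω (p : L)) ^ (-(r * (m : ℤ)))) ∧
      IsIntegral W (α ^ s * (algebraMap L Ω (p : L)) ^ (-(r * (m : ℤ))))⁻¹ := by
  classical
  obtain ⟨n, ⟨A⟩⟩ := exists_adapted hM
  set P := LinearMap.toMatrix A.e A.e π with hPdef
  have hP : P.charpoly = π.charpoly := LinearMap.charpoly_toMatrix π A.e
  set c : L := (p : L) ^ (-(r * (m : ℤ))) with hc
  set T : N →ₗ[L] N := c • π ^ s with hT
  have hπfun : (⇑π : N → N) = (⇑F)^[m] := funext hπ
  have hTapp : ∀ x, T x = c • (⇑F)^[s * m] x := by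
    intro x
    rw [hT, LinearMap.smul_apply, Module.End.pow_apply, hπfun, ← Function.iterate_mul, mul_comm]
  have hFsm : latImg F (s * m) M = pPow (r * m) M := latImg_mul_of_eq hτ hFM m
  have hTM : latImg (T : N →ₛₗ[RingHom.id L] N) 1 M = pPow 0 M := by
    rw [pPow_zero]
    apply le_antisymm
    · rw [latImg_le_iff good_id]
      intro x hx
      rw [Function.iterate_one]
      erw [hTapp]
      have : (⇑F)^[s * m] x ∈ pPow (r * m) M := by rw [← hFsm]; exact iter_mem_latImg hx
      exact mem_pPow.1 this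
    · intro y hy
      have h1 : ((p : L) ^ (r * (m : ℤ))) • y ∈ latImg F (s * m) M := by
        rw [hFsm]; exact smul_mem_pPow hy
      obtain ⟨x, hx, hxy⟩ := (mem_latImg hτ).1 h1
      rw [mem_latImg good_id]
      refine ⟨x, hx, ?_⟩
      rw [Function.iterate_one]
      erw [hTapp]
      rw [hxy, hc, smul_smul, ← zpow_add₀ pL_ne_zero, neg_add_cancel, zpow_zero, one_smul]
  have hTmem : ∀ x ∈ M, T x ∈ pPow 0 M := by
    intro x hx
    rw [← hTM]
    exact iter_mem_latImg (s := 1) (F := (T : N →ₛₗ[RingHom.id L] N)) hx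
  obtain ⟨B, hB⟩ := A.exists_matrix T 0 hTmem
  have hBdet : IsUnit B.det := by
    have h1 := A.isOrdP_of_eq good_id (T : N →ₛₗ[RingHom.id L] N) 0 hTM
    erw [hB] at h1
    rw [det_smul_map, zero_mul, zpow_zero, one_mul] at h1
    exact isUnit_of_isOrdP_zero h1
  have hmat : c • P ^ s = B.map (algebraMap W L) := by
    have h1 : LinearMap.toMatrix A.e A.e T = c • P ^ s := by
      rw [hT, map_smul, ← LinearMap.toMatrix_pow]
    have h2 : matf A.e T = LinearMap.toMatrix A.e A.e T := by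
      ext i j
      rw [matf_apply, LinearMap.toMatrix_apply]
    rw [← h1, ← h2, hB, zpow_zero, one_smul]
  have hroot := isRoot_charpoly_smul_pow (algebraMap L Ω) P α (by rw [hP]; exact hα) c s
  rw [hmat, Matrix.charpoly_map, Polynomial.map_map, ← IsScalarTower.algebraMap_eq] at hroot
  have key := isIntegral_of_isRoot_charpoly B hBdet _ hroot
  have e : α ^ s * (algebraMap L Ω (p : L)) ^ (-(r * (m : ℤ))) = algebraMap L Ω c * α ^ s := by
    rw [hc, map_zpow₀, mul_comm]
  rw [e]
  exact key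


theorem not_isIntegral_p_zpow_neg {t : ℕ} (ht : 1 ≤ t) :
    ¬ IsIntegral W ((algebraMap L Ω (p : L)) ^ (-(t : ℤ))) := by
  intro hint
  rw [← map_zpow₀, isIntegral_algebraMap_iff (algebraMap L Ω).injective,
    IsIntegrallyClosed.isIntegral_iff] at hint
  obtain ⟨w, hw⟩ := hint
  have h1 : algebraMap W L (w * (p : W) ^ t) = 1 := by
    rw [map_mul, hw, algebraMap_p_pow, ← zpow_add₀ pL_ne_zero, neg_add_cancel, zpow_zero]
  have h2 : w * (p : W) ^ t = 1 := by
    apply IsFractionRing.injective W L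
    rw [h1, map_one]
  obtain ⟨t', rfl⟩ : ∃ t', t = t' + 1 := ⟨t - 1, by omega⟩
  apply not_isUnit_pW (p := p) (k := k)
  refine IsUnit.of_mul_eq_one (w * (p : W) ^ t') ?_
  rw [← h2, pow_succ]
  ring

/-- two different unit conditions cannot hold for the same non-zero `α`. -/
theorem eq_of_cond {m : ℕ} (hm : m ≠ 0) {α : Ω} (hα : α ≠ 0) {μ ν : ℚ}
    (h1 : IsIntegral W (α ^ μ.den * (algebraMap L Ω (p : L)) ^ (-(μ.num * (m : ℤ)))))
    (h1' : IsIntegral W (α ^ μ.den * (algebraMap L Ω (p : L)) ^ (-(μ.num * (m : ℤ))))⁻¹)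
    (h2 : IsIntegral W (α ^ ν.den * (algebraMap L Ω (p : L)) ^ (-(ν.num * (m : ℤ)))))
    (h2' : IsIntegral W (α ^ ν.den * (algebraMap L Ω (p : L)) ^ (-(ν.num * (m : ℤ))))⁻¹) :
    μ = ν := by
  set a : Ω := algebraMap L Ω (p : L) with ha
  have ha0 : a ≠ 0 := by
    rw [ha, Ne, map_eq_zero]; exact pL_ne_zero
  set j : ℤ := (m : ℤ) * (ν.num * μ.den - μ.num * ν.den) with hj
  have e1 : (α ^ μ.den * a ^ (-(μ.num * (m : ℤ)))) ^ ν.den *
      ((α ^ ν.den * a ^ (-(ν.num * (m : ℤ))))⁻¹) ^ μ.den = a ^ j := by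
    rw [mul_pow, inv_pow, mul_pow, ← pow_mul, ← pow_mul, ← zpow_natCast (a ^ _), ← zpow_mul,
      ← zpow_natCast (a ^ (-(ν.num * (m : ℤ)))), ← zpow_mul, mul_inv, mul_comm μ.den ν.den]
    have hαne : α ^ (ν.den * μ.den) ≠ 0 := pow_ne_zero _ hα
    rw [← zpow_neg, hj]
    field_simp
    rw [← zpow_add₀ ha0]
    congr 1
    ring
  have e2 : ((α ^ μ.den * a ^ (-(μ.num * (m : ℤ))))⁻¹) ^ ν.den *
      (α ^ ν.den * a ^ (-(ν.num * (m : ℤ)))) ^ μ.den = a ^ (-j) := by
    have hz : a ^ (-j) = (a ^ j)⁻¹ := zpow_neg a j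
    have gen : ∀ (X Y : Ω) (a b : ℕ), (X⁻¹) ^ a * Y ^ b = (X ^ a * (Y⁻¹) ^ b)⁻¹ := by
      intro X Y a b
      rw [mul_inv, inv_pow, inv_pow, inv_inv]
    rw [hz, ← e1]
    exact gen _ _ _ _
  have hint1 : IsIntegral W (a ^ j) := e1 ▸ (h1.pow _).mul (h2'.pow _)
  have hint2 : IsIntegral W (a ^ (-j)) := e2 ▸ (h1'.pow _).mul (h2.pow _)
  by_contra hne
  have hj0 : j ≠ 0 := by
    rw [hj]
    apply mul_ne_zero (by exact_mod_cast hm)
    intro h0
    apply hne
    rw [Rat.eq_iff_mul_eq_mul]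
    linarith
  rcases lt_or_gt_of_ne hj0 with hneg | hpos
  · obtain ⟨t, ht⟩ : ∃ t : ℕ, j = -(t : ℤ) := ⟨(-j).toNat, by omega⟩
    rw [ht] at hint1
    exact not_isIntegral_p_zpow_neg (p := p) (k := k) (Ω := Ω) (t := t) (by omega) hint1
  · obtain ⟨t, ht⟩ : ∃ t : ℕ, j = (t : ℤ) := ⟨j.toNat, by omega⟩
    rw [ht] at hint2
    exact not_isIntegral_p_zpow_neg (p := p) (k := k) (Ω := Ω) (t := t) (by omega) hint2


theorem charpoly_of_isCompl {K V : Type*} [Field K] [AddCommGroup V] [Module K V]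
    [FiniteDimensional K V] (π : V →ₗ[K] V) (P Q : Submodule K V) (hP : ∀ x ∈ P, π x ∈ P)
    (hQ : ∀ x ∈ Q, π x ∈ Q) (h : IsCompl P Q) :
    π.charpoly = (π.restrict hP).charpoly * (π.restrict hQ).charpoly := by
  rw [← LinearMap.charpoly_prodMap,
    ← LinearEquiv.charpoly_conj (Submodule.prodEquivOfIsCompl P Q h)]
  congr 1
  apply LinearMap.ext
  intro y
  obtain ⟨z, rfl⟩ := (Submodule.prodEquivOfIsCompl P Q h).surjective y
  rw [LinearEquiv.conj_apply, LinearMap.comp_apply, LinearMap.comp_apply]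
  simp only [LinearEquiv.coe_coe, LinearEquiv.symm_apply_apply]
  rw [Submodule.coe_prodEquivOfIsCompl', Submodule.coe_prodEquivOfIsCompl', map_add]
  rfl

theorem stable_iSup {ι : Sort*} (F : N →ₛₗ[τ] N) (X : ι → Submodule L N)
    (hX : ∀ i, ∀ x ∈ X i, F x ∈ X i) : ∀ x ∈ ⨆ i, X i, F x ∈ ⨆ i, X i := by
  intro x hx
  induction hx using Submodule.iSup_induction' with
  | mem i x hx => exact (le_iSup X i) (hX i x hx)
  | zero => rw [map_zero]; exact Submodule.zero_mem _
  | add x y _ _ h₁ h₂ => rw [map_add]; exact Submodule.add_mem _ h₁ h₂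

/-- the unit condition. -/
abbrev Cond (p : ℕ) [Fact p.Prime] (k : Type u) [Field k] [CharP k p] [PerfectRing k p]
    (Ω : Type w) [Field Ω] [Algebra (WittVector p k) Ω] [Algebra (FractionRing (WittVector p k)) Ω]
    (m : ℕ) (μ : ℚ) : Ω → Prop := fun α =>
  IsIntegral (WittVector p k) (α ^ μ.den * (algebraMap (FractionRing (WittVector p k)) Ω
      (p : FractionRing (WittVector p k))) ^ (-(μ.num * (m : ℤ)))) ∧
    IsIntegral (WittVector p k) (α ^ μ.den * (algebraMap (FractionRing (WittVector p k)) Ω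
      (p : FractionRing (WittVector p k))) ^ (-(μ.num * (m : ℤ))))⁻¹

theorem countP_of_isIsoclinic [IsAlgClosed Ω] (hτ : Good τ) [Module.Finite L N]
    (F : N →ₛₗ[τ] N) (m : ℕ) (hm : m ≠ 0) (π : N →ₗ[L] N) (hπ : ∀ x : N, π x = (⇑F)^[m] x)
    {ν : ℚ} (hiso : IsIsoclinic F ν) (μ : ℚ) [DecidablePred (Cond p k Ω m μ)] :
    Multiset.countP (Cond p k Ω m μ) ((π.charpoly.map (algebraMap L Ω)).roots) =
      if ν = μ then Module.finrank L N else 0 := by
  have hgcd : Int.gcd ν.num ν.den = 1 := by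
    have := ν.reduced
    rwa [Nat.Coprime] at this
  have hlow : IsIsoclinic F ((ν.num : ℚ) / ν.den) := (Rat.num_div_den ν).symm ▸ hiso
  obtain ⟨M, hM, hFM⟩ := exists_lattice_lowest hτ F ν.den_pos hgcd hlow
  have hne : π.charpoly.map (algebraMap L Ω) ≠ 0 :=
    (π.charpoly_monic.map _).ne_zero
  have key : ∀ α ∈ (π.charpoly.map (algebraMap L Ω)).roots, α ≠ 0 ∧ Cond p k Ω m ν α := by
    intro α hα
    have hroot := (Polynomial.mem_roots hne).1 hα
    obtain ⟨h0, h1, h2⟩ := isIntegral_of_latImg_eq hτ F m π hπ hM hFM α hroot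
    refine ⟨?_, h1, h2⟩
    rintro rfl
    apply h0
    rw [zero_pow ν.den_pos.ne', zero_mul]
  split_ifs with h
  · subst h
    rw [Multiset.countP_eq_card.2 fun α hα => (key α hα).2, IsAlgClosed.card_roots_eq_natDegree,
      Polynomial.natDegree_map, LinearMap.charpoly_natDegree]
  · rw [Multiset.countP_eq_zero]
    intro α hα hcond
    obtain ⟨h0, hν⟩ := key α hα
    exact h (eq_of_cond hm h0 hcond.1 hcond.2 hν.1 hν.2).symm


/-- Newton slopes from the characteristic polynomial of `π = F^m`. -/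
theorem newtonMult_eq_countP [IsAlgClosed Ω] (hτ : Good τ) (m : ℕ) (hm : m ≠ 0) :
    ∀ (n : ℕ) (N : Type v) [AddCommGroup N] [Module (WittVector p k) N]
    [Module (FractionRing (WittVector p k)) N]
    [IsScalarTower (WittVector p k) (FractionRing (WittVector p k)) N]
    [Module.Finite (FractionRing (WittVector p k)) N] (F : N →ₛₗ[τ] N),
    Function.Bijective F → ∀ (π : N →ₗ[FractionRing (WittVector p k)] N),
    (∀ x : N, π x = (⇑F)^[m] x) → Module.finrank (FractionRing (WittVector p k)) N = n →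
    ∀ (μ : ℚ) [DecidablePred (Cond p k Ω m μ)],
    newtonMult F μ = Multiset.countP (Cond p k Ω m μ)
      ((π.charpoly.map (algebraMap (FractionRing (WittVector p k)) Ω)).roots) := by
  intro n
  induction n using Nat.strong_induction_on with
  | _ n ih =>
  intro N _ _ _ _ _ F hF π hπ hn μ _
  by_cases hiso : ∃ ν, slopePart F ν = ⊤
  · obtain ⟨ν, hν⟩ := hiso
    have hiso' := isIsoclinic_of_slopePart_eq_top hτ F hν
    rw [newtonMult_of_isIsoclinic hτ F hF hiso' μ, countP_of_isIsoclinic hτ F m hm π hπ hiso' μ]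
  · rw [not_exists] at hiso
    have hdec := iSup_slopePart_eq_top hτ _ N F hF rfl
    have hex : ∃ ν₀, slopePart F ν₀ ≠ ⊥ := by
      by_contra hall
      rw [not_exists] at hall
      have hall' : ∀ ν, slopePart F ν = ⊥ := fun ν => not_not.1 (hall ν)
      apply hiso 0
      rw [hall' 0, ← hdec]
      simp [hall']
    obtain ⟨ν₀, hν₀⟩ := hex
    set P := slopePart F ν₀ with hPdef
    set Q : Submodule (FractionRing (WittVector p k)) N :=
      ⨆ j, ⨆ (_ : j ≠ ν₀), slopePart F j with hQdef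
    have hPst : ∀ x ∈ P, F x ∈ P := (slopePart_spec hτ F ν₀).1
    have hQst : ∀ x ∈ Q, F x ∈ Q :=
      stable_iSup F _ fun j => stable_iSup F _ fun _ => (slopePart_spec hτ F j).1
    have hcompl : IsCompl P Q := by
      constructor
      · exact slopePart_iSupIndep hτ F hF ν₀
      · rw [codisjoint_iff, ← iSup_split_single (fun j => slopePart F j) ν₀]
        exact hdec
    have hPπ : ∀ x ∈ P, π x ∈ P := fun x hx => by
      rw [hπ]; exact iter_mem_of_stable F P hPst m x hx
    have hQπ : ∀ x ∈ Q, π x ∈ Q := fun x hx => by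
      rw [hπ]; exact iter_mem_of_stable F Q hQst m x hx
    have hPlt : Module.finrank (FractionRing (WittVector p k)) P < n := by
      rw [← hn]; exact Submodule.finrank_lt (hiso ν₀)
    have hQlt : Module.finrank (FractionRing (WittVector p k)) Q < n := by
      rw [← hn]
      apply Submodule.finrank_lt
      intro hQtop
      apply hν₀
      have := disjoint_iff.1 hcompl.disjoint
      rw [hQtop, inf_top_eq] at this
      exact this
    have hπP : ∀ x : P, (π.restrict hPπ) x = (⇑(F.restrict hPst))^[m] x := by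
      intro x
      apply Subtype.ext
      rw [restrict_iterate]
      exact hπ x
    have hπQ : ∀ x : Q, (π.restrict hQπ) x = (⇑(F.restrict hQst))^[m] x := by
      intro x
      apply Subtype.ext
      rw [restrict_iterate]
      exact hπ x
    have ihP := ih _ hPlt P (F.restrict hPst) (restrict_bijective hτ F hF P hPst)
      (π.restrict hPπ) hπP rfl μ
    have ihQ := ih _ hQlt Q (F.restrict hQst) (restrict_bijective hτ F hF Q hQst)
      (π.restrict hQπ) hπQ rfl μ
    rw [newtonMult_add hτ F hF P Q hPst hQst hcompl μ, ihP, ihQ,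
      charpoly_of_isCompl π P Q hPπ hQπ hcompl, Polynomial.map_mul, Polynomial.roots_mul,
      Multiset.countP_add]
    exact mul_ne_zero (((π.restrict hPπ).charpoly_monic.map _).ne_zero)
      (((π.restrict hQπ).charpoly_monic.map _).ne_zero)

end Groth.Agent.Lib.helper25.IsocO
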