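import Groth.Agent.Lib.helper25.IsocM
import Mathlib.RingTheory.LocalRing.Module

/-!
# Fixed bases of unit-root `F`-crystals over `W(k)`, `k` algebraically closed (helper25)
-/

set_option autoImplicit false
set_option linter.unusedSectionVars false
set_option linter.unusedVariables false
universe u v w
open Isoc

namespace Groth.Agent.Lib.helper25.IsocP

open Groth.Agent.Lib.helper25.IsocA Groth.Agent.Lib.helper25.IsocL Groth.Agent.Lib.helper25.IsocM

variable {p : ℕ} [Fact p.Prime] {k : Type u} [Field k] [CharP k p] [PerfectRing k p]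

local notation "W" => WittVector p k
local notation "L" => FractionRing (WittVector p k)

section Coord

variable {M : Type v} [AddCommGroup M] [Module (WittVector p k) M] {n : ℕ}
  (e : Module.Basis (Fin n) (WittVector p k) M)

/-- coordinates, with values in `L^n`. -/
noncomputable def emb : M →ₗ[W] (Fin n → L) :=
  ((Algebra.linearMap W L).compLeft (Fin n)).comp e.equivFun.toLinearMap

lemma emb_apply (m : M) (i : Fin n) : emb e m i = algebraMap W L (e.repr m i) := rfl

lemma emb_injective : Function.Injective (emb e) := by
  intro m m' h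
  apply e.repr.injective
  apply Finsupp.ext
  intro i
  have := congrFun h i
  rw [emb_apply, emb_apply] at this
  exact IsFractionRing.injective W L this

/-- applying a ring endomorphism componentwise. -/
noncomputable def tauComp (τ : L →+* L) : (Fin n → L) →ₛₗ[τ] (Fin n → L) where
  toFun v := fun j => τ (v j)
  map_add' v v' := by
    funext j
    simp
  map_smul' c v := by
    funext j
    simp

variable (ν : ℕ) (F : M →+ M)
  (hF : ∀ (a : WittVector p k) (m : M), F (a • m) =
    ((⇑(WittVector.frobenius : WittVector p k →+* WittVector p k))^[ν] a) • F m)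

lemma frobeniusEquiv_pow_eq_iterate (ν : ℕ) (w : W) :
    (WittVector.frobeniusEquiv p k ^ (ν : ℤ)) w =
      (⇑(WittVector.frobenius : WittVector p k →+* WittVector p k))^[ν] w := by
  rw [zpow_natCast]
  induction ν generalizing w with
  | zero => rfl
  | succ ν ih =>
    rw [pow_succ, RingAut.mul_apply, ih, Function.iterate_succ_apply]
    rfl

/-- the semilinear extension of `F` to `L^n`. -/
noncomputable def PhiN : (Fin n → L) →ₛₗ[frob p k (ν : ℤ)] (Fin n → L) :=
  (Fintype.linearCombination L (fun j => emb e (F (e j)))).comp (tauComp (frob p k (ν : ℤ)))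

include hF in
lemma PhiN_emb (m : M) : PhiN e ν F (emb e m) = emb e (F m) := by
  have hm : m = ∑ j, (e.repr m j) • e j := (e.sum_repr m).symm
  have hFm : F m = ∑ j, ((⇑(WittVector.frobenius : WittVector p k →+* WittVector p k))^[ν]
      (e.repr m j)) • F (e j) := by
    have h1 : F m = F (∑ j, (e.repr m j) • e j) := congrArg F hm
    rw [h1, map_sum]
    apply Finset.sum_congr rfl
    intro j hj
    exact hF (e.repr m j) (e j)
  rw [hFm, map_sum, PhiN, LinearMap.comp_apply, Fintype.linearCombination_apply]
  apply Finset.sum_congr rfl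
  intro j _
  rw [map_smul]
  change frob p k (ν : ℤ) (emb e m j) • _ = _
  rw [emb_apply, frob_algebraMap, frobeniusEquiv_pow_eq_iterate, algebraMap_smul]

lemma emb_basis (j : Fin n) : emb e (e j) = Pi.single j (1 : L) := by
  funext i
  rw [emb_apply, Module.Basis.repr_self, Finsupp.single_apply, Pi.single_apply]
  split_ifs with h1 h2 h2
  · simp
  · exact absurd h1.symm h2
  · exact absurd h2.symm h1
  · simp

lemma isLattice_range : (LinearMap.range (emb e)).IsLattice L where
  fg := by
    have : Module.Finite W M := Module.Finite.of_basis e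
    rw [LinearMap.range_eq_map]
    exact Submodule.FG.map _ Module.Finite.fg_top
  span_eq_top := by
    rw [eq_top_iff]
    intro v _
    have hv : v = ∑ j, v j • emb e (e j) := by
      funext i
      simp [emb_basis, Pi.single_apply]
    rw [hv]
    exact Submodule.sum_mem _ fun j _ => Submodule.smul_mem _ _
      (Submodule.subset_span ⟨e j, rfl⟩)

include hF in
lemma latImg_range (hbij : Function.Bijective F) :
    latImg (PhiN e ν F) 1 (LinearMap.range (emb e)) = LinearMap.range (emb e) := by
  have hτ : Good (frob p k (ν : ℤ)) := good_frob _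
  apply le_antisymm
  · intro y hy
    rw [mem_latImg hτ] at hy
    obtain ⟨x, ⟨m, rfl⟩, rfl⟩ := hy
    rw [Function.iterate_one, PhiN_emb e ν F hF]
    exact ⟨F m, rfl⟩
  · rintro _ ⟨m, rfl⟩
    obtain ⟨m', rfl⟩ := hbij.surjective m
    rw [mem_latImg hτ]
    exact ⟨emb e m', ⟨m', rfl⟩, by rw [Function.iterate_one, PhiN_emb e ν F hF]⟩

include e hF in
/-- the fixed vectors span. -/
theorem span_fixed_eq_top_W [IsAlgClosed k] (hν : 1 ≤ ν) (hbij : Function.Bijective F) :
    Submodule.span W {m : M | F m = m} = ⊤ := by
  have h := le_span_fixed_of_pos (WittVector.frobeniusEquiv p k ^ (ν : ℤ))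
    (fun w => frob_algebraMap p k ν w) ν hν
    (fun w => by rw [zpow_natCast, frobeniusEquiv_pow_coeff])
    (PhiN e ν F) (isLattice_range e) (latImg_range e ν F hF hbij)
  rw [eq_top_iff]
  intro m _
  have hm : emb e m ∈ Submodule.span W {x | x ∈ LinearMap.range (emb e) ∧ PhiN e ν F x = x} :=
    h ⟨m, rfl⟩
  have hset : {x | x ∈ LinearMap.range (emb e) ∧ PhiN e ν F x = x} =
      emb e '' {m : M | F m = m} := by
    ext x
    constructor
    · rintro ⟨⟨m', rfl⟩, hx⟩
      rw [PhiN_emb e ν F hF] at hx
      exact ⟨m', emb_injective e hx, rfl⟩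
    · rintro ⟨m', hm', rfl⟩
      refine ⟨⟨m', rfl⟩, ?_⟩
      rw [PhiN_emb e ν F hF, hm']
  rw [hset, ← Submodule.map_span] at hm
  obtain ⟨m', hm', hmm⟩ := hm
  rw [← emb_injective e hmm]
  exact hm'

end Coord

section Main

variable [IsAlgClosed k]

/-- a bijective `σ^ν`-semilinear endomorphism of a finite free `W(k)`-module has a basis of fixed
vectors. -/
theorem exists_fixed_basis (ν : ℕ) (hν : 1 ≤ ν)
    (M : Type v) [AddCommGroup M] [Module (WittVector p k) M]
    [Module.Finite (WittVector p k) M] [Module.Free (WittVector p k) M]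
    (F : M →+ M)
    (hF : ∀ (a : WittVector p k) (m : M), F (a • m) =
      ((⇑(WittVector.frobenius : WittVector p k →+* WittVector p k))^[ν] a) • F m)
    (hbij : Function.Bijective F) :
    ∃ (ι : Type v) (b : Module.Basis ι (WittVector p k) M), ∀ i, F (b i) = b i := by
  have hspan := span_fixed_eq_top_W (Module.finBasis W M) ν F hF hν hbij
  have hv : Submodule.span W (Set.range (Subtype.val : {m : M // F m = m} → M)) = ⊤ := by
    rw [Subtype.range_coe_subtype]
    exact hspan
  have : Module.FinitePresentation W M := Module.finitePresentation_of_projective W M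
  obtain ⟨κ, a, b, hb⟩ := Module.exists_basis_of_span_of_flat
    (Subtype.val : {m : M // F m = m} → M) hv
  exact ⟨κ, b, fun i => by rw [hb i]; exact (a i).2⟩

end Main

end Groth.Agent.Lib.helper25.IsocP
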