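import Mathlib

set_option autoImplicit false
set_option linter.unusedSectionVars false

namespace Groth.Agent.Lib.helper25.Jacobson

open Polynomial

section choose
variable {R : Type*} [Ring R] (p : ℕ) [hp : Fact p.Prime]

/-- `C(p-1, m) = (-1)^m` in a ring where `p = 0`. -/
theorem choose_pred_cast (h0 : (p : R) = 0) (m : ℕ) (hm : m ≤ p - 1) :
    (((p - 1).choose m : ℕ) : R) = (-1) ^ m := by
  induction m with
  | zero => simp
  | succ m ih =>
    have hp1 : p - 1 + 1 = p := Nat.sub_add_cancel hp.out.one_le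
    have h1 : p.choose (m + 1) = (p - 1).choose m + (p - 1).choose (m + 1) := by
      conv_lhs => rw [← hp1]
      rw [Nat.choose_succ_succ]
    have h2 : ((p.choose (m + 1) : ℕ) : R) = 0 := by
      have hd : p ∣ p.choose (m + 1) :=
        hp.out.dvd_choose_self (Nat.succ_ne_zero m) (by omega)
      obtain ⟨c, hc⟩ := hd
      rw [hc, Nat.cast_mul, h0, zero_mul]
    have h3 := congrArg (Nat.cast : ℕ → R) h1
    rw [h2, Nat.cast_add, ih (by omega)] at h3
    rw [pow_succ, mul_neg_one]
    exact eq_neg_of_add_eq_zero_right h3.symm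

theorem neg_one_pow_pred (h0 : (p : R) = 0) : ((-1 : R)) ^ (p - 1) = 1 := by
  rw [← choose_pred_cast p h0 (p - 1) le_rfl, Nat.choose_self, Nat.cast_one]

/-- `∑ aⁱ b a^{p-1-i} = ad(a)^{p-1}(b)` in characteristic `p`. -/
theorem sum_pow_mul_pow (h0 : (p : R) = 0) (a b : R) :
    ∑ i ∈ Finset.range p, a ^ i * b * a ^ (p - 1 - i) = (fun z => a * z - z * a)^[p - 1] b := by
  have hE0 : ((p : ℕ) : Module.End ℤ R) = 0 := by
    ext z
    simp only [Module.End.natCast_apply, LinearMap.zero_apply]
    rw [nsmul_eq_mul, h0, zero_mul]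
  have hc : Commute (LinearMap.mulLeft ℤ a) (-(LinearMap.mulRight ℤ a)) :=
    (LinearMap.commute_mulLeft_right a a).neg_right
  have h1 : (LinearMap.mulLeft ℤ a - LinearMap.mulRight ℤ a) ^ (p - 1) =
      ∑ m ∈ Finset.range p, (LinearMap.mulLeft ℤ a) ^ m * (LinearMap.mulRight ℤ a) ^ (p - 1 - m) := by
    have hp1 : p - 1 + 1 = p := Nat.sub_add_cancel hp.out.one_le
    rw [sub_eq_add_neg, hc.add_pow, hp1]
    refine Finset.sum_congr rfl fun m hm => ?_
    have hm' : m ≤ p - 1 := by have := Finset.mem_range.1 hm; omega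
    rw [choose_pred_cast p hE0 m hm', neg_pow, mul_assoc, mul_assoc]
    congr 1
    have h2 : ((-1 : Module.End ℤ R)) ^ (p - 1 - m) * (-1) ^ m = 1 := by
      rw [← pow_add, Nat.sub_add_cancel hm', neg_one_pow_pred p hE0]
    have hcc : Commute ((LinearMap.mulRight ℤ a) ^ (p - 1 - m)) ((-1 : Module.End ℤ R) ^ m) :=
      ((Commute.neg_one_right _).pow_right m)
    rw [hcc.eq, ← mul_assoc, h2, one_mul]
  have h3 : (fun z => a * z - z * a) = ⇑(LinearMap.mulLeft ℤ a - LinearMap.mulRight ℤ a) := by
    ext z; simp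
  rw [h3, ← Module.End.pow_apply, h1, LinearMap.sum_apply]
  refine Finset.sum_congr rfl fun m _ => ?_
  rw [Module.End.mul_apply, LinearMap.pow_mulLeft, LinearMap.pow_mulRight, LinearMap.mulLeft_apply,
    LinearMap.mulRight_apply, mul_assoc]

end choose

section jac
variable {R : Type*} [Ring R] (p : ℕ) [hp : Fact p.Prime]

theorem derivative_pow_noncomm (f : R[X]) (n : ℕ) :
    derivative (f ^ n) = ∑ i ∈ Finset.range n, f ^ i * derivative f * f ^ (n - 1 - i) := by
  induction n with
  | zero => simp
  | succ n ih =>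
    rw [pow_succ, derivative_mul, ih, Finset.sum_range_succ, Finset.sum_mul]
    congr 1
    · refine Finset.sum_congr rfl fun i hi => ?_
      have : n + 1 - 1 - i = (n - 1 - i) + 1 := by have := Finset.mem_range.1 hi; omega
      rw [this, pow_succ, mul_assoc, mul_assoc]
    · simp

theorem ad_iterate (x : R) (y : ℕ → R)
    (hy : ∀ i, x * y i - y i * x = y (i + 1)) (hcomm : ∀ i j, Commute (y i) (y j)) (i : ℕ) :
    (fun z : R[X] => (C x + C (y 0) * X) * z - z * (C x + C (y 0) * X))^[i] (C (y 0)) = C (y i) := by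
  induction i with
  | zero => rfl
  | succ i ih =>
    rw [Function.iterate_succ_apply', ih]
    have h1 : C (y 0) * X * C (y i) = C (y 0 * y i) * X := by
      rw [mul_assoc, (commute_X (C (y i))).eq, ← mul_assoc, ← C_mul]
    have h2 : C (y i) * (C (y 0) * X) = C (y i * y 0) * X := by
      rw [← mul_assoc, ← C_mul]
    simp only [add_mul, mul_add, h1, h2]
    rw [(hcomm 0 i).eq, ← C_mul, ← C_mul, ← hy i, C_sub]
    abel

end jac


section jac2
variable {R : Type*} [Ring R] (p : ℕ) [hp : Fact p.Prime]

/-- Jacobson's formula when all `ad(x)ⁱ(y)` commute. -/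
theorem jacobson_special (h0 : (p : R) = 0) (x : R) (y : ℕ → R)
    (hy : ∀ i, x * y i - y i * x = y (i + 1)) (hcomm : ∀ i j, Commute (y i) (y j)) :
    (x + y 0) ^ p = x ^ p + (y 0) ^ p + y (p - 1) := by
  set f : R[X] := C x + C (y 0) * X with hf
  have hf' : derivative f = C (y 0) := by
    simp [hf]
  have hX0 : ((p : ℕ) : R[X]) = 0 := by
    rw [← C_eq_natCast, h0, C_0]
  have hder : derivative (f ^ p) = C (y (p - 1)) := by
    rw [derivative_pow_noncomm, hf', sum_pow_mul_pow p hX0, hf, ad_iterate x y hy hcomm]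
  have hfdeg : f.natDegree ≤ 1 := by
    rw [hf]
    refine (natDegree_add_le _ _).trans (max_le ?_ ?_)
    · simp
    · exact (natDegree_C_mul_le _ _).trans natDegree_X_le
  set F := f ^ p with hF
  have hdeg : F.natDegree ≤ p := by
    calc F.natDegree ≤ p * f.natDegree := natDegree_pow_le
      _ ≤ p * 1 := Nat.mul_le_mul_left p hfdeg
      _ = p := mul_one p
  have hc0 : F.coeff 0 = x ^ p := by
    rw [hF, ← constantCoeff_apply, map_pow]
    simp [hf, constantCoeff_apply]
  have hcp : F.coeff p = (y 0) ^ p := by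
    have := coeff_pow_of_natDegree_le (m := p) hfdeg
    rw [mul_one] at this
    rw [hF, this]
    simp [hf]
  have hcj : ∀ j, F.coeff (j + 1) * ((j : R) + 1) = if j = 0 then y (p - 1) else 0 := by
    intro j
    have := congrArg (fun q => q.coeff j) hder
    simp only [coeff_derivative, coeff_C] at this
    exact this
  have hc1 : F.coeff 1 = y (p - 1) := by simpa using hcj 0
  have hmid : ∀ j, 1 ≤ j → j + 1 < p → F.coeff (j + 1) = 0 := by
    intro j hj1 hjp
    have h := hcj j
    rw [if_neg (by omega)] at h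
    have hcop : Nat.Coprime (j + 1) p :=
      (Nat.coprime_of_lt_prime (Nat.succ_ne_zero j) hjp hp.out).symm
    obtain ⟨m, -, hm⟩ := Nat.exists_mul_mod_eq_one_of_coprime hcop hp.out.one_lt
    have h1 : ((j + 1) * m : ℕ) = p * ((j + 1) * m / p) + 1 := by
      have := (Nat.div_add_mod ((j + 1) * m) p).symm
      rw [hm] at this
      exact this
    have hcast : ((j : R) + 1) * (m : R) = 1 := by
      have := congrArg (Nat.cast : ℕ → R) h1
      push_cast at this
      rw [h0, zero_mul, zero_add] at this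
      exact this
    calc F.coeff (j + 1) = F.coeff (j + 1) * (((j : R) + 1) * m) := by rw [hcast, mul_one]
      _ = 0 := by rw [← mul_assoc, h, zero_mul]
  -- evaluate at 1
  let ev : R[X] →+* R := eval₂RingHom' (RingHom.id R) 1 (fun a => Commute.one_right a)
  have hev_f : ev f = x + y 0 := by
    simp [ev, hf, eval₂_add, eval₂_mul_X]
  have hev_F : ev F = ∑ j ∈ Finset.range (p + 1), F.coeff j := by
    change eval₂ (RingHom.id R) 1 F = _
    rw [eval₂_eq_sum_range' (RingHom.id R) (Nat.lt_succ_of_le hdeg)]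
    simp
  have hmain : (x + y 0) ^ p = ev F := by rw [hF, map_pow, hev_f]
  rw [hmain, hev_F, Finset.sum_range_succ, hcp]
  obtain ⟨q, hq⟩ : ∃ q, p = q + 2 := ⟨p - 2, by have := hp.out.two_le; omega⟩
  have hsum : ∑ j ∈ Finset.range p, F.coeff j = x ^ p + y (p - 1) := by
    rw [hq, Finset.sum_range_succ', Finset.sum_range_succ', hc0, zero_add, hc1,
      Finset.sum_eq_zero, zero_add, add_comm, hq]
    intro j hj
    have := Finset.mem_range.1 hj
    exact hmid (j + 1) (by omega) (by omega)
  rw [hsum]
  abel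

end jac2


section hoch
variable {S : Type*} [CommRing S] (δ : Derivation ℤ S S) (g : S)

/-- coefficientwise derivation on `S[X]` -/
noncomputable def dX : Derivation ℤ S[X] S[X] :=
  PolynomialModule.equivPolynomialSelf.compDer δ.mapCoeffs

theorem coeff_dX (P : S[X]) (i : ℕ) : (dX δ P).coeff i = δ (P.coeff i) := rfl

theorem dX_monomial (k : ℕ) (c : S) : dX δ (monomial k c) = monomial k (δ c) := by
  ext i
  rw [coeff_dX, coeff_monomial, coeff_monomial]
  split_ifs <;> simp

/-- the derivation `g δ` on `S[X]` -/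
noncomputable def gdX : Derivation ℤ S[X] S[X] := (C g) • dX δ

theorem gdX_monomial (k : ℕ) (c : S) : gdX δ g (monomial k c) = monomial k (g * δ c) := by
  rw [gdX, Derivation.smul_apply, dX_monomial, smul_eq_mul, C_mul_monomial]

theorem gdX_iterate_CX (i : ℕ) :
    (gdX δ g)^[i] (C g * X) = C ((fun c => g * δ c)^[i] g) * X := by
  induction i with
  | zero => rfl
  | succ i ih =>
    rw [Function.iterate_succ_apply', ih, Function.iterate_succ_apply', C_mul_X_eq_monomial,
      gdX_monomial, C_mul_X_eq_monomial]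

theorem gdX_iterate_one (n : ℕ) (hn : 0 < n) : (gdX δ g)^[n] 1 = 0 := by
  obtain ⟨m, rfl⟩ := Nat.exists_eq_succ_of_ne_zero hn.ne'
  rw [Function.iterate_succ_apply, Derivation.map_one_eq_zero, iterate_map_zero]

/-- the operator `T = g δ + g ξ` on `S[X]` -/
noncomputable def Top (P : S[X]) : S[X] := gdX δ g P + C g * X * P

theorem Top_iterate_one (p : ℕ) [hp : Fact p.Prime] (hS : (p : S) = 0) :
    (Top δ g)^[p] 1 = C (g ^ p) * X ^ p + C ((fun c => g * δ c)^[p - 1] g) * X := by
  have hE0 : ((p : ℕ) : Module.End ℤ S[X]) = 0 := by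
    ext z : 1
    simp only [Module.End.natCast_apply, LinearMap.zero_apply]
    rw [nsmul_eq_mul, ← C_eq_natCast, hS, C_0, zero_mul]
  let x : Module.End ℤ S[X] := (gdX δ g : S[X] →ₗ[ℤ] S[X])
  let y : ℕ → Module.End ℤ S[X] := fun i => LinearMap.mulLeft ℤ ((gdX δ g)^[i] (C g * X))
  have hy : ∀ i, x * y i - y i * x = y (i + 1) := by
    intro i
    ext q : 1
    simp only [x, y, LinearMap.sub_apply, Module.End.mul_apply, LinearMap.mulLeft_apply,
      Derivation.coeFn_coe, Derivation.leibniz, smul_eq_mul, Function.iterate_succ_apply']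
    ring
  have hcomm : ∀ i j, Commute (y i) (y j) := by
    intro i j
    ext q : 1
    simp only [y, Module.End.mul_apply, LinearMap.mulLeft_apply]
    ring
  have hJ := jacobson_special p hE0 x y hy hcomm
  have hT : ⇑(x + y 0) = Top δ g := by
    funext q
    rfl
  have h1 := LinearMap.congr_fun hJ 1
  rw [Module.End.pow_apply, hT] at h1
  rw [h1]
  simp only [LinearMap.add_apply, Module.End.pow_apply]
  have hx : (⇑x)^[p] 1 = 0 := gdX_iterate_one δ g p hp.out.pos
  have hy0 : (⇑(y 0))^[p] 1 = C (g ^ p) * X ^ p := by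
    have : ∀ n, (⇑(y 0))^[n] 1 = (C g * X) ^ n := by
      intro n
      induction n with
      | zero => rfl
      | succ n ih =>
        rw [Function.iterate_succ_apply', ih, pow_succ']
        rfl
    rw [this, mul_pow, ← C_pow]
  have hyp : (y (p - 1)) 1 = C ((fun c => g * δ c)^[p - 1] g) * X := by
    simp only [y, LinearMap.mulLeft_apply, mul_one]
    exact gdX_iterate_CX δ g (p - 1)
  rw [hx, hy0, hyp, zero_add]

end hoch


section act
variable {S : Type*} [CommRing S] (δ : Derivation ℤ S S) (g : S)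
  {M : Type*} [AddCommGroup M] [Module S M] (N : M →+ M)

/-- action of a "symbol" `Σ c_k ξ^k` on `m`: `Σ c_k N^k m`. -/
noncomputable def act (P : S[X]) (m : M) : M := P.sum fun k c => c • (⇑N)^[k] m

theorem act_add (P Q : S[X]) (m : M) : act N (P + Q) m = act N P m + act N Q m :=
  Polynomial.sum_add_index _ _ _ (fun _ => zero_smul _ _) (fun _ _ _ => add_smul _ _ _)

theorem act_monomial (k : ℕ) (c : S) (m : M) : act N (monomial k c) m = c • (⇑N)^[k] m :=
  Polynomial.sum_monomial_index _ _ (zero_smul _ _)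

theorem Top_add (P Q : S[X]) : Top δ g (P + Q) = Top δ g P + Top δ g Q := by
  simp only [Top, map_add, mul_add]
  abel

theorem Top_monomial (k : ℕ) (c : S) :
    Top δ g (monomial k c) = monomial k (g * δ c) + monomial (k + 1) (g * c) := by
  rw [Top, gdX_monomial, C_mul_X_eq_monomial, monomial_mul_monomial, add_comm 1 k]

theorem smul_N_act (hN : ∀ (s : S) (m : M), N (s • m) = s • N m + δ s • m) (P : S[X]) (m : M) :
    g • N (act N P m) = act N (Top δ g P) m := by
  induction P using Polynomial.induction_on' with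
  | add P Q hP hQ =>
    rw [act_add, map_add, smul_add, hP, hQ, Top_add, act_add]
  | monomial k c =>
    rw [act_monomial, Top_monomial, act_add, act_monomial, act_monomial, hN,
      Function.iterate_succ_apply', smul_add, smul_smul, smul_smul, add_comm]

theorem iterate_smul_N (hN : ∀ (s : S) (m : M), N (s • m) = s • N m + δ s • m) (n : ℕ) (m : M) :
    (fun z => g • N z)^[n] m = act N ((Top δ g)^[n] 1) m := by
  induction n with
  | zero =>
    rw [Function.iterate_zero_apply, Function.iterate_zero_apply, ← C_1, ← monomial_zero_left,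
      act_monomial, one_smul, Function.iterate_zero_apply]
  | succ n ih =>
    rw [Function.iterate_succ_apply', ih, smul_N_act δ g N hN, Function.iterate_succ_apply']

/-- **Hochschild's formula** `(gN)^p = g^p N^p + (gδ)^{p-1}(g) N` in characteristic `p`. -/
theorem hochschild (p : ℕ) [hp : Fact p.Prime] (hS : (p : S) = 0)
    (hN : ∀ (s : S) (m : M), N (s • m) = s • N m + δ s • m) (m : M) :
    (fun z => g • N z)^[p] m = g ^ p • (⇑N)^[p] m + ((fun c => g * δ c)^[p - 1] g) • N m := by
  rw [iterate_smul_N δ g N hN, Top_iterate_one δ g p hS, act_add, C_mul_X_pow_eq_monomial,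
    C_mul_X_eq_monomial, act_monomial, act_monomial, Function.iterate_one]

end act


end Groth.Agent.Lib.helper25.Jacobson
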