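import Mathlib
import Groth.Prelude.Def_W4c4cptpiccptjacBI

/-! Helper lemmas (helper25) on the combinatorics of the Basic Inequality on weighted multigraphs. -/

namespace Groth.Agent.Lib.helper25.LabGraphBI

open LabGraph

universe u

set_option linter.unusedSectionVars false
set_option linter.unusedVariables false

variable {V E : Type u} [Fintype V] [Fintype E] [DecidableEq V] [DecidableEq E]

lemma sum_vertex_edge (ends : E → V × V) (a b : E → ℤ) (Y : Finset V) :
    ∑ v ∈ Y, ∑ e : E, ((if (ends e).1 = v then a e else 0) + (if (ends e).2 = v then b e else 0)) =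
      ∑ e : E, ((if (ends e).1 ∈ Y then a e else 0) + (if (ends e).2 ∈ Y then b e else 0)) := by
  rw [Finset.sum_comm]
  refine Finset.sum_congr rfl fun e _ => ?_
  rw [Finset.sum_add_distrib, Finset.sum_ite_eq, Finset.sum_ite_eq]

lemma cut_eq_sum (ends : E → V × V) (Y : Finset V) :
    (cut ends Y : ℤ) = ∑ e : E,
      (if ((ends e).1 ∈ Y ∧ (ends e).2 ∉ Y) ∨ ((ends e).1 ∉ Y ∧ (ends e).2 ∈ Y)
      then (1 : ℤ) else 0) := by
  unfold cut
  rw [Finset.card_filter]
  push_cast
  rfl

lemma twist_sum (ends : E → V × V) (φ : V → ℤ) (Y : Finset V) :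
    ∑ v ∈ Y, twist ends φ v = ∑ e : E,
      ((if (ends e).1 ∈ Y then φ (ends e).2 - φ (ends e).1 else 0) +
        (if (ends e).2 ∈ Y then φ (ends e).1 - φ (ends e).2 else 0)) := by
  unfold twist
  exact sum_vertex_edge ends (fun e => φ (ends e).2 - φ (ends e).1)
    (fun e => φ (ends e).1 - φ (ends e).2) Y

lemma twist_sum_zero (ends : E → V × V) (φ : V → ℤ) : ∑ v : V, twist ends φ v = 0 := by
  rw [twist_sum]
  simp

lemma twist_add_const (ends : E → V × V) (φ : V → ℤ) (c : ℤ) (v : V) :
    twist ends (fun u => φ u + c) v = twist ends φ v := by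
  unfold twist
  refine Finset.sum_congr rfl fun e _ => ?_
  congr 1 <;> split_ifs <;> ring

lemma canDeg_univ (ends : E → V × V) (w : V → ℕ) :
    canDeg ends w Finset.univ = 2 * genus ends w - 2 := by
  unfold canDeg genus endCount
  rw [Finset.sum_add_distrib, Finset.sum_sub_distrib, ← Finset.mul_sum]
  have h := sum_vertex_edge ends (fun _ => (1 : ℤ)) (fun _ => (1 : ℤ)) Finset.univ
  simp only [Finset.mem_univ, if_true] at h
  push_cast
  rw [h]
  simp
  ring

/-- In a connected graph, a set of vertices containing `v` but not `w` is crossed by an edge. -/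
lemma exists_crossing (ends : E → V × V) (hc : Connected ends) (S : Finset V) {v w : V}
    (hv : v ∈ S) (hw : w ∉ S) :
    ∃ e : E, ((ends e).1 ∈ S ∧ (ends e).2 ∉ S) ∨ ((ends e).1 ∉ S ∧ (ends e).2 ∈ S) := by
  by_contra hcon0
  have hcon : ∀ e : E, ¬ ((ends e).1 ∈ S ∧ (ends e).2 ∉ S) ∧ ¬ ((ends e).1 ∉ S ∧ (ends e).2 ∈ S) :=
    fun e => not_or.1 (fun h => hcon0 ⟨e, h⟩)
  have key : ∀ u, Relation.ReflTransGen (Adj ends) w u → u ∉ S := by
    intro u hu
    induction hu with
    | refl => exact hw
    | tail _ hadj ih =>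
      rename_i b c
      obtain ⟨e, he | he⟩ := hadj
      · have h1 := (hcon e).2
        rw [he] at h1
        simp only at h1
        intro hcS
        exact ih (by by_contra hb; exact h1 ⟨hb, hcS⟩)
      · have h1 := (hcon e).1
        rw [he] at h1
        simp only at h1
        intro hcS
        exact ih (by by_contra hb; exact h1 ⟨hcS, hb⟩)
  exact key v (hc.2 w v) hv

end Groth.Agent.Lib.helper25.LabGraphBI
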