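import Mathlib

set_option autoImplicit false
set_option linter.unusedSectionVars false
universe u

namespace Groth.Agent.Lib.helper25.Laur

open PowerSeries

section repr
variable (p : ℕ) [hp : Fact p.Prime] (k : Type u) [Field k] [CharP k p] [PerfectRing k p]

theorem coeff_pow_char (c : k⟦X⟧) (n : ℕ) :
    PowerSeries.coeff n (c ^ p) = if p ∣ n then (PowerSeries.coeff (n / p) c) ^ p else 0 := by
  have h1 : c ^ p = (c.expand p hp.out.ne_zero).map (frobenius k p) :=
    (MvPowerSeries.map_frobenius_expand (p := p) hp.out.ne_zero (f := c)).symm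
  rw [h1, PowerSeries.coeff_map, PowerSeries.coeff_expand]
  split_ifs
  · rw [frobenius_def]
  · rw [map_zero]

/-- every power series over a perfect field is `∑_{i<p} X^i cᵢ^p`. -/
theorem exists_repr_powerSeries (f : k⟦X⟧) :
    ∃ c : Fin p → k⟦X⟧, f = ∑ i : Fin p, (X : k⟦X⟧) ^ (i : ℕ) * c i ^ p := by
  have hp0 : 0 < p := hp.out.pos
  refine ⟨fun i => PowerSeries.mk (fun m =>
    (frobeniusEquiv k p).symm (PowerSeries.coeff (p * m + i) f)), ?_⟩
  ext n
  rw [map_sum]
  have hterm : ∀ i : Fin p, PowerSeries.coeff n ((X : k⟦X⟧) ^ (i : ℕ) *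
      (PowerSeries.mk (fun m => (frobeniusEquiv k p).symm (PowerSeries.coeff (p * m + i) f))) ^ p) =
      if (i : ℕ) = n % p then PowerSeries.coeff n f else 0 := by
    intro i
    rw [PowerSeries.coeff_X_pow_mul', coeff_pow_char]
    by_cases hi : (i : ℕ) = n % p
    · have hle : (i : ℕ) ≤ n := hi ▸ Nat.mod_le n p
      have hdvd : p ∣ n - i := by
        rw [hi]
        exact Nat.dvd_sub_mod n
      rw [if_pos hle, if_pos hdvd, if_pos hi, PowerSeries.coeff_mk, frobeniusEquiv_symm_pow_p]
      rw [Nat.mul_div_cancel' hdvd, Nat.sub_add_cancel hle]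
    · rw [if_neg hi]
      by_cases hle : (i : ℕ) ≤ n
      · rw [if_pos hle]
        have hnd : ¬ p ∣ n - i := by
          intro hd
          apply hi
          have h1 : (n - i) % p = 0 := Nat.mod_eq_zero_of_dvd hd
          have h2 : n = (n - i) + i := by omega
          have h3 : n % p = (i : ℕ) % p := by
            conv_lhs => rw [h2, Nat.add_mod, h1, zero_add, Nat.mod_mod]
          rw [h3, Nat.mod_eq_of_lt i.2]
        rw [if_neg hnd]
      · rw [if_neg hle]
  simp_rw [hterm]
  rw [Finset.sum_eq_single (⟨n % p, Nat.mod_lt n hp0⟩ : Fin p)]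
  · rw [if_pos rfl]
  · intro b _ hb
    rw [if_neg]
    intro hb'
    exact hb (Fin.ext hb')
  · intro h
    exact absurd (Finset.mem_univ _) h

end repr

end Groth.Agent.Lib.helper25.Laur
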