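import Mathlib
import Groth.Agent.Lib.helper25.PSRepr
import Groth.Agent.Lib.helper25.DVR3
import Groth.Agent.Lib.helper25.FrobDeg

set_option autoImplicit false
set_option linter.unusedSectionVars false
universe u

namespace Groth.Agent.Lib.helper25.Laur

open PowerSeries TensorProduct EGA41 Groth.Agent.Lib.helper25.PBasisA
  Groth.Agent.Lib.helper25.Cart

section fred
variable {L U V : Type*} [Field L] [AddCommGroup U] [AddCommGroup V] [Module L U] [Module L V]

theorem finrank_of_isFred (f : U →ₗ[L] V) (hf : IsFred f) [Module.Finite L U] :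
    Module.Finite L V ∧ (Module.finrank L V : ℤ) = Module.finrank L U + chi f := by
  haveI := hf.1
  haveI := hf.2
  haveI : Module.Finite L (LinearMap.range f) := Module.Finite.range f
  haveI : Module.Finite L V := Module.Finite.of_submodule_quotient (LinearMap.range f)
  refine ⟨inferInstance, ?_⟩
  have h1 := LinearMap.finrank_range_add_finrank_ker f
  have h2 := Submodule.finrank_quotient_add_finrank (LinearMap.range f)
  unfold chi
  omega

end fred

section omegaPS
variable (p : ℕ) [hp : Fact p.Prime] (k : Type u) [Field k] [CharP k p] [PerfectRing k p]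

include p in
theorem finrank_kaehler_powerSeries :
    Module.Free k⟦X⟧ (Ω[k⟦X⟧⁄k]) ∧ Module.finrank k⟦X⟧ (Ω[k⟦X⟧⁄k]) = 1 := by
  haveI : CharP k⟦X⟧ p := charP_of_injective_algebraMap (algebraMap k k⟦X⟧).injective p
  have hX : Irreducible (X : k⟦X⟧) := PowerSeries.X_prime.irreducible
  have hpb := Groth.Agent.Lib.helper25.DVRp.isPBasis_uniformizer p hX
    (exists_repr_powerSeries p k) (F := k)
  obtain ⟨b, -⟩ := kaehler_basis_of_pBasis hpb
  refine ⟨Module.Free.of_basis b, ?_⟩
  rw [Module.finrank_eq_card_basis b]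
  simp

variable (L₀ : Type u) [Field L₀] [Algebra k⟦X⟧ L₀] [IsFractionRing k⟦X⟧ L₀] [Algebra k L₀]
  [IsScalarTower k k⟦X⟧ L₀]

include p in
theorem finrank_kaehler_fractionField : Module.finrank L₀ (Ω[L₀⁄k]) = 1 := by
  obtain ⟨hfree, hrank⟩ := finrank_kaehler_powerSeries p k
  haveI := hfree
  haveI : Algebra.FormallyEtale k⟦X⟧ L₀ :=
    Algebra.FormallyEtale.of_isLocalization (nonZeroDivisors k⟦X⟧)
  rw [← (KaehlerDifferential.tensorKaehlerEquivOfFormallyEtale k k⟦X⟧ L₀).finrank_eq,
    Module.finrank_baseChange, hrank]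

variable (K : Type u) [Field K] [Algebra L₀ K] [Algebra k K] [IsScalarTower k L₀ K] [CharP K p]
  [Algebra.EssFiniteType L₀ K]

include p in
theorem finrank_kaehler_of_trdeg (d : ℕ) (hd : Algebra.trdeg L₀ K = d) :
    Module.Finite K (Ω[K⁄k]) ∧ Module.finrank K (Ω[K⁄k]) = d + 1 := by
  obtain ⟨n, a, ha⟩ := exists_fin_generators (K := L₀) (L := K)
  obtain ⟨m, h1, h2, h3⟩ := cartier k (fun E _ _ => formallySmooth_of_perfect p) n L₀ K a ha
  have hmd : m = d := by
    rw [hd] at h1
    exact_mod_cast h1.symm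
  have hΩ0 := finrank_kaehler_fractionField p k L₀
  haveI : Module.Finite L₀ (Ω[L₀⁄k]) := Module.finite_of_finrank_eq_succ hΩ0
  have hsrc : Module.finrank K (K ⊗[L₀] Ω[L₀⁄k]) = 1 := by
    rw [Module.finrank_baseChange, hΩ0]
  obtain ⟨hfin, hrk⟩ := finrank_of_isFred _ h2
  refine ⟨hfin, ?_⟩
  rw [hsrc, h3, hmd] at hrk
  omega

include k L₀ in
theorem deg_frobenius_of_trdeg (d : ℕ) (hd : Algebra.trdeg L₀ K = d) :
    Groth.Agent.Lib.helper25.FrobDeg.deg (frobenius K p) = p ^ (d + 1) := by
  obtain ⟨hfin, hΩ⟩ := finrank_kaehler_of_trdeg p k L₀ K d hd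
  haveI : PerfectField k := PerfectRing.toPerfectField k p
  obtain ⟨B, hB, b, -⟩ := Groth.Agent.Lib.helper25.Adm.exists_pbasis_with_basis (k₀ := k) (K := K) p
  haveI : Finite B := Module.Finite.finite_basis b
  have hcard : Nat.card B = d + 1 := by
    rw [← hΩ, Module.finrank_eq_nat_card_basis b]
  have h1 : Module.finrank (pPowerSubalgebra p k K) K = p ^ (d + 1) := by
    rw [Module.finrank_eq_nat_card_basis (PB.of_isPBasis hB).basis,
      Groth.Agent.Lib.helper25.FrobDeg.card_exp, hcard]
  rw [← h1]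
  symm
  apply Groth.Agent.Lib.helper25.FrobDeg.finrank_eq_deg
  · exact Subtype.val_injective
  · rw [← Groth.Agent.Lib.helper25.FrobDeg.coe_pPower_eq_range p k]
    exact Subtype.range_val

include k L₀ in
theorem finrank_fieldRange_frobenius (d : ℕ) (hd : Algebra.trdeg L₀ K = d) :
    Module.finrank (↥(frobenius K p).fieldRange) K = p ^ (d + 1) := by
  rw [← deg_frobenius_of_trdeg p k L₀ K d hd]
  apply Groth.Agent.Lib.helper25.FrobDeg.finrank_eq_deg
  · exact Subtype.val_injective
  · have h : (algebraMap (↥(frobenius K p).fieldRange) K : _ → K) = Subtype.val := rfl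
    rw [h, Subtype.range_val]
    exact RingHom.coe_fieldRange _

end omegaPS

section final
variable (p : ℕ) [hp : Fact p.Prime] (k : Type u) [Field k] [CharP k p] [PerfectRing k p]
  (L₀ : Type u) [Field L₀] [Algebra k⟦X⟧ L₀] [IsFractionRing k⟦X⟧ L₀]
  (K : Type u) [Field K] [Algebra L₀ K] [CharP K p] [Algebra.EssFiniteType L₀ K]

include k L₀ in
/-- version without auxiliary `k`-algebra structures. -/
theorem finrank_fieldRange_frobenius' (d : ℕ) (hd : Algebra.trdeg L₀ K = d) :
    Module.finrank (↥(frobenius K p).fieldRange) K = p ^ (d + 1) := by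
  letI : Algebra k L₀ := ((algebraMap k⟦X⟧ L₀).comp (algebraMap k k⟦X⟧)).toAlgebra
  haveI : IsScalarTower k k⟦X⟧ L₀ := IsScalarTower.of_algebraMap_eq (fun _ => rfl)
  letI : Algebra k K := ((algebraMap L₀ K).comp (algebraMap k L₀)).toAlgebra
  haveI : IsScalarTower k L₀ K := IsScalarTower.of_algebraMap_eq (fun _ => rfl)
  exact finrank_fieldRange_frobenius p k L₀ K d hd

end final

end Groth.Agent.Lib.helper25.Laur
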