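import Groth.Prelude.Def_W4swconnpcurvhiggsLogLam
import Groth.Prelude.Def_LogDiff
import Mathlib

set_option autoImplicit false
set_option linter.unusedSectionVars false
universe v u
open TensorProduct

namespace Groth.Agent.Lib.helper25.LogC

section basic
variable {A : Type v} {B L E : Type u} [CommRing A] [CommRing B]
    [Algebra A B] [AddCommGroup L] [Module B L] [Module A L] [IsScalarTower A B L]
    [AddCommGroup E] [Module B E] [Module A E] [IsScalarTower A B E]

omit [IsScalarTower A B L] in
/-- Leibniz rule for a covariant derivative along a functional. -/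
theorem along_smul (δ : Derivation A B L) (lam : B) (nabla : E →ₗ[A] E ⊗[B] L)
    (hc : Conn.IsLamConn δ lam nabla) (θ : L →ₗ[B] B) (b : B) (e : E) :
    Conn.along nabla θ (b • e) = b • Conn.along nabla θ e + (lam * θ (δ b)) • e := by
  rw [Conn.along_apply, hc b e, map_add, map_add, map_smul, map_smul, map_smul, map_smul,
    TensorProduct.map_tmul, TensorProduct.rid_tmul, LinearMap.id_apply, ← Conn.along_apply,
    smul_smul]

variable {n : ℕ} (N : Fin n → E →ₗ[A] E) (t : Fin n → B)

/-- ordered composite -/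
noncomputable def cP (J : Finset (Fin n)) : E →ₗ[A] E :=
  (J.sort (· ≤ ·)).foldr (fun i φ => N i ∘ₗ φ) LinearMap.id

/-- abstract piece -/
noncomputable def pc (I : Finset (Fin n)) : Submodule A E :=
  ⨆ J ∈ I.powerset,
    LinearMap.range (((LinearMap.lsmul B E (∏ i ∈ I \ J, t i)).restrictScalars A) ∘ₗ cP N J)

omit [Module A L] [IsScalarTower A B L] in
theorem compProd_eq (nabla : E →ₗ[A] E ⊗[B] L) (ω : Module.Basis (Fin n) B L) (J : Finset (Fin n)) :
    LogConn.compProd nabla ω J = cP (LogConn.comp nabla ω) J := rfl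

omit [Module A L] [IsScalarTower A B L] in
theorem piece_eq (nabla : E →ₗ[A] E ⊗[B] L) (ω : Module.Basis (Fin n) B L) (I : Finset (Fin n)) :
    LogConn.piece nabla ω t I = pc (LogConn.comp nabla ω) t I := rfl

@[simp] theorem cP_empty : cP N ∅ = LinearMap.id := by
  simp [cP]

theorem cP_insert_lt {j : Fin n} {J : Finset (Fin n)} (h : ∀ k ∈ J, j < k) :
    cP N (insert j J) = N j ∘ₗ cP N J := by
  have hj : j ∉ J := fun hj => lt_irrefl _ (h j hj)
  unfold cP
  rw [Finset.sort_insert (· ≤ ·) (fun b hb => (h b hb).le) hj, List.foldr_cons]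

theorem mem_pc {I J : Finset (Fin n)} (h : J ⊆ I) (e : E) :
    (∏ i ∈ I \ J, t i) • cP N J e ∈ pc N t I :=
  Submodule.mem_iSup_of_mem J (Submodule.mem_iSup_of_mem (Finset.mem_powerset.2 h) ⟨e, rfl⟩)

theorem pc_le {I : Finset (Fin n)} {P : Submodule A E}
    (h : ∀ J, J ⊆ I → ∀ e, (∏ i ∈ I \ J, t i) • cP N J e ∈ P) : pc N t I ≤ P := by
  refine iSup₂_le fun J hJ => ?_
  rintro _ ⟨e, rfl⟩
  exact h J (Finset.mem_powerset.1 hJ) e

theorem pc_map_mem {I : Finset (Fin n)} {P : Submodule A E} (f : E →ₗ[A] E)
    (h : ∀ J, J ⊆ I → ∀ e, f ((∏ i ∈ I \ J, t i) • cP N J e) ∈ P) {x : E} (hx : x ∈ pc N t I) :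
    f x ∈ P := by
  have : pc N t I ≤ P.comap f := pc_le N t h
  exact this hx

/-- abstract coordinate system -/
structure Sys (lam : B) (t : Fin n → B) (N : Fin n → E →ₗ[A] E) (pd : Fin n → B → B) : Prop where
  pd_mul : ∀ i a b, pd i (a * b) = a * pd i b + b * pd i a
  pd_t : ∀ i j, pd i (t j) = if i = j then 1 else 0
  leib : ∀ i b e, N i (b • e) = b • N i e + (lam * (pd i b * t i)) • e

variable {N t} {lam : B} {pd : Fin n → B → B}

omit [Algebra A B] [IsScalarTower A B E] in
theorem Sys.pd_one (S : Sys lam t N pd) (i : Fin n) : pd i 1 = 0 := by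
  have := S.pd_mul i 1 1
  simp only [mul_one, one_mul] at this
  exact left_eq_add.mp this

theorem Sys.pd_prod_mul (S : Sys lam t N pd) (i : Fin n) (K : Finset (Fin n)) :
    pd i (∏ k ∈ K, t k) * t i = if i ∈ K then ∏ k ∈ K, t k else 0 := by
  classical
  induction K using Finset.induction_on with
  | empty => simp [S.pd_one]
  | insert a K ha ih =>
    rw [Finset.prod_insert ha, S.pd_mul, add_mul, mul_assoc, ih, S.pd_t]
    by_cases hia : i = a
    · subst hia
      simp [ha, mul_comm]
    · have : i ∉ K → i ∉ insert a K := fun h => by simp [hia, h]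
      by_cases hiK : i ∈ K
      · simp [hia, hiK]
      · simp [hia, hiK]

theorem Sys.leib_prod (S : Sys lam t N pd) (i : Fin n) (K : Finset (Fin n)) (e : E) :
    N i ((∏ k ∈ K, t k) • e) = (∏ k ∈ K, t k) • N i e +
      (if i ∈ K then (lam * ∏ k ∈ K, t k) • e else 0) := by
  rw [S.leib, S.pd_prod_mul]
  split_ifs <;> simp

theorem Sys.leib_prod_notMem (S : Sys lam t N pd) {i : Fin n} {K : Finset (Fin n)} (hi : i ∉ K)
    (e : E) : N i ((∏ k ∈ K, t k) • e) = (∏ k ∈ K, t k) • N i e := by
  rw [S.leib_prod, if_neg hi, add_zero]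

theorem prod_sdiff_mul {I I' J : Finset (Fin n)} (h1 : J ⊆ I) (h2 : I ⊆ I') :
    (∏ i ∈ I' \ I, t i) * (∏ i ∈ I \ J, t i) = ∏ i ∈ I' \ J, t i := by
  classical
  rw [← Finset.prod_union (Finset.disjoint_left.2 fun x hx hx' => by
    simp only [Finset.mem_sdiff] at hx hx'; exact hx.2 hx'.1),
    Finset.sdiff_union_sdiff_cancel h2 h1]

/-- (c) -/
theorem prod_smul_pc {I I' : Finset (Fin n)} (h : I ⊆ I') {x : E} (hx : x ∈ pc N t I) :
    (∏ i ∈ I' \ I, t i) • x ∈ pc N t I' := by
  refine pc_map_mem N t ((LinearMap.lsmul B E (∏ i ∈ I' \ I, t i)).restrictScalars A)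
    (fun J hJ e => ?_) hx
  simp only [LinearMap.coe_restrictScalars, LinearMap.lsmul_apply, smul_smul]
  rw [prod_sdiff_mul hJ h]
  exact mem_pc N t (hJ.trans h) e

theorem t_smul_pc {I : Finset (Fin n)} {i : Fin n} (hi : i ∉ I) {x : E} (hx : x ∈ pc N t I) :
    t i • x ∈ pc N t (insert i I) := by
  classical
  have := prod_smul_pc (N := N) (t := t) (Finset.subset_insert i I) hx
  rwa [Finset.insert_sdiff_of_notMem _ hi, Finset.sdiff_self, Finset.prod_insert (by simp),
    Finset.prod_empty, mul_one] at this

theorem Sys.N_min_pc (S : Sys lam t N pd) {j : Fin n} {J : Finset (Fin n)} (h : ∀ k ∈ J, j < k)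
    {x : E} (hx : x ∈ pc N t J) : N j x ∈ pc N t (insert j J) := by
  classical
  have hj : j ∉ J := fun hj => lt_irrefl _ (h j hj)
  refine pc_map_mem N t (N j) (fun J' hJ' e => ?_) hx
  rw [S.leib_prod_notMem (fun hh => hj (Finset.sdiff_subset hh)),
    ← LinearMap.comp_apply, ← cP_insert_lt N (fun k hk => h k (hJ' hk))]
  have h1 : insert j J \ insert j J' = J \ J' := by
    rw [Finset.insert_sdiff_insert, Finset.sdiff_insert_of_notMem hj]
  have := mem_pc N t (Finset.insert_subset_insert j hJ') e
  rwa [h1] at this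

theorem Sys.smul_cP_mem (S : Sys lam t N pd) (J : Finset (Fin n)) :
    ∀ (b : B) (e : E), b • cP N J e ∈ pc N t J := by
  classical
  induction J using Finset.induction_on_min with
  | empty =>
    intro b e
    have := mem_pc N t (Finset.Subset.refl (∅ : Finset (Fin n))) (b • e)
    simpa using this
  | insert j J h ih =>
    intro b e
    have hj : j ∉ J := fun hj => lt_irrefl _ (h j hj)
    rw [cP_insert_lt N h, LinearMap.comp_apply]
    have h1 := S.leib j b (cP N J e)
    have h2 : b • N j (cP N J e) = N j (b • cP N J e) - t j • ((lam * pd j b) • cP N J e) := by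
      rw [h1, smul_smul]
      have : t j * (lam * pd j b) = lam * (pd j b * t j) := by ring
      rw [this]; abel
    rw [h2]
    exact Submodule.sub_mem _ (S.N_min_pc h (ih b e)) (t_smul_pc hj (ih _ e))

/-- (a): S16792 abstractly -/
theorem Sys.smul_mem_pc (S : Sys lam t N pd) (I : Finset (Fin n)) (b : B) {x : E}
    (hx : x ∈ pc N t I) : b • x ∈ pc N t I := by
  refine pc_map_mem N t ((LinearMap.lsmul B E b).restrictScalars A) (fun J hJ e => ?_) hx
  simp only [LinearMap.coe_restrictScalars, LinearMap.lsmul_apply]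
  rw [smul_comm]
  have := prod_smul_pc (N := N) (t := t) hJ (S.smul_cP_mem J b e)
  exact this

/-- the piece as a `B`-submodule -/
noncomputable def Sys.pcB (S : Sys lam t N pd) (I : Finset (Fin n)) : Submodule B E where
  carrier := pc N t I
  add_mem' := fun ha hb => Submodule.add_mem _ ha hb
  zero_mem' := Submodule.zero_mem _
  smul_mem' := fun b _ hx => S.smul_mem_pc I b hx

theorem Sys.mem_pcB (S : Sys lam t N pd) (I : Finset (Fin n)) (x : E) :
    x ∈ S.pcB I ↔ x ∈ pc N t I := Iff.rfl

end basic

section concrete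
variable {A : Type v} {B L E : Type u} [CommRing A] [CommRing B]
    [Algebra A B] [AddCommGroup L] [Module B L] [Module A L] [IsScalarTower A B L]
    [AddCommGroup E] [Module B E] [Module A E] [IsScalarTower A B E]

/-- partial derivatives w.r.t. a basis of Kähler differentials -/
noncomputable def pdOf {n : ℕ} (bΩ : Module.Basis (Fin n) B (KaehlerDifferential A B))
    (i : Fin n) (b : B) : B := bΩ.repr (KaehlerDifferential.D A B b) i

omit [Module A L] [IsScalarTower A B L] in
theorem iota_D_eq {n : ℕ} (t : Fin n → B) (bΩ : Module.Basis (Fin n) B (KaehlerDifferential A B))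
    (hbΩ : ∀ i, bΩ i = KaehlerDifferential.D A B (t i))
    (ω : Module.Basis (Fin n) B L) (ι : KaehlerDifferential A B →ₗ[B] L)
    (hι : ∀ i, ι (KaehlerDifferential.D A B (t i)) = t i • ω i) (b : B) :
    ι (KaehlerDifferential.D A B b) = ∑ j, (pdOf bΩ j b * t j) • ω j := by
  conv_lhs => rw [← bΩ.sum_repr (KaehlerDifferential.D A B b)]
  rw [map_sum]
  refine Finset.sum_congr rfl fun j _ => ?_
  rw [map_smul, hbΩ, hι, smul_smul]
  rfl

theorem coord_iota_D {n : ℕ} (t : Fin n → B) (bΩ : Module.Basis (Fin n) B (KaehlerDifferential A B))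
    (hbΩ : ∀ i, bΩ i = KaehlerDifferential.D A B (t i))
    (ω : Module.Basis (Fin n) B L) (ι : KaehlerDifferential A B →ₗ[B] L)
    (hι : ∀ i, ι (KaehlerDifferential.D A B (t i)) = t i • ω i) (b : B) (i : Fin n) :
    ω.coord i (ι (KaehlerDifferential.D A B b)) = pdOf bΩ i b * t i := by
  classical
  rw [iota_D_eq t bΩ hbΩ ω ι hι, map_sum]
  simp only [map_smul, Module.Basis.coord_apply, Module.Basis.repr_self, smul_eq_mul]
  rw [Finset.sum_eq_single i]
  · simp
  · intro j _ hj
    simp [hj]
  · simp

theorem sys_of (lam : B) {n : ℕ} (t : Fin n → B)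
    (bΩ : Module.Basis (Fin n) B (KaehlerDifferential A B))
    (hbΩ : ∀ i, bΩ i = KaehlerDifferential.D A B (t i))
    (ω : Module.Basis (Fin n) B L) (ι : KaehlerDifferential A B →ₗ[B] L)
    (hι : ∀ i, ι (KaehlerDifferential.D A B (t i)) = t i • ω i)
    (nabla : E →ₗ[A] E ⊗[B] L)
    (hc : Conn.IsLamConn (ι.compDer (KaehlerDifferential.D A B)) lam nabla) :
    Sys lam t (LogConn.comp nabla ω) (pdOf bΩ) where
  pd_mul i a b := by
    simp only [pdOf, Derivation.leibniz, map_add, map_smul, Finsupp.add_apply, Finsupp.smul_apply,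
      smul_eq_mul]
  pd_t i j := by
    classical
    simp only [pdOf, ← hbΩ, Module.Basis.repr_self, Finsupp.single_apply]
    simp [eq_comm]
  leib i b e := by
    have := along_smul (ι.compDer (KaehlerDifferential.D A B)) lam nabla hc (ω.coord i) b e
    have h2 : (ι.compDer (KaehlerDifferential.D A B)) b = ι (KaehlerDifferential.D A B b) := rfl
    rw [h2, coord_iota_D t bΩ hbΩ ω ι hι] at this
    exact this

end concrete


section gens
variable {A : Type v} {B E : Type u} [CommRing A] [CommRing B]
    [Algebra A B]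
    [AddCommGroup E] [Module B E] [Module A E] [IsScalarTower A B E]
variable {n : ℕ} (N : Fin n → E →ₗ[A] E) (t : Fin n → B)

/-- the `B`-span of the elements `t_{I∖J} ∇_J x`, `x ∈ X`. -/
noncomputable def gB (X : Set E) (I : Finset (Fin n)) : Submodule B E :=
  Submodule.span B (⋃ J ∈ I.powerset, (fun x => (∏ i ∈ I \ J, t i) • cP N J x) '' X)

omit [IsScalarTower A B E] in
theorem mem_gB {X : Set E} {I J : Finset (Fin n)} (h : J ⊆ I) {x : E} (hx : x ∈ X) :
    (∏ i ∈ I \ J, t i) • cP N J x ∈ gB N t X I := by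
  refine Submodule.subset_span ?_
  simp only [Set.mem_iUnion]
  exact ⟨J, Finset.mem_powerset.2 h, x, hx, rfl⟩

omit [IsScalarTower A B E] in
theorem gB_le {X : Set E} {I : Finset (Fin n)} {P : Submodule B E}
    (h : ∀ J, J ⊆ I → ∀ x ∈ X, (∏ i ∈ I \ J, t i) • cP N J x ∈ P) : gB N t X I ≤ P := by
  refine Submodule.span_le.2 ?_
  intro y hy
  simp only [Set.mem_iUnion] at hy
  obtain ⟨J, hJ, x, hx, rfl⟩ := hy
  exact h J (Finset.mem_powerset.1 hJ) x hx

theorem prod_smul_gB {X : Set E} {I I' : Finset (Fin n)} (h : I ⊆ I') {x : E}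
    (hx : x ∈ gB N t X I) : (∏ i ∈ I' \ I, t i) • x ∈ gB N t X I' := by
  have : gB N t X I ≤ (gB N t X I').comap (LinearMap.lsmul B E (∏ i ∈ I' \ I, t i)) := by
    refine gB_le N t fun J hJ y hy => ?_
    simp only [Submodule.mem_comap, LinearMap.lsmul_apply, smul_smul]
    rw [prod_sdiff_mul hJ h]
    exact mem_gB N t (hJ.trans h) hy
  exact this hx

variable {N t} {lam : B} {pd : Fin n → B → B}

theorem Sys.N_min_gB (S : Sys lam t N pd) {X : Set E} {j : Fin n} {J : Finset (Fin n)}
    (h : ∀ k ∈ J, j < k) {x : E} (hx : x ∈ gB N t X J) :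
    N j x ∈ gB N t X (insert j J) ∧ t j • x ∈ gB N t X (insert j J) := by
  classical
  have hj : j ∉ J := fun hj => lt_irrefl _ (h j hj)
  induction hx using Submodule.span_induction with
  | mem y hy =>
    simp only [Set.mem_iUnion] at hy
    obtain ⟨J', hJ', x, hx, rfl⟩ := hy
    have hJ' := Finset.mem_powerset.1 hJ'
    constructor
    · rw [S.leib_prod_notMem (fun hh => hj (Finset.sdiff_subset hh)),
        ← LinearMap.comp_apply, ← cP_insert_lt N (fun k hk => h k (hJ' hk))]
      have h1 : insert j J \ insert j J' = J \ J' := by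
        rw [Finset.insert_sdiff_insert, Finset.sdiff_insert_of_notMem hj]
      have := mem_gB N t (Finset.insert_subset_insert j hJ') hx
      rwa [h1] at this
    · have := prod_smul_gB N t (Finset.subset_insert j J) (mem_gB N t hJ' hx)
      rwa [Finset.insert_sdiff_of_notMem _ hj, Finset.sdiff_self, Finset.prod_insert (by simp),
        Finset.prod_empty, mul_one] at this
  | zero => simp
  | add x y _ _ hx hy =>
    exact ⟨by rw [map_add]; exact Submodule.add_mem _ hx.1 hy.1,
      by rw [smul_add]; exact Submodule.add_mem _ hx.2 hy.2⟩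
  | smul b x _ hx =>
    constructor
    · rw [S.leib]
      have : (lam * (pd j b * t j)) • x = (lam * pd j b) • (t j • x) := by
        rw [smul_smul]; congr 1; ring
      rw [this]
      exact Submodule.add_mem _ (Submodule.smul_mem _ _ hx.1) (Submodule.smul_mem _ _ hx.2)
    · rw [smul_comm]
      exact Submodule.smul_mem _ _ hx.2

theorem Sys.cP_mem_gB (S : Sys lam t N pd) {X : Set E} (hX : Submodule.span B X = ⊤)
    (J : Finset (Fin n)) : ∀ x : E, cP N J x ∈ gB N t X J := by
  classical
  induction J using Finset.induction_on_min with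
  | empty =>
    intro x
    have hx : x ∈ Submodule.span B X := by rw [hX]; trivial
    have : Submodule.span B X ≤ gB N t X ∅ := by
      refine Submodule.span_le.2 fun y hy => ?_
      have := mem_gB N t (Finset.Subset.refl (∅ : Finset (Fin n))) hy
      simpa using this
    simpa using this hx
  | insert j J h ih =>
    intro x
    rw [cP_insert_lt N h, LinearMap.comp_apply]
    exact (S.N_min_gB h (ih x)).1

theorem Sys.gB_eq_pc (S : Sys lam t N pd) {X : Set E} (hX : Submodule.span B X = ⊤)
    (I : Finset (Fin n)) : (gB N t X I).restrictScalars A = pc N t I := by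
  apply le_antisymm
  · have : gB N t X I ≤ S.pcB I := gB_le N t fun J hJ x _ => mem_pc N t hJ x
    exact this
  · refine pc_le N t fun J hJ e => ?_
    exact prod_smul_gB N t hJ (S.cP_mem_gB hX J e)

end gens


section comm
variable {A : Type v} {B E : Type u} [CommRing A] [CommRing B]
    [Algebra A B]
    [AddCommGroup E] [Module B E] [Module A E] [IsScalarTower A B E]
variable {n : ℕ} {N : Fin n → E →ₗ[A] E} {t : Fin n → B}

theorem N_cP_comm (hcomm : ∀ i j e, N i (N j e) = N j (N i e)) (i : Fin n) (J : Finset (Fin n)) :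
    ∀ e : E, N i (cP N J e) = cP N J (N i e) := by
  classical
  induction J using Finset.induction_on_min with
  | empty => intro e; simp
  | insert j J h ih =>
    intro e
    rw [cP_insert_lt N h, LinearMap.comp_apply, LinearMap.comp_apply, hcomm, ih]

theorem cP_insert (hcomm : ∀ i j e, N i (N j e) = N j (N i e)) {i : Fin n} {J : Finset (Fin n)} :
    i ∉ J → cP N (insert i J) = N i ∘ₗ cP N J := by
  classical
  induction J using Finset.induction_on_min with
  | empty => intro _; exact cP_insert_lt N (by simp)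
  | insert j J h ih =>
    intro hi
    have hij : i ≠ j := fun hh => hi (by simp [hh])
    have hiJ : i ∉ J := fun hh => hi (by simp [hh])
    rcases lt_or_gt_of_ne hij with hlt | hgt
    · exact cP_insert_lt N (fun k hk => by
        rcases Finset.mem_insert.1 hk with rfl | hk
        · exact hlt
        · exact hlt.trans (h k hk))
    · rw [Finset.insert_comm, cP_insert_lt N (fun k hk => by
        rcases Finset.mem_insert.1 hk with rfl | hk
        · exact hgt
        · exact h k hk), ih hiJ, cP_insert_lt N h]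
      ext e
      simp only [LinearMap.comp_apply]
      rw [hcomm]

variable {lam : B} {pd : Fin n → B → B}

/-- (b) -/
theorem Sys.N_pc_insert (S : Sys lam t N pd) (hcomm : ∀ i j e, N i (N j e) = N j (N i e))
    {i : Fin n} {K : Finset (Fin n)} (hi : i ∉ K) {x : E} (hx : x ∈ pc N t K) :
    N i x ∈ pc N t (insert i K) := by
  classical
  refine pc_map_mem N t (N i) (fun J hJ e => ?_) hx
  rw [S.leib_prod_notMem (fun hh => hi (Finset.sdiff_subset hh)),
    ← LinearMap.comp_apply, ← cP_insert hcomm (fun hh => hi (hJ hh))]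
  have h1 : insert i K \ insert i J = K \ J := by
    rw [Finset.insert_sdiff_insert, Finset.sdiff_insert_of_notMem hi]
  have := mem_pc N t (Finset.insert_subset_insert i hJ) e
  rwa [h1] at this

/-- (d) one step -/
theorem Sys.pc_insert_le (S : Sys lam t N pd) (hcomm : ∀ i j e, N i (N j e) = N j (N i e))
    {i : Fin n} {I : Finset (Fin n)} (hi : i ∉ I) : pc N t (insert i I) ≤ pc N t I := by
  classical
  refine pc_le N t fun J hJ e => ?_
  by_cases hiJ : i ∈ J
  · have hJ0 : J.erase i ⊆ I := by
      intro k hk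
      have := hJ (Finset.mem_of_mem_erase hk)
      rcases Finset.mem_insert.1 this with rfl | h
      · exact absurd hk (Finset.notMem_erase _ _)
      · exact h
    have h1 : insert i I \ J = I \ J.erase i := by
      ext k
      simp only [Finset.mem_sdiff, Finset.mem_insert, Finset.mem_erase]
      constructor
      · rintro ⟨rfl | hk, hkJ⟩
        · exact absurd hiJ hkJ
        · exact ⟨hk, fun hh => hkJ hh.2⟩
      · rintro ⟨hk, hkJ⟩
        refine ⟨Or.inr hk, fun hh => hkJ ⟨?_, hh⟩⟩
        rintro rfl
        exact hi hk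
    have h2 : cP N J e = cP N (J.erase i) (N i e) := by
      conv_lhs => rw [← Finset.insert_erase hiJ]
      rw [cP_insert hcomm (Finset.notMem_erase _ _), LinearMap.comp_apply, N_cP_comm hcomm]
    rw [h1, h2]
    exact mem_pc N t hJ0 _
  · have hJI : J ⊆ I := by
      intro k hk
      rcases Finset.mem_insert.1 (hJ hk) with rfl | h
      · exact absurd hk hiJ
      · exact h
    have h1 : insert i I \ J = insert i (I \ J) := Finset.insert_sdiff_of_notMem _ hiJ
    rw [h1, Finset.prod_insert (fun hh => hi (Finset.sdiff_subset hh)), mul_smul]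
    exact S.smul_mem_pc I _ (mem_pc N t hJI e)

/-- (d) -/
theorem Sys.pc_anti (S : Sys lam t N pd) (hcomm : ∀ i j e, N i (N j e) = N j (N i e))
    {I I' : Finset (Fin n)} (h : I ⊆ I') : pc N t I' ≤ pc N t I := by
  classical
  have key : ∀ D : Finset (Fin n), Disjoint D I → pc N t (D ∪ I) ≤ pc N t I := by
    intro D
    induction D using Finset.induction_on with
    | empty => intro _; simp
    | insert a D ha ih =>
      intro hd
      rw [Finset.disjoint_insert_left] at hd
      rw [Finset.insert_union]
      refine (S.pc_insert_le hcomm ?_).trans (ih hd.2)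
      simp [ha, hd.1]
  have := key (I' \ I) Finset.sdiff_disjoint
  rwa [Finset.sdiff_union_of_subset h] at this

/-- (b'') -/
theorem Sys.N_pc (S : Sys lam t N pd) (hcomm : ∀ i j e, N i (N j e) = N j (N i e))
    (m : Fin n) {I : Finset (Fin n)} {x : E} (hx : x ∈ pc N t I) : N m x ∈ pc N t I := by
  classical
  refine pc_map_mem N t (N m) (fun J hJ e => ?_) hx
  rw [S.leib_prod]
  refine Submodule.add_mem _ ?_ ?_
  · by_cases hmJ : m ∈ J
    · rw [N_cP_comm hcomm]
      exact mem_pc N t hJ _
    · rw [← LinearMap.comp_apply, ← cP_insert hcomm hmJ]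
      by_cases hmI : m ∈ I
      · have hJ' : insert m J ⊆ I := Finset.insert_subset hmI hJ
        have h1 : I \ J = insert m (I \ insert m J) := by
          ext k
          simp only [Finset.mem_sdiff, Finset.mem_insert, not_or]
          constructor
          · rintro ⟨hk, hkJ⟩
            by_cases hkm : k = m
            · exact Or.inl hkm
            · exact Or.inr ⟨hk, hkm, hkJ⟩
          · rintro (rfl | ⟨hk, _, hkJ⟩)
            · exact ⟨hmI, hmJ⟩
            · exact ⟨hk, hkJ⟩
        rw [h1, Finset.prod_insert (by simp), mul_smul]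
        exact S.smul_mem_pc I _ (mem_pc N t hJ' e)
      · have h1 : insert m I \ insert m J = I \ J := by
          rw [Finset.insert_sdiff_insert, Finset.sdiff_insert_of_notMem hmI]
        have := mem_pc N t (Finset.insert_subset_insert m hJ) e
        rw [h1] at this
        exact S.pc_insert_le hcomm hmI this
  · split_ifs
    · rw [mul_smul]
      exact S.smul_mem_pc I _ (mem_pc N t hJ e)
    · exact Submodule.zero_mem _

end comm


end Groth.Agent.Lib.helper25.LogC
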