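import Groth.Agent.Lib.helper25.LogC

set_option autoImplicit false
set_option linter.unusedSectionVars false
universe v u
open TensorProduct

namespace Groth.Agent.Lib.helper25.LogD

open Groth.Agent.Lib.helper25.LogC exteriorPower

section tensor
variable {B E F : Type u} [CommRing B] [AddCommGroup E] [Module B E] [AddCommGroup F] [Module B F]
  {κ : Type*} [Fintype κ]

/-- coordinate of an element of `E ⊗ F` along a basis vector of `F` -/
noncomputable def cE (β : Module.Basis κ B F) (k : κ) : E ⊗[B] F →ₗ[B] E :=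
  (TensorProduct.rid B E).toLinearMap ∘ₗ TensorProduct.map LinearMap.id (β.coord k)

theorem cE_tmul (β : Module.Basis κ B F) (k : κ) (e : E) (f : F) :
    cE β k (e ⊗ₜ[B] f) = β.coord k f • e := by
  simp [cE]

theorem sum_cE_tmul (β : Module.Basis κ B F) (x : E ⊗[B] F) :
    ∑ k, cE β k x ⊗ₜ[B] β k = x := by
  induction x using TensorProduct.induction_on with
  | zero => simp
  | tmul e f =>
    simp only [cE_tmul]
    conv_rhs => rw [← β.sum_repr f, tmul_sum]
    refine Finset.sum_congr rfl fun k _ => ?_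
    rw [smul_tmul, Module.Basis.coord_apply]
  | add x y hx hy => simp only [map_add, add_tmul, Finset.sum_add_distrib, hx, hy]

end tensor

section ext
variable {B L : Type u} [CommRing B] [AddCommGroup L] [Module B L] {n : ℕ}

theorem coord_ιMulti (ω : Module.Basis (Fin n) B L) (p : ℕ) (K : Set.powersetCard (Fin n) p)
    (v : Fin p → L) :
    (ω.exteriorPower p).coord K (ιMulti B p v) =
      (Matrix.of fun i j => ω.coord (Set.powersetCard.ofFinEmbEquiv.symm K j) (v i)).det := by
  rw [basis_coord, ιMultiDual_apply_ιMulti]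

theorem emb_mem (p : ℕ) (K : Set.powersetCard (Fin n) p) (j : Fin p) :
    Set.powersetCard.ofFinEmbEquiv.symm K j ∈ (K : Finset (Fin n)) := by
  rw [Set.powersetCard.ofFinEmbEquiv_symm_apply]
  exact Finset.orderEmbOfFin_mem _ _ _

theorem coord_ιMulti_eq_zero_of_col (ω : Module.Basis (Fin n) B L) (p : ℕ)
    (K : Set.powersetCard (Fin n) p) (v : Fin p → L) {k : Fin n} (hk : k ∈ (K : Finset (Fin n)))
    (h : ∀ i, ω.coord k (v i) = 0) : (ω.exteriorPower p).coord K (ιMulti B p v) = 0 := by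
  rw [coord_ιMulti]
  obtain ⟨j, rfl⟩ := (Set.powersetCard.mem_range_ofFinEmbEquiv_symm_iff_mem K k).mpr hk
  exact Matrix.det_eq_zero_of_column_eq_zero j (fun i => h i)

theorem coord_ιMulti_eq_zero_of_row (ω : Module.Basis (Fin n) B L) (p : ℕ)
    (K : Set.powersetCard (Fin n) p) (v : Fin p → L) (i : Fin p)
    (h : ∀ k ∈ (K : Finset (Fin n)), ω.coord k (v i) = 0) :
    (ω.exteriorPower p).coord K (ιMulti B p v) = 0 := by
  rw [coord_ιMulti]
  exact Matrix.det_eq_zero_of_row_eq_zero i (fun j => h _ (emb_mem p K j))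

theorem prod_emb (p : ℕ) (K : Set.powersetCard (Fin n) p) (f : Fin n → B) :
    ∏ j : Fin p, f (Set.powersetCard.ofFinEmbEquiv.symm K j) = ∏ k ∈ (K : Finset (Fin n)), f k := by
  rw [Set.powersetCard.ofFinEmbEquiv_symm_apply]
  conv_rhs => rw [← Finset.map_orderEmbOfFin_univ (K : Finset (Fin n)) K.prop, Finset.prod_map]
  rfl

/-- divisibility of coordinates -/
theorem coord_ιMulti_dvd (ω : Module.Basis (Fin n) B L) (p : ℕ)
    (K : Set.powersetCard (Fin n) p) (I : Finset (Fin n)) (t : Fin n → B) (v : Fin p → L)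
    (h : ∀ i, ∀ k ∈ (K : Finset (Fin n)), k ∉ I → ∃ c, ω.coord k (v i) = t k * c) :
    ∃ c, (ω.exteriorPower p).coord K (ιMulti B p v) = (∏ k ∈ (K : Finset (Fin n)) \ I, t k) * c := by
  classical
  choose! c hc using h
  rw [coord_ιMulti]
  set emb := Set.powersetCard.ofFinEmbEquiv.symm K with hemb
  let M' : Matrix (Fin p) (Fin p) B := Matrix.of fun i j =>
    if emb j ∈ I then ω.coord (emb j) (v i) else c i (emb j)
  let s : Fin p → B := fun j => if emb j ∈ I then 1 else t (emb j)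
  have h1 : (Matrix.of fun i j => ω.coord (emb j) (v i)) = Matrix.of fun i j => s j * M' i j := by
    ext i j
    simp only [Matrix.of_apply, s, M']
    split_ifs with hj
    · rw [one_mul]
    · exact hc i (emb j) (emb_mem p K j) hj
  rw [h1, Matrix.det_mul_row]
  refine ⟨M'.det, ?_⟩
  congr 1
  have := prod_emb p K (fun k => if k ∈ I then 1 else t k)
  rw [this, Finset.prod_ite, Finset.prod_const_one, one_mul, Finset.filter_notMem_eq_sdiff]

end ext

section perm
variable {B L : Type u} [CommRing B] [AddCommGroup L] [Module B L] {n : ℕ}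

theorem exists_perm (p : ℕ) (emb : Fin p ↪o Fin n) (σ : Fin p → Fin n)
    (hσ : Function.Injective σ) (h : ∀ i, σ i ∈ Set.range emb) :
    ∃ π : Equiv.Perm (Fin p), ∀ i, σ i = emb (π i) := by
  choose π₀ hπ₀ using h
  have inj : Function.Injective π₀ := fun a b hab => hσ (by rw [← hπ₀ a, ← hπ₀ b, hab])
  exact ⟨Equiv.ofBijective π₀ (Finite.injective_iff_bijective.1 inj), fun i => (hπ₀ i).symm⟩

theorem ιMulti_comp_inj (ω : Module.Basis (Fin n) B L) (p : ℕ) (K : Set.powersetCard (Fin n) p)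
    (σ : Fin p → Fin n) (hσ : Function.Injective σ) (h : ∀ i, σ i ∈ (K : Finset (Fin n))) :
    ∃ ε : ℤˣ, ιMulti B p (fun i => ω (σ i)) = ε • (ω.exteriorPower p K) := by
  obtain ⟨π, hπ⟩ := exists_perm p (Set.powersetCard.ofFinEmbEquiv.symm K) σ hσ
    (fun i => (Set.powersetCard.mem_range_ofFinEmbEquiv_symm_iff_mem K _).mpr (h i))
  refine ⟨Equiv.Perm.sign π, ?_⟩
  rw [basis_apply, ιMulti_family]
  have : (fun i => ω (σ i)) = (ω ∘ (Set.powersetCard.ofFinEmbEquiv.symm K)) ∘ π := by
    ext i; simp [hπ i]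
  rw [this, AlternatingMap.map_perm]

end perm

section layer
variable {A : Type v} {B L E : Type u} [CommRing A] [CommRing B]
    [Algebra A B] [AddCommGroup L] [Module B L]
    [AddCommGroup E] [Module B E] [Module A E] [IsScalarTower A B E] {n : ℕ}

theorem mem_layer_iff (nabla : E →ₗ[A] E ⊗[B] L) (ω : Module.Basis (Fin n) B L) (t : Fin n → B)
    (p : ℕ) (x : E ⊗[B] ↥(⋀[B]^p L)) :
    x ∈ LogConn.layer nabla ω t p ↔
      ∀ K : Set.powersetCard (Fin n) p,
        cE (ω.exteriorPower p) K x ∈ pc (LogConn.comp nabla ω) t (K : Finset (Fin n)) := by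
  simp only [LogConn.layer, Submodule.mem_iInf, Submodule.mem_comap]
  rfl

theorem coord_iota (t : Fin n → B) (bΩ : Module.Basis (Fin n) B (KaehlerDifferential A B))
    (hbΩ : ∀ i, bΩ i = KaehlerDifferential.D A B (t i))
    (ω : Module.Basis (Fin n) B L) (ι : KaehlerDifferential A B →ₗ[B] L)
    (hι : ∀ i, ι (KaehlerDifferential.D A B (t i)) = t i • ω i) (η : KaehlerDifferential A B)
    (k : Fin n) : ω.coord k (ι η) = bΩ.repr η k * t k := by
  classical
  conv_lhs => rw [← bΩ.sum_repr η]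
  rw [map_sum, map_sum]
  simp only [map_smul, hbΩ, hι, Module.Basis.coord_apply, Module.Basis.repr_self, smul_eq_mul]
  rw [Finset.sum_eq_single k]
  · simp
  · intro j _ hj
    simp [hj]
  · simp

end layer


section s16796
variable {A : Type v} {B L E : Type u} [CommRing A] [CommRing B]
    [Algebra A B] [AddCommGroup L] [Module B L] [Module A L] [IsScalarTower A B L]
    [AddCommGroup E] [Module B E] [Module A E] [IsScalarTower A B E] {n : ℕ}

theorem smul_mem_layer {lam : B} {t : Fin n → B} {nabla : E →ₗ[A] E ⊗[B] L}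
    {ω : Module.Basis (Fin n) B L} {pd : Fin n → B → B}
    (S : Sys lam t (LogConn.comp nabla ω) pd) (p : ℕ) (b : B) {x : E ⊗[B] ↥(⋀[B]^p L)}
    (hx : x ∈ LogConn.layer nabla ω t p) : b • x ∈ LogConn.layer nabla ω t p := by
  rw [mem_layer_iff] at hx ⊢
  intro K
  rw [map_smul]
  exact S.smul_mem_pc _ b (hx K)

/-- the layer as a `B`-submodule -/
noncomputable def layerB {lam : B} {t : Fin n → B} {nabla : E →ₗ[A] E ⊗[B] L}
    {ω : Module.Basis (Fin n) B L} {pd : Fin n → B → B}
    (S : Sys lam t (LogConn.comp nabla ω) pd) (p : ℕ) : Submodule B (E ⊗[B] ↥(⋀[B]^p L)) where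
  carrier := LogConn.layer nabla ω t p
  add_mem' := fun ha hb => Submodule.add_mem _ ha hb
  zero_mem' := Submodule.zero_mem _
  smul_mem' := fun b _ hx => smul_mem_layer S p b hx

theorem gens_subset_layer (lam : B) (t : Fin n → B)
    (bΩ : Module.Basis (Fin n) B (KaehlerDifferential A B))
    (hbΩ : ∀ i, bΩ i = KaehlerDifferential.D A B (t i))
    (ω : Module.Basis (Fin n) B L) (ι : KaehlerDifferential A B →ₗ[B] L)
    (hι : ∀ i, ι (KaehlerDifferential.D A B (t i)) = t i • ω i)
    (nabla : E →ₗ[A] E ⊗[B] L)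
    (hc : Conn.IsLamConn (ι.compDer (KaehlerDifferential.D A B)) lam nabla) (p : ℕ)
    {x : E ⊗[B] ↥(⋀[B]^p L)} (hx : x ∈ LogConn.gens nabla ω ι p) :
    x ∈ LogConn.layer nabla ω t p := by
  classical
  have S := sys_of lam t bΩ hbΩ ω ι hι nabla hc
  obtain ⟨I, hIp, e, v, hv1, hv2, rfl⟩ := hx
  rw [mem_layer_iff]
  intro K
  rw [cE_tmul, compProd_eq]
  by_cases hIK : I ⊆ (K : Finset (Fin n))
  · obtain ⟨c, hc'⟩ := coord_ιMulti_dvd ω p K I t v (fun i k hk hkI => by
      by_cases hi : i.val < I.card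
      · rw [hv1 i hi]
        refine ⟨0, ?_⟩
        rw [mul_zero, Module.Basis.coord_apply, Module.Basis.repr_self, Finsupp.single_apply, if_neg]
        intro h
        apply hkI
        rw [← h]
        exact Finset.orderEmbOfFin_mem _ _ _
      · obtain ⟨η, hη⟩ := hv2 i (not_lt.1 hi)
        rw [← hη, coord_iota t bΩ hbΩ ω ι hι]
        exact ⟨bΩ.repr η k, mul_comm _ _⟩)
    rw [hc', mul_comm, mul_smul]
    exact S.smul_mem_pc _ c (mem_pc _ t hIK e)
  · obtain ⟨i₀, hi₀I, hi₀K⟩ := Finset.not_subset.1 hIK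
    have : i₀ ∈ Set.range (I.orderEmbOfFin rfl) := by
      rw [Finset.range_orderEmbOfFin]; exact hi₀I
    obtain ⟨r, hr⟩ := this
    have hrp : r.val < p := lt_of_lt_of_le r.2 hIp
    rw [coord_ιMulti_eq_zero_of_row ω p K v ⟨r.val, hrp⟩ (fun k hk => by
      rw [hv1 ⟨r.val, hrp⟩ r.2]
      have : (⟨r.val, r.2⟩ : Fin I.card) = r := rfl
      rw [this, hr, Module.Basis.coord_apply, Module.Basis.repr_self, Finsupp.single_apply, if_neg]
      rintro rfl
      exact hi₀K hk), zero_smul]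
    exact Submodule.zero_mem _

theorem tmul_basis_mem_span_gens (t : Fin n → B)
    (ω : Module.Basis (Fin n) B L) (ι : KaehlerDifferential A B →ₗ[B] L)
    (hι : ∀ i, ι (KaehlerDifferential.D A B (t i)) = t i • ω i)
    (nabla : E →ₗ[A] E ⊗[B] L) (K₀ J : Finset (Fin n)) (hJ : J ⊆ K₀) (p : ℕ)
    (hp : J.card + (K₀ \ J).card = p) (hK : K₀.card = p) (e : E) :
    ((∏ k ∈ K₀ \ J, t k) • LogConn.compProd nabla ω J e) ⊗ₜ[B]
      (ω.exteriorPower p (Set.powersetCard.ofCard hK)) ∈
      Submodule.span B (LogConn.gens nabla ω ι p) := by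
  classical
  subst hp
  set eJ := J.orderEmbOfFin (rfl : J.card = J.card) with heJ
  set eD := (K₀ \ J).orderEmbOfFin (rfl : (K₀ \ J).card = (K₀ \ J).card) with heD
  set σ : Fin (J.card + (K₀ \ J).card) → Fin n := Fin.append eJ eD with hσ
  set c : Fin (J.card + (K₀ \ J).card) → B := Fin.append (fun _ => 1) (fun b => t (eD b)) with hcdef
  set v : Fin (J.card + (K₀ \ J).card) → L := fun k => c k • ω (σ k) with hv
  have heJ_mem : ∀ a, eJ a ∈ J := fun a => Finset.orderEmbOfFin_mem _ _ _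
  have heD_mem : ∀ b, eD b ∈ K₀ \ J := fun b => Finset.orderEmbOfFin_mem _ _ _
  have hσ_inj : Function.Injective σ := by
    rw [hσ, Fin.append_injective_iff]
    refine ⟨eJ.injective, eD.injective, fun a b hab => ?_⟩
    have h1 := heJ_mem a
    have h2 := heD_mem b
    rw [← hab] at h2
    exact (Finset.mem_sdiff.1 h2).2 h1
  have hσ_mem : ∀ i, σ i ∈ ((Set.powersetCard.ofCard hK : Set.powersetCard (Fin n) _) :
      Finset (Fin n)) := by
    intro i
    change σ i ∈ K₀
    induction i using Fin.addCases with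
    | left a => rw [hσ, Fin.append_left]; exact hJ (heJ_mem a)
    | right b => rw [hσ, Fin.append_right]; exact (Finset.mem_sdiff.1 (heD_mem b)).1
  obtain ⟨ε, hε⟩ := ιMulti_comp_inj ω _ (Set.powersetCard.ofCard hK) σ hσ_inj hσ_mem
  have hvv : ιMulti B _ v = (∏ k ∈ K₀ \ J, t k) • ιMulti B _ (fun i => ω (σ i)) := by
    have h1 : ιMulti B _ (fun k => c k • ω (σ k)) = (∏ i, c i) • ιMulti B _ (fun i => ω (σ i)) :=
      (ιMulti B (J.card + (K₀ \ J).card)).toMultilinearMap.map_smul_univ c (fun i => ω (σ i))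
    rw [hv, h1]
    congr 1
    rw [Fin.prod_univ_add]
    simp only [hcdef, Fin.append_left, Fin.append_right, Finset.prod_const_one, one_mul]
    conv_rhs => rw [← Finset.map_orderEmbOfFin_univ (K₀ \ J) rfl, Finset.prod_map]
    rfl
  have hg : LogConn.compProd nabla ω J e ⊗ₜ[B] ιMulti B _ v ∈
      LogConn.gens nabla ω ι (J.card + (K₀ \ J).card) := by
    refine ⟨J, Nat.le_add_right _ _, e, v, ?_, ?_, rfl⟩
    · intro k hk
      induction k using Fin.addCases with
      | left a =>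
        simp only [hv, hσ, hcdef, Fin.append_left, one_smul]
        rfl
      | right b =>
        exfalso
        rw [Fin.val_natAdd] at hk
        omega
    · intro k hk
      induction k using Fin.addCases with
      | left a =>
        exfalso
        rw [Fin.val_castAdd] at hk
        exact absurd a.2 (not_lt.2 hk)
      | right b =>
        simp only [hv, hσ, hcdef, Fin.append_right]
        exact ⟨KaehlerDifferential.D A B (t (eD b)), hι _⟩
  have hg' := Submodule.subset_span (R := B) hg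
  have key : ((∏ k ∈ K₀ \ J, t k) • LogConn.compProd nabla ω J e) ⊗ₜ[B]
      (ω.exteriorPower _ (Set.powersetCard.ofCard hK)) =
      ε • (LogConn.compProd nabla ω J e ⊗ₜ[B] ιMulti B _ v) := by
    rw [hvv, hε, smul_tmul]
    rcases Int.units_eq_one_or ε with rfl | rfl
    · simp
    · simp only [Units.neg_smul, one_smul, smul_neg, tmul_neg, neg_neg]
  rw [key]
  rcases Int.units_eq_one_or ε with rfl | rfl
  · simpa using hg'
  · simpa using hg'

theorem layer_le_span_gens (t : Fin n → B)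
    (ω : Module.Basis (Fin n) B L) (ι : KaehlerDifferential A B →ₗ[B] L)
    (hι : ∀ i, ι (KaehlerDifferential.D A B (t i)) = t i • ω i)
    (nabla : E →ₗ[A] E ⊗[B] L) (p : ℕ)
    {x : E ⊗[B] ↥(⋀[B]^p L)} (hx : x ∈ LogConn.layer nabla ω t p) :
    x ∈ Submodule.span B (LogConn.gens nabla ω ι p) := by
  classical
  rw [mem_layer_iff] at hx
  rw [← sum_cE_tmul (ω.exteriorPower p) x]
  refine Submodule.sum_mem _ fun K _ => ?_
  have hK := hx K
  let f : E →ₗ[A] E ⊗[B] ↥(⋀[B]^p L) :=
    ((TensorProduct.mk B E _).flip (ω.exteriorPower p K)).restrictScalars A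
  have : pc (LogConn.comp nabla ω) t (K : Finset (Fin n)) ≤
      ((Submodule.span B (LogConn.gens nabla ω ι p)).restrictScalars A).comap f := by
    refine pc_le _ t fun J hJ e => ?_
    have hp : J.card + ((K : Finset (Fin n)) \ J).card = p := by
      rw [Finset.card_sdiff_of_subset hJ, K.prop]
      have := Finset.card_le_card hJ
      rw [K.prop] at this
      omega
    exact tmul_basis_mem_span_gens t ω ι hι nabla (K : Finset (Fin n)) J hJ p hp K.prop e
  exact this hK

end s16796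


section wedge
variable {B L : Type u} [CommRing B] [AddCommGroup L] [Module B L]

theorem wedge_cons (p : ℕ) (a : L) (v : Fin p → L) :
    Conn.wedge p ((oneEquiv B L).symm a) (ιMulti B p v) = ιMulti B (p + 1) (Fin.cons a v) := by
  apply Subtype.ext
  rw [Conn.wedge_apply_coe, oneEquiv_symm_apply, ιMulti_apply_coe, ιMulti_apply_coe,
    ιMulti_apply_coe, ExteriorAlgebra.ιMulti_succ_apply, ExteriorAlgebra.ιMulti_succ_apply,
    ExteriorAlgebra.ιMulti_zero_apply, mul_one]
  simp [Matrix.vecTail]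

end wedge

section nab
variable {A : Type v} {B L E : Type u} [CommRing A] [CommRing B]
    [Algebra A B] [AddCommGroup L] [Module B L] [Module A L] [IsScalarTower A B L]
    [AddCommGroup E] [Module B E] [Module A E] [IsScalarTower A B E] {n : ℕ}

theorem nabla_eq_sum (nabla : E →ₗ[A] E ⊗[B] L) (ω : Module.Basis (Fin n) B L) (m : E) :
    nabla m = ∑ i, LogConn.comp nabla ω i m ⊗ₜ[B] ω i :=
  (sum_cE_tmul ω (nabla m)).symm

theorem toOne_nabla (nabla : E →ₗ[A] E ⊗[B] L) (ω : Module.Basis (Fin n) B L) (m : E) :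
    Conn.toOne (nabla m) = ∑ i, LogConn.comp nabla ω i m ⊗ₜ[B] (oneEquiv B L).symm (ω i) := by
  conv_lhs => rw [nabla_eq_sum nabla ω m]
  rw [map_sum]
  rfl

/-- value of the extension on `y ⊗ ιMulti v` when `d` kills `ιMulti v` -/
theorem nablas_tmul_ιMulti (nabla : E →ₗ[A] E ⊗[B] L) (ω : Module.Basis (Fin n) B L)
    (d : ∀ p : ℕ, ↥(⋀[B]^p L) →ₗ[A] ↥(⋀[B]^(p + 1) L))
    (nablas : ∀ p : ℕ, E ⊗[B] ↥(⋀[B]^p L) →ₗ[A] E ⊗[B] ↥(⋀[B]^(p + 1) L))
    (hrule : Conn.IsCxRule nabla d nablas) (p : ℕ) (y : E) (v : Fin p → L)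
    (hd : d p (ιMulti B p v) = 0) :
    nablas p (y ⊗ₜ[B] ιMulti B p v) =
      ∑ i, LogConn.comp nabla ω i y ⊗ₜ[B] ιMulti B (p + 1) (Fin.cons (ω i) v) := by
  rw [hrule p y, hd, tmul_zero, add_zero, toOne_nabla nabla ω, map_sum, LinearMap.sum_apply]
  refine Finset.sum_congr rfl fun i _ => ?_
  rw [Conn.twedge_tmul, wedge_cons]

/-- the functional on `E ⊗ Λ²L` extracting the `(a,b)` coefficient -/
noncomputable def Theta (ω : Module.Basis (Fin n) B L) (a b : Fin n) :
    E ⊗[B] ↥(⋀[B]^2 L) →ₗ[B] E :=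
  (TensorProduct.rid B E).toLinearMap ∘ₗ TensorProduct.map LinearMap.id
    (pairingDual B L 2 (ιMulti B 2 ![ω.coord a, ω.coord b]))

theorem Theta_tmul (ω : Module.Basis (Fin n) B L) (a b : Fin n) (y : E) (i j : Fin n) :
    Theta ω a b (y ⊗ₜ[B] ιMulti B 2 (Fin.cons (ω j) (fun _ => ω i))) =
      ((if j = a then 1 else 0) * (if i = b then 1 else 0) -
        (if j = b then 1 else 0) * (if i = a then 1 else 0) : B) • y := by
  classical
  simp only [Theta, LinearMap.comp_apply, TensorProduct.map_tmul, LinearMap.id_apply,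
    LinearEquiv.coe_coe, TensorProduct.rid_tmul, pairingDual_ιMulti_ιMulti, Matrix.det_fin_two,
    Matrix.of_apply]
  congr 1
  simp [Finsupp.single_apply]

theorem comp_comm (nabla : E →ₗ[A] E ⊗[B] L) (ω : Module.Basis (Fin n) B L)
    (d : ∀ p : ℕ, ↥(⋀[B]^p L) →ₗ[A] ↥(⋀[B]^(p + 1) L))
    (nablas : ∀ p : ℕ, E ⊗[B] ↥(⋀[B]^p L) →ₗ[A] E ⊗[B] ↥(⋀[B]^(p + 1) L))
    (hint : Conn.IsIntegrable nabla d nablas)
    (hd : ∀ i, d 1 (ιMulti B 1 (fun _ => ω i)) = 0) (a b : Fin n) (m : E) :
    LogConn.comp nabla ω a (LogConn.comp nabla ω b m) =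
      LogConn.comp nabla ω b (LogConn.comp nabla ω a m) := by
  classical
  have h0 := hint.2 m
  rw [toOne_nabla nabla ω, map_sum] at h0
  have h1 : ∀ i, nablas 1 (LogConn.comp nabla ω i m ⊗ₜ[B] (oneEquiv B L).symm (ω i)) =
      ∑ j, LogConn.comp nabla ω j (LogConn.comp nabla ω i m) ⊗ₜ[B]
        ιMulti B 2 (Fin.cons (ω j) (fun _ => ω i)) := by
    intro i
    rw [oneEquiv_symm_apply]
    exact nablas_tmul_ιMulti nabla ω d nablas hint.1 1 _ _ (hd i)
  simp only [h1] at h0
  have h2 := congrArg (Theta ω a b) h0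
  simp only [map_sum, Theta_tmul, map_zero] at h2
  simp only [sub_smul, Finset.sum_sub_distrib, mul_smul, ite_smul, one_smul, zero_smul,
    smul_ite, smul_zero] at h2
  have key : ∀ (f : Fin n → Fin n → E) (a b : Fin n),
      (∑ x, ∑ y, if x = b then if y = a then f y x else 0 else 0) = f a b := by
    intro f a b
    rw [Finset.sum_eq_single b, Finset.sum_eq_single a]
    · simp
    · intro y _ hy; simp [hy]
    · simp
    · intro x _ hx; simp [hx]
    · simp
  rw [key (fun y x => LogConn.comp nabla ω y (LogConn.comp nabla ω x m)),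
    key (fun y x => LogConn.comp nabla ω y (LogConn.comp nabla ω x m))] at h2
  exact sub_eq_zero.1 h2

end nab


section s16797
variable {A : Type v} {B L E : Type u} [CommRing A] [CommRing B]
    [Algebra A B] [AddCommGroup L] [Module B L] [Module A L] [IsScalarTower A B L]
    [AddCommGroup E] [Module B E] [Module A E] [IsScalarTower A B E] {n : ℕ}

theorem d_ιMulti_eq_zero (ω : Fin n → L) (ι : KaehlerDifferential A B →ₗ[B] L)
    (d : ∀ p : ℕ, ↥(⋀[B]^p L) →ₗ[A] ↥(⋀[B]^(p + 1) L))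
    (hd : LogDiff.IsLogRule (KaehlerDifferential.D A B) ι ω d) (p : ℕ) (v : Fin p → L)
    (hv : ∀ k, (∃ b, v k = ι (KaehlerDifferential.D A B b)) ∨ ∃ i, v k = ω i) :
    d p (ιMulti B p v) = 0 := by
  have := hd p 1 v hv
  rw [one_smul] at this
  rw [this]
  apply (ιMulti B (p + 1)).map_coord_zero 0
  simp

theorem nablas_mem_layer {lam : B} {t : Fin n → B} {nabla : E →ₗ[A] E ⊗[B] L}
    {ω : Module.Basis (Fin n) B L} {pd : Fin n → B → B}
    (S : Sys lam t (LogConn.comp nabla ω) pd)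
    (hcomm : ∀ i j e, LogConn.comp nabla ω i (LogConn.comp nabla ω j e) =
      LogConn.comp nabla ω j (LogConn.comp nabla ω i e))
    (d : ∀ p : ℕ, ↥(⋀[B]^p L) →ₗ[A] ↥(⋀[B]^(p + 1) L))
    (nablas : ∀ p : ℕ, E ⊗[B] ↥(⋀[B]^p L) →ₗ[A] E ⊗[B] ↥(⋀[B]^(p + 1) L))
    (hrule : Conn.IsCxRule nabla d nablas) (p : ℕ)
    (hd : ∀ K : Set.powersetCard (Fin n) p,
      d p (ιMulti B p (ω ∘ (Set.powersetCard.ofFinEmbEquiv.symm K))) = 0)
    {x : E ⊗[B] ↥(⋀[B]^p L)} (hx : x ∈ LogConn.layer nabla ω t p) :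
    nablas p x ∈ LogConn.layer nabla ω t (p + 1) := by
  classical
  have hx' := (mem_layer_iff nabla ω t p x).1 hx
  rw [← sum_cE_tmul (ω.exteriorPower p) x, map_sum]
  refine Submodule.sum_mem _ fun K _ => ?_
  have hK := hx' K
  set y := cE (ω.exteriorPower p) K x with hy
  rw [basis_apply, ιMulti_family, nablas_tmul_ιMulti nabla ω d nablas hrule p y _ (hd K)]
  refine Submodule.sum_mem _ fun i _ => ?_
  rw [mem_layer_iff]
  intro K'
  rw [cE_tmul]
  by_cases h : (K' : Finset (Fin n)) ⊆ insert i (K : Finset (Fin n))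
  · have hc1 : (K' : Finset (Fin n)).card = p + 1 := K'.prop
    have hc2 : (K : Finset (Fin n)).card = p := K.prop
    have hc3 := Finset.card_insert_le i (K : Finset (Fin n))
    have heq : (K' : Finset (Fin n)) = insert i (K : Finset (Fin n)) :=
      Finset.eq_of_subset_of_card_le h (by omega)
    have hiK : i ∉ (K : Finset (Fin n)) := by
      intro hi
      rw [Finset.insert_eq_of_mem hi] at heq
      rw [heq] at hc1
      omega
    rw [heq]
    exact S.smul_mem_pc _ _ (S.N_pc_insert hcomm hiK hK)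
  · obtain ⟨k, hkK', hk⟩ := Finset.not_subset.1 h
    rw [coord_ιMulti_eq_zero_of_col ω (p + 1) K' _ hkK' (fun r => by
      have hki : k ≠ i := fun hh => hk (by simp [hh])
      have hkK : k ∉ (K : Finset (Fin n)) := fun hh => hk (by simp [hh])
      induction r using Fin.cases with
      | zero =>
        rw [Fin.cons_zero, Module.Basis.coord_apply, Module.Basis.repr_self,
          Finsupp.single_apply, if_neg (Ne.symm hki)]
      | succ r =>
        rw [Fin.cons_succ, Function.comp_apply, Module.Basis.coord_apply, Module.Basis.repr_self,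
          Finsupp.single_apply, if_neg]
        intro hh
        apply hkK
        rw [← hh]
        exact emb_mem p K r), zero_smul]
    exact Submodule.zero_mem _

end s16797


section change
variable {A : Type v} {B E : Type u} [CommRing A] [CommRing B]
    [Algebra A B]
    [AddCommGroup E] [Module B E] [Module A E] [IsScalarTower A B E]
variable {n : ℕ} {N : Fin n → E →ₗ[A] E} {t : Fin n → B} {lam : B} {pd : Fin n → B → B}

theorem cP_mem_of_rel (S : Sys lam t N pd) (hcomm : ∀ i j e, N i (N j e) = N j (N i e))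
    {N' : Fin n → E →ₗ[A] E} (c : Fin n → Fin n → B)
    (hN' : ∀ i e, N' i e = N i e + t i • ∑ j, c i j • N j e) (J : Finset (Fin n)) :
    ∀ e : E, cP N' J e ∈ pc N t J := by
  classical
  induction J using Finset.induction_on_min with
  | empty =>
    intro e
    have := mem_pc N t (Finset.Subset.refl (∅ : Finset (Fin n))) e
    simpa using this
  | insert j J h ih =>
    intro e
    have hj : j ∉ J := fun hj => lt_irrefl _ (h j hj)
    rw [cP_insert_lt N' h, LinearMap.comp_apply, hN']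
    refine Submodule.add_mem _ (S.N_pc_insert hcomm hj (ih e)) (t_smul_pc hj ?_)
    refine Submodule.sum_mem _ fun m _ => ?_
    exact S.smul_mem_pc _ _ (S.N_pc hcomm m (ih e))

theorem pc_le_of_rel (S : Sys lam t N pd) (hcomm : ∀ i j e, N i (N j e) = N j (N i e))
    {N' : Fin n → E →ₗ[A] E} {t' : Fin n → B} (c : Fin n → Fin n → B)
    (hN' : ∀ i e, N' i e = N i e + t i • ∑ j, c i j • N j e)
    (u : Fin n → B) (ht' : ∀ i, t' i = u i * t i) (I : Finset (Fin n)) :
    pc N' t' I ≤ pc N t I := by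
  refine pc_le N' t' fun J hJ e => ?_
  have h1 : (∏ i ∈ I \ J, t' i) = (∏ i ∈ I \ J, u i) * ∏ i ∈ I \ J, t i := by
    rw [← Finset.prod_mul_distrib]
    exact Finset.prod_congr rfl fun i _ => ht' i
  rw [h1, mul_smul]
  exact S.smul_mem_pc _ _ (prod_smul_pc hJ (cP_mem_of_rel S hcomm c hN' J e))

end change


section change2
variable {A : Type v} {B L E : Type u} [CommRing A] [CommRing B]
    [Algebra A B] [AddCommGroup L] [Module B L] [Module A L] [IsScalarTower A B L]
    [AddCommGroup E] [Module B E] [Module A E] [IsScalarTower A B E] {n : ℕ}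

theorem comp_change (nabla : E →ₗ[A] E ⊗[B] L) (ω ω' : Module.Basis (Fin n) B L) (i : Fin n)
    (e : E) :
    LogConn.comp nabla ω' i e = ∑ j, ω'.coord i (ω j) • LogConn.comp nabla ω j e := by
  change cE ω' i (nabla e) = _
  rw [nabla_eq_sum nabla ω e, map_sum]
  simp only [cE_tmul]

theorem layer_le_of_rel {lam : B} {nabla : E →ₗ[A] E ⊗[B] L} {ω ω' : Module.Basis (Fin n) B L}
    {t t' : Fin n → B} {pd : Fin n → B → B}
    (S : Sys lam t (LogConn.comp nabla ω) pd)
    (hcomm : ∀ i j e, LogConn.comp nabla ω i (LogConn.comp nabla ω j e) =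
      LogConn.comp nabla ω j (LogConn.comp nabla ω i e))
    (H : ∀ i j, ∃ c, ω'.coord i (ω j) = (if i = j then 1 else 0) + t i * c)
    (H' : ∀ i j, ∃ c, ω.coord i (ω' j) = (if i = j then 1 else 0) + t i * c)
    (u : Fin n → B) (ht' : ∀ i, t' i = u i * t i) (p : ℕ) :
    LogConn.layer nabla ω' t' p ≤ LogConn.layer nabla ω t p := by
  classical
  choose c hc using H
  have hN' : ∀ i e, LogConn.comp nabla ω' i e =
      LogConn.comp nabla ω i e + t i • ∑ j, c i j • LogConn.comp nabla ω j e := by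
    intro i e
    rw [comp_change nabla ω ω' i e]
    simp only [hc, add_smul, Finset.sum_add_distrib, ite_smul, one_smul, zero_smul,
      Finset.sum_ite_eq, Finset.mem_univ, if_true, mul_smul, Finset.smul_sum]
  have hpc := pc_le_of_rel S hcomm c hN' u ht'
  intro x hx
  rw [mem_layer_iff] at hx ⊢
  intro K''
  rw [← sum_cE_tmul (ω'.exteriorPower p) x, map_sum]
  refine Submodule.sum_mem _ fun K _ => ?_
  have hy := hpc _ (hx K)
  rw [cE_tmul, basis_apply, ιMulti_family]
  obtain ⟨c0, hc0⟩ := coord_ιMulti_dvd ω p K'' (K : Finset (Fin n)) t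
    (ω' ∘ (Set.powersetCard.ofFinEmbEquiv.symm K)) (fun r k hk hkK => by
      obtain ⟨c1, hc1⟩ := H' k (Set.powersetCard.ofFinEmbEquiv.symm K r)
      refine ⟨c1, ?_⟩
      rw [Function.comp_apply, hc1, if_neg, zero_add]
      rintro rfl
      exact hkK (emb_mem p K r))
  rw [hc0, mul_comm, mul_smul]
  refine S.smul_mem_pc _ _ ?_
  have h1 := prod_smul_pc (N := LogConn.comp nabla ω) (t := t)
    (Finset.subset_union_left (s₁ := (K : Finset (Fin n))) (s₂ := (K'' : Finset (Fin n)))) hy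
  rw [Finset.union_sdiff_left] at h1
  exact S.pc_anti hcomm Finset.subset_union_right h1

end change2


section s16798
variable {A : Type v} {B L E : Type u} [CommRing A] [CommRing B]
    [Algebra A B] [AddCommGroup L] [Module B L] [Module A L] [IsScalarTower A B L]
    [AddCommGroup E] [Module B E] [Module A E] [IsScalarTower A B E] {n : ℕ}

theorem d_unit_eq_zero (ω : Fin n → L) (ι : KaehlerDifferential A B →ₗ[B] L)
    (d : ∀ p : ℕ, ↥(⋀[B]^p L) →ₗ[A] ↥(⋀[B]^(p + 1) L))
    (hd : LogDiff.IsLogRule (KaehlerDifferential.D A B) ι ω d) (u : Bˣ) :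
    d 1 (ιMulti B 1 (fun _ => ((u⁻¹ : Bˣ) : B) • ι (KaehlerDifferential.D A B (u : B)))) = 0 := by
  have h1 : ιMulti B 1 (fun _ => ((u⁻¹ : Bˣ) : B) • ι (KaehlerDifferential.D A B (u : B))) =
      ((u⁻¹ : Bˣ) : B) • ιMulti B 1 (fun _ => ι (KaehlerDifferential.D A B (u : B))) := by
    rw [← oneEquiv_symm_apply, ← oneEquiv_symm_apply, map_smul]
  rw [h1, hd 1 _ _ (fun k => Or.inl ⟨(u : B), rfl⟩)]
  have h2 : KaehlerDifferential.D A B ((u⁻¹ : Bˣ) : B) =
      -((u⁻¹ : Bˣ) : B) ^ 2 • KaehlerDifferential.D A B (u : B) :=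
    Derivation.leibniz_of_mul_eq_one _ (Units.inv_mul u)
  rw [h2, map_smul, ← wedge_cons, map_smul, map_smul, LinearMap.smul_apply, wedge_cons]
  have : ιMulti B 2 (Fin.cons (ι (KaehlerDifferential.D A B (u : B)))
      (fun _ => ι (KaehlerDifferential.D A B (u : B)))) = 0 :=
    (ιMulti B 2).map_eq_zero_of_eq _ (i := 0) (j := 1) (by simp) (by decide)
  rw [this, smul_zero]

theorem layer_eq_of_units (lam : B) (t : Fin n → B)
    (bΩ : Module.Basis (Fin n) B (KaehlerDifferential A B))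
    (hbΩ : ∀ i, bΩ i = KaehlerDifferential.D A B (t i))
    (ω : Module.Basis (Fin n) B L) (ι : KaehlerDifferential A B →ₗ[B] L)
    (hι : ∀ i, ι (KaehlerDifferential.D A B (t i)) = t i • ω i)
    (nabla : E →ₗ[A] E ⊗[B] L)
    (hc : Conn.IsLamConn (ι.compDer (KaehlerDifferential.D A B)) lam nabla)
    (d : ∀ p : ℕ, ↥(⋀[B]^p L) →ₗ[A] ↥(⋀[B]^(p + 1) L))
    (hd : LogDiff.IsLogRule (KaehlerDifferential.D A B) ι (⇑ω) d)
    (nablas : ∀ p : ℕ, E ⊗[B] ↥(⋀[B]^p L) →ₗ[A] E ⊗[B] ↥(⋀[B]^(p + 1) L))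
    (hint : Conn.IsIntegrable nabla (fun p => lam • d p) nablas)
    (u : Fin n → Bˣ) (bΩ' : Module.Basis (Fin n) B (KaehlerDifferential A B))
    (hbΩ' : ∀ i, bΩ' i = KaehlerDifferential.D A B ((u i : B) * t i))
    (ω' : Module.Basis (Fin n) B L)
    (hω' : ∀ i, ω' i = ω i + ((u i)⁻¹ : Bˣ).val • ι (KaehlerDifferential.D A B (u i : B)))
    (p : ℕ) :
    LogConn.layer nabla ω t p = LogConn.layer nabla ω' (fun i => (u i : B) * t i) p := by
  classical
  set t' : Fin n → B := fun i => (u i : B) * t i with ht'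
  have huu : ∀ i, (u i : B) * ((u i)⁻¹ : Bˣ).val = 1 := fun i => Units.mul_inv (u i)
  have hι' : ∀ i, ι (KaehlerDifferential.D A B (t' i)) = t' i • ω' i := by
    intro i
    simp only [ht', Derivation.leibniz, map_add, map_smul, hι, hω', smul_add, smul_smul]
    congr 1
    congr 1
    linear_combination (-(t i)) * huu i
  have S := sys_of lam t bΩ hbΩ ω ι hι nabla hc
  have S' := sys_of lam t' bΩ' hbΩ' ω' ι hι' nabla hc
  have hdω : ∀ i, (lam • d 1) (ιMulti B 1 (fun _ => ω i)) = 0 := by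
    intro i
    rw [LinearMap.smul_apply, d_ιMulti_eq_zero (⇑ω) ι d hd 1 _ (fun k => Or.inr ⟨i, rfl⟩),
      smul_zero]
  have hdω' : ∀ i, (lam • d 1) (ιMulti B 1 (fun _ => ω' i)) = 0 := by
    intro i
    have h1 : ιMulti B 1 (fun _ => ω' i) = ιMulti B 1 (fun _ => ω i) +
        ιMulti B 1 (fun _ => ((u i)⁻¹ : Bˣ).val • ι (KaehlerDifferential.D A B (u i : B))) := by
      rw [← oneEquiv_symm_apply, ← oneEquiv_symm_apply, ← oneEquiv_symm_apply, hω', map_add]
    rw [LinearMap.smul_apply, h1, map_add,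
      d_ιMulti_eq_zero (⇑ω) ι d hd 1 _ (fun k => Or.inr ⟨i, rfl⟩),
      d_unit_eq_zero (⇑ω) ι d hd (u i), add_zero, smul_zero]
  have hcomm := comp_comm nabla ω (fun p => lam • d p) nablas hint hdω
  have hcomm' := comp_comm nabla ω' (fun p => lam • d p) nablas hint hdω'
  have hωj : ∀ j, ω j = ω' j - ((u j)⁻¹ : Bˣ).val • ι (KaehlerDifferential.D A B (u j : B)) := by
    intro j; rw [hω']; abel
  have H : ∀ i j, ∃ c, ω'.coord i (ω j) = (if i = j then 1 else 0) + t i * c := by
    intro i j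
    refine ⟨-(((u j)⁻¹ : Bˣ).val * bΩ'.repr (KaehlerDifferential.D A B (u j : B)) i * (u i : B)), ?_⟩
    rw [hωj, map_sub, map_smul, coord_iota t' bΩ' hbΩ' ω' ι hι', Module.Basis.coord_apply,
      Module.Basis.repr_self, Finsupp.single_apply, smul_eq_mul]
    simp only [ht', eq_comm]
    ring
  have H' : ∀ i j, ∃ c, ω.coord i (ω' j) = (if i = j then 1 else 0) + t i * c := by
    intro i j
    refine ⟨((u j)⁻¹ : Bˣ).val * bΩ.repr (KaehlerDifferential.D A B (u j : B)) i, ?_⟩
    rw [hω', map_add, map_smul, coord_iota t bΩ hbΩ ω ι hι, Module.Basis.coord_apply,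
      Module.Basis.repr_self, Finsupp.single_apply, smul_eq_mul]
    simp only [eq_comm]
    ring
  have htt : ∀ i, t i = ((u i)⁻¹ : Bˣ).val * t' i := by
    intro i
    simp only [ht']
    linear_combination (-(t i)) * huu i
  apply le_antisymm
  · refine layer_le_of_rel S' hcomm' (fun i j => ?_) (fun i j => ?_)
      (fun i => ((u i)⁻¹ : Bˣ).val) htt p
    · obtain ⟨c, hc⟩ := H' i j
      exact ⟨((u i)⁻¹ : Bˣ).val * c, by rw [hc, htt i]; ring⟩
    · obtain ⟨c, hc⟩ := H i j
      exact ⟨((u i)⁻¹ : Bˣ).val * c, by rw [hc, htt i]; ring⟩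
  · exact layer_le_of_rel S hcomm H H' (fun i => (u i : B)) (fun i => rfl) p

end s16798


end Groth.Agent.Lib.helper25.LogD
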