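import Groth.Prelude.Def_GSzMilK
import Mathlib

/-!
# Milnor K-theory: basic calculus of symbols (helper25)

Core lemmas on `MilK.K F n`: multilinearity of symbols, induction on symbols, the abstract
Steinberg calculus ({a,-a}=0, antisymmetry), sign under permutations, left multiplication by a
unit `lmul`.
-/

set_option autoImplicit false
universe u v w

namespace Groth.Agent.Lib.helper25.MilKA

open MilK

section Basic

variable {F : Type u} [Field F]

/-- the symbol as a `ℤ`-multilinear map. -/
noncomputable def symML (n : ℕ) : MultilinearMap ℤ (fun _ : Fin n => Additive Fˣ) (K F n) :=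
  (mk F n).toIntLinearMap.compMultilinearMap (PiTensorProduct.tprod ℤ)

lemma symML_apply {n : ℕ} (x : Fin n → Additive Fˣ) :
    symML n x = symbol fun i => (x i).toMul := rfl

lemma symbol_eq_symML {n : ℕ} (x : Fin n → Fˣ) :
    symbol x = symML n fun i => Additive.ofMul (x i) := rfl

lemma symbol_update_mul {n : ℕ} (x : Fin n → Fˣ) (i : Fin n) (a b : Fˣ) :
    symbol (Function.update x i (a * b)) =
      symbol (Function.update x i a) + symbol (Function.update x i b) := by
  classical
  have key : ∀ c : Fˣ, (fun j => (Function.update (fun j => Additive.ofMul (x j)) i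
      (Additive.ofMul c) j).toMul) = Function.update x i c := by
    intro c
    funext j
    by_cases hj : j = i
    · subst hj; simp
    · simp [Function.update_of_ne hj]
  have h := (symML (F := F) n).map_update_add (fun j => Additive.ofMul (x j)) i
    (Additive.ofMul a) (Additive.ofMul b)
  simp only [symML_apply] at h
  rw [← ofMul_mul, key, key, key] at h
  exact h

lemma symbol_update_one {n : ℕ} (x : Fin n → Fˣ) (i : Fin n) :
    symbol (Function.update x i 1) = 0 := by
  have h := symbol_update_mul x i 1 1
  rw [mul_one] at h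
  exact left_eq_add.mp h

lemma symbol_eq_zero_of_eq_one {n : ℕ} (x : Fin n → Fˣ) (i : Fin n) (h : x i = 1) :
    symbol x = 0 := by
  have := symbol_update_one x i
  rwa [← h, Function.update_eq_self] at this

lemma symbol_update_inv {n : ℕ} (x : Fin n → Fˣ) (i : Fin n) (a : Fˣ) :
    symbol (Function.update x i a⁻¹) = - symbol (Function.update x i a) := by
  have h := symbol_update_mul x i a a⁻¹
  rw [mul_inv_cancel, symbol_update_one] at h
  exact eq_neg_of_add_eq_zero_right h.symm

lemma symbol_update_pow {n : ℕ} (x : Fin n → Fˣ) (i : Fin n) (a : Fˣ) (k : ℕ) :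
    symbol (Function.update x i (a ^ k)) = k • symbol (Function.update x i a) := by
  induction k with
  | zero => simp [symbol_update_one]
  | succ k ih => rw [pow_succ, symbol_update_mul, ih, succ_nsmul]

lemma symbol_update_zpow {n : ℕ} (x : Fin n → Fˣ) (i : Fin n) (a : Fˣ) (k : ℤ) :
    symbol (Function.update x i (a ^ k)) = k • symbol (Function.update x i a) := by
  obtain ⟨k, rfl | rfl⟩ := k.eq_nat_or_neg
  · simp [symbol_update_pow]
  · rw [zpow_neg, symbol_update_inv, zpow_natCast, symbol_update_pow, neg_smul, natCast_zsmul]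

/-- symbols generate `K F n`. -/
lemma closure_symbols (n : ℕ) :
    AddSubgroup.closure (Set.range (symbol : (Fin n → Fˣ) → K F n)) = ⊤ := by
  have key : ∀ t : T F n, mk F n t ∈
      AddSubgroup.closure (Set.range (symbol : (Fin n → Fˣ) → K F n)) := by
    intro t
    induction t using PiTensorProduct.induction_on with
    | smul_tprod r f =>
      rw [map_zsmul]
      apply AddSubgroup.zsmul_mem
      apply AddSubgroup.subset_closure
      exact ⟨fun i => (f i).toMul, rfl⟩
    | add x y hx hy =>
      rw [map_add]; exact AddSubgroup.add_mem _ hx hy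
  rw [eq_top_iff]
  intro a _
  obtain ⟨t, rfl⟩ := mk_surjective F n a
  exact key t

/-- induction principle: a property of elements of `K F n` closed under `0`, `+`, `-` and holding
for symbols holds for everything. -/
@[elab_as_elim]
lemma K_induction {n : ℕ} {P : K F n → Prop} (h0 : P 0) (hs : ∀ x : Fin n → Fˣ, P (symbol x))
    (hadd : ∀ a b, P a → P b → P (a + b)) (hneg : ∀ a, P a → P (-a)) (a : K F n) : P a := by
  have : a ∈ AddSubgroup.closure (Set.range (symbol : (Fin n → Fˣ) → K F n)) := by
    rw [closure_symbols]; trivial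
  induction this using AddSubgroup.closure_induction with
  | mem x hx => obtain ⟨y, rfl⟩ := hx; exact hs y
  | zero => exact h0
  | add x y _ _ hx hy => exact hadd x y hx hy
  | neg x _ hx => exact hneg x hx

/-- two additive maps out of `K F n` agreeing on symbols are equal. -/
lemma hom_ext {n : ℕ} {M : Type w} [AddCommGroup M] {f g : K F n →+ M}
    (h : ∀ x : Fin n → Fˣ, f (symbol x) = g (symbol x)) : f = g := by
  ext a
  induction a using K_induction with
  | h0 => simp
  | hs x => exact h x
  | hadd a b ha hb => rw [map_add, map_add, ha, hb]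
  | hneg a ha => rw [map_neg, map_neg, ha]

end Basic

section AbstractSteinberg

variable {F : Type u} [Field F] {M : Type w} [AddCommGroup M]

/-- A bimultiplicative Steinberg pairing. -/
structure IsStPair (B : Fˣ → Fˣ → M) : Prop where
  mul_left : ∀ a a' b, B (a * a') b = B a b + B a' b
  mul_right : ∀ a b b', B a (b * b') = B a b + B a b'
  steinberg : ∀ a b : Fˣ, (a : F) + (b : F) = 1 → B a b = 0

namespace IsStPair

variable {B : Fˣ → Fˣ → M} (hB : IsStPair B)
include hB

lemma one_left (b : Fˣ) : B 1 b = 0 := by
  have := hB.mul_left 1 1 b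
  rw [mul_one] at this
  exact left_eq_add.mp this

lemma one_right (a : Fˣ) : B a 1 = 0 := by
  have := hB.mul_right a 1 1
  rw [mul_one] at this
  exact left_eq_add.mp this

lemma inv_left (a b : Fˣ) : B a⁻¹ b = - B a b := by
  have := hB.mul_left a a⁻¹ b
  rw [mul_inv_cancel, hB.one_left] at this
  exact eq_neg_of_add_eq_zero_right this.symm

lemma inv_right (a b : Fˣ) : B a b⁻¹ = - B a b := by
  have := hB.mul_right a b b⁻¹
  rw [mul_inv_cancel, hB.one_right] at this
  exact eq_neg_of_add_eq_zero_right this.symm

lemma neg_self (a : Fˣ) : B a (-a) = 0 := by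
  by_cases h1 : a = 1
  · subst h1; exact hB.one_left _
  · have hne : (1 : F) - (a : F) ≠ 0 := by
      intro h; apply h1; ext; push_cast; linear_combination -h
    have hne' : (1 : F) - ((a⁻¹ : Fˣ) : F) ≠ 0 := by
      intro h; apply h1
      have : (a⁻¹ : Fˣ) = 1 := by ext; rw [Units.val_one]; linear_combination -h
      simpa using this
    set u : Fˣ := Units.mk0 _ hne with hu
    set v : Fˣ := Units.mk0 _ hne' with hv
    have huv : -a = u * v⁻¹ := by
      ext
      simp only [Units.val_neg, Units.val_mul, Units.val_inv_eq_inv_val, hu, hv, Units.val_mk0]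
      have ha : (a : F) ≠ 0 := a.ne_zero
      have hv' : (1 : F) - (a : F)⁻¹ ≠ 0 := by simpa using hne'
      have hv2 : (a : F) - 1 ≠ 0 := by intro h; apply hne; linear_combination -h
      have : (1 : F) - (a : F)⁻¹ = ((a : F) - 1) / a := by field_simp
      rw [this]
      field_simp
      ring
    rw [huv, hB.mul_right, hB.inv_right]
    have e1 : B a u = 0 := hB.steinberg a u (by simp [hu])
    have e2 : B a⁻¹ v = 0 := hB.steinberg a⁻¹ v (by simp [hv])
    rw [hB.inv_left] at e2
    rw [e1, neg_eq_zero.mp e2]; simp

lemma antisymm (a b : Fˣ) : B a b + B b a = 0 := by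
  have h := hB.neg_self (a * b)
  have e : -(a * b) = (-a) * b := by simp
  have e' : -(a * b) = a * (-b) := by simp
  rw [hB.mul_left] at h
  nth_rewrite 1 [e] at h
  rw [e', hB.mul_right, hB.mul_right, hB.neg_self, hB.neg_self] at h
  simpa using h

lemma swap (a b : Fˣ) : B b a = - B a b := by
  have := hB.antisymm a b
  exact eq_neg_of_add_eq_zero_right this

lemma two_neg_one_right (a : Fˣ) : B a (-1) + B a (-1) = 0 := by
  have := hB.mul_right a (-1) (-1)
  rw [show (-1 : Fˣ) * (-1) = 1 by simp, hB.one_right] at this
  exact this.symm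

lemma self (a : Fˣ) : B a a = B a (-1) := by
  have h := hB.neg_self a
  have e : -a = a * (-1) := by simp
  rw [e, hB.mul_right] at h
  have h2 := hB.two_neg_one_right a
  have : B a a = - B a (-1 : Fˣ) := eq_neg_of_add_eq_zero_left h
  rw [this]; exact (eq_neg_of_add_eq_zero_left h2).symm

lemma self_neg (a : Fˣ) : B (-a) a = 0 := by
  rw [hB.swap, hB.neg_self, neg_zero]

lemma two_neg_one_left (a : Fˣ) : B (-1) a + B (-1) a = 0 := by
  have := hB.mul_left (-1) (-1) a
  rw [show (-1 : Fˣ) * (-1) = 1 by simp, hB.one_left] at this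
  exact this.symm

lemma self' (a : Fˣ) : B a a = B (-1) a := by
  rw [hB.self, hB.swap (-1) a]
  exact (eq_neg_of_add_eq_zero_left (hB.two_neg_one_left a)).symm

end IsStPair

end AbstractSteinberg

open MilK

section Positions

variable {F : Type u} [Field F]

lemma update_update_isSteinberg {n : ℕ} (x : Fin n → Fˣ) {i j : Fin n} (hij : i < j) (a b : Fˣ)
    (h : (a : F) + (b : F) = 1) :
    IsSteinberg F (Function.update (Function.update x i a) j b) := by
  refine ⟨i, j, hij, ?_⟩
  rw [Function.update_self, Function.update_of_ne hij.ne, Function.update_self]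
  exact h

/-- The pairing obtained by varying two slots `i < j` of a symbol. -/
lemma isStPair_update {n : ℕ} (x : Fin n → Fˣ) {i j : Fin n} (hij : i < j) :
    IsStPair (fun a b : Fˣ => (symbol (Function.update (Function.update x i a) j b) : K F n)) := by
  refine ⟨?_, ?_, ?_⟩
  · intro a a' b
    have hne : i ≠ j := hij.ne
    simp only [Function.update_comm hne _ _ x]
    exact symbol_update_mul _ i a a'
  · intro a b b'
    exact symbol_update_mul _ j b b'
  · intro a b h
    exact symbol_eq_zero_of_isSteinberg _ (update_update_isSteinberg x hij a b h)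

lemma eq_update_update {n : ℕ} (x : Fin n → Fˣ) (i j : Fin n) :
    x = Function.update (Function.update x i (x i)) j (x j) := by
  simp

/-- a symbol with entries `a` and `-a` vanishes. -/
lemma symbol_eq_zero_of_eq_neg {n : ℕ} (x : Fin n → Fˣ) {i j : Fin n} (hij : i ≠ j)
    (h : x j = - x i) : symbol x = 0 := by
  rcases lt_or_gt_of_ne hij with h1 | h1
  · have := (isStPair_update x h1).neg_self (x i)
    rwa [← h, ← eq_update_update] at this
  · have h' : x i = - x j := by rw [h, neg_neg]
    have := (isStPair_update x h1).neg_self (x j)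
    rwa [← h', ← eq_update_update] at this

/-- swapping two entries negates a symbol. -/
lemma symbol_swap {n : ℕ} (x : Fin n → Fˣ) {i j : Fin n} (hij : i ≠ j) :
    symbol (x ∘ Equiv.swap i j) = - symbol x := by
  wlog h1 : i < j generalizing i j
  · have h2 : j < i := lt_of_le_of_ne (not_lt.mp h1) hij.symm
    rw [Equiv.swap_comm]
    exact this hij.symm h2
  have key : x ∘ Equiv.swap i j = Function.update (Function.update x i (x j)) j (x i) := by
    funext k
    simp only [Function.comp_apply]
    by_cases hk : k = i
    · subst hk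
      rw [Equiv.swap_apply_left, Function.update_of_ne hij, Function.update_self]
    · by_cases hk' : k = j
      · subst hk'
        rw [Equiv.swap_apply_right, Function.update_self]
      · rw [Equiv.swap_apply_of_ne_of_ne hk hk', Function.update_of_ne hk',
          Function.update_of_ne hk]
  rw [key]
  have := (isStPair_update x h1).swap (x i) (x j)
  rw [this, ← eq_update_update]

/-- a symbol changes by the sign under a permutation of its entries. -/
lemma symbol_perm {n : ℕ} (x : Fin n → Fˣ) (σ : Equiv.Perm (Fin n)) :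
    symbol (x ∘ σ) = ((Equiv.Perm.sign σ : ℤˣ) : ℤ) • symbol x := by
  induction σ using Equiv.Perm.swap_induction_on generalizing x with
  | one => simp
  | swap_mul σ i j hij ih =>
    have : x ∘ ⇑(Equiv.swap i j * σ) = (x ∘ Equiv.swap i j) ∘ σ := by
      funext k; simp
    rw [this, ih, symbol_swap x hij, Equiv.Perm.sign_mul, Equiv.Perm.sign_swap hij]
    simp

/-- if two entries coincide, one of them may be replaced by `-1`. -/
lemma symbol_eq_of_eq {n : ℕ} (x : Fin n → Fˣ) {i j : Fin n} (hij : i ≠ j) (h : x i = x j) :
    symbol x = symbol (Function.update x j (-1)) := by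
  rcases lt_or_gt_of_ne hij with h1 | h1
  · have := (isStPair_update x h1).self (x i)
    nth_rewrite 2 [h] at this
    rw [← eq_update_update] at this
    rw [this]
    congr 1
    rw [Function.update_eq_self]
  · have h2 := (isStPair_update x h1).self' (x j)
    nth_rewrite 2 [← h] at h2
    rw [← eq_update_update] at h2
    rw [h2]
    congr 1
    rw [Function.update_comm hij.symm, ← h, Function.update_eq_self]

end Positions


open MilK

section LMul

variable {F : Type u} [Field F]

lemma isSteinberg_cons {n : ℕ} (y : Fˣ) (x : Fin n → Fˣ) (h : IsSteinberg F x) :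
    IsSteinberg F (Fin.cons y x : Fin (n + 1) → Fˣ) := by
  obtain ⟨i, j, hij, h⟩ := h
  exact ⟨i.succ, j.succ, Fin.succ_lt_succ_iff.mpr hij, by simpa using h⟩

lemma cons_ofMul {n : ℕ} (y : Fˣ) (x : Fin n → Fˣ) :
    (fun i => ((Fin.cons (Additive.ofMul y) (fun i => Additive.ofMul (x i)) :
      Fin (n + 1) → Additive Fˣ) i).toMul) = Fin.cons y x := by
  funext i
  refine Fin.cases ?_ (fun i => ?_) i <;> simp

/-- left multiplication by the symbol `{y}`: `{x₁,…,xₙ} ↦ {y,x₁,…,xₙ}`. -/
noncomputable def lmul (y : Fˣ) (n : ℕ) : K F n →+ K F (n + 1) :=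
  lift ((symML (F := F) (n + 1)).curryLeft (Additive.ofMul y)) (by
    intro x hx
    rw [MultilinearMap.curryLeft_apply, symML_apply, cons_ofMul]
    exact symbol_eq_zero_of_isSteinberg _ (isSteinberg_cons y x hx))

@[simp]
lemma lmul_symbol (y : Fˣ) {n : ℕ} (x : Fin n → Fˣ) :
    lmul y n (symbol x) = symbol (Fin.cons y x) := by
  rw [lmul, lift_symbol, MultilinearMap.curryLeft_apply, symML_apply, cons_ofMul]

lemma symbol_cons_mul {n : ℕ} (y z : Fˣ) (x : Fin n → Fˣ) :
    (symbol (Fin.cons (y * z) x) : K F (n + 1)) = symbol (Fin.cons y x) + symbol (Fin.cons z x) := by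
  have h := symbol_update_mul (Fin.cons y x : Fin (n + 1) → Fˣ) 0 y z
  simpa using h

lemma lmul_mul (y z : Fˣ) {n : ℕ} (a : K F n) : lmul (y * z) n a = lmul y n a + lmul z n a := by
  induction a using K_induction with
  | h0 => simp
  | hs x => simp only [lmul_symbol]; exact symbol_cons_mul y z x
  | hadd a b ha hb => rw [map_add, map_add, map_add, ha, hb]; abel
  | hneg a ha => rw [map_neg, map_neg, map_neg, ha]; abel

lemma lmul_one {n : ℕ} (a : K F n) : lmul (1 : Fˣ) n a = 0 := by
  have := lmul_mul (1 : Fˣ) 1 a
  rw [mul_one] at this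
  exact left_eq_add.mp this

lemma lmul_inv (y : Fˣ) {n : ℕ} (a : K F n) : lmul y⁻¹ n a = - lmul y n a := by
  have := lmul_mul y y⁻¹ a
  rw [mul_inv_cancel, lmul_one] at this
  exact eq_neg_of_add_eq_zero_right this.symm

lemma lmul_zpow (y : Fˣ) (k : ℤ) {n : ℕ} (a : K F n) : lmul (y ^ k) n a = k • lmul y n a := by
  induction k using Int.induction_on with
  | zero => simp [lmul_one]
  | succ k ih => rw [zpow_add_one, lmul_mul, ih, add_smul, one_smul]
  | pred k ih => rw [zpow_sub_one, lmul_mul, ih, lmul_inv, sub_smul, one_smul, sub_eq_add_neg]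

/-- `lmul` as an additive map in the unit. -/
noncomputable def lmulHom (n : ℕ) : Additive Fˣ →+ (K F n →+ K F (n + 1)) where
  toFun y := lmul y.toMul n
  map_zero' := by ext a; exact lmul_one a
  map_add' y z := by ext a; exact lmul_mul y.toMul z.toMul a

lemma lmul_lmul_swap (y z : Fˣ) {n : ℕ} (a : K F n) :
    lmul y (n + 1) (lmul z n a) = - lmul z (n + 1) (lmul y n a) := by
  induction a using K_induction with
  | h0 => simp
  | hs x =>
    simp only [lmul_symbol]
    have h := symbol_swap (Fin.cons z (Fin.cons y x) : Fin (n + 1 + 1) → Fˣ)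
      (i := 0) (j := 1) (by simp)
    rw [← h]
    congr 1
    funext k
    refine Fin.cases ?_ (fun k => ?_) k
    · simp
    · refine Fin.cases ?_ (fun k => ?_) k
      · simp [show (Fin.succ (0 : Fin (n + 1))) = 1 from rfl]
      · have h1 : (k.succ.succ : Fin (n + 1 + 1)) ≠ 0 := Fin.succ_ne_zero _
        have h2 : (k.succ.succ : Fin (n + 1 + 1)) ≠ 1 := by
          intro h; rw [show (1 : Fin (n + 1 + 1)) = Fin.succ 0 from rfl] at h
          exact Fin.succ_ne_zero _ (Fin.succ_injective _ h)
        simp [Equiv.swap_apply_of_ne_of_ne h1 h2]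
  | hadd a b ha hb => simp only [map_add, ha, hb]; abel
  | hneg a ha => simp only [map_neg, ha]

lemma lmul_lmul_neg (y : Fˣ) {n : ℕ} (a : K F n) :
    lmul y (n + 1) (lmul (-y) n a) = 0 := by
  induction a using K_induction with
  | h0 => simp
  | hs x =>
    simp only [lmul_symbol]
    refine symbol_eq_zero_of_eq_neg _ (i := 0) (j := 1) (by simp) ?_
    have e1 : (1 : Fin (n + 1 + 1)) = Fin.succ 0 := rfl
    rw [e1, Fin.cons_succ, Fin.cons_zero, Fin.cons_zero]
  | hadd a b ha hb => simp only [map_add, ha, hb]; abel
  | hneg a ha => simp only [map_neg, ha, neg_zero]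

lemma lmul_lmul_steinberg (y z : Fˣ) (h : (y : F) + (z : F) = 1) {n : ℕ} (a : K F n) :
    lmul y (n + 1) (lmul z n a) = 0 := by
  induction a using K_induction with
  | h0 => simp
  | hs x =>
    simp only [lmul_symbol]
    apply symbol_eq_zero_of_isSteinberg
    refine ⟨0, 1, by simp, ?_⟩
    have e1 : (1 : Fin (n + 1 + 1)) = Fin.succ 0 := rfl
    rw [e1, Fin.cons_succ, Fin.cons_zero, Fin.cons_zero]
    exact h
  | hadd a b ha hb => simp only [map_add, ha, hb]; abel
  | hneg a ha => simp only [map_neg, ha, neg_zero]

lemma lmul_lmul_self (y : Fˣ) {n : ℕ} (a : K F n) :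
    lmul y (n + 1) (lmul y n a) = lmul (-1) (n + 1) (lmul y n a) := by
  have h := lmul_lmul_neg (-y) a
  rw [neg_neg, show -y = (-1) * y by simp, lmul_mul] at h
  have h2 : lmul (-1) (n + 1) (lmul y n a) + lmul (-1) (n + 1) (lmul y n a) = 0 := by
    rw [← lmul_mul]; simp [lmul_one]
  have h3 := eq_neg_of_add_eq_zero_right h
  rw [h3]
  exact (eq_neg_of_add_eq_zero_left h2).symm

/-- comparison with the product of the prelude. -/
lemma cast_mul_symbol_one (y : Fˣ) {n : ℕ} (a : K F n) :
    cast F (Nat.add_comm 1 n) (mul F 1 n (symbol ![y]) a) = lmul y n a := by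
  induction a using K_induction with
  | h0 => simp
  | hs x =>
    rw [mul_symbol_symbol, cast_symbol, lmul_symbol]
    congr 1
    rw [Fin.append_left_eq_cons]
    funext k
    simp
  | hadd a b ha hb => simp only [map_add, ha, hb]
  | hneg a ha => simp only [map_neg, ha]

variable {E : Type v} [Field E]

lemma map_lmul (φ : F →+* E) (y : Fˣ) {n : ℕ} (a : K F n) :
    map φ (n + 1) (lmul y n a) = lmul (Units.map (φ : F →* E) y) n (map φ n a) := by
  induction a using K_induction with
  | h0 => simp
  | hs x =>
    simp only [lmul_symbol, map_symbol]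
    congr 1
    funext k
    refine Fin.cases ?_ (fun k => ?_) k <;> simp
  | hadd a b ha hb => simp only [map_add, ha, hb]
  | hneg a ha => simp only [map_neg, ha]

end LMul


open MilK

section Rotation

variable {F : Type u} [Field F]

lemma symbol_snoc {n : ℕ} (x : Fin n → Fˣ) (y : Fˣ) :
    (symbol (Fin.snoc x y : Fin (n + 1) → Fˣ) : K F (n + 1)) =
      ((-1 : ℤ) ^ n) • symbol (Fin.cons y x : Fin (n + 1) → Fˣ) := by
  have h : (Fin.snoc x y : Fin (n + 1) → Fˣ) = (Fin.cons y x : Fin (n + 1) → Fˣ) ∘ finRotate (n + 1) := by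
    rw [Fin.snoc_eq_cons_rotate]; rfl
  rw [h, symbol_perm, sign_finRotate]
  simp

/-- right multiplication by the symbol `{y}`. -/
noncomputable def rmul (y : Fˣ) (n : ℕ) : K F n →+ K F (n + 1) :=
  ((-1 : ℤ) ^ n) • lmul y n

@[simp]
lemma rmul_symbol (y : Fˣ) {n : ℕ} (x : Fin n → Fˣ) :
    rmul y n (symbol x) = symbol (Fin.snoc x y : Fin (n + 1) → Fˣ) := by
  rw [rmul, AddMonoidHom.smul_apply, lmul_symbol, symbol_snoc]

/-- closure under multiplication in each slot. -/
lemma symbol_mem_of_forall_mem_closure {n : ℕ} (T : AddSubgroup (K F n)) (P : Set Fˣ)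
    (h : ∀ x : Fin n → Fˣ, (∀ i, x i ∈ P) → symbol x ∈ T)
    (x : Fin n → Fˣ) (hx : ∀ i, x i ∈ Subgroup.closure P) : symbol x ∈ T := by
  classical
  have key : ∀ s : Finset (Fin n), ∀ x : Fin n → Fˣ, (∀ i ∈ s, x i ∈ Subgroup.closure P) →
      (∀ i, i ∉ s → x i ∈ P) → symbol x ∈ T := by
    intro s
    induction s using Finset.induction_on with
    | empty => intro x _ h2; exact h x (fun i => h2 i (Finset.notMem_empty i))
    | insert j s hj ih =>
      intro x h1 h2
      have hxj : x j ∈ Subgroup.closure P := h1 j (Finset.mem_insert_self j s)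
      have : ∀ y, y ∈ Subgroup.closure P → symbol (Function.update x j y) ∈ T := by
        intro y hy
        induction hy using Subgroup.closure_induction with
        | mem y hy =>
          apply ih
          · intro i hi
            have hij : i ≠ j := fun h => hj (h ▸ hi)
            rw [Function.update_of_ne hij]
            exact h1 i (Finset.mem_insert_of_mem hi)
          · intro i hi
            by_cases hij : i = j
            · subst hij; rw [Function.update_self]; exact hy
            · rw [Function.update_of_ne hij]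
              exact h2 i (by simp [hij, hi])
        | one => rw [symbol_update_one]; exact zero_mem _
        | mul y z _ _ hy hz => rw [symbol_update_mul]; exact add_mem hy hz
        | inv y _ hy => rw [symbol_update_inv]; exact neg_mem hy
      have h3 := this (x j) hxj
      rwa [Function.update_eq_self] at h3
  exact key Finset.univ x (fun i _ => hx i) (fun i hi => absurd (Finset.mem_univ i) hi)

end Rotation


open MilK

namespace IsStPair

variable {F : Type u} [Field F] {M : Type w} [AddCommGroup M] {B : Fˣ → Fˣ → M} (hB : IsStPair B)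
include hB

lemma div_left (a b c : Fˣ) : B (a / b) c = B a c - B b c := by
  rw [div_eq_mul_inv, hB.mul_left, hB.inv_left, sub_eq_add_neg]

lemma div_right (a b c : Fˣ) : B a (b / c) = B a b - B a c := by
  rw [div_eq_mul_inv, hB.mul_right, hB.inv_right, sub_eq_add_neg]

/-- if `a' = a + f` then `{a, a'} = {a, f} - {a', f} + {a', -1}`. -/
lemma rel_of_add_eq (a a' f : Fˣ) (h : (a : F) + (f : F) = (a' : F)) :
    B a a' = B a f - B a' f + B a' (-1) := by
  have hst : ((a / a' : Fˣ) : F) + ((f / a' : Fˣ) : F) = 1 := by
    simp only [Units.val_div_eq_div_val]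
    rw [← add_div, h, div_self a'.ne_zero]
  have h0 := hB.steinberg _ _ hst
  rw [hB.div_left, hB.div_right, hB.div_right, hB.self a'] at h0
  have : B a a' = B a f - B a' f + B a' (-1) := by
    have h1 : B a f - B a a' - (B a' f - B a' (-1)) = 0 := h0
    have h2 : B a a' = B a f - (B a' f - B a' (-1)) := by
      rw [sub_sub, sub_eq_zero] at h1
      rw [h1]; abel
    rw [h2]; abel
  exact this

end IsStPair


end Groth.Agent.Lib.helper25.MilKA
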