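import Groth.Agent.Lib.helper25.MilKA

set_option autoImplicit false
set_option linter.unusedSectionVars false
universe u v w

namespace Groth.Agent.Lib.helper25.MilKB

open MilK Groth.Agent.Lib.helper25.MilKA

section Decomp

variable (A : Type u) [CommRing A] [IsDomain A] [IsDiscreteValuationRing A]
  (L : Type v) [Field L] [Algebra A L] [IsFractionRing A L] (ϖ : A) (hϖ : Irreducible ϖ)

/-- `(i, u) ↦ π ^ i * u`. -/
noncomputable def decompHom : Multiplicative ℤ × Aˣ →* Lˣ :=
  (zpowersHom Lˣ (unitFrac A L ϖ hϖ.ne_zero)).coprod (unitToFrac A L)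

lemma decompHom_apply (i : ℤ) (u : Aˣ) :
    decompHom A L ϖ hϖ (Multiplicative.ofAdd i, u) =
      unitFrac A L ϖ hϖ.ne_zero ^ i * unitToFrac A L u := by
  simp [decompHom, MonoidHom.coprod_apply]

lemma algebraMap_injective' : Function.Injective (algebraMap A L) := IsFractionRing.injective A L

include hϖ in
lemma pow_mul_unit_ne {k : ℕ} (hk : 0 < k) (u v : Aˣ) : ϖ ^ k * (u : A) ≠ v := by
  intro h
  have : IsUnit (ϖ ^ k * (u : A)) := h ▸ v.isUnit
  have h2 : IsUnit (ϖ ^ k) := (IsUnit.mul_iff.mp this).1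
  exact hϖ.not_isUnit ((isUnit_pow_iff hk.ne').mp h2)

include hϖ in
lemma decompHom_injective : Function.Injective (decompHom A L ϖ hϖ) := by
  rw [injective_iff_map_eq_one]
  rintro ⟨i', u⟩ h
  obtain ⟨i, hi⟩ : ∃ j : ℤ, Multiplicative.ofAdd j = i' := ⟨Multiplicative.toAdd i', rfl⟩
  subst hi
  rw [decompHom_apply A L ϖ hϖ] at h
  have h' := congrArg (fun x : Lˣ => (x : L)) h
  simp only [Units.val_mul, Units.val_zpow_eq_zpow_val, coe_unitFrac, Units.val_one] at h'
  have hu : ((unitToFrac A L u : Lˣ) : L) = algebraMap A L u := rfl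
  rw [hu] at h'
  have hπ0 : algebraMap A L ϖ ≠ 0 := fun h0 => hϖ.ne_zero
    ((IsFractionRing.to_map_eq_zero_iff (K := L)).mp h0)
  obtain ⟨k, rfl | rfl⟩ := i.eq_nat_or_neg
  · rw [zpow_natCast, ← map_pow, ← map_mul] at h'
    have h2 : ϖ ^ k * (u : A) = ((1 : Aˣ) : A) := by
      apply algebraMap_injective' A L; simpa using h'
    rcases Nat.eq_zero_or_pos k with rfl | hk
    · simp only [pow_zero, one_mul] at h2
      have : u = 1 := Units.ext h2
      simp [this]
    · exact absurd h2 (pow_mul_unit_ne A ϖ hϖ hk u 1)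
  · rcases Nat.eq_zero_or_pos k with rfl | hk
    · simp only [Nat.cast_zero, neg_zero, zpow_zero, one_mul] at h'
      have h2 : (u : A) = ((1 : Aˣ) : A) := by
        apply algebraMap_injective' A L; simpa using h'
      have : u = 1 := Units.ext h2
      simp [this]
    · rw [zpow_neg, zpow_natCast, inv_mul_eq_iff_eq_mul₀ (pow_ne_zero _ hπ0), mul_one,
        ← map_pow] at h'
      have h2 : ϖ ^ k * ((1 : Aˣ) : A) = u := by
        apply algebraMap_injective' A L; simp [h']
      exact absurd h2 (pow_mul_unit_ne A ϖ hϖ hk 1 u)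

include hϖ in
lemma decompHom_surjective : Function.Surjective (decompHom A L ϖ hϖ) := by
  intro y
  obtain ⟨a, b, hb, hab⟩ := IsFractionRing.div_surjective (A := A) (y : L)
  have hb0 : b ≠ 0 := nonZeroDivisors.ne_zero hb
  have ha0 : a ≠ 0 := by
    rintro rfl
    rw [map_zero, zero_div] at hab
    exact y.ne_zero hab.symm
  obtain ⟨n, u, hu⟩ := IsDiscreteValuationRing.eq_unit_mul_pow_irreducible ha0 hϖ
  obtain ⟨m, v, hv⟩ := IsDiscreteValuationRing.eq_unit_mul_pow_irreducible hb0 hϖ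
  refine ⟨(Multiplicative.ofAdd ((n : ℤ) - m), u * v⁻¹), ?_⟩
  rw [decompHom_apply]
  ext
  have hπ0 : algebraMap A L ϖ ≠ 0 := fun h0 => hϖ.ne_zero
    ((IsFractionRing.to_map_eq_zero_iff (K := L)).mp h0)
  have hv0 : algebraMap A L (v : A) ≠ 0 := fun h0 => v.ne_zero
    ((IsFractionRing.to_map_eq_zero_iff (K := L)).mp h0)
  have hvinv : ((unitToFrac A L v⁻¹ : Lˣ) : L) = (algebraMap A L (v : A))⁻¹ := by
    rw [map_inv, Units.val_inv_eq_inv_val]; rfl
  simp only [Units.val_mul, Units.val_zpow_eq_zpow_val, coe_unitFrac, map_mul, hvinv]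
  have hu' : ((unitToFrac A L u : Lˣ) : L) = algebraMap A L u := rfl
  rw [hu', ← hab, hu, hv, map_mul, map_mul, map_pow, map_pow, zpow_sub₀ hπ0, zpow_natCast,
    zpow_natCast]
  field_simp

/-- the decomposition `Lˣ ≃ ℤ × Aˣ` attached to a uniformizer. -/
noncomputable def decomp : Lˣ ≃* Multiplicative ℤ × Aˣ :=
  (MulEquiv.ofBijective (decompHom A L ϖ hϖ)
    ⟨decompHom_injective A L ϖ hϖ, decompHom_surjective A L ϖ hϖ⟩).symm

/-- the valuation of a unit of `L`. -/
noncomputable def ord (y : Lˣ) : ℤ := (decomp A L ϖ hϖ y).1.toAdd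

/-- the unit part of a unit of `L`. -/
noncomputable def upart (y : Lˣ) : Aˣ := (decomp A L ϖ hϖ y).2

lemma decomp_spec (y : Lˣ) :
    y = unitFrac A L ϖ hϖ.ne_zero ^ (ord A L ϖ hϖ y) * unitToFrac A L (upart A L ϖ hϖ y) := by
  have := (MulEquiv.ofBijective (decompHom A L ϖ hϖ)
    ⟨decompHom_injective A L ϖ hϖ, decompHom_surjective A L ϖ hϖ⟩).apply_symm_apply y
  rw [← decompHom_apply A L ϖ hϖ]
  exact this.symm

lemma ord_mul (y z : Lˣ) : ord A L ϖ hϖ (y * z) = ord A L ϖ hϖ y + ord A L ϖ hϖ z := by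
  simp [ord]

lemma upart_mul (y z : Lˣ) : upart A L ϖ hϖ (y * z) = upart A L ϖ hϖ y * upart A L ϖ hϖ z := by
  simp [upart]

lemma decomp_pow_mul (i : ℤ) (u : Aˣ) :
    decomp A L ϖ hϖ (unitFrac A L ϖ hϖ.ne_zero ^ i * unitToFrac A L u) =
      (Multiplicative.ofAdd i, u) := by
  rw [← decompHom_apply A L ϖ hϖ, decomp, MulEquiv.symm_apply_eq]
  rfl

@[simp] lemma ord_pow_mul (i : ℤ) (u : Aˣ) :
    ord A L ϖ hϖ (unitFrac A L ϖ hϖ.ne_zero ^ i * unitToFrac A L u) = i := by
  rw [ord, decomp_pow_mul]; rfl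

@[simp] lemma upart_pow_mul (i : ℤ) (u : Aˣ) :
    upart A L ϖ hϖ (unitFrac A L ϖ hϖ.ne_zero ^ i * unitToFrac A L u) = u := by
  rw [upart, decomp_pow_mul]

@[simp] lemma ord_unit (u : Aˣ) : ord A L ϖ hϖ (unitToFrac A L u) = 0 := by
  have := ord_pow_mul A L ϖ hϖ 0 u
  simpa using this

@[simp] lemma upart_unit (u : Aˣ) : upart A L ϖ hϖ (unitToFrac A L u) = u := by
  have := upart_pow_mul A L ϖ hϖ 0 u
  simpa using this

@[simp] lemma ord_unif : ord A L ϖ hϖ (unitFrac A L ϖ hϖ.ne_zero) = 1 := by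
  have := ord_pow_mul A L ϖ hϖ 1 1
  simpa using this

@[simp] lemma upart_unif : upart A L ϖ hϖ (unitFrac A L ϖ hϖ.ne_zero) = 1 := by
  have := upart_pow_mul A L ϖ hϖ 1 1
  simpa using this

end Decomp

open MilK Groth.Agent.Lib.helper25.MilKA

section Total

variable (κ : Type u) [Field κ]

/-- the total Milnor K-group (product of all degrees). -/
abbrev KK : Type u := ∀ n : ℕ, K κ n

variable {κ}

/-- shift by left multiplication. -/
noncomputable def ellFn (y : κˣ) (a : KK κ) : KK κ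
  | 0 => 0
  | (n + 1) => lmul y n (a n)

@[simp] lemma ellFn_zero (y : κˣ) (a : KK κ) : ellFn y a 0 = 0 := rfl
@[simp] lemma ellFn_succ (y : κˣ) (a : KK κ) (n : ℕ) : ellFn y a (n + 1) = lmul y n (a n) := rfl

/-- left multiplication by `{y}` on the total group. -/
noncomputable def ell (y : κˣ) : Module.End ℤ (KK κ) where
  toFun := ellFn y
  map_add' a b := by
    funext n
    cases n with
    | zero => simp
    | succ n => simp
  map_smul' c a := by
    funext n
    cases n with
    | zero => simp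
    | succ n => simp

@[simp] lemma ell_apply_zero (y : κˣ) (a : KK κ) : ell y a 0 = 0 := rfl
@[simp] lemma ell_apply_succ (y : κˣ) (a : KK κ) (n : ℕ) : ell y a (n + 1) = lmul y n (a n) := rfl

lemma ell_mul (y z : κˣ) : ell (y * z) = ell y + ell z := by
  ext a n
  cases n with
  | zero => simp
  | succ n => simp [lmul_mul]

@[simp] lemma ell_one : ell (1 : κˣ) = 0 := by
  ext a n
  cases n with
  | zero => simp
  | succ n => simp [lmul_one]

lemma ell_anticomm (y z : κˣ) : ell y * ell z = - (ell z * ell y) := by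
  ext a n
  cases n with
  | zero => simp
  | succ n =>
    cases n with
    | zero => simp
    | succ n => simp [lmul_lmul_swap y z]

lemma ell_neg_self (y : κˣ) : ell y * ell (-y) = 0 := by
  ext a n
  cases n with
  | zero => simp
  | succ n =>
    cases n with
    | zero => simp
    | succ n => simp [lmul_lmul_neg]

lemma ell_steinberg (y z : κˣ) (h : (y : κ) + (z : κ) = 1) : ell y * ell z = 0 := by
  ext a n
  cases n with
  | zero => simp
  | succ n =>
    cases n with
    | zero => simp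
    | succ n => simp [lmul_lmul_steinberg y z h]

lemma two_ell_neg_one : ell (-1 : κˣ) + ell (-1 : κˣ) = 0 := by
  rw [← ell_mul]; simp

end Total


open MilK Groth.Agent.Lib.helper25.MilKA

section Pair

variable {κ : Type u} [Field κ]

lemma ell_anticomm_apply (y z : κˣ) (a : KK κ) : ell y (ell z a) = - ell z (ell y a) :=
  LinearMap.congr_fun (ell_anticomm y z) a

lemma ell_neg_self_apply (y : κˣ) (a : KK κ) : ell y (ell (-y) a) = 0 :=
  LinearMap.congr_fun (ell_neg_self y) a

lemma ell_steinberg_apply (y z : κˣ) (h : (y : κ) + (z : κ) = 1) (a : KK κ) :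
    ell y (ell z a) = 0 :=
  LinearMap.congr_fun (ell_steinberg y z h) a

lemma two_ell_neg_one_apply (a : KK κ) : ell (-1 : κˣ) a + ell (-1 : κˣ) a = 0 :=
  LinearMap.congr_fun two_ell_neg_one a

lemma ell_neg_apply (y : κˣ) (a : KK κ) : ell (-y) a = ell (-1 : κˣ) a + ell y a := by
  rw [show -y = (-1) * y by simp, ell_mul]; rfl

/-- the operator of left multiplication by `{ȳ} + i ξ` on `K(κ) ⊕ ξ K(κ)`. -/
noncomputable def Lop (i : ℤ) (y : κˣ) : Module.End ℤ (KK κ × KK κ) :=
  LinearMap.prod ((ell y).comp (LinearMap.fst ℤ _ _))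
    (i • LinearMap.fst ℤ _ _ - (ell y).comp (LinearMap.snd ℤ _ _) +
      i • (ell (-1 : κˣ)).comp (LinearMap.snd ℤ _ _))

lemma Lop_apply (i : ℤ) (y : κˣ) (a b : KK κ) :
    Lop i y (a, b) = (ell y a, i • a - ell y b + i • ell (-1 : κˣ) b) := rfl

lemma Lop_add (i j : ℤ) (y z : κˣ) : Lop (i + j) (y * z) = Lop i y + Lop j z := by
  refine LinearMap.ext fun ⟨a, b⟩ => ?_
  simp only [Lop_apply, LinearMap.add_apply, ell_mul, Prod.mk_add_mk, Prod.mk.injEq]
  refine ⟨trivial, ?_⟩
  module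

@[simp] lemma Lop_zero_one : Lop (0 : ℤ) (1 : κˣ) = 0 := by
  refine LinearMap.ext fun ⟨a, b⟩ => ?_
  simp [Lop_apply]

lemma Lop_anticomm (i j : ℤ) (y z : κˣ) : Lop i y * Lop j z = - (Lop j z * Lop i y) := by
  refine LinearMap.ext fun ⟨a, b⟩ => ?_
  simp only [Module.End.mul_apply, Lop_apply, LinearMap.neg_apply, Prod.neg_mk, Prod.mk.injEq,
    map_add, map_sub, map_zsmul]
  refine ⟨ell_anticomm_apply y z a, ?_⟩
  have h1 := ell_anticomm_apply z y b
  have h2 := ell_anticomm_apply (-1) y b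
  have h3 := ell_anticomm_apply (-1) z b
  have h4 := two_ell_neg_one_apply a
  have h5 := two_ell_neg_one_apply (ell (-1 : κˣ) b)
  linear_combination (norm := module) h1 - j • h2 - i • h3 + (i * j) • h4 + (i * j) • h5

lemma Lop_self_neg (i : ℤ) (y : κˣ) : Lop i y * Lop i (-y) = 0 := by
  refine LinearMap.ext fun ⟨a, b⟩ => ?_
  simp only [Module.End.mul_apply, Lop_apply, LinearMap.zero_apply, Prod.mk_eq_zero,
    map_add, map_sub, map_zsmul]
  refine ⟨ell_neg_self_apply y a, ?_⟩
  have h0 := ell_neg_self_apply y b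
  have e1 := ell_neg_apply y a
  have e2 := ell_neg_apply y b
  have e3 := ell_neg_apply y (ell (-1 : κˣ) b)
  have h2 := ell_anticomm_apply (-1) y b
  have h4 := two_ell_neg_one_apply a
  have h5 := two_ell_neg_one_apply (ell (-1 : κˣ) b)
  obtain ⟨c, hc⟩ : ∃ c : ℤ, i * i + i = 2 * c := by
    rcases Int.even_or_odd i with ⟨t, ht⟩ | ⟨t, ht⟩
    · exact ⟨2 * t * t + t, by rw [ht]; ring⟩
    · exact ⟨2 * t * t + 3 * t + 1, by rw [ht]; ring⟩
  have e2' : ell (-1 : κˣ) (ell (-y) b) = ell (-1 : κˣ) (ell (-1 : κˣ) b) + ell (-1 : κˣ) (ell y b) := by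
    rw [e2, map_add]
  have k1 : (i * i + i) • ell (-1 : κˣ) a = 0 := by
    rw [hc, mul_comm, mul_smul, two_smul, h4, smul_zero]
  have k2 : (i * i - i) • ell (-1 : κˣ) (ell (-1 : κˣ) b) = 0 := by
    rw [show i * i - i = (c - i) * 2 by linarith, mul_smul, two_smul, h5, smul_zero]
  linear_combination (norm := module) i • e1 + h0 - i • e2' - i • h2 + k1 + k2

lemma Lop_units_steinberg (y z : κˣ) (h : (y : κ) + (z : κ) = 1) : Lop 0 y * Lop 0 z = 0 := by
  refine LinearMap.ext fun ⟨a, b⟩ => ?_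
  simp only [Module.End.mul_apply, Lop_apply, LinearMap.zero_apply, Prod.mk_eq_zero,
    zero_smul, zero_sub, add_zero, map_neg, neg_neg]
  exact ⟨ell_steinberg_apply y z h a, ell_steinberg_apply y z h b⟩

end Pair


open MilK Groth.Agent.Lib.helper25.MilKA

section ProdZero

variable {R : Type*} [Ring R]

lemma mul_prod_eq_zero_of_anticomm {n : ℕ} (a : R) (g : Fin n → R)
    (hanti : ∀ k, a * g k = - (g k * a)) (j : Fin n) (hj : a * g j = 0) :
    a * (List.ofFn g).prod = 0 := by
  induction n with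
  | zero => exact j.elim0
  | succ n ih =>
    rw [List.ofFn_succ, List.prod_cons, ← mul_assoc]
    revert hj
    refine Fin.cases ?_ (fun j' => ?_) j
    · intro hj
      rw [hj, zero_mul]
    · intro hj
      rw [hanti 0, neg_mul, mul_assoc, ih (fun k => g k.succ) (fun k => hanti k.succ) j' hj,
        mul_zero, neg_zero]
  
lemma prod_eq_zero_of_anticomm {n : ℕ} (f : Fin n → R)
    (hanti : ∀ i j, f i * f j = - (f j * f i)) (i j : Fin n) (hij : i < j) (h : f i * f j = 0) :
    (List.ofFn f).prod = 0 := by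
  induction n with
  | zero => exact i.elim0
  | succ n ih =>
    rw [List.ofFn_succ, List.prod_cons]
    revert hij h
    refine Fin.cases ?_ (fun i' => ?_) i
    · intro hij h
      obtain ⟨j', rfl⟩ : ∃ j', j = Fin.succ j' := by
        refine ⟨j.pred (by rintro rfl; exact absurd hij (lt_irrefl _)), by simp⟩
      exact mul_prod_eq_zero_of_anticomm (f 0) (fun k => f k.succ) (fun k => hanti 0 k.succ) j' h
    · intro hij h
      obtain ⟨j', rfl⟩ : ∃ j', j = Fin.succ j' := by
        refine ⟨j.pred (by rintro rfl; exact absurd hij (Fin.not_lt_zero _)), by simp⟩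
      rw [ih (fun k => f k.succ) (fun a b => hanti a.succ b.succ) i' j'
        (Fin.succ_lt_succ_iff.mp hij) h, mul_zero]

end ProdZero


open MilK Groth.Agent.Lib.helper25.MilKA

section Construction

variable (A : Type u) [CommRing A] [IsDomain A] [IsDiscreteValuationRing A]
  (L : Type v) [Field L] [Algebra A L] [IsFractionRing A L] (ϖ : A) (hϖ : Irreducible ϖ)

local notation "κ" => IsLocalRing.ResidueField A

/-- residue of the unit part. -/
noncomputable def rpart (x : Lˣ) : (IsLocalRing.ResidueField A)ˣ :=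
  unitResidue A (upart A L ϖ hϖ x)

lemma rpart_mul (x y : Lˣ) : rpart A L ϖ hϖ (x * y) = rpart A L ϖ hϖ x * rpart A L ϖ hϖ y := by
  simp [rpart, upart_mul]

/-- the operator attached to a unit of `L`. -/
noncomputable def LL (x : Lˣ) : Module.End ℤ (KK κ × KK κ) :=
  Lop (ord A L ϖ hϖ x) (rpart A L ϖ hϖ x)

lemma LL_mul (x y : Lˣ) : LL A L ϖ hϖ (x * y) = LL A L ϖ hϖ x + LL A L ϖ hϖ y := by
  rw [LL, ord_mul, rpart_mul, Lop_add]; rfl

lemma LL_one : LL A L ϖ hϖ 1 = 0 := by
  have := LL_mul A L ϖ hϖ 1 1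
  rw [mul_one] at this
  exact left_eq_add.mp this

/-- `LL` as an additive map. -/
noncomputable def LLhom : Additive Lˣ →+ Module.End ℤ (KK κ × KK κ) where
  toFun x := LL A L ϖ hϖ x.toMul
  map_zero' := LL_one A L ϖ hϖ
  map_add' x y := LL_mul A L ϖ hϖ x.toMul y.toMul

lemma LL_anticomm (x y : Lˣ) :
    LL A L ϖ hϖ x * LL A L ϖ hϖ y = - (LL A L ϖ hϖ y * LL A L ϖ hϖ x) :=
  Lop_anticomm _ _ _ _

end Construction


open MilK Groth.Agent.Lib.helper25.MilKA

section Steinberg

variable (A : Type u) [CommRing A] [IsDomain A] [IsDiscreteValuationRing A]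
  (L : Type v) [Field L] [Algebra A L] [IsFractionRing A L] (ϖ : A) (hϖ : Irreducible ϖ)

local notation "κ" => IsLocalRing.ResidueField A

include hϖ in
lemma residue_unif : IsLocalRing.residue A ϖ = 0 := by
  rw [IsLocalRing.residue_eq_zero_iff]
  exact (IsLocalRing.mem_maximalIdeal _).mpr hϖ.not_isUnit

lemma coe_spec (x : Lˣ) : (x : L) =
    (algebraMap A L ϖ) ^ (ord A L ϖ hϖ x) * algebraMap A L (upart A L ϖ hϖ x : A) := by
  have h := congrArg (fun z : Lˣ => (z : L)) (decomp_spec A L ϖ hϖ x)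
  simp only [Units.val_mul, Units.val_zpow_eq_zpow_val, coe_unitFrac] at h
  exact h

include hϖ in
lemma algebraMap_unif_ne_zero : algebraMap A L ϖ ≠ 0 := fun h0 => hϖ.ne_zero
    ((IsFractionRing.to_map_eq_zero_iff (K := L)).mp h0)

/-- positive valuation: `1 - x` is a principal unit. -/
lemma ord_rpart_of_pos (x y : Lˣ) (hxy : (x : L) + (y : L) = 1) (hx : 0 < ord A L ϖ hϖ x) :
    ord A L ϖ hϖ y = 0 ∧ rpart A L ϖ hϖ y = 1 := by
  obtain ⟨k, hk⟩ := Int.eq_ofNat_of_zero_le hx.le
  have hk1 : 1 ≤ k := by omega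
  set u := upart A L ϖ hϖ x with hu
  have hxL : (x : L) = algebraMap A L (ϖ ^ k * (u : A)) := by
    rw [coe_spec A L ϖ hϖ x, hk, zpow_natCast, map_mul, map_pow]
  have hres : IsLocalRing.residue A (1 - ϖ ^ k * (u : A)) = 1 := by
    rw [map_sub, map_mul, map_pow, residue_unif A ϖ hϖ, zero_pow (by omega), zero_mul, map_one,
      sub_zero]
  have hunit : IsUnit (1 - ϖ ^ k * (u : A)) := by
    rw [← IsLocalRing.residue_ne_zero_iff_isUnit, hres]; exact one_ne_zero
  obtain ⟨w, hw⟩ := hunit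
  have hy : y = unitToFrac A L w := by
    ext
    have : (y : L) = 1 - (x : L) := by linear_combination hxy
    rw [this, hxL]
    change _ = algebraMap A L (w : A)
    rw [hw, map_sub, map_one]
  subst hy
  refine ⟨ord_unit A L ϖ hϖ w, ?_⟩
  rw [rpart, upart_unit]
  ext
  change IsLocalRing.residue A (w : A) = 1
  rw [hw, hres]

/-- negative valuation. -/
lemma ord_rpart_of_neg (x y : Lˣ) (hxy : (x : L) + (y : L) = 1) (hx : ord A L ϖ hϖ x < 0) :
    ord A L ϖ hϖ y = ord A L ϖ hϖ x ∧ rpart A L ϖ hϖ y = - rpart A L ϖ hϖ x := by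
  obtain ⟨k, hk⟩ := Int.eq_ofNat_of_zero_le (neg_nonneg.mpr hx.le)
  have hk' : ord A L ϖ hϖ x = -(k : ℤ) := by omega
  have hk1 : 1 ≤ k := by omega
  set u := upart A L ϖ hϖ x with hu
  have hπ0 := algebraMap_unif_ne_zero A L ϖ hϖ
  have hxL : (x : L) = ((algebraMap A L ϖ) ^ k)⁻¹ * algebraMap A L (u : A) := by
    rw [coe_spec A L ϖ hϖ x, hk', zpow_neg, zpow_natCast]
  have hres : IsLocalRing.residue A (ϖ ^ k - (u : A)) = - IsLocalRing.residue A (u : A) := by
    rw [map_sub, map_pow, residue_unif A ϖ hϖ, zero_pow (by omega), zero_sub]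
  have hunit : IsUnit (ϖ ^ k - (u : A)) := by
    rw [← IsLocalRing.residue_ne_zero_iff_isUnit, hres, neg_ne_zero,
      IsLocalRing.residue_ne_zero_iff_isUnit]
    exact u.isUnit
  obtain ⟨w, hw⟩ := hunit
  have hy : y = unitFrac A L ϖ hϖ.ne_zero ^ (-(k : ℤ)) * unitToFrac A L w := by
    ext
    have : (y : L) = 1 - (x : L) := by linear_combination hxy
    rw [this, hxL]
    rw [Units.val_mul, Units.val_zpow_eq_zpow_val, coe_unitFrac, zpow_neg, zpow_natCast]
    change _ = _ * algebraMap A L (w : A)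
    rw [hw, map_sub, map_pow]
    field_simp
  refine ⟨by rw [hk', hy]; exact ord_pow_mul A L ϖ hϖ _ w, ?_⟩
  rw [rpart, hy, upart_pow_mul]
  ext
  change IsLocalRing.residue A (w : A) = - IsLocalRing.residue A (u : A)
  rw [hw, hres]

lemma rpart_add_of_ord_zero (x y : Lˣ) (hxy : (x : L) + (y : L) = 1) (hx : ord A L ϖ hϖ x = 0)
    (hy : ord A L ϖ hϖ y = 0) :
    ((rpart A L ϖ hϖ x : κˣ) : κ) + ((rpart A L ϖ hϖ y : κˣ) : κ) = 1 := by
  have h1 := coe_spec A L ϖ hϖ x
  have h2 := coe_spec A L ϖ hϖ y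
  rw [hx, zpow_zero, one_mul] at h1
  rw [hy, zpow_zero, one_mul] at h2
  rw [h1, h2, ← map_add] at hxy
  have h3 : (upart A L ϖ hϖ x : A) + (upart A L ϖ hϖ y : A) = 1 := by
    apply algebraMap_injective' A L
    rw [hxy, map_one]
  have := congrArg (IsLocalRing.residue A) h3
  rw [map_add, map_one] at this
  exact this

lemma LL_steinberg (x y : Lˣ) (hxy : (x : L) + (y : L) = 1) :
    LL A L ϖ hϖ x * LL A L ϖ hϖ y = 0 := by
  have hyx : (y : L) + (x : L) = 1 := by rw [add_comm]; exact hxy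
  rcases lt_trichotomy (ord A L ϖ hϖ x) 0 with hx | hx | hx
  · obtain ⟨h1, h2⟩ := ord_rpart_of_neg A L ϖ hϖ x y hxy hx
    rw [LL, LL, h1, h2]
    exact Lop_self_neg _ _
  · rcases lt_trichotomy (ord A L ϖ hϖ y) 0 with hy | hy | hy
    · obtain ⟨h1, h2⟩ := ord_rpart_of_neg A L ϖ hϖ y x hyx hy
      omega
    · rw [LL, LL, hx, hy]
      exact Lop_units_steinberg _ _ (rpart_add_of_ord_zero A L ϖ hϖ x y hxy hx hy)
    · obtain ⟨h1, h2⟩ := ord_rpart_of_pos A L ϖ hϖ y x hyx hy
      rw [LL, h1, h2, Lop_zero_one, zero_mul]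
  · obtain ⟨h1, h2⟩ := ord_rpart_of_pos A L ϖ hϖ x y hxy hx
    rw [LL, LL, h1, h2, Lop_zero_one, mul_zero]

end Steinberg


open MilK Groth.Agent.Lib.helper25.MilKA

section TameSpec

variable (A : Type u) [CommRing A] [IsDomain A] [IsDiscreteValuationRing A]
  (L : Type v) [Field L] [Algebra A L] [IsFractionRing A L] (ϖ : A) (hϖ : Irreducible ϖ)

local notation "κ" => IsLocalRing.ResidueField A

/-- the product of the operators of a tuple, as a multilinear map. -/
noncomputable def Psi (n : ℕ) :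
    MultilinearMap ℤ (fun _ : Fin n => Additive Lˣ) (Module.End ℤ (KK κ × KK κ)) :=
  (MultilinearMap.mkPiAlgebraFin ℤ n (Module.End ℤ (KK κ × KK κ))).compLinearMap
    (fun _ => (LLhom A L ϖ hϖ).toIntLinearMap)

lemma Psi_apply {n : ℕ} (x : Fin n → Additive Lˣ) :
    Psi A L ϖ hϖ n x = (List.ofFn fun i => LL A L ϖ hϖ (x i).toMul).prod := by
  simp [Psi, LLhom]

/-- the operator of a tuple of units. -/
noncomputable def PsiU {n : ℕ} (x : Fin n → Lˣ) : Module.End ℤ (KK κ × KK κ) :=
  (List.ofFn fun i => LL A L ϖ hϖ (x i)).prod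

lemma Psi_ofMul {n : ℕ} (x : Fin n → Lˣ) :
    Psi A L ϖ hϖ n (fun i => Additive.ofMul (x i)) = PsiU A L ϖ hϖ x := by
  rw [Psi_apply]; rfl

lemma PsiU_cons {n : ℕ} (y : Lˣ) (x : Fin n → Lˣ) :
    PsiU A L ϖ hϖ (Fin.cons y x : Fin (n + 1) → Lˣ) = LL A L ϖ hϖ y * PsiU A L ϖ hϖ x := by
  simp [PsiU, List.ofFn_succ]

lemma PsiU_zero (x : Fin 0 → Lˣ) : PsiU A L ϖ hϖ x = 1 := by
  simp [PsiU]

lemma PsiU_steinberg {n : ℕ} (x : Fin n → Lˣ) (h : IsSteinberg L x) : PsiU A L ϖ hϖ x = 0 := by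
  obtain ⟨i, j, hij, h⟩ := h
  exact prod_eq_zero_of_anticomm _ (fun a b => LL_anticomm A L ϖ hϖ _ _) i j hij
    (LL_steinberg A L ϖ hϖ _ _ h)

/-- the empty symbol. -/
noncomputable def one0 (k : Type*) [Field k] : K k 0 := symbol (fun i : Fin 0 => i.elim0)

/-- the base vector `1 + 0 ξ`. -/
noncomputable def base : KK κ × KK κ := (Pi.single 0 (one0 κ), 0)

/-- the specialization, as a multilinear map. -/
noncomputable def specML (n : ℕ) : MultilinearMap ℤ (fun _ : Fin n => Additive Lˣ) (K κ n) :=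
  ((LinearMap.proj n).comp ((LinearMap.fst ℤ (KK κ) (KK κ)).comp
    (LinearMap.applyₗ (base A)))).compMultilinearMap (Psi A L ϖ hϖ n)

/-- the tame symbol, as a multilinear map. -/
noncomputable def tameML (n : ℕ) : MultilinearMap ℤ (fun _ : Fin (n + 1) => Additive Lˣ) (K κ n) :=
  ((LinearMap.proj n).comp ((LinearMap.snd ℤ (KK κ) (KK κ)).comp
    (LinearMap.applyₗ (base A)))).compMultilinearMap (Psi A L ϖ hϖ (n + 1))

lemma specML_ofMul {n : ℕ} (x : Fin n → Lˣ) :
    specML A L ϖ hϖ n (fun i => Additive.ofMul (x i)) = (PsiU A L ϖ hϖ x (base A)).1 n := by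
  simp only [specML, LinearMap.compMultilinearMap_apply, Psi_ofMul]
  rfl

lemma tameML_ofMul {n : ℕ} (x : Fin (n + 1) → Lˣ) :
    tameML A L ϖ hϖ n (fun i => Additive.ofMul (x i)) = (PsiU A L ϖ hϖ x (base A)).2 n := by
  simp only [tameML, LinearMap.compMultilinearMap_apply, Psi_ofMul]
  rfl

/-- the specialization map `s_π : K_n(L) → K_n(κ)`. -/
noncomputable def spec (n : ℕ) : K L n →+ K κ n :=
  lift (specML A L ϖ hϖ n) (by
    intro x hx
    rw [specML_ofMul, PsiU_steinberg A L ϖ hϖ x hx]; rfl)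

/-- the tame symbol `∂ : K_{n+1}(L) → K_n(κ)`. -/
noncomputable def tame (n : ℕ) : K L (n + 1) →+ K κ n :=
  lift (tameML A L ϖ hϖ n) (by
    intro x hx
    rw [tameML_ofMul, PsiU_steinberg A L ϖ hϖ x hx]; rfl)

lemma spec_symbol {n : ℕ} (x : Fin n → Lˣ) :
    spec A L ϖ hϖ n (symbol x) = (PsiU A L ϖ hϖ x (base A)).1 n := by
  rw [spec, lift_symbol, specML_ofMul]

lemma tame_symbol {n : ℕ} (x : Fin (n + 1) → Lˣ) :
    tame A L ϖ hϖ n (symbol x) = (PsiU A L ϖ hϖ x (base A)).2 n := by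
  rw [tame, lift_symbol, tameML_ofMul]

end TameSpec


open MilK Groth.Agent.Lib.helper25.MilKA

section Recursion

variable (A : Type u) [CommRing A] [IsDomain A] [IsDiscreteValuationRing A]
  (L : Type v) [Field L] [Algebra A L] [IsFractionRing A L] (ϖ : A) (hϖ : Irreducible ϖ)

local notation "κ" => IsLocalRing.ResidueField A

lemma symbol_fin_zero {k : Type*} [Field k] (x : Fin 0 → kˣ) : symbol x = one0 k := by
  congr 1
  exact Subsingleton.elim _ _

lemma spec_zero_symbol (x : Fin 0 → Lˣ) : spec A L ϖ hϖ 0 (symbol x) = one0 κ := by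
  rw [spec_symbol, PsiU_zero]
  simp [base]

lemma PsiU_cons_fst {n : ℕ} (y : Lˣ) (x : Fin n → Lˣ) :
    (PsiU A L ϖ hϖ (Fin.cons y x : Fin (n + 1) → Lˣ) (base A)).1 (n + 1) =
      lmul (rpart A L ϖ hϖ y) n ((PsiU A L ϖ hϖ x (base A)).1 n) := by
  rw [PsiU_cons, Module.End.mul_apply, LL]
  set p := PsiU A L ϖ hϖ x (base A) with hp
  rw [show p = (p.1, p.2) from rfl, Lop_apply]
  rfl

lemma PsiU_cons_snd_zero (y : Lˣ) (x : Fin 0 → Lˣ) :
    (PsiU A L ϖ hϖ (Fin.cons y x : Fin (0 + 1) → Lˣ) (base A)).2 0 =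
      ord A L ϖ hϖ y • (PsiU A L ϖ hϖ x (base A)).1 0 := by
  rw [PsiU_cons, Module.End.mul_apply, LL]
  set p := PsiU A L ϖ hϖ x (base A) with hp
  rw [show p = (p.1, p.2) from rfl, Lop_apply]
  simp

lemma PsiU_cons_snd_succ {n : ℕ} (y : Lˣ) (x : Fin (n + 1) → Lˣ) :
    (PsiU A L ϖ hϖ (Fin.cons y x : Fin (n + 1 + 1) → Lˣ) (base A)).2 (n + 1) =
      ord A L ϖ hϖ y • (PsiU A L ϖ hϖ x (base A)).1 (n + 1)
        - lmul (rpart A L ϖ hϖ y) n ((PsiU A L ϖ hϖ x (base A)).2 n)
        + ord A L ϖ hϖ y • lmul (-1) n ((PsiU A L ϖ hϖ x (base A)).2 n) := by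
  rw [PsiU_cons, Module.End.mul_apply, LL]
  set p := PsiU A L ϖ hϖ x (base A) with hp
  rw [show p = (p.1, p.2) from rfl, Lop_apply]
  simp

lemma spec_lmul (y : Lˣ) {n : ℕ} (α : K L n) :
    spec A L ϖ hϖ (n + 1) (lmul y n α) = lmul (rpart A L ϖ hϖ y) n (spec A L ϖ hϖ n α) := by
  induction α using K_induction with
  | h0 => simp
  | hs x => rw [lmul_symbol, spec_symbol, spec_symbol, PsiU_cons_fst]
  | hadd a b ha hb => simp only [map_add, ha, hb]
  | hneg a ha => simp only [map_neg, ha]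

lemma tame_lmul_zero (y : Lˣ) (α : K L 0) :
    tame A L ϖ hϖ 0 (lmul y 0 α) = ord A L ϖ hϖ y • spec A L ϖ hϖ 0 α := by
  induction α using K_induction with
  | h0 => simp
  | hs x => rw [lmul_symbol, tame_symbol, spec_symbol, PsiU_cons_snd_zero]
  | hadd a b ha hb => simp only [map_add, ha, hb, smul_add]
  | hneg a ha => simp only [map_neg, ha, smul_neg]

lemma tame_lmul_succ (y : Lˣ) {n : ℕ} (α : K L (n + 1)) :
    tame A L ϖ hϖ (n + 1) (lmul y (n + 1) α) =
      ord A L ϖ hϖ y • spec A L ϖ hϖ (n + 1) α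
        - lmul (rpart A L ϖ hϖ y) n (tame A L ϖ hϖ n α)
        + ord A L ϖ hϖ y • lmul (-1) n (tame A L ϖ hϖ n α) := by
  induction α using K_induction with
  | h0 => simp
  | hs x => rw [lmul_symbol, tame_symbol, spec_symbol, tame_symbol, PsiU_cons_snd_succ]
  | hadd a b ha hb => simp only [map_add, ha, hb, smul_add]; abel
  | hneg a ha => simp only [map_neg, ha, smul_neg]; abel

/-- `spec` has the defining property of the specialization map. -/
lemma spec_isSpecMap (n : ℕ) : IsSpecMap A L ϖ hϖ n (spec A L ϖ hϖ n) := by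
  intro e u
  induction n with
  | zero => rw [spec_zero_symbol, symbol_fin_zero]
  | succ n ih =>
    have hx : (fun i => unitFrac A L ϖ hϖ.ne_zero ^ e i * unitToFrac A L (u i)) =
        (Fin.cons (unitFrac A L ϖ hϖ.ne_zero ^ e 0 * unitToFrac A L (u 0))
          (fun i : Fin n => unitFrac A L ϖ hϖ.ne_zero ^ e i.succ * unitToFrac A L (u i.succ)) :
          Fin (n + 1) → Lˣ) := by
      funext i
      refine Fin.cases ?_ (fun i => ?_) i <;> simp
    rw [hx, ← lmul_symbol, spec_lmul, ih (fun i => e i.succ) (fun i => u i.succ), lmul_symbol]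
    congr 1
    funext i
    refine Fin.cases ?_ (fun i => ?_) i
    · simp [rpart]
    · simp

lemma spec_units {n : ℕ} (u : Fin n → Aˣ) :
    spec A L ϖ hϖ n (symbol fun i => unitToFrac A L (u i)) = symbol fun i => unitResidue A (u i) := by
  have := spec_isSpecMap A L ϖ hϖ n (fun _ => 0) u
  simpa using this

lemma tame_units {n : ℕ} (u : Fin (n + 1) → Aˣ) :
    tame A L ϖ hϖ n (symbol fun i => unitToFrac A L (u i)) = 0 := by
  induction n with
  | zero =>
    have hx : (fun i => unitToFrac A L (u i)) =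
        (Fin.cons (unitToFrac A L (u 0)) (fun i : Fin 0 => unitToFrac A L (u i.succ)) :
          Fin (0 + 1) → Lˣ) := by
      funext i
      refine Fin.cases ?_ (fun i => ?_) i <;> simp
    rw [hx, ← lmul_symbol, tame_lmul_zero, ord_unit, zero_smul]
  | succ n ih =>
    have hx : (fun i => unitToFrac A L (u i)) =
        (Fin.cons (unitToFrac A L (u 0)) (fun i : Fin (n + 1) => unitToFrac A L (u i.succ)) :
          Fin (n + 1 + 1) → Lˣ) := by
      funext i
      refine Fin.cases ?_ (fun i => ?_) i <;> simp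
    rw [hx, ← lmul_symbol, tame_lmul_succ, ord_unit, ih (fun i => u i.succ)]
    simp

include hϖ in
lemma ord_unif' (ϖ' : A) (hϖ' : Irreducible ϖ') :
    ord A L ϖ hϖ (unitFrac A L ϖ' hϖ'.ne_zero) = 1 := by
  obtain ⟨v, hv⟩ := IsDiscreteValuationRing.associated_of_irreducible A hϖ hϖ'
  have : unitFrac A L ϖ' hϖ'.ne_zero = unitFrac A L ϖ hϖ.ne_zero ^ (1 : ℤ) * unitToFrac A L v := by
    ext
    simp only [coe_unitFrac, Units.val_mul, zpow_one]
    change _ = _ * algebraMap A L (v : A)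
    rw [← map_mul, hv]
  rw [this, ord_pow_mul]

/-- `tame` has the defining property of the tame symbol. -/
lemma tame_isTameSymbol (n : ℕ) : IsTameSymbol A L n (tame A L ϖ hϖ n) := by
  intro ϖ' hϖ' u
  rw [← lmul_symbol]
  cases n with
  | zero =>
    rw [tame_lmul_zero, ord_unif' A L ϖ hϖ ϖ' hϖ', one_smul, spec_zero_symbol, symbol_fin_zero]
  | succ n =>
    rw [tame_lmul_succ, ord_unif' A L ϖ hϖ ϖ' hϖ', tame_units, spec_units]
    simp

end Recursion


open MilK Groth.Agent.Lib.helper25.MilKA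

section Generation

variable (A : Type u) [CommRing A] [IsDomain A] [IsDiscreteValuationRing A]
  (L : Type v) [Field L] [Algebra A L] [IsFractionRing A L] (ϖ : A) (hϖ : Irreducible ϖ)

local notation "κ" => IsLocalRing.ResidueField A

/-- the subgroup generated by the symbols of units of `A`. -/
def U (n : ℕ) : AddSubgroup (K L n) :=
  AddSubgroup.closure {z : K L n | ∃ u : Fin n → Aˣ, z = symbol (fun i => unitToFrac A L (u i))}

lemma symbol_units_mem_U {n : ℕ} (u : Fin n → Aˣ) :
    symbol (fun i => unitToFrac A L (u i)) ∈ U A L n :=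
  AddSubgroup.subset_closure ⟨u, rfl⟩

lemma lmul_unit_mem_U (u : Aˣ) {n : ℕ} {a : K L n} (ha : a ∈ U A L n) :
    lmul (unitToFrac A L u) n a ∈ U A L (n + 1) := by
  induction ha using AddSubgroup.closure_induction with
  | mem x hx =>
    obtain ⟨us, rfl⟩ := hx
    rw [lmul_symbol]
    have : (Fin.cons (unitToFrac A L u) (fun i => unitToFrac A L (us i)) : Fin (n + 1) → Lˣ) =
        fun i => unitToFrac A L ((Fin.cons u us : Fin (n + 1) → Aˣ) i) := by
      funext i
      refine Fin.cases ?_ (fun i => ?_) i <;> simp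
    rw [this]
    exact symbol_units_mem_U A L _
  | zero => rw [map_zero]; exact zero_mem _
  | add x y _ _ hx hy => rw [map_add]; exact add_mem hx hy
  | neg x _ hx => rw [map_neg]; exact neg_mem hx

lemma U_zero_eq_top : U A L 0 = ⊤ := by
  have key : ∀ a : K L 0, a ∈ U A L 0 := by
    intro a
    induction a using K_induction with
    | h0 => exact zero_mem _
    | hs x =>
      have : x = fun i => unitToFrac A L ((fun i : Fin 0 => i.elim0 : Fin 0 → Aˣ) i) :=
        Subsingleton.elim _ _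
      rw [this]
      exact symbol_units_mem_U A L _
    | hadd a b ha hb => exact add_mem ha hb
    | hneg a ha => exact neg_mem ha
  rw [eq_top_iff]
  intro a _
  exact key a

lemma neg_one_eq : (-1 : Lˣ) = unitToFrac A L (-1) := by
  ext; simp [unitToFrac]

lemma lmul_spec_expand (y : Lˣ) {n : ℕ} (β : K L n) :
    lmul y n β = ord A L ϖ hϖ y • lmul (unitFrac A L ϖ hϖ.ne_zero) n β +
      lmul (unitToFrac A L (upart A L ϖ hϖ y)) n β := by
  conv_lhs => rw [decomp_spec A L ϖ hϖ y]
  rw [lmul_mul, lmul_zpow]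

/-- every element of `K_{n+1}(L)` is `a + {π} b` with `a`, `b` sums of unit symbols. -/
lemma exists_decomp (n : ℕ) (α : K L (n + 1)) :
    ∃ a ∈ U A L (n + 1), ∃ b ∈ U A L n, α = a + lmul (unitFrac A L ϖ hϖ.ne_zero) n b := by
  induction n with
  | zero =>
    induction α using K_induction with
    | h0 => exact ⟨0, zero_mem _, 0, zero_mem _, by simp⟩
    | hs x =>
      have hx : x = (Fin.cons (x 0) (fun i : Fin 0 => x i.succ) : Fin (0 + 1) → Lˣ) := by
        funext i
        refine Fin.cases ?_ (fun i => ?_) i <;> simp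
      have hβ : symbol (fun i : Fin 0 => x i.succ) ∈ U A L 0 := by
        rw [U_zero_eq_top]; trivial
      rw [hx, ← lmul_symbol, lmul_spec_expand A L ϖ hϖ]
      refine ⟨lmul (unitToFrac A L (upart A L ϖ hϖ (x 0))) 0 (symbol (fun i : Fin 0 => x i.succ)),
        lmul_unit_mem_U A L _ hβ, ord A L ϖ hϖ (x 0) • symbol (fun i : Fin 0 => x i.succ),
        AddSubgroup.zsmul_mem _ hβ _, ?_⟩
      rw [map_zsmul]; exact add_comm _ _
    | hadd a b ha hb =>
      obtain ⟨a1, ha1, b1, hb1, rfl⟩ := ha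
      obtain ⟨a2, ha2, b2, hb2, rfl⟩ := hb
      exact ⟨a1 + a2, add_mem ha1 ha2, b1 + b2, add_mem hb1 hb2, by rw [map_add]; abel⟩
    | hneg a ha =>
      obtain ⟨a1, ha1, b1, hb1, rfl⟩ := ha
      exact ⟨-a1, neg_mem ha1, -b1, neg_mem hb1, by rw [map_neg]; abel⟩
  | succ n ih =>
    induction α using K_induction with
    | h0 => exact ⟨0, zero_mem _, 0, zero_mem _, by simp⟩
    | hs x =>
      have hx : x = (Fin.cons (x 0) (fun i : Fin (n + 1) => x i.succ) :
          Fin (n + 1 + 1) → Lˣ) := by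
        funext i
        refine Fin.cases ?_ (fun i => ?_) i <;> simp
      obtain ⟨a, ha, b, hb, hab⟩ := ih (symbol (fun i : Fin (n + 1) => x i.succ))
      rw [hx, ← lmul_symbol, hab, lmul_spec_expand A L ϖ hϖ]
      set π := unitFrac A L ϖ hϖ.ne_zero with hπ
      set i := ord A L ϖ hϖ (x 0) with hi
      set u := upart A L ϖ hϖ (x 0) with hu
      refine ⟨lmul (unitToFrac A L u) (n + 1) a, lmul_unit_mem_U A L u ha,
        i • a - i • lmul (unitToFrac A L (-1)) n b - lmul (unitToFrac A L u) n b, ?_, ?_⟩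
      · refine sub_mem (sub_mem (AddSubgroup.zsmul_mem _ ha _) (AddSubgroup.zsmul_mem _ ?_ _)) ?_
        · exact lmul_unit_mem_U A L _ hb
        · exact lmul_unit_mem_U A L _ hb
      · simp only [map_add, map_sub, map_zsmul]
        rw [lmul_lmul_self π b, lmul_lmul_swap (unitToFrac A L u) π b,
          ← neg_one_eq A L, lmul_lmul_swap (-1) π b]
        module
    | hadd a b ha hb =>
      obtain ⟨a1, ha1, b1, hb1, rfl⟩ := ha
      obtain ⟨a2, ha2, b2, hb2, rfl⟩ := hb
      exact ⟨a1 + a2, add_mem ha1 ha2, b1 + b2, add_mem hb1 hb2, by rw [map_add]; abel⟩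
    | hneg a ha =>
      obtain ⟨a1, ha1, b1, hb1, rfl⟩ := ha
      exact ⟨-a1, neg_mem ha1, -b1, neg_mem hb1, by rw [map_neg]; abel⟩

end Generation


open MilK Groth.Agent.Lib.helper25.MilKA

section Uniqueness

variable (A : Type u) [CommRing A] [IsDomain A] [IsDiscreteValuationRing A]
  (L : Type v) [Field L] [Algebra A L] [IsFractionRing A L] (ϖ : A) (hϖ : Irreducible ϖ)

local notation "κ" => IsLocalRing.ResidueField A

lemma cons_units {n : ℕ} (u : Fin (n + 1) → Aˣ) :
    (fun i => unitToFrac A L (u i)) =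
      (Fin.cons (unitToFrac A L (u 0)) (fun i : Fin n => unitToFrac A L (u i.succ)) :
        Fin (n + 1) → Lˣ) := by
  funext i
  refine Fin.cases ?_ (fun i => ?_) i <;> simp

lemma unitFrac_mul_unit (u : Aˣ) (h : ϖ * (u : A) ≠ 0) :
    unitFrac A L (ϖ * u) h = unitFrac A L ϖ hϖ.ne_zero * unitToFrac A L u := by
  ext
  simp only [coe_unitFrac, Units.val_mul, map_mul]
  rfl

variable {A L} in
/-- a tame symbol kills the symbols of units. -/
lemma isTameSymbol_eq_zero_of_mem_U {n : ℕ} {d : K L (n + 1) →+ K κ n}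
    (hd : IsTameSymbol A L n d) {a : K L (n + 1)} (ha : a ∈ U A L (n + 1)) : d a = 0 := by
  obtain ⟨ϖ, hϖ⟩ := IsDiscreteValuationRing.exists_irreducible A
  induction ha using AddSubgroup.closure_induction with
  | mem x hx =>
    obtain ⟨us, rfl⟩ := hx
    have hirr : Irreducible (ϖ * (us 0 : A)) := (irreducible_mul_units (us 0)).mpr hϖ
    have h1 := hd (ϖ * (us 0 : A)) hirr (fun i => us i.succ)
    have h2 := hd ϖ hϖ (fun i => us i.succ)
    rw [unitFrac_mul_unit A L ϖ hϖ, ← lmul_symbol, lmul_mul, map_add, lmul_symbol, lmul_symbol,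
      h2] at h1
    rw [cons_units]
    exact left_eq_add.mp h1.symm |>.symm ▸ rfl
  | zero => exact map_zero _
  | add x y _ _ hx hy => rw [map_add, hx, hy, add_zero]
  | neg x _ hx => rw [map_neg, hx, neg_zero]

end Uniqueness


open MilK Groth.Agent.Lib.helper25.MilKA

section Uniqueness2

variable (A : Type u) [CommRing A] [IsDomain A] [IsDiscreteValuationRing A]
  (L : Type v) [Field L] [Algebra A L] [IsFractionRing A L] (ϖ : A) (hϖ : Irreducible ϖ)

local notation "κ" => IsLocalRing.ResidueField A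

variable {A L} in
/-- two tame symbols agree. -/
lemma isTameSymbol_ext {n : ℕ} {d d' : K L (n + 1) →+ K κ n}
    (hd : IsTameSymbol A L n d) (hd' : IsTameSymbol A L n d') : d = d' := by
  obtain ⟨ϖ, hϖ⟩ := IsDiscreteValuationRing.exists_irreducible A
  ext α
  obtain ⟨a, ha, b, hb, rfl⟩ := exists_decomp A L ϖ hϖ n α
  rw [map_add, map_add, isTameSymbol_eq_zero_of_mem_U hd ha, isTameSymbol_eq_zero_of_mem_U hd' ha]
  congr 1
  induction hb using AddSubgroup.closure_induction with
  | mem x hx =>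
    obtain ⟨us, rfl⟩ := hx
    rw [lmul_symbol, hd ϖ hϖ us, hd' ϖ hϖ us]
  | zero => simp
  | add x y _ _ hx hy => simp only [map_add, hx, hy]
  | neg x _ hx => simp only [map_neg, hx]

lemma tame_unique {n : ℕ} (d : K L (n + 1) →+ K κ n) (hd : IsTameSymbol A L n d) :
    d = tame A L ϖ hϖ n :=
  isTameSymbol_ext hd (tame_isTameSymbol A L ϖ hϖ n)

lemma spec_unique {n : ℕ} (s : K L n →+ K κ n) (hs : IsSpecMap A L ϖ hϖ n s) :
    s = spec A L ϖ hϖ n := by
  apply hom_ext
  intro x
  have hx : x = fun i => unitFrac A L ϖ hϖ.ne_zero ^ (ord A L ϖ hϖ (x i)) *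
      unitToFrac A L (upart A L ϖ hϖ (x i)) := by
    funext i
    exact decomp_spec A L ϖ hϖ (x i)
  rw [hx, hs, spec_isSpecMap A L ϖ hϖ n]

/-- `ord` and `rpart` of `-π`. -/
lemma neg_unif_eq : -unitFrac A L ϖ hϖ.ne_zero =
    unitFrac A L ϖ hϖ.ne_zero ^ (1 : ℤ) * unitToFrac A L (-1) := by
  rw [← neg_one_eq A L]; simp

lemma ord_neg_unif : ord A L ϖ hϖ (-unitFrac A L ϖ hϖ.ne_zero) = 1 := by
  rw [neg_unif_eq A L ϖ hϖ, ord_pow_mul]

lemma rpart_neg_unif : rpart A L ϖ hϖ (-unitFrac A L ϖ hϖ.ne_zero) = -1 := by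
  rw [neg_unif_eq A L ϖ hϖ, rpart, upart_pow_mul]
  ext
  simp [unitResidue]

/-- `s_π(x) = ∂({-π} x)`. -/
lemma tame_lmul_neg_unif {n : ℕ} (x : K L n) :
    tame A L ϖ hϖ n (lmul (-unitFrac A L ϖ hϖ.ne_zero) n x) = spec A L ϖ hϖ n x := by
  cases n with
  | zero => rw [tame_lmul_zero, ord_neg_unif, one_smul]
  | succ n =>
    rw [tame_lmul_succ, ord_neg_unif, rpart_neg_unif, one_smul, one_smul]
    abel

lemma rpart_unit (u : Aˣ) : rpart A L ϖ hϖ (unitToFrac A L u) = unitResidue A u := by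
  rw [rpart, upart_unit]

/-- `∂({u} ρ) = -{ū} ∂ρ` for a unit `u`. -/
lemma tame_lmul_unit (u : Aˣ) {n : ℕ} (ρ : K L (n + 1)) :
    tame A L ϖ hϖ (n + 1) (lmul (unitToFrac A L u) (n + 1) ρ) =
      - lmul (unitResidue A u) n (tame A L ϖ hϖ n ρ) := by
  rw [tame_lmul_succ, ord_unit, rpart_unit]
  simp

lemma tame_eq_zero_of_mem_U {n : ℕ} {a : K L (n + 1)} (ha : a ∈ U A L (n + 1)) :
    tame A L ϖ hϖ n a = 0 :=
  isTameSymbol_eq_zero_of_mem_U (tame_isTameSymbol A L ϖ hϖ n) ha

end Uniqueness2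


open MilK Groth.Agent.Lib.helper25.MilKA

section SubField

variable (B : Type u) [CommRing B] [IsDomain B] [IsDiscreteValuationRing B]
  (E F : Type v) [Field E] [Field F] [Algebra B F] [IsFractionRing B F]
  [Algebra E B] [Algebra E F] [IsScalarTower E B F] (ϖ : B) (hϖ : Irreducible ϖ)

lemma units_map_eq (e : Eˣ) :
    Units.map ((algebraMap E F : E →+* F) : E →* F) e =
      unitToFrac B F (Units.map ((algebraMap E B : E →+* B) : E →* B) e) := by
  ext
  simp only [Units.coe_map, MonoidHom.coe_coe, unitToFrac]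
  exact IsScalarTower.algebraMap_apply E B F _

lemma map_symbol_eq_units {n : ℕ} (e : Fin n → Eˣ) :
    map (algebraMap E F) n (symbol e) =
      symbol fun i => unitToFrac B F (Units.map ((algebraMap E B : E →+* B) : E →* B) (e i)) := by
  rw [map_symbol]
  congr 1
  funext i
  exact units_map_eq B E F (e i)

lemma map_mem_U {n : ℕ} (x : K E n) : map (algebraMap E F) n x ∈ U B F n := by
  induction x using K_induction with
  | h0 => rw [map_zero]; exact zero_mem _
  | hs e => rw [map_symbol_eq_units B]; exact symbol_units_mem_U B F _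
  | hadd a b ha hb => rw [map_add]; exact add_mem ha hb
  | hneg a ha => rw [map_neg]; exact neg_mem ha

lemma spec_map {n : ℕ} (x : K E n) :
    spec B F ϖ hϖ n (map (algebraMap E F) n x) =
      map ((IsLocalRing.residue B).comp (algebraMap E B)) n x := by
  induction x using K_induction with
  | h0 => simp
  | hs e =>
    rw [map_symbol_eq_units B, spec_units, map_symbol]
    congr 1
  | hadd a b ha hb => simp only [map_add, ha, hb]
  | hneg a ha => simp only [map_neg, ha]

end SubField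


open MilK Groth.Agent.Lib.helper25.MilKA

section TameUnits

variable (A : Type u) [CommRing A] [IsDomain A] [IsDiscreteValuationRing A]
  (L : Type v) [Field L] [Algebra A L] [IsFractionRing A L] (ϖ : A) (hϖ : Irreducible ϖ)

lemma tame_lmul_units (y : Lˣ) {n : ℕ} (us : Fin n → Aˣ) :
    tame A L ϖ hϖ n (lmul y n (symbol fun i => unitToFrac A L (us i))) =
      ord A L ϖ hϖ y • symbol fun i => unitResidue A (us i) := by
  cases n with
  | zero => rw [tame_lmul_zero, spec_zero_symbol, symbol_fin_zero]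
  | succ n =>
    rw [tame_lmul_succ, tame_units, spec_units]
    simp

end TameUnits

section TwoDVR

variable (A B : Type u) [CommRing A] [IsDomain A] [IsDiscreteValuationRing A]
  [CommRing B] [IsDomain B] [IsDiscreteValuationRing B] [Algebra A B] [IsLocalHom (algebraMap A B)]
  (E F : Type v) [Field E] [Field F] [Algebra A E] [IsFractionRing A E] [Algebra B F]
  [IsFractionRing B F] [Algebra E F] [Algebra A F] [IsScalarTower A E F] [IsScalarTower A B F]

lemma algebraMap_comm (a : A) :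
    algebraMap E F (algebraMap A E a) = algebraMap B F (algebraMap A B a) := by
  rw [← IsScalarTower.algebraMap_apply A E F, ← IsScalarTower.algebraMap_apply A B F]

lemma units_map_unitToFrac (u : Aˣ) :
    Units.map ((algebraMap E F : E →+* F) : E →* F) (unitToFrac A E u) =
      unitToFrac B F (Units.map ((algebraMap A B : A →+* B) : A →* B) u) := by
  ext
  simp only [Units.coe_map, MonoidHom.coe_coe, unitToFrac]
  exact algebraMap_comm A B E F _

lemma map_units_symbol {n : ℕ} (us : Fin n → Aˣ) :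
    map (algebraMap E F) n (symbol fun i => unitToFrac A E (us i)) =
      symbol fun i => unitToFrac B F (Units.map ((algebraMap A B : A →+* B) : A →* B) (us i)) := by
  rw [map_symbol]
  congr 1
  funext i
  exact units_map_unitToFrac A B E F (us i)

lemma map_mem_U_of_mem_U {n : ℕ} {a : K E n} (ha : a ∈ U A E n) :
    map (algebraMap E F) n a ∈ U B F n := by
  induction ha using AddSubgroup.closure_induction with
  | mem x hx =>
    obtain ⟨us, rfl⟩ := hx
    rw [map_units_symbol A B]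
    exact symbol_units_mem_U B F _
  | zero => rw [map_zero]; exact zero_mem _
  | add x y _ _ hx hy => rw [map_add]; exact add_mem hx hy
  | neg x _ hx => rw [map_neg]; exact neg_mem hx

lemma unitResidue_map (u : Aˣ) :
    Units.map ((IsLocalRing.ResidueField.map (algebraMap A B) : _ →+* _) : _ →* _)
      (unitResidue A u) = unitResidue B (Units.map ((algebraMap A B : A →+* B) : A →* B) u) := by
  ext
  simp only [Units.coe_map, MonoidHom.coe_coe, unitResidue]
  exact IsLocalRing.ResidueField.map_residue _ _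

variable (ϖA : A) (hϖA : Irreducible ϖA) (ϖB : B) (hϖB : Irreducible ϖB)

lemma ord_map_unif (e : ℕ)
    (he : Ideal.map (algebraMap A B) (IsLocalRing.maximalIdeal A) = IsLocalRing.maximalIdeal B ^ e) :
    ord B F ϖB hϖB (Units.map ((algebraMap E F : E →+* F) : E →* F)
      (unitFrac A E ϖA hϖA.ne_zero)) = e := by
  rw [(IsDiscreteValuationRing.irreducible_iff_uniformizer ϖA).mp hϖA,
    (IsDiscreteValuationRing.irreducible_iff_uniformizer ϖB).mp hϖB, Ideal.map_span,
    Set.image_singleton, Ideal.span_singleton_pow, Ideal.span_singleton_eq_span_singleton] at he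
  obtain ⟨v, hv⟩ := he.symm
  have : Units.map ((algebraMap E F : E →+* F) : E →* F) (unitFrac A E ϖA hϖA.ne_zero) =
      unitFrac B F ϖB hϖB.ne_zero ^ (e : ℤ) * unitToFrac B F v := by
    ext
    simp only [Units.coe_map, MonoidHom.coe_coe, coe_unitFrac, Units.val_mul, zpow_natCast]
    rw [algebraMap_comm A B E F, ← hv, map_mul, map_pow]
    rfl
  rw [this, ord_pow_mul]

/-- compatibility of tame symbols in an extension of discrete valuation rings. -/
lemma tame_map (e : ℕ)
    (he : Ideal.map (algebraMap A B) (IsLocalRing.maximalIdeal A) = IsLocalRing.maximalIdeal B ^ e)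
    {n : ℕ} (x : K E (n + 1)) :
    tame B F ϖB hϖB n (map (algebraMap E F) (n + 1) x) =
      e • map (IsLocalRing.ResidueField.map (algebraMap A B)) n (tame A E ϖA hϖA n x) := by
  obtain ⟨a, ha, b, hb, rfl⟩ := exists_decomp A E ϖA hϖA n x
  rw [map_add, map_add, map_add, map_add, tame_eq_zero_of_mem_U A E ϖA hϖA ha,
    tame_eq_zero_of_mem_U B F ϖB hϖB (map_mem_U_of_mem_U A B E F ha), map_zero, zero_add, zero_add]
  induction hb using AddSubgroup.closure_induction with
  | mem x hx =>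
    obtain ⟨us, rfl⟩ := hx
    rw [map_lmul, map_units_symbol A B, tame_lmul_units, tame_lmul_units, ord_unif,
      ord_map_unif A B E F ϖA hϖA ϖB hϖB e he, one_smul, map_symbol, natCast_zsmul]
    congr 2
  | zero => simp
  | add x y _ _ hx hy => simp only [map_add, hx, hy, smul_add]
  | neg x _ hx => simp only [map_neg, hx, smul_neg]

end TwoDVR


end Groth.Agent.Lib.helper25.MilKB
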