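import Mathlib
import Groth.Agent.Lib.helper25.PB5

set_option autoImplicit false
set_option linter.unusedSectionVars false
universe u

namespace Groth.Agent.Lib.helper25.PB

open TensorProduct KaehlerDifferential IsLocalRing Groth.Agent.Lib.helper25.Cart

section final
variable {A : Type u} [CommRing A] [IsArtinianRing A] [IsLocalRing A]
  (hm : maximalIdeal A ^ 2 = ⊥) (p : ℕ) [hp : Fact p.Prime] [CharP A p] {r : ℕ} (f : Fin r → A)

include hm in
theorem S4595_aux : ∃ _ : IsLocalRing (Bq p f),
    (Module.finrank (ResidueField A) (CotangentSpace A) =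
        Module.finrank (ResidueField (Bq p f)) (CotangentSpace (Bq p f)) ↔
      LinearIndependent (ResidueField A)
        (fun i => (1 : ResidueField A) ⊗ₜ[A] KaehlerDifferential.D ℤ A (f i))) := by
  haveI hloc : IsLocalRing (Bq p f) := isLocalRing_Bq p f hm
  refine ⟨hloc, ?_⟩
  haveI : IsLocalHom (algebraMap A (Bq p f)) := isLocalHom_Bq p f hm
  haveI : Module.Finite A (Bq p f) := finite_Bq p f
  haveI : IsNoetherianRing (Bq p f) := inferInstance
  have hpA : (p : A) = 0 := CharP.cast_eq_zero A p
  have hπ : Function.Surjective (algebraMap (MvPolynomial (Fin r) A) (Bq p f)) :=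
    Ideal.Quotient.mk_surjective
  have hker : ∀ x, algebraMap (MvPolynomial (Fin r) A) (Bq p f) x = 0 ↔ x ∈ Iq p f :=
    fun x => Ideal.Quotient.eq_zero_iff_mem
  exact main_abstract (A := A) (B := Bq p f) p f hpA
    (isFred_Tr p f hπ hker (ResidueField (Bq p f)) hpA)

end final

end Groth.Agent.Lib.helper25.PB
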