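import Groth.Prelude.Def_EGA41
import Mathlib

set_option autoImplicit false
set_option linter.unusedSectionVars false
universe u

namespace Groth.Agent.Lib.helper25.PBasisA

open EGA41

section mono
variable {B : Type u} [CommRing B] {ι : Type u} (x : ι → B)

theorem pMonomial_zero : pMonomial x 0 = 1 := Finsupp.prod_zero_index

theorem pMonomial_add (e f : ι →₀ ℕ) : pMonomial x (e + f) = pMonomial x e * pMonomial x f :=
  Finsupp.prod_add_index' (fun _ => pow_zero _) (fun _ _ _ => pow_add _ _ _)

theorem pMonomial_single (i : ι) (n : ℕ) : pMonomial x (Finsupp.single i n) = x i ^ n :=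
  Finsupp.prod_single_index (pow_zero _)

theorem pMonomial_nsmul (n : ℕ) (k : ι →₀ ℕ) : pMonomial x (n • k) = pMonomial x k ^ n := by
  induction n with
  | zero => simp [pMonomial_zero]
  | succ n ih => rw [succ_nsmul, pMonomial_add, ih, pow_succ]

theorem map_pMonomial {E : Type u} [CommRing E] (v : B →+* E) (e : ι →₀ ℕ) :
    v (pMonomial x e) = pMonomial (fun i => v (x i)) e := by
  simp [pMonomial, Finsupp.prod, map_prod, map_pow]

variable (p : ℕ)

/-- pointwise quotient by `p` -/
noncomputable def fdiv (f : ι →₀ ℕ) : ι →₀ ℕ := f.mapRange (· / p) (Nat.zero_div p)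
/-- pointwise remainder mod `p` -/
noncomputable def fmod (f : ι →₀ ℕ) : ι →₀ ℕ := f.mapRange (· % p) (Nat.zero_mod p)

theorem fdiv_add_fmod (f : ι →₀ ℕ) : p • fdiv p f + fmod p f = f := by
  ext i
  simp [fdiv, fmod, Nat.div_add_mod]

theorem fmod_lt (hp : 0 < p) (f : ι →₀ ℕ) (i : ι) : fmod p f i < p := by
  simp only [fmod, Finsupp.mapRange_apply]
  exact Nat.mod_lt _ hp

end mono

/-- abstract `p`-basis situation: `B` is free over `A` on the reduced monomials, and `B^p ⊆ A`. -/
structure PB (p : ℕ) (A : Type u) {B : Type u} [CommRing A] [CommRing B] [Algebra A B] {ι : Type u}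
    (x : ι → B) : Prop where
  li : LinearIndependent A (fun e : {e : ι →₀ ℕ // ∀ i, e i < p} => pMonomial x e.1)
  sp : Submodule.span A (Set.range fun e : {e : ι →₀ ℕ // ∀ i, e i < p} => pMonomial x e.1) = ⊤
  pow : ∀ b : B, b ^ p ∈ Set.range (algebraMap A B)

section engine
variable {p : ℕ} [hp : Fact p.Prime] {A B : Type u} [CommRing A] [CommRing B] [Algebra A B]
  {ι : Type u} {x : ι → B}

/-- the basis of reduced monomials -/
noncomputable def PB.basis (h : PB p A x) : Module.Basis {e : ι →₀ ℕ // ∀ i, e i < p} A B :=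
  Module.Basis.mk h.li h.sp.ge

theorem PB.basis_apply (h : PB p A x) (e : {e : ι →₀ ℕ // ∀ i, e i < p}) :
    h.basis e = pMonomial x e.1 := by
  rw [PB.basis, Module.Basis.mk_apply]

theorem PB.exists_ringHom (h : PB p A x) {E : Type u} [CommRing E] (g : A →+* E) (z : ι → E)
    (hz : ∀ (k : ι →₀ ℕ) (a : A), algebraMap A B a = pMonomial x k ^ p → g a = pMonomial z k ^ p) :
    ∃ v : B →+* E, (∀ a, v (algebraMap A B a) = g a) ∧ ∀ i, v (x i) = z i := by
  let : Algebra A E := g.toAlgebra
  have hsm : ∀ (a : A) (e : E), a • e = g a * e := fun a e => rfl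
  let v₀ : B →ₗ[A] E := h.basis.constr ℕ (fun e => pMonomial z e.1)
  have hv₀ : ∀ e : {e : ι →₀ ℕ // ∀ i, e i < p}, v₀ (pMonomial x e.1) = pMonomial z e.1 := by
    intro e
    rw [← h.basis_apply, Module.Basis.constr_basis]
  have key : ∀ f : ι →₀ ℕ, v₀ (pMonomial x f) = pMonomial z f := by
    intro f
    obtain ⟨a, ha⟩ := h.pow (pMonomial x (fdiv p f))
    have h1 : pMonomial x f = a • pMonomial x (fmod p f) := by
      conv_lhs => rw [← fdiv_add_fmod p f, pMonomial_add, pMonomial_nsmul, ← ha]
      rw [Algebra.smul_def]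
    rw [h1, map_smul, hv₀ ⟨fmod p f, fmod_lt p hp.out.pos f⟩, hsm, hz _ a ha, ← pMonomial_nsmul,
      ← pMonomial_add, fdiv_add_fmod]
  have hmul : ∀ b b', v₀ (b * b') = v₀ b * v₀ b' := by
    have : (LinearMap.mul A B).compr₂ v₀ = (LinearMap.mul A E).compl₁₂ v₀ v₀ := by
      apply h.basis.ext
      intro e
      apply h.basis.ext
      intro e'
      simp only [LinearMap.compr₂_apply, LinearMap.mul_apply', LinearMap.compl₁₂_apply,
        h.basis_apply]
      rw [← pMonomial_add, key, hv₀, hv₀, pMonomial_add]
    intro b b'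
    exact LinearMap.congr_fun (LinearMap.congr_fun this b) b'
  have hone : v₀ 1 = 1 := by
    rw [← pMonomial_zero x, key, pMonomial_zero]
  refine ⟨{ toFun := v₀, map_one' := hone, map_mul' := hmul, map_zero' := map_zero v₀,
            map_add' := map_add v₀ }, ?_, ?_⟩
  · intro a
    change v₀ (algebraMap A B a) = g a
    rw [Algebra.algebraMap_eq_smul_one, map_smul, hone, hsm, mul_one]
  · intro i
    change v₀ (x i) = z i
    have := key (Finsupp.single i 1)
    rwa [pMonomial_single, pMonomial_single, pow_one, pow_one] at this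

theorem PB.ringHom_ext (h : PB p A x) {E : Type u} [CommRing E] (v v' : B →+* E)
    (h1 : ∀ a, v (algebraMap A B a) = v' (algebraMap A B a)) (h2 : ∀ i, v (x i) = v' (x i)) :
    v = v' := by
  ext b
  have hb : b ∈ Submodule.span A (Set.range fun e : {e : ι →₀ ℕ // ∀ i, e i < p} =>
      pMonomial x e.1) := by rw [h.sp]; trivial
  induction hb using Submodule.span_induction with
  | mem y hy =>
    obtain ⟨e, rfl⟩ := hy
    rw [map_pMonomial, map_pMonomial]
    congr 1
    funext i
    exact h2 i
  | zero => simp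
  | add y y' _ _ hy hy' => rw [map_add, map_add, hy, hy']
  | smul a y _ hy => rw [Algebra.smul_def, map_mul, map_mul, h1, hy]

end engine

open EGA41

section der
variable {p : ℕ} [hp : Fact p.Prime] {A B : Type u} [CommRing A] [CommRing B] [Algebra A B]
  [CharP B p] {ι : Type u} {x : ι → B}

theorem PB.exists_derivation (h : PB p A x) (L : Type u) [AddCommGroup L] [Module B L] [Module A L]
    [IsScalarTower A B L] (D : Derivation ℤ A L)
    (hD : ∀ (a : A) (b : B), algebraMap A B a = b ^ p → D a = 0) (y : ι → L) :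
    ∃ D' : Derivation ℤ B L, (∀ a, D' (algebraMap A B a) = D a) ∧ ∀ i, D' (x i) = y i := by
  let _ : Module Bᵐᵒᵖ L := Module.compHom L ((RingHom.id B).fromOpposite (fun _ _ => mul_comm _ _))
  have _ : IsCentralScalar B L := ⟨fun r m => rfl⟩
  have hpL : ∀ l : L, p • l = 0 := by
    intro l
    rw [← Nat.cast_smul_eq_nsmul B, CharP.cast_eq_zero, zero_smul]
  let g : A →+* TrivSqZeroExt B L :=
    { toFun := fun a => TrivSqZeroExt.inl (algebraMap A B a) + TrivSqZeroExt.inr (D a)
      map_one' := by
        ext <;> simp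
      map_mul' := by
        intro a a'
        apply TrivSqZeroExt.ext
        · simp only [TrivSqZeroExt.fst_add, TrivSqZeroExt.fst_inl, TrivSqZeroExt.fst_inr,
            TrivSqZeroExt.fst_mul, add_zero, map_mul]
        · simp only [TrivSqZeroExt.snd_add, TrivSqZeroExt.snd_inl, TrivSqZeroExt.snd_inr,
            TrivSqZeroExt.snd_mul, TrivSqZeroExt.fst_add, TrivSqZeroExt.fst_inl,
            TrivSqZeroExt.fst_inr, add_zero, zero_add, Derivation.leibniz, op_smul_eq_smul,
            algebraMap_smul]
      map_zero' := by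
        ext <;> simp
      map_add' := by
        intro a a'
        ext <;> simp [add_add_add_comm] }
  let z : ι → TrivSqZeroExt B L := fun i => TrivSqZeroExt.inl (x i) + TrivSqZeroExt.inr (y i)
  let fstR : TrivSqZeroExt B L →+* B := (TrivSqZeroExt.fstHom B B L : TrivSqZeroExt B L →ₐ[B] B).toRingHom
  have hfst : ∀ k, (pMonomial z k).fst = pMonomial x k := by
    intro k
    have := map_pMonomial z fstR k
    change (pMonomial z k).fst = _ at this
    rw [this]
    congr 1
    funext i
    simp [fstR, z]
  have hz : ∀ (k : ι →₀ ℕ) (a : A), algebraMap A B a = pMonomial x k ^ p →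
      g a = pMonomial z k ^ p := by
    intro k a ha
    ext
    · change (TrivSqZeroExt.inl (algebraMap A B a) + TrivSqZeroExt.inr (D a) : TrivSqZeroExt B L).fst = _
      rw [TrivSqZeroExt.fst_pow, hfst, ← ha]
      simp
    · change (TrivSqZeroExt.inl (algebraMap A B a) + TrivSqZeroExt.inr (D a) : TrivSqZeroExt B L).snd = _
      rw [TrivSqZeroExt.snd_pow, hpL, hD a _ ha]
      simp
  obtain ⟨v, hv1, hv2⟩ := h.exists_ringHom g z hz
  have hfv : fstR.comp v = RingHom.id B := by
    apply h.ringHom_ext
    · intro a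
      simp [hv1, fstR, g]
    · intro i
      simp [hv2, fstR, z]
  have hfv' : ∀ b, (v b).fst = b := fun b => RingHom.congr_fun hfv b
  refine ⟨{ toLinearMap := ((TrivSqZeroExt.sndHom B L).toAddMonoidHom.comp
              v.toAddMonoidHom).toIntLinearMap
            map_one_eq_zero' := by
              change (v 1).snd = 0
              rw [map_one]; rfl
            leibniz' := by
              intro b b'
              change (v (b * b')).snd = b • (v b').snd + b' • (v b).snd
              rw [map_mul, TrivSqZeroExt.snd_mul, hfv', hfv', op_smul_eq_smul] }, ?_, ?_⟩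
  · intro a
    change (v (algebraMap A B a)).snd = D a
    rw [hv1]
    simp [g]
  · intro i
    change (v (x i)).snd = y i
    rw [hv2]
    simp [z]

theorem PB.derivation_ext (h : PB p A x) {L : Type u} [AddCommGroup L] [Module B L]
    (D₁ D₂ : Derivation ℤ B L) (h1 : ∀ a, D₁ (algebraMap A B a) = D₂ (algebraMap A B a))
    (h2 : ∀ i, D₁ (x i) = D₂ (x i)) : D₁ = D₂ := by
  ext b
  have hb : b ∈ Submodule.span A (Set.range fun e : {e : ι →₀ ℕ // ∀ i, e i < p} =>
      pMonomial x e.1) := by rw [h.sp]; trivial
  have hmon : ∀ k : ι →₀ ℕ, D₁ (pMonomial x k) = D₂ (pMonomial x k) := by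
    intro k
    induction k using Finsupp.induction with
    | zero => rw [pMonomial_zero]; simp
    | single_add i n f _ _ ih =>
      rw [pMonomial_add, Derivation.leibniz, Derivation.leibniz, ih, pMonomial_single,
        Derivation.leibniz_pow, Derivation.leibniz_pow, h2]
  induction hb using Submodule.span_induction with
  | mem y hy =>
    obtain ⟨e, rfl⟩ := hy
    exact hmon e.1
  | zero => simp
  | add y y' _ _ hy hy' => rw [map_add, map_add, hy, hy']
  | smul a y _ hy => rw [Algebra.smul_def, Derivation.leibniz, Derivation.leibniz, h1, hy]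

end der


open EGA41

section transfer
variable {p : ℕ} [hp : Fact p.Prime] {A B : Type u} [CommRing A] [CommRing B] [Algebra A B]
  {ι : Type u} {x : ι → B}

theorem PB.of_isPBasis (hx : IsPBasis p A x) : PB p (pPowerSubalgebra p A B) x :=
  ⟨hx.1, hx.2, fun b => ⟨⟨b ^ p, Algebra.subset_adjoin ⟨b, rfl⟩⟩, rfl⟩⟩

theorem pPower_surj (hpow : ∀ b : B, b ^ p ∈ Set.range (algebraMap A B)) :
    Function.Surjective (algebraMap A (pPowerSubalgebra p A B)) := by
  rintro ⟨c, hc⟩
  have hle : pPowerSubalgebra p A B ≤ ⊥ := by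
    apply Algebra.adjoin_le
    rintro _ ⟨b, rfl⟩
    exact Algebra.mem_bot.2 (hpow b)
  obtain ⟨a, ha⟩ := Algebra.mem_bot.1 (hle hc)
  exact ⟨a, Subtype.ext ha⟩

theorem PB.of_isPBasis_of_inj (hinj : Function.Injective (algebraMap A B))
    (hpow : ∀ b : B, b ^ p ∈ Set.range (algebraMap A B)) (hx : IsPBasis p A x) : PB p A x := by
  refine ⟨?_, ?_, hpow⟩
  · refine LinearIndependent.restrict_scalars (R := A) ?_ hx.1
    intro a a' h
    apply hinj
    have := congrArg (Subtype.val) h
    simpa [Algebra.algebraMap_eq_smul_one] using this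
  · have h1 := Submodule.restrictScalars_span A (pPowerSubalgebra p A B) (pPower_surj hpow)
      (Set.range fun e : {e : ι →₀ ℕ // ∀ i, e i < p} => pMonomial x e.1)
    have h2 : Submodule.span (pPowerSubalgebra p A B)
      (Set.range fun e : {e : ι →₀ ℕ // ∀ i, e i < p} => pMonomial x e.1) = ⊤ := hx.2
    rw [h2] at h1
    rw [← h1]
    rfl

theorem der_monomial_mem_span {L : Type u} [AddCommGroup L] [Module B L] (d : Derivation ℤ B L)
    (k : ι →₀ ℕ) : d (pMonomial x k) ∈ Submodule.span B (Set.range fun i => d (x i)) := by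
  induction k using Finsupp.induction with
  | zero => rw [pMonomial_zero]; simp
  | single_add i n f _ _ ih =>
    rw [pMonomial_add, Derivation.leibniz, pMonomial_single, Derivation.leibniz_pow]
    refine Submodule.add_mem _ (Submodule.smul_mem _ _ ih) (Submodule.smul_mem _ _ ?_)
    rw [← Nat.cast_smul_eq_nsmul B]
    exact Submodule.smul_mem _ _ (Submodule.smul_mem _ _ (Submodule.subset_span ⟨i, rfl⟩))

theorem der_mem_span_of_gen
    (hsp : Submodule.span A (Set.range fun e : {e : ι →₀ ℕ // ∀ i, e i < p} => pMonomial x e.1) = ⊤)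
    {L : Type u} [AddCommGroup L] [Module B L] (d : Derivation ℤ B L)
    (h0 : ∀ a, d (algebraMap A B a) = 0) (b : B) :
    d b ∈ Submodule.span B (Set.range fun i => d (x i)) := by
  have hb : b ∈ Submodule.span A (Set.range fun e : {e : ι →₀ ℕ // ∀ i, e i < p} =>
      pMonomial x e.1) := by rw [hsp]; trivial
  induction hb using Submodule.span_induction with
  | mem y hy =>
    obtain ⟨e, rfl⟩ := hy
    exact der_monomial_mem_span d e.1
  | zero => simp
  | add y y' _ _ hy hy' => rw [map_add]; exact Submodule.add_mem _ hy hy'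
  | smul a y _ hy =>
    rw [Algebra.smul_def, Derivation.leibniz, h0, smul_zero, add_zero]
    exact Submodule.smul_mem _ _ hy

/-- elements of `A[B^p]` are killed by every `A`-derivation in characteristic `p`. -/
theorem der_pPower_eq_zero [CharP B p] {L : Type u} [AddCommGroup L] [Module B L] [Module A L]
    [IsScalarTower A B L] (d : Derivation A B L) (c : B) (hc : c ∈ pPowerSubalgebra p A B) :
    d c = 0 := by
  induction hc using Algebra.adjoin_induction with
  | mem y hy =>
    obtain ⟨b, rfl⟩ := hy
    rw [Derivation.leibniz_pow, ← Nat.cast_smul_eq_nsmul B, CharP.cast_eq_zero, zero_smul]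
  | algebraMap a => exact d.map_algebraMap a
  | add y y' _ _ hy hy' => rw [map_add, hy, hy', add_zero]
  | mul y y' _ _ hy hy' => rw [Derivation.leibniz, hy, hy', smul_zero, smul_zero, add_zero]

end transfer

section kaehler
variable {p : ℕ} [hp : Fact p.Prime] {A B : Type u} [CommRing A] [CommRing B] [Algebra A B]
  [CharP B p] {ι : Type u} {x : ι → B}

/-- the coordinate derivation `∂/∂x_j` attached to a `p`-basis -/
theorem exists_coord_derivation (hx : IsPBasis p A x) [DecidableEq ι] (j : ι) :
    ∃ d : Derivation A B B, ∀ i, d (x i) = if i = j then 1 else 0 := by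
  have h := PB.of_isPBasis hx
  obtain ⟨D', hD1, hD2⟩ := h.exists_derivation B (0 : Derivation ℤ (pPowerSubalgebra p A B) B)
    (fun _ _ _ => rfl) (fun i => if i = j then 1 else 0)
  have hA : ∀ a : A, D' (algebraMap A B a) = 0 := by
    intro a
    have := hD1 (algebraMap A (pPowerSubalgebra p A B) a)
    simpa using this
  refine ⟨{ toLinearMap :=
              { toFun := D'
                map_add' := map_add D'
                map_smul' := by
                  intro a b
                  rw [Algebra.smul_def, Derivation.leibniz, hA, smul_zero, add_zero,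
                    RingHom.id_apply, algebraMap_smul] }
            map_one_eq_zero' := D'.map_one_eq_zero
            leibniz' := D'.leibniz }, hD2⟩

theorem kaehler_basis_of_pBasis (hx : IsPBasis p A x) :
    ∃ b : Module.Basis ι B (Ω[B⁄A]), ∀ i, b i = KaehlerDifferential.D A B (x i) := by
  classical
  have h := PB.of_isPBasis hx
  have li : LinearIndependent B (fun i => KaehlerDifferential.D A B (x i)) := by
    rw [linearIndependent_iff']
    intro s g hg j hj
    obtain ⟨d, hd⟩ := exists_coord_derivation hx j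
    have := congrArg d.liftKaehlerDifferential hg
    rw [map_sum, map_zero] at this
    simp only [map_smul, Derivation.liftKaehlerDifferential_comp_D, hd, smul_eq_mul, mul_ite,
      mul_one, mul_zero, Finset.sum_ite_eq', hj, if_true] at this
    exact this
  have sp : ⊤ ≤ Submodule.span B (Set.range fun i => KaehlerDifferential.D A B (x i)) := by
    rw [← KaehlerDifferential.span_range_derivation A B, Submodule.span_le]
    rintro _ ⟨b, rfl⟩
    have := der_mem_span_of_gen (A := pPowerSubalgebra p A B) h.sp
      ((KaehlerDifferential.D A B).restrictScalars ℤ)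
      (fun c => der_pPower_eq_zero (KaehlerDifferential.D A B) c.1 c.2) b
    exact this
  exact ⟨Module.Basis.mk li sp, fun i => Module.Basis.mk_apply li sp i⟩

end kaehler


open EGA41

section rows
variable {p : ℕ} [hp : Fact p.Prime] {A B : Type u} [CommRing A] [CommRing B] [Algebra A B]
  [CharP B p] {ι : Type u} {x : ι → B}

theorem S2465_aux (hinj : Function.Injective (algebraMap A B))
    (hpow : ∀ b : B, b ^ p ∈ Set.range (algebraMap A B)) (hx : IsPBasis p A x)
    (L : Type u) [AddCommGroup L] [Module B L] [Module A L] [IsScalarTower A B L]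
    (D : Derivation ℤ A L) :
    ((∃ D' : Derivation ℤ B L, ∀ a : A, D' (algebraMap A B a) = D a) ↔
      ∀ (a : A) (b : B), algebraMap A B a = b ^ p → D a = 0) ∧
    ((∀ (a : A) (b : B), algebraMap A B a = b ^ p → D a = 0) →
      ∀ y : ι → L, ∃! D' : Derivation ℤ B L,
        (∀ a : A, D' (algebraMap A B a) = D a) ∧ ∀ i, D' (x i) = y i) := by
  have h := PB.of_isPBasis_of_inj hinj hpow hx
  have hii : (∀ (a : A) (b : B), algebraMap A B a = b ^ p → D a = 0) →
      ∀ y : ι → L, ∃! D' : Derivation ℤ B L,
        (∀ a : A, D' (algebraMap A B a) = D a) ∧ ∀ i, D' (x i) = y i := by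
    intro hD y
    obtain ⟨D', h1, h2⟩ := h.exists_derivation L D hD y
    refine ⟨D', ⟨h1, h2⟩, ?_⟩
    rintro D'' ⟨h1', h2'⟩
    apply h.derivation_ext
    · intro a; rw [h1, h1']
    · intro i; rw [h2, h2']
  refine ⟨⟨?_, ?_⟩, hii⟩
  · rintro ⟨D', hD'⟩ a b hab
    rw [← hD', hab, Derivation.leibniz_pow, ← Nat.cast_smul_eq_nsmul B, CharP.cast_eq_zero,
      zero_smul]
  · intro hD
    obtain ⟨D', ⟨h1, _⟩, _⟩ := hii hD (fun _ => 0)
    exact ⟨D', h1⟩

theorem S2464_aux (hinj : Function.Injective (algebraMap A B))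
    (hpow : ∀ b : B, b ^ p ∈ Set.range (algebraMap A B)) (hx : IsPBasis p A x)
    {E : Type u} [CommRing E] [Algebra A E] (q : E →ₐ[A] B) (hq : Function.Surjective q)
    (hK : RingHom.ker q.toRingHom ^ p = ⊥) :
    ((∃ v : B →ₐ[A] E, q.comp v = AlgHom.id A B) ↔
      ∀ (z : E) (a : A), algebraMap A B a = q z ^ p → algebraMap A E a = z ^ p) ∧
    ((∀ (z : E) (a : A), algebraMap A B a = q z ^ p → algebraMap A E a = z ^ p) →
      ∀ z : ι → E, (∀ i, q (z i) = x i) →
        (∃! v : B →ₐ[A] E, ∀ i, v (x i) = z i) ∧
          ∀ v : B →ₐ[A] E, (∀ i, v (x i) = z i) → q.comp v = AlgHom.id A B) := by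
  have h := PB.of_isPBasis_of_inj hinj hpow hx
  have hcomp : ∀ z : ι → E, (∀ i, q (z i) = x i) →
      ∀ v : B →ₐ[A] E, (∀ i, v (x i) = z i) → q.comp v = AlgHom.id A B := by
    intro z hz v hv
    have : (q.comp v : B →ₐ[A] B).toRingHom = (AlgHom.id A B).toRingHom := by
      apply h.ringHom_ext
      · intro a; simp
      · intro i; simp [hv, hz]
    ext b
    exact RingHom.congr_fun this b
  have hii : (∀ (z : E) (a : A), algebraMap A B a = q z ^ p → algebraMap A E a = z ^ p) →
      ∀ z : ι → E, (∀ i, q (z i) = x i) →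
        (∃! v : B →ₐ[A] E, ∀ i, v (x i) = z i) ∧
          ∀ v : B →ₐ[A] E, (∀ i, v (x i) = z i) → q.comp v = AlgHom.id A B := by
    intro hstar z hz
    refine ⟨?_, hcomp z hz⟩
    have hqz : ∀ k : ι →₀ ℕ, q (pMonomial z k) = pMonomial x k := by
      intro k
      have := map_pMonomial z q.toRingHom k
      change q (pMonomial z k) = _ at this
      rw [this]
      congr 1
      funext i
      exact hz i
    obtain ⟨v, hv1, hv2⟩ := h.exists_ringHom (algebraMap A E) z (by
      intro k a ha
      apply hstar
      rw [ha, hqz])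
    refine ⟨{ v with commutes' := hv1 }, hv2, ?_⟩
    intro v' hv'
    have : v'.toRingHom = v := by
      apply h.ringHom_ext
      · intro a; simp [hv1]
      · intro i; simp [hv', hv2]
    ext b
    exact RingHom.congr_fun this b
  refine ⟨⟨?_, ?_⟩, hii⟩
  · rintro ⟨v, hv⟩ z a ha
    have hpA : (p : A) = 0 := by
      apply hinj
      rw [map_natCast, map_zero, CharP.cast_eq_zero]
    have hpE : (p : E) = 0 := by
      rw [← map_natCast (algebraMap A E), hpA, map_zero]
    have : Nontrivial B := CharP.nontrivial_of_char_ne_one (R := B) hp.out.ne_one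
    have : Nontrivial E := q.toRingHom.domain_nontrivial
    have : CharP E p := (CharP.charP_iff_prime_eq_zero hp.out).2 hpE
    have hmem : z - v (q z) ∈ RingHom.ker q.toRingHom := by
      rw [RingHom.mem_ker]
      change q (z - v (q z)) = 0
      rw [map_sub]
      have := AlgHom.congr_fun hv (q z)
      change q (v (q z)) = q z at this
      rw [this, sub_self]
    have hp0 : (z - v (q z)) ^ p = 0 := by
      have := Ideal.pow_mem_pow hmem p
      rw [hK] at this
      exact this
    rw [sub_pow_char, sub_eq_zero] at hp0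
    rw [hp0, ← map_pow, ← ha, AlgHom.commutes]
  · intro hstar
    choose z hz using fun i => hq (x i)
    obtain ⟨⟨v, hv, _⟩, hc⟩ := hii hstar z hz
    exact ⟨v, hc v hv⟩

end rows


end Groth.Agent.Lib.helper25.PBasisA
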