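import Groth.Agent.Lib.helper25.PBasisA
import Groth.Prelude.Def_FSRel

set_option autoImplicit false
set_option linter.unusedSectionVars false
universe u

namespace Groth.Agent.Lib.helper25.PBasisB
open Groth.Agent.Lib.helper25.PBasisA

open EGA41

section rows2
variable {p : ℕ} [hp : Fact p.Prime]

theorem S4519_aux {R A B : Type u} [CommRing R] [CommRing A]
    [CommRing B] [Algebra R A] [Algebra A B] [Algebra R B] [IsScalarTower R A B] [CharP B p]
    (hinj : Function.Injective (algebraMap A B)) (hpow : ∀ b : B, b ^ p ∈ Set.range (algebraMap A B))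
    (hR : Set.range (algebraMap R B) = Set.range fun b : B => b ^ p)
    {ι : Type u} (x : ι → B) (hx : EGA41.IsPBasis p A x) :
    EGA41.IsFormallySmoothRel R A B := by
  intro C _ _ _ _ J _ u₀ ⟨u, hu⟩
  have h := PB.of_isPBasis_of_inj hinj hpow hx
  obtain ⟨v, hv1, hv2⟩ := h.exists_ringHom (algebraMap A C) (fun i => u (x i)) (by
    intro k a ha
    have hmem : pMonomial x k ^ p ∈ Set.range (algebraMap R B) := by
      rw [hR]; exact ⟨_, rfl⟩
    obtain ⟨r, hr⟩ := hmem
    have har : a = algebraMap R A r := by
      apply hinj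
      rw [ha, ← hr, ← IsScalarTower.algebraMap_apply]
    rw [har, ← IsScalarTower.algebraMap_apply, ← u.commutes, hr, map_pow]
    congr 1
    exact map_pMonomial x u.toRingHom k)
  refine ⟨{ v with commutes' := hv1 }, ?_⟩
  have : ((Ideal.Quotient.mkₐ A J).comp ({ v with commutes' := hv1 } : B →ₐ[A] C)).toRingHom
      = u₀.toRingHom := by
    apply h.ringHom_ext
    · intro a
      simp
    · intro i
      have := AlgHom.congr_fun hu (x i)
      simp only [AlgHom.toRingHom_eq_coe, RingHom.coe_coe, AlgHom.coe_comp,
        Function.comp_apply]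
      change Ideal.Quotient.mk J (v (x i)) = u₀ (x i)
      rw [hv2]
      exact this
  ext b
  exact RingHom.congr_fun this b

end rows2

end Groth.Agent.Lib.helper25.PBasisB
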