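import Groth.Agent.Lib.helper25.PBasisA

set_option autoImplicit false
set_option linter.unusedSectionVars false
universe u

namespace Groth.Agent.Lib.helper25.PBasisF

open EGA41 Groth.Agent.Lib.helper25.PBasisA

/-- reduced exponent vectors -/
abbrev Ered (p : ℕ) (ι : Type u) := {e : ι →₀ ℕ // ∀ i, e i < p}

section W
variable {p : ℕ} [hp : Fact p.Prime] {F K : Type u} [Field F] [Field K] [Algebra F K] [CharP K p]
  {ι : Type u} (x : ι → K)

/-- the reduced monomial family -/
noncomputable def mon (e : Ered p ι) : K := pMonomial x e.1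

/-- reduced exponents supported in `T` -/
def MT (p : ℕ) (T : Set ι) : Set (Ered p ι) := {e | ∀ i, i ∉ T → e.1 i = 0}

theorem MT_mono {T T' : Set ι} (h : T ⊆ T') : MT p T ⊆ MT p T' :=
  fun _ he i hi => he i (fun h' => hi (h h'))

theorem isIntegral_of_pow (hF : ∀ b : K, b ^ p ∈ Set.range (algebraMap F K)) (b : K) :
    IsIntegral F b := by
  obtain ⟨f, hf⟩ := hF b
  exact IsIntegral.of_pow hp.out.pos (hf ▸ isIntegral_algebraMap)

theorem isAlgebraic_of_pow (hF : ∀ b : K, b ^ p ∈ Set.range (algebraMap F K)) :
    Algebra.IsAlgebraic F K :=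
  ⟨fun b => (isIntegral_of_pow hF b).isAlgebraic⟩

theorem mon_mem_adjoin (T : Set ι) (e : Ered p ι) (he : e ∈ MT p T) :
    mon x e ∈ Algebra.adjoin F (x '' T) := by
  unfold mon pMonomial Finsupp.prod
  apply Subalgebra.prod_mem
  intro i hi
  apply Subalgebra.pow_mem
  apply Algebra.subset_adjoin
  refine ⟨i, ?_, rfl⟩
  by_contra hiT
  exact (Finsupp.mem_support_iff.1 hi) (he i hiT)

theorem span_mul_le (hF : ∀ b : K, b ^ p ∈ Set.range (algebraMap F K)) (T : Set ι) :
    Submodule.span F (mon x '' MT p T) * Submodule.span F (mon x '' MT p T) ≤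
      Submodule.span F (mon x '' MT p T) := by
  rw [Submodule.span_mul_span, Submodule.span_le]
  rintro _ ⟨_, ⟨e, he, rfl⟩, _, ⟨e', he', rfl⟩, rfl⟩
  obtain ⟨f, hf⟩ := hF (pMonomial x (fdiv p (e.1 + e'.1)))
  have h1 : mon x e * mon x e' = f • mon x ⟨fmod p (e.1 + e'.1), fmod_lt p hp.out.pos _⟩ := by
    unfold mon
    rw [← pMonomial_add]
    conv_lhs => rw [← fdiv_add_fmod p (e.1 + e'.1), pMonomial_add, pMonomial_nsmul, ← hf]
    rw [Algebra.smul_def]
  change mon x e * mon x e' ∈ _
  rw [h1]
  apply Submodule.smul_mem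
  apply Submodule.subset_span
  refine ⟨_, ?_, rfl⟩
  intro i hi
  simp only [fmod, Finsupp.mapRange_apply, Finsupp.add_apply, he i hi, he' i hi]
  simp

theorem adjoin_eq_span (hF : ∀ b : K, b ^ p ∈ Set.range (algebraMap F K)) (T : Set ι) :
    Subalgebra.toSubmodule (Algebra.adjoin F (x '' T)) = Submodule.span F (mon x '' MT p T) := by
  apply le_antisymm
  · have h1 : (1 : K) ∈ Submodule.span F (mon x '' MT p T) := by
      apply Submodule.subset_span
      refine ⟨⟨0, fun i => hp.out.pos⟩, fun i _ => rfl, ?_⟩
      unfold mon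
      exact pMonomial_zero x
    let S : Subalgebra F K := Submodule.toSubalgebra (Submodule.span F (mon x '' MT p T)) h1
      (fun a b ha hb => span_mul_le x hF T (Submodule.mul_mem_mul ha hb))
    have : Algebra.adjoin F (x '' T) ≤ S := by
      apply Algebra.adjoin_le
      rintro _ ⟨i, hi, rfl⟩
      apply Submodule.subset_span
      refine ⟨⟨Finsupp.single i 1, fun j => ?_⟩, ?_, ?_⟩
      · classical
        rw [Finsupp.single_apply]
        split_ifs
        · exact hp.out.one_lt
        · exact hp.out.pos
      · intro j hj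
        classical
        rw [Finsupp.single_apply, if_neg]
        rintro rfl
        exact hj hi
      · unfold mon
        rw [pMonomial_single, pow_one]
    intro y hy
    exact this hy
  · rw [Submodule.span_le]
    rintro _ ⟨e, he, rfl⟩
    exact mon_mem_adjoin x T e he

theorem natDegree_minpoly_eq (hF : ∀ b : K, b ^ p ∈ Set.range (algebraMap F K))
    (G : IntermediateField F K) (z : K) (hz : z ∉ G) : (minpoly G z).natDegree = p := by
  haveI : ExpChar K p := ExpChar.prime hp.out
  obtain ⟨f, hf⟩ := hF z
  let a : G := algebraMap F G f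
  have ha : (a : K) = z ^ p := hf
  have hirr : Irreducible (Polynomial.X ^ p - Polynomial.C a : Polynomial G) := by
    apply X_pow_sub_C_irreducible_of_prime hp.out
    intro b hb
    apply hz
    have : (b : K) ^ p = z ^ p := by
      rw [← ha, ← hb]
      rfl
    have := frobenius_inj K p this
    rw [← this]
    exact b.2
  have hroot : Polynomial.aeval z (Polynomial.X ^ p - Polynomial.C a : Polynomial G) = 0 := by
    simp only [map_sub, map_pow, Polynomial.aeval_X, Polynomial.aeval_C]
    rw [sub_eq_zero]
    exact ha.symm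
  have hmonic : (Polynomial.X ^ p - Polynomial.C a : Polynomial G).Monic :=
    Polynomial.monic_X_pow_sub_C a hp.out.ne_zero
  rw [← minpoly.eq_of_irreducible_of_monic hirr hroot hmonic]
  exact Polynomial.natDegree_X_pow_sub_C

end W


section W2
variable {p : ℕ} [hp : Fact p.Prime] {F K : Type u} [Field F] [Field K] [Algebra F K] [CharP K p]
  {ι : Type u} (x : ι → K)

theorem pind_insert (hF : ∀ b : K, b ^ p ∈ Set.range (algebraMap F K)) (T : Set ι) (a : ι)
    (ha : a ∉ T) (hli : LinearIndepOn F (mon x) (MT p T))
    (hz : x a ∉ Algebra.adjoin F (x '' T)) :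
    LinearIndepOn F (mon x) (MT p (insert a T)) := by
  classical
  haveI := isAlgebraic_of_pow (p := p) (F := F) (K := K) hF
  let G : IntermediateField F K := IntermediateField.adjoin F (x '' T)
  have hG : G.toSubalgebra = Algebra.adjoin F (x '' T) := IntermediateField.adjoin_toSubalgebra _
  have hzG : x a ∉ G := fun h => hz (by rw [← hG]; exact h)
  let b : MT p T → G := fun e => ⟨mon x e.1, by
    have := mon_mem_adjoin (F := F) x T e.1 e.2
    rw [← hG] at this
    exact this⟩
  have hb : LinearIndependent F b := LinearIndependent.of_comp (G.val.toLinearMap) hli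
  have hd := natDegree_minpoly_eq hF G (x a) hzG
  have hc : LinearIndependent G (fun j : Fin p => (x a) ^ (j : ℕ)) := by
    have := linearIndependent_pow (K := ↥G) (x a)
    exact hd ▸ this
  have hprod := linearIndependent_smul hb hc
  have hea : ∀ e : MT p T, e.1.1 a = 0 := fun e => e.2 a ha
  let h : MT p T × Fin p → Ered p ι := fun q => ⟨q.1.1.1 + Finsupp.single a (q.2 : ℕ), by
    intro i
    rw [Finsupp.add_apply, Finsupp.single_apply]
    split_ifs with hi
    · subst hi
      rw [hea, zero_add]
      exact q.2.2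
    · rw [add_zero]
      exact q.1.1.2 i⟩
  have hinj : Function.Injective h := by
    rintro ⟨e, j⟩ ⟨e', j'⟩ hq
    have hq' : e.1.1 + Finsupp.single a (j : ℕ) = e'.1.1 + Finsupp.single a (j' : ℕ) :=
      congrArg Subtype.val hq
    have hj : (j : ℕ) = j' := by
      have := DFunLike.congr_fun hq' a
      simpa [hea] using this
    have hj' : j = j' := Fin.ext hj
    subst hj'
    have : e.1.1 = e'.1.1 := add_right_cancel hq'
    have : e = e' := Subtype.ext (Subtype.ext this)
    rw [this]
  have hrange : Set.range h = MT p (insert a T) := by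
    ext e
    constructor
    · rintro ⟨q, rfl⟩ i hi
      have hia : i ≠ a := fun h' => hi (h' ▸ Set.mem_insert _ _)
      have hiT : i ∉ T := fun h' => hi (Set.mem_insert_of_mem _ h')
      change (q.1.1.1 + Finsupp.single a (q.2 : ℕ)) i = 0
      rw [Finsupp.add_apply, Finsupp.single_apply, if_neg (Ne.symm hia), add_zero]
      exact q.1.2 i hiT
    · intro he
      refine ⟨(⟨⟨e.1.erase a, fun i => ?_⟩, fun i hi => ?_⟩, ⟨e.1 a, e.2 a⟩), ?_⟩
      · rw [Finsupp.erase_apply]
        split_ifs
        · exact hp.out.pos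
        · exact e.2 i
      · change (e.1.erase a) i = 0
        rw [Finsupp.erase_apply]
        split_ifs with hia
        · rfl
        · exact he i (fun h' => (Set.mem_insert_iff.1 h').elim hia hi)
      · apply Subtype.ext
        exact Finsupp.erase_add_single a e.1
  have hcomp : mon x ∘ h = fun q : MT p T × Fin p => b q.1 • (x a) ^ (q.2 : ℕ) := by
    funext q
    change pMonomial x (q.1.1.1 + Finsupp.single a (q.2 : ℕ)) = _
    rw [pMonomial_add, pMonomial_single]
    rfl
  rw [← hrange, linearIndepOn_range_iff hinj, hcomp]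
  exact hprod

end W2



section W3
variable {p : ℕ} [hp : Fact p.Prime] {F K : Type u} [Field F] [Field K] [Algebra F K] [CharP K p]
  {ι : Type u} (x : ι → K)

/-- the exponent `ε_a` -/
noncomputable def eps (p : ℕ) [hp : Fact p.Prime] (a : ι) : Ered p ι := ⟨Finsupp.single a 1, fun j => by
  classical
  rw [Finsupp.single_apply]
  split_ifs
  · exact hp.out.one_lt
  · exact hp.out.pos⟩

theorem mon_eps (a : ι) : mon x (eps p a) = x a := by
  unfold mon eps
  rw [pMonomial_single, pow_one]

theorem pind_finset (hF : ∀ b : K, b ^ p ∈ Set.range (algebraMap F K))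
    (h : ∀ a, x a ∉ Algebra.adjoin F (x '' {b | b ≠ a})) (T : Finset ι) :
    LinearIndepOn F (mon x) (MT p (T : Set ι)) := by
  classical
  induction T using Finset.induction_on with
  | empty =>
    have : MT p ((∅ : Finset ι) : Set ι) = {(⟨0, fun _ => hp.out.pos⟩ : Ered p ι)} := by
      ext e
      simp only [MT, Finset.coe_empty, Set.mem_empty_iff_false, not_false_eq_true, forall_const,
        Set.mem_ofPred_eq, Set.mem_singleton_iff]
      constructor
      · intro he
        apply Subtype.ext
        ext i
        exact he i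
      · rintro rfl i
        rfl
    rw [this, linearIndepOn_singleton_iff]
    unfold mon
    rw [pMonomial_zero]
    exact one_ne_zero
  | insert a T haT ih =>
    rw [Finset.coe_insert]
    apply pind_insert x hF _ a (by simpa using haT) ih
    intro hmem
    apply h a
    refine Algebra.adjoin_mono ?_ hmem
    rintro _ ⟨b, hb, rfl⟩
    refine ⟨b, ?_, rfl⟩
    rintro rfl
    exact haT (by simpa using hb)

theorem pind_iff (hF : ∀ b : K, b ^ p ∈ Set.range (algebraMap F K)) :
    LinearIndependent F (mon (p := p) x) ↔ ∀ a, x a ∉ Algebra.adjoin F (x '' {b | b ≠ a}) := by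
  classical
  constructor
  · intro hli a hmem
    have h1 : x a ∈ Subalgebra.toSubmodule (Algebra.adjoin F (x '' {b | b ≠ a})) := hmem
    rw [adjoin_eq_span x hF, ← mon_eps x a] at h1
    refine hli.notMem_span_image ?_ h1
    intro he
    have := he a (by simp)
    simp [eps] at this
  · intro h
    rw [linearIndependent_iff_finset_linearIndependent]
    intro s
    have h1 := pind_finset x hF h (s.biUnion fun e => e.1.support)
    have hsub : (s : Set (Ered p ι)) ⊆ MT p ((s.biUnion fun e => e.1.support : Finset ι) : Set ι) := by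
      intro e he i hi
      by_contra hne
      apply hi
      simp only [Finset.coe_biUnion, Finset.mem_coe, Set.mem_iUnion, Finsupp.mem_support_iff,
        ne_eq, exists_prop]
      exact ⟨e, he, hne⟩
    exact h1.mono hsub

theorem pgen_iff (hF : ∀ b : K, b ^ p ∈ Set.range (algebraMap F K)) :
    Submodule.span F (Set.range (mon (p := p) x)) = ⊤ ↔ Algebra.adjoin F (Set.range x) = ⊤ := by
  have h := adjoin_eq_span x hF Set.univ
  have h2 : MT p (Set.univ : Set ι) = Set.univ := by
    ext e
    simp [MT]
  rw [Set.image_univ, h2, Set.image_univ] at h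
  rw [← h, Algebra.toSubmodule_eq_top]

end W3


open scoped IntermediateField

section W5
variable {p : ℕ} [hp : Fact p.Prime] {F K : Type u} [Field F] [Field K] [Algebra F K] [CharP K p]

theorem hF_tower (hF : ∀ b : K, b ^ p ∈ Set.range (algebraMap F K)) (G : IntermediateField F K) :
    ∀ b : K, b ^ p ∈ Set.range (algebraMap G K) := by
  intro b
  obtain ⟨f, hf⟩ := hF b
  exact ⟨algebraMap F G f, hf⟩

theorem exchange (hF : ∀ b : K, b ^ p ∈ Set.range (algebraMap F K)) (U : Set K) (a b : K)
    (ha : a ∈ IntermediateField.adjoin F (insert b U))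
    (ha' : a ∉ IntermediateField.adjoin F U) :
    b ∈ IntermediateField.adjoin F (insert a U) := by
  let G : IntermediateField F K := IntermediateField.adjoin F U
  have key : ∀ c : K, IntermediateField.adjoin F (insert c U) =
      IntermediateField.restrictScalars F (IntermediateField.adjoin G {c}) := by
    intro c
    rw [IntermediateField.adjoin_adjoin_left, Set.union_singleton]
  rw [key] at ha ⊢
  rw [IntermediateField.mem_restrictScalars] at ha ⊢
  have haG : a ∉ G := ha'
  have hbG : b ∉ G := by
    intro hb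
    apply haG
    have h1 : G⟮b⟯ = ⊥ := by
      rw [IntermediateField.adjoin_simple_eq_bot_iff, IntermediateField.mem_bot]
      exact ⟨⟨b, hb⟩, rfl⟩
    rw [h1, IntermediateField.mem_bot] at ha
    obtain ⟨g, hg⟩ := ha
    rw [← hg]
    exact g.2
  have hinta : IsIntegral G a := isIntegral_of_pow (hF_tower hF G) a
  have hintb : IsIntegral G b := isIntegral_of_pow (hF_tower hF G) b
  have hda : Module.finrank G G⟮a⟯ = p := by
    rw [IntermediateField.adjoin.finrank hinta, natDegree_minpoly_eq hF G a haG]
  have hdb : Module.finrank G G⟮b⟯ = p := by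
    rw [IntermediateField.adjoin.finrank hintb, natDegree_minpoly_eq hF G b hbG]
  haveI : FiniteDimensional G G⟮b⟯ := IntermediateField.adjoin.finiteDimensional hintb
  have hle : G⟮a⟯ ≤ G⟮b⟯ := by
    rw [IntermediateField.adjoin_simple_le_iff]
    exact ha
  have heq := IntermediateField.eq_of_le_of_finrank_eq hle (hda.trans hdb.symm)
  rw [heq]
  exact IntermediateField.mem_adjoin_simple_self G b

/-- `p`-independence of a subset of `K`, in closure form -/
def PIndSet (F : Type u) [Field F] [Algebra F K] (U : Set K) : Prop :=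
  ∀ a ∈ U, a ∉ IntermediateField.adjoin F (U \ {a})

theorem exists_pbasis_set (hF : ∀ b : K, b ^ p ∈ Set.range (algebraMap F K)) (L S : Set K)
    (hLS : L ⊆ S) (hS : IntermediateField.adjoin F S = ⊤) (hL : PIndSet F L) :
    ∃ B, L ⊆ B ∧ B ⊆ S ∧ PIndSet F B ∧ IntermediateField.adjoin F B = ⊤ := by
  classical
  let 𝒮 : Set (Set K) := {B | L ⊆ B ∧ B ⊆ S ∧ PIndSet F B}
  obtain ⟨m, hLm, hm⟩ := zorn_subset_nonempty 𝒮 (by
    intro c hc hchain hne
    refine ⟨⋃₀ c, ⟨?_, ?_, ?_⟩, fun s hs => Set.subset_sUnion_of_mem hs⟩
    · obtain ⟨B₀, hB₀⟩ := hne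
      exact (hc hB₀).1.trans (Set.subset_sUnion_of_mem hB₀)
    · exact Set.sUnion_subset fun B hB => (hc hB).2.1
    · intro a ha hmem
      obtain ⟨T, hT, haT⟩ := IntermediateField.exists_finset_of_mem_adjoin hmem
      have hsub : ((insert a T : Finset K) : Set K) ⊆ ⋃ i ∈ c, id i := by
        rw [Finset.coe_insert]
        intro y hy
        rcases hy with rfl | hy
        · simpa [Set.sUnion_eq_biUnion] using ha
        · have := (hT hy).1
          simpa [Set.sUnion_eq_biUnion] using this
      obtain ⟨B, hBc, hB⟩ := DirectedOn.exists_mem_subset_of_finset_subset_biUnion hne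
        hchain.directedOn hsub
      have haB : a ∈ B := hB (by simp)
      have hTB : (T : Set K) ⊆ B \ {a} := by
        intro y hy
        refine ⟨hB (by simp [Finset.mem_coe.1 hy]), ?_⟩
        exact (hT hy).2
      exact (hc hBc).2.2 a haB (IntermediateField.adjoin.mono F _ _ hTB haT)) L ⟨le_rfl, hLS, hL⟩
  have hm𝒮 : m ∈ 𝒮 := hm.prop
  refine ⟨m, hLm, hm𝒮.2.1, hm𝒮.2.2, ?_⟩
  rw [eq_top_iff, ← hS, IntermediateField.adjoin_le_iff]
  intro s hs
  by_cases hsm : s ∈ m
  · exact IntermediateField.subset_adjoin F m hsm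
  · have hnot : insert s m ∉ 𝒮 := by
      intro hins
      exact hsm (hm.le_of_ge hins (Set.subset_insert s m) (Set.mem_insert s m))
    have hnp : ¬ PIndSet F (insert s m) := by
      intro hp'
      exact hnot ⟨hLm.trans (Set.subset_insert s m), Set.insert_subset hs hm𝒮.2.1, hp'⟩
    unfold PIndSet at hnp
    push Not at hnp
    obtain ⟨a, ha, hmem⟩ := hnp
    rcases ha with rfl | ham
    · rw [Set.insert_sdiff_self_of_notMem hsm] at hmem
      exact hmem
    · have has : a ≠ s := fun h => hsm (h ▸ ham)
      rw [Set.insert_sdiff_of_notMem _ (by simpa using has.symm)] at hmem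
      have := exchange hF (m \ {a}) a s hmem (hm𝒮.2.2 a ham)
      rw [Set.insert_sdiff_singleton, Set.insert_eq_of_mem ham] at this
      exact this

end W5


end Groth.Agent.Lib.helper25.PBasisF
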