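import Groth.Agent.Lib.helper25.PBasisA

set_option autoImplicit false
set_option linter.unusedSectionVars false
universe u

namespace Groth.Agent.Lib.helper25.PBasisH

open EGA41 Groth.Agent.Lib.helper25.PBasisA

section surj
variable {R S : Type u} [CommRing R] [CommRing S] [Algebra R S]

/-- a field-like algebra over a field, purely inseparable of exponent one and unramified, is trivial -/
theorem surjective_of_field_unramified (p : ℕ) [hp : Fact p.Prime] {k F : Type u} [Field k] [CommRing F]
    [Algebra k F] [Algebra.FormallyUnramified k F] [Algebra.EssFiniteType k F]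
    (hp0 : (p : F) = 0)
    (hpow : ∀ f : F, f ^ p ∈ Set.range (algebraMap k F)) : Function.Surjective (algebraMap k F) := by
  rcases subsingleton_or_nontrivial F with hF | hF
  · intro f
    exact ⟨0, Subsingleton.elim _ _⟩
  · haveI : CharP F p := (CharP.charP_iff_prime_eq_zero hp.out).2 hp0
    haveI : CharP k p := RingHom.charP (algebraMap k F) (algebraMap k F).injective p
    haveI : ExpChar k p := ExpChar.prime hp.out
    haveI : IsReduced F := Algebra.FormallyUnramified.isReduced_of_field k F
    have hfield : IsField F := by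
      refine ⟨exists_pair_ne F, mul_comm, ?_⟩
      intro f hf
      obtain ⟨c, hc⟩ := hpow f
      have hc0 : c ≠ 0 := by
        rintro rfl
        rw [map_zero] at hc
        exact hf (IsReduced.eq_zero f ⟨p, hc.symm⟩)
      refine ⟨f ^ (p - 1) * algebraMap k F c⁻¹, ?_⟩
      rw [← mul_assoc, ← pow_succ', Nat.sub_add_cancel hp.out.one_le, ← hc, ← map_mul,
        mul_inv_cancel₀ hc0, map_one]
    letI : Field F := hfield.toField
    haveI : IsPurelyInseparable k F := by
      rw [isPurelyInseparable_iff_pow_mem k p]
      intro f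
      exact ⟨1, by simpa using hpow f⟩
    have := Algebra.FormallyUnramified.range_eq_top_of_isPurelyInseparable k F
    intro f
    have hf : f ∈ (algebraMap k F).range := by rw [this]; trivial
    exact hf

theorem surjective_of_unramified_pow (p : ℕ) [hp : Fact p.Prime] [CharP S p] [Module.Finite R S]
    [Algebra.FormallyUnramified R S]
    (hpow : ∀ s : S, s ^ p ∈ Set.range (algebraMap R S)) : Function.Surjective (algebraMap R S) := by
  let S₀ : Submodule R S := LinearMap.range (Algebra.linearMap R S)
  suffices h : S₀ = ⊤ by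
    intro s
    have : s ∈ S₀ := by rw [h]; trivial
    exact this
  by_contra hne
  let N := S ⧸ S₀
  haveI : Nontrivial N := Submodule.Quotient.nontrivial_iff.2 hne
  have hann : Module.annihilator R N ≠ ⊤ := by
    intro h
    have h1 : (1 : R) ∈ Module.annihilator R N := by rw [h]; trivial
    rw [Module.mem_annihilator] at h1
    obtain ⟨n, hn⟩ := exists_ne (0 : N)
    exact hn (by simpa using h1 n)
  obtain ⟨𝔪, hmax, hle⟩ := Ideal.exists_le_maximal _ hann
  have hN : 𝔪 • (⊤ : Submodule R N) ≠ ⊤ := by
    intro h
    obtain ⟨r, hr1, hr2⟩ := Submodule.exists_sub_one_mem_and_smul_eq_zero_of_fg_of_le_smul 𝔪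
      (⊤ : Submodule R N) Module.Finite.fg_top (by rw [h])
    have hr : r ∈ 𝔪 := hle (Module.mem_annihilator.2 fun n => hr2 n trivial)
    have : (1 : R) ∈ 𝔪 := by
      have := 𝔪.sub_mem hr hr1
      simpa using this
    exact hmax.ne_top ((Ideal.eq_top_iff_one _).2 this)
  apply hN
  letI : Field (R ⧸ 𝔪) := Ideal.Quotient.field 𝔪
  let F := S ⧸ 𝔪.map (algebraMap R S)
  haveI : Algebra.FormallyUnramified R F :=
    Algebra.FormallyUnramified.of_surjective (Ideal.Quotient.mkₐ R (𝔪.map (algebraMap R S)))
      Ideal.Quotient.mk_surjective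
  haveI : Algebra.FormallyUnramified (R ⧸ 𝔪) F := Algebra.FormallyUnramified.of_restrictScalars R _ _
  haveI : Algebra.FiniteType R F := inferInstance
  haveI : Algebra.EssFiniteType (R ⧸ 𝔪) F := Algebra.EssFiniteType.of_comp R _ _
  have hsurj : Function.Surjective (algebraMap (R ⧸ 𝔪) F) := by
    apply surjective_of_field_unramified p
    · rw [← map_natCast (Ideal.Quotient.mk (𝔪.map (algebraMap R S))), CharP.cast_eq_zero, map_zero]
    · intro f
      obtain ⟨s, rfl⟩ := Ideal.Quotient.mk_surjective f
      obtain ⟨r, hr⟩ := hpow s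
      exact ⟨Ideal.Quotient.mk 𝔪 r, by
        rw [Ideal.Quotient.algebraMap_quotient_map_quotient, hr, map_pow]⟩
  rw [eq_top_iff]
  rintro n -
  obtain ⟨s, rfl⟩ := Submodule.Quotient.mk_surjective S₀ n
  obtain ⟨r', hr'⟩ := hsurj (Ideal.Quotient.mk _ s)
  obtain ⟨r, rfl⟩ := Ideal.Quotient.mk_surjective r'
  rw [Ideal.Quotient.algebraMap_quotient_map_quotient, Ideal.Quotient.eq] at hr'
  have h1 : s - algebraMap R S r ∈ 𝔪 • (⊤ : Submodule R S) := by
    rw [Ideal.smul_top_eq_map]
    have := Ideal.neg_mem_iff _ |>.2 hr'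
    simpa using this
  have h2 : Submodule.Quotient.mk (p := S₀) s = Submodule.Quotient.mk (s - algebraMap R S r) := by
    have h0 : Submodule.Quotient.mk (p := S₀) (algebraMap R S r) = 0 :=
      (Submodule.Quotient.mk_eq_zero S₀).2 ⟨r, rfl⟩
    rw [Submodule.Quotient.mk_sub, h0, sub_zero]
  rw [h2]
  have h3 := Submodule.mem_map_of_mem (f := S₀.mkQ) h1
  rw [Submodule.map_smul''] at h3
  exact Submodule.smul_mono le_rfl le_top h3

end surj


section gen
variable {p : ℕ} [hp : Fact p.Prime] {A B : Type u} [CommRing A] [CommRing B] [Algebra A B]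
  [CharP B p] {ι : Type u} (x : ι → B)

theorem monomial_mem_adjoin (e : ι →₀ ℕ) :
    pMonomial x e ∈ Algebra.adjoin (pPowerSubalgebra p A B) (Set.range x) := by
  unfold pMonomial Finsupp.prod
  apply Subalgebra.prod_mem
  intro i _
  exact Subalgebra.pow_mem _ (Algebra.subset_adjoin (Set.mem_range_self i)) _

theorem adjoin_le_span :
    Subalgebra.toSubmodule (Algebra.adjoin (pPowerSubalgebra p A B) (Set.range x)) ≤
      Submodule.span (pPowerSubalgebra p A B)
        (Set.range fun e : {e : ι →₀ ℕ // ∀ i, e i < p} => pMonomial x e.1) := by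
  set M := Set.range fun e : {e : ι →₀ ℕ // ∀ i, e i < p} => pMonomial x e.1 with hM
  have h1 : (1 : B) ∈ Submodule.span (pPowerSubalgebra p A B) M := by
    apply Submodule.subset_span
    exact ⟨⟨0, fun i => hp.out.pos⟩, pMonomial_zero x⟩
  have hmul : Submodule.span (pPowerSubalgebra p A B) M * Submodule.span (pPowerSubalgebra p A B) M ≤
      Submodule.span (pPowerSubalgebra p A B) M := by
    rw [Submodule.span_mul_span, Submodule.span_le]
    rintro _ ⟨_, ⟨e, rfl⟩, _, ⟨e', rfl⟩, rfl⟩
    have hc : pMonomial x (fdiv p (e.1 + e'.1)) ^ p ∈ pPowerSubalgebra p A B :=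
      Algebra.subset_adjoin ⟨_, rfl⟩
    have h2 : pMonomial x e.1 * pMonomial x e'.1 =
        (⟨_, hc⟩ : pPowerSubalgebra p A B) • pMonomial x (fmod p (e.1 + e'.1)) := by
      rw [← pMonomial_add]
      conv_lhs => rw [← fdiv_add_fmod p (e.1 + e'.1), pMonomial_add, pMonomial_nsmul]
      rfl
    change pMonomial x e.1 * pMonomial x e'.1 ∈ _
    rw [h2]
    apply Submodule.smul_mem
    apply Submodule.subset_span
    exact ⟨⟨fmod p (e.1 + e'.1), fmod_lt p hp.out.pos _⟩, rfl⟩
  let S : Subalgebra (pPowerSubalgebra p A B) B :=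
    Submodule.toSubalgebra (Submodule.span (pPowerSubalgebra p A B) M) h1
      (fun a b ha hb => hmul (Submodule.mul_mem_mul ha hb))
  have : Algebra.adjoin (pPowerSubalgebra p A B) (Set.range x) ≤ S := by
    apply Algebra.adjoin_le
    rintro _ ⟨i, rfl⟩
    apply Submodule.subset_span
    refine ⟨⟨Finsupp.single i 1, fun j => ?_⟩, ?_⟩
    · classical
      rw [Finsupp.single_apply]
      split_ifs
      · exact hp.out.one_lt
      · exact hp.out.pos
    · change pMonomial x (Finsupp.single i 1) = x i
      rw [pMonomial_single, pow_one]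
  intro y hy
  exact this hy

theorem adjoin_eq_top_iff_isPGenerating :
    Algebra.adjoin (pPowerSubalgebra p A B) (Set.range x) = ⊤ ↔ IsPGenerating p A x := by
  constructor
  · intro h
    have := adjoin_le_span (A := A) x
    rw [h] at this
    exact eq_top_iff.2 (by simpa using this)
  · intro h
    rw [← Algebra.toSubmodule_eq_top, eq_top_iff]
    have h' : Submodule.span (pPowerSubalgebra p A B)
      (Set.range fun e : {e : ι →₀ ℕ // ∀ i, e i < p} => pMonomial x e.1) = ⊤ := h
    rw [← h', Submodule.span_le]
    rintro _ ⟨e, rfl⟩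
    exact monomial_mem_adjoin x e.1

theorem S2486_aux :
    (Algebra.adjoin (EGA41.pPowerSubalgebra p A B) (Set.range x) = ⊤ ↔ EGA41.IsPGenerating p A x) ∧
    (EGA41.IsPGenerating p A x →
      Submodule.span B (Set.range fun i => KaehlerDifferential.D A B (x i)) = ⊤) ∧
    (Algebra.FiniteType (EGA41.pPowerSubalgebra p A B) B →
      Submodule.span B (Set.range fun i => KaehlerDifferential.D A B (x i)) = ⊤ →
        EGA41.IsPGenerating p A x) := by
  refine ⟨adjoin_eq_top_iff_isPGenerating x, ?_, ?_⟩
  · intro h
    rw [eq_top_iff, ← KaehlerDifferential.span_range_derivation A B, Submodule.span_le]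
    rintro _ ⟨b, rfl⟩
    exact der_mem_span_of_gen (A := pPowerSubalgebra p A B) h
      ((KaehlerDifferential.D A B).restrictScalars ℤ)
      (fun c => der_pPower_eq_zero (KaehlerDifferential.D A B) c.1 c.2) b
  · intro hft hsp
    rw [← adjoin_eq_top_iff_isPGenerating]
    -- the `A`-subalgebra generated by `B^p` and the `x i`
    let B' : Subalgebra A B := Algebra.adjoin A ((Set.range fun b : B => b ^ p) ∪ Set.range x)
    have hB' : B' = (Algebra.adjoin (pPowerSubalgebra p A B) (Set.range x)).restrictScalars A :=
      Algebra.adjoin_union_eq_adjoin_adjoin A _ _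
    have hCB' : ∀ c : B, c ∈ pPowerSubalgebra p A B → c ∈ B' := by
      intro c hc
      exact Algebra.adjoin_mono Set.subset_union_left hc
    -- finiteness
    haveI : Algebra.FiniteType B' B := by
      obtain ⟨s, hs⟩ := hft
      refine ⟨s, ?_⟩
      rw [eq_top_iff]
      rintro b -
      have hb : b ∈ Algebra.adjoin (pPowerSubalgebra p A B) (s : Set B) := by rw [hs]; trivial
      induction hb using Algebra.adjoin_induction with
      | mem y hy => exact Algebra.subset_adjoin hy
      | algebraMap c => exact Subalgebra.algebraMap_mem _ (⟨c.1, hCB' c.1 c.2⟩ : B')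
      | add y y' _ _ hy hy' => exact Subalgebra.add_mem _ hy hy'
      | mul y y' _ _ hy hy' => exact Subalgebra.mul_mem _ hy hy'
    haveI : Algebra.IsIntegral B' B := by
      refine ⟨fun b => ?_⟩
      apply IsIntegral.of_pow hp.out.pos
      have : b ^ p = algebraMap B' B ⟨b ^ p, hCB' _ (Algebra.subset_adjoin ⟨b, rfl⟩)⟩ := rfl
      rw [this]
      exact isIntegral_algebraMap
    haveI : Module.Finite B' B := Algebra.IsIntegral.finite
    -- unramified
    haveI : Algebra.FormallyUnramified B' B := by
      rw [Algebra.formallyUnramified_iff]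
      have hsurj := KaehlerDifferential.map_surjective A B' B
      refine ⟨fun w w' => ?_⟩
      suffices h0 : ∀ w : Ω[B⁄B'], w = 0 by rw [h0 w, h0 w']
      intro w
      obtain ⟨v, rfl⟩ := hsurj w
      have hv : v ∈ Submodule.span B (Set.range fun i => KaehlerDifferential.D A B (x i)) := by
        rw [hsp]; trivial
      induction hv using Submodule.span_induction with
      | mem v hv =>
        obtain ⟨i, rfl⟩ := hv
        rw [KaehlerDifferential.map_D]
        have : x i = algebraMap B' B ⟨x i, Algebra.subset_adjoin (Or.inr ⟨i, rfl⟩)⟩ := rfl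
        exact (congrArg (KaehlerDifferential.D B' B) this).trans (Derivation.map_algebraMap _ _)
      | zero => exact map_zero _
      | add v v' _ _ hv hv' => rw [map_add, hv, hv', add_zero]
      | smul c v _ hv => rw [map_smul, hv, smul_zero]
    have hs := surjective_of_unramified_pow (R := B') (S := B) p (by
      intro b
      exact ⟨⟨b ^ p, hCB' _ (Algebra.subset_adjoin ⟨b, rfl⟩)⟩, rfl⟩)
    have htop : B' = ⊤ := by
      rw [eq_top_iff]
      rintro b -
      obtain ⟨b', rfl⟩ := hs b
      exact b'.2
    rw [hB'] at htop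
    rw [eq_top_iff]
    rintro b -
    have : b ∈ (Algebra.adjoin (pPowerSubalgebra p A B) (Set.range x)).restrictScalars A := by
      rw [htop]; trivial
    exact this

end gen


end Groth.Agent.Lib.helper25.PBasisH
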