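import Groth.Agent.Lib.helper25.PBasisA
import Groth.Agent.Lib.helper25.PB3

set_option autoImplicit false
set_option linter.unusedSectionVars false
universe u

namespace Groth.Agent.Lib.helper25.PBasisJ

open EGA41 Groth.Agent.Lib.helper25.PBasisA TensorProduct KaehlerDifferential

theorem pMonomial_pow {B : Type u} [CommRing B] {ι : Type u} (x : ι → B) (n : ℕ) (e : ι →₀ ℕ) :
    pMonomial (fun i => x i ^ n) e = pMonomial x e ^ n := by
  simp only [pMonomial, Finsupp.prod, ← Finset.prod_pow]
  refine Finset.prod_congr rfl fun i _ => ?_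
  rw [← pow_mul, ← pow_mul, mul_comm]

section span
variable {p : ℕ} [hp : Fact p.Prime] {A B : Type u} [CommRing A] [CommRing B] [Algebra A B]
  [CharP B p]

theorem nsmul_p_eq_zero {L : Type*} [AddCommGroup L] [Module B L] (l : L) : p • l = 0 := by
  rw [← Nat.cast_smul_eq_nsmul B, CharP.cast_eq_zero, zero_smul]

theorem ker_le_span (hinj : Function.Injective (algebraMap A B))
    (hpow : ∀ b : B, b ^ p ∈ Set.range (algebraMap A B))
    {Λ : Type u} (x : Λ → B) (hx : IsPBasis p A x) (x' : Λ → A)
    (hx' : ∀ i, algebraMap A B (x' i) = x i ^ p) :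
    LinearMap.ker (mapBaseChange ℤ A B) ≤
      Submodule.span B (Set.range fun i => (1 : B) ⊗ₜ[A] D ℤ A (x' i)) := by
  have h := PB.of_isPBasis_of_inj hinj hpow hx
  set N : Submodule B (B ⊗[A] Ω[A⁄ℤ]) :=
    Submodule.span B (Set.range fun i => (1 : B) ⊗ₜ[A] D ℤ A (x' i)) with hN
  let ψ : Ω[A⁄ℤ] →ₗ[A] (B ⊗[A] Ω[A⁄ℤ]) ⧸ N :=
    (N.mkQ.restrictScalars A) ∘ₗ (TensorProduct.mk A B Ω[A⁄ℤ] 1)
  let D₁ : Derivation ℤ A ((B ⊗[A] Ω[A⁄ℤ]) ⧸ N) := ψ.compDer (D ℤ A)
  have hD₁ : ∀ a, D₁ a = N.mkQ ((1 : B) ⊗ₜ[A] D ℤ A a) := fun a => rfl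
  have hD₁x : ∀ i, D₁ (x' i) = 0 := by
    intro i
    rw [hD₁, Submodule.mkQ_apply, Submodule.Quotient.mk_eq_zero]
    exact Submodule.subset_span ⟨i, rfl⟩
  have hD₁pow : ∀ c : A, D₁ (c ^ p) = 0 := by
    intro c
    rw [Derivation.leibniz_pow]
    have : c ^ (p - 1) • D₁ c = (algebraMap A B (c ^ (p - 1))) • D₁ c := by
      rw [algebraMap_smul]
    rw [this]
    exact nsmul_p_eq_zero (B := B) _
  have hD₁mon : ∀ e : Λ →₀ ℕ, D₁ (pMonomial x' e) = 0 := by
    intro e
    have := der_monomial_mem_span (x := x') D₁ e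
    have h0 : Submodule.span A (Set.range fun i => D₁ (x' i)) ≤ ⊥ := by
      rw [Submodule.span_le]
      rintro _ ⟨i, rfl⟩
      exact hD₁x i
    exact (Submodule.mem_bot A).1 (h0 this)
  -- every p-th power of `B` comes from an element killed by `D₁`
  have key : ∀ b : B, ∃ a' : A, algebraMap A B a' = b ^ p ∧ D₁ a' = 0 := by
    intro b
    have hb : b ∈ Submodule.span A (Set.range fun e : {e : Λ →₀ ℕ // ∀ i, e i < p} =>
        pMonomial x e.1) := by rw [h.sp]; trivial
    induction hb using Submodule.span_induction with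
    | mem z hz =>
      obtain ⟨e, rfl⟩ := hz
      refine ⟨pMonomial x' e.1, ?_, hD₁mon _⟩
      have := map_pMonomial x' (algebraMap A B) e.1
      rw [this]
      simp only [hx']
      exact pMonomial_pow x p e.1
    | zero => exact ⟨0, by rw [map_zero, zero_pow hp.out.ne_zero], map_zero _⟩
    | add z z' _ _ hz hz' =>
      obtain ⟨a, ha, ha0⟩ := hz
      obtain ⟨a', ha', ha0'⟩ := hz'
      exact ⟨a + a', by rw [map_add, ha, ha', add_pow_char], by rw [map_add, ha0, ha0', add_zero]⟩
    | smul c z _ hz =>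
      obtain ⟨a, ha, ha0⟩ := hz
      refine ⟨c ^ p * a, ?_, ?_⟩
      · rw [map_mul, map_pow, ha, Algebra.smul_def, mul_pow]
      · rw [Derivation.leibniz, ha0, hD₁pow, smul_zero, smul_zero, add_zero]
  have hD : ∀ (a : A) (b : B), algebraMap A B a = b ^ p → D₁ a = 0 := by
    intro a b hab
    obtain ⟨a', ha', ha0⟩ := key b
    have : a = a' := hinj (by rw [hab, ha'])
    rw [this, ha0]
  obtain ⟨D', hD'1, -⟩ := h.exists_derivation _ D₁ hD (fun _ => 0)
  have hcomp : D'.liftKaehlerDifferential ∘ₗ mapBaseChange ℤ A B = N.mkQ := by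
    apply Groth.Agent.Lib.helper25.PB.ext_tmul_D
    intro a
    rw [LinearMap.comp_apply, mapBaseChange_tmul, one_smul, KaehlerDifferential.map_D,
      Derivation.liftKaehlerDifferential_comp_D, hD'1, hD₁]
  intro m hm
  have : N.mkQ m = 0 := by
    rw [← hcomp, LinearMap.comp_apply, LinearMap.mem_ker.1 hm, map_zero]
  rwa [Submodule.mkQ_apply, Submodule.Quotient.mk_eq_zero] at this

end span

section li
variable {p : ℕ} [hp : Fact p.Prime] {R A B : Type u} [CommRing R] [CommRing A]
    [CommRing B] [IsReduced B] [Algebra R A] [Algebra A B] [Algebra R B] [IsScalarTower R A B]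
    [CharP B p]

theorem mem_range_pow_of_mem (hR : Set.range (algebraMap R B) = Set.range fun b : B => b ^ p)
    (r : A) (hr : r ∈ pPowerSubalgebra p R A) : ∃ b : B, b ^ p = algebraMap A B r := by
  induction hr using Algebra.adjoin_induction with
  | mem y hy => obtain ⟨a, rfl⟩ := hy; exact ⟨algebraMap A B a, by rw [map_pow]⟩
  | algebraMap r₀ =>
    have : algebraMap R B r₀ ∈ Set.range fun b : B => b ^ p := by rw [← hR]; exact ⟨r₀, rfl⟩
    obtain ⟨b, hb⟩ := this
    exact ⟨b, by rw [← IsScalarTower.algebraMap_apply]; exact hb⟩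
  | add y y' _ _ hy hy' =>
    obtain ⟨b, hb⟩ := hy; obtain ⟨b', hb'⟩ := hy'
    exact ⟨b + b', by rw [add_pow_char, hb, hb', map_add]⟩
  | mul y y' _ _ hy hy' =>
    obtain ⟨b, hb⟩ := hy; obtain ⟨b', hb'⟩ := hy'
    exact ⟨b * b', by rw [mul_pow, hb, hb', map_mul]⟩

/-- the `p`-th root in `B` of an element of `R[A^p]`. -/
noncomputable def root (hR : Set.range (algebraMap R B) = Set.range fun b : B => b ^ p)
    (r : pPowerSubalgebra p R A) : B :=
  Classical.choose (mem_range_pow_of_mem hR r.1 r.2)

theorem root_pow (hR : Set.range (algebraMap R B) = Set.range fun b : B => b ^ p)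
    (r : pPowerSubalgebra p R A) : root hR r ^ p = algebraMap A B r.1 :=
  Classical.choose_spec (mem_range_pow_of_mem hR r.1 r.2)

theorem root_unique (hR : Set.range (algebraMap R B) = Set.range fun b : B => b ^ p)
    (r : pPowerSubalgebra p R A) (b : B) (hb : b ^ p = algebraMap A B r.1) : root hR r = b := by
  haveI : ExpChar B p := ExpChar.prime hp.out
  apply frobenius_inj B p
  rw [frobenius_def, frobenius_def, root_pow, hb]

theorem root_add (hR : Set.range (algebraMap R B) = Set.range fun b : B => b ^ p)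
    (r s : pPowerSubalgebra p R A) : root hR (r + s) = root hR r + root hR s := by
  apply root_unique
  rw [add_pow_char, root_pow, root_pow, Subalgebra.coe_add, map_add]

theorem root_mul (hR : Set.range (algebraMap R B) = Set.range fun b : B => b ^ p)
    (r s : pPowerSubalgebra p R A) : root hR (r * s) = root hR r * root hR s := by
  apply root_unique
  rw [mul_pow, root_pow, root_pow, Subalgebra.coe_mul, map_mul]

theorem root_zero (hR : Set.range (algebraMap R B) = Set.range fun b : B => b ^ p) :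
    root hR (0 : pPowerSubalgebra p R A) = 0 := by
  apply root_unique
  rw [zero_pow hp.out.ne_zero, Subalgebra.coe_zero, map_zero]

/-- the Frobenius twist of an `A`-derivation `δ` of `B`, as a derivation on `R[A^p]`. -/
noncomputable def D0 (hR : Set.range (algebraMap R B) = Set.range fun b : B => b ^ p)
    (δ : Derivation A B B) : Derivation ℤ (pPowerSubalgebra p R A) B :=
  Derivation.mk'
    (AddMonoidHom.toIntLinearMap
      { toFun := fun r => δ (root hR r) ^ p
        map_zero' := by rw [root_zero, map_zero, zero_pow hp.out.ne_zero]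
        map_add' := fun r s => by rw [root_add, map_add, add_pow_char] })
    (by
      intro r s
      change δ (root hR (r * s)) ^ p = r • δ (root hR s) ^ p + s • δ (root hR r) ^ p
      rw [root_mul, Derivation.leibniz, add_pow_char, smul_eq_mul, smul_eq_mul, mul_pow, mul_pow,
        root_pow, root_pow, Subalgebra.smul_def, Subalgebra.smul_def, Algebra.smul_def,
        Algebra.smul_def])

theorem D0_apply (hR : Set.range (algebraMap R B) = Set.range fun b : B => b ^ p)
    (δ : Derivation A B B) (r : pPowerSubalgebra p R A) : D0 hR δ r = δ (root hR r) ^ p := rfl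

theorem li_w (hinj : Function.Injective (algebraMap A B))
    (hR : Set.range (algebraMap R B) = Set.range fun b : B => b ^ p)
    {Λ M : Type u} (x : Λ → B) (hx : IsPBasis p A x) (x' : Λ → A)
    (hx' : ∀ i, algebraMap A B (x' i) = x i ^ p)
    (y : M → A) (hy : IsPBasis p R y) :
    LinearIndependent B (fun i => (1 : B) ⊗ₜ[A] D ℤ A (x' i)) := by
  classical
  haveI : CharP A p := RingHom.charP (algebraMap A B) hinj p
  rw [linearIndependent_iff']
  intro s g hg j hj
  obtain ⟨δ, hδ⟩ := exists_coord_derivation hx j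
  have hPB := PB.of_isPBasis hy
  obtain ⟨D', hD1, -⟩ := hPB.exists_derivation B (D0 hR δ) (by
    intro r a hra
    rw [D0_apply]
    have : root hR r = algebraMap A B a := by
      apply root_unique
      rw [← map_pow, ← hra]
      rfl
    rw [this, Derivation.map_algebraMap, zero_pow hp.out.ne_zero]) (fun _ => 0)
  have hx'mem : ∀ i, x' i ∈ pPowerSubalgebra p R A := by
    intro i
    have : x i ^ p ∈ Set.range (algebraMap R B) := by rw [hR]; exact ⟨_, rfl⟩
    obtain ⟨r₀, hr₀⟩ := this
    have : x' i = algebraMap R A r₀ := by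
      apply hinj
      rw [hx', ← hr₀, ← IsScalarTower.algebraMap_apply]
    rw [this]
    exact Subalgebra.algebraMap_mem _ _
  let f : B ⊗[A] Ω[A⁄ℤ] →ₗ[B] B := LinearMap.liftBaseChange B D'.liftKaehlerDifferential
  have hf : ∀ i, f ((1 : B) ⊗ₜ[A] D ℤ A (x' i)) = if i = j then 1 else 0 := by
    intro i
    rw [LinearMap.liftBaseChange_tmul, one_smul, Derivation.liftKaehlerDifferential_comp_D]
    have h1 := hD1 ⟨x' i, hx'mem i⟩
    change D' (x' i) = _ at h1
    rw [h1, D0_apply]
    have : root hR ⟨x' i, hx'mem i⟩ = x i := root_unique hR _ _ (hx' i).symm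
    rw [this, hδ]
    split_ifs
    · rw [one_pow]
    · rw [zero_pow hp.out.ne_zero]
  have := congrArg f hg
  rw [map_sum, map_zero] at this
  simp only [map_smul, hf, smul_eq_mul, mul_ite, mul_one, mul_zero, Finset.sum_ite_eq', hj,
    if_true] at this
  exact this

theorem S4520_aux
    (hinj : Function.Injective (algebraMap A B)) (hpow : ∀ b : B, b ^ p ∈ Set.range (algebraMap A B))
    (hR : Set.range (algebraMap R B) = Set.range fun b : B => b ^ p)
    {Λ M : Type u} (x : Λ → B) (hx : EGA41.IsPBasis p A x) (x' : Λ → A)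
    (hx' : ∀ i, algebraMap A B (x' i) = x i ^ p)
    (y : M → A) (hy : EGA41.IsPBasis p R y) :
    ∃ b : Module.Basis Λ B (EGA41.imperfection ℤ A B),
      ∀ i, (b i : B ⊗[A] Ω[A⁄ℤ]) = (1 : B) ⊗ₜ[A] KaehlerDifferential.D ℤ A (x' i) := by
  have hli := li_w hinj hR x hx x' hx' y hy
  have hker : Submodule.span B (Set.range fun i => (1 : B) ⊗ₜ[A] D ℤ A (x' i)) =
      EGA41.imperfection ℤ A B := by
    apply le_antisymm
    · rw [Submodule.span_le]
      rintro _ ⟨i, rfl⟩
      change _ ∈ LinearMap.ker _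
      rw [LinearMap.mem_ker, mapBaseChange_tmul, one_smul, KaehlerDifferential.map_D, hx',
        Derivation.leibniz_pow]
      exact nsmul_p_eq_zero (B := B) _
    · exact ker_le_span hinj hpow x hx x' hx'
  refine ⟨(Module.Basis.span hli).map (LinearEquiv.ofEq _ _ hker), fun i => ?_⟩
  rw [Module.Basis.map_apply, LinearEquiv.coe_ofEq_apply, Module.Basis.coe_span_apply]

end li

end Groth.Agent.Lib.helper25.PBasisJ
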