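import Groth.Agent.Lib.helper25.PBasisG

set_option autoImplicit false
set_option linter.unusedSectionVars false
universe u

namespace Groth.Agent.Lib.helper25.PBasisK

open EGA41 Groth.Agent.Lib.helper25.PBasisA Groth.Agent.Lib.helper25.PBasisF
  Groth.Agent.Lib.helper25.PBasisG
open scoped Pointwise

section idx
variable (p : ℕ) (ι κ : Type u)

/-- reduced exponents on a sum type = pairs of reduced exponents -/
noncomputable def sumEquiv : Ered p (ι ⊕ κ) ≃ Ered p ι × Ered p κ where
  toFun g := (⟨(Finsupp.sumFinsuppEquivProdFinsupp g.1).1, fun i => by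
      rw [Finsupp.fst_sumFinsuppEquivProdFinsupp]; exact g.2 _⟩,
    ⟨(Finsupp.sumFinsuppEquivProdFinsupp g.1).2, fun i => by
      rw [Finsupp.snd_sumFinsuppEquivProdFinsupp]; exact g.2 _⟩)
  invFun ef := ⟨Finsupp.sumElim ef.1.1 ef.2.1, fun i => by
    cases i with
    | inl i => exact ef.1.2 i
    | inr j => exact ef.2.2 j⟩
  left_inv g := by
    apply Subtype.ext
    ext (i | j)
    · simp [Finsupp.fst_sumFinsuppEquivProdFinsupp]
    · simp [Finsupp.snd_sumFinsuppEquivProdFinsupp]
  right_inv ef := by
    apply Prod.ext
    · apply Subtype.ext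
      ext i
      simp [Finsupp.fst_sumFinsuppEquivProdFinsupp]
    · apply Subtype.ext
      ext i
      simp [Finsupp.snd_sumFinsuppEquivProdFinsupp]

variable {p ι κ}

theorem pMonomial_sumEquiv_symm {C B : Type u} [CommRing C] [CommRing B] [Algebra C B]
    (x : ι → C) (y : κ → B) (ef : Ered p ι × Ered p κ) :
    pMonomial (Sum.elim (fun i => algebraMap C B (x i)) y) ((sumEquiv p ι κ).symm ef).1 =
      pMonomial x ef.1.1 • pMonomial y ef.2.1 := by
  change pMonomial _ (Finsupp.sumElim ef.1.1 ef.2.1) = _
  rw [pMonomial, Finsupp.prod_sumElim, Algebra.smul_def, map_pMonomial]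
  rfl

end idx

section quot
variable {A : Type*} [CommRing A] {R₁ R₂ : Type*} [CommRing R₁] [CommRing R₂] [Algebra A R₁]
  [Algebra A R₂] {N : Type*} [AddCommGroup N] [Module A N] [Module R₁ N] [Module R₂ N]
  [IsScalarTower A R₁ N] [IsScalarTower A R₂ N] {ι : Type*}

theorem smul_surjInv (s₁ : Function.Surjective (algebraMap A R₁)) (r : R₁) (m : N) :
    r • m = algebraMap A R₂ (Function.surjInv s₁ r) • m := by
  calc r • m = (algebraMap A R₁ (Function.surjInv s₁ r)) • m := by rw [Function.surjInv_eq s₁ r]
    _ = _ := by rw [algebraMap_smul, algebraMap_smul]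

theorem li_quot_transfer (s₁ : Function.Surjective (algebraMap A R₁))
    (hker : ∀ a, algebraMap A R₂ a = 0 → algebraMap A R₁ a = 0) {v : ι → N}
    (h : LinearIndependent R₂ v) : LinearIndependent R₁ v :=
  li_transfer (fun r => algebraMap A R₂ (Function.surjInv s₁ r))
    (fun r hr => by have := hker _ hr; rwa [Function.surjInv_eq s₁ r] at this)
    (smul_surjInv s₁) h

theorem span_quot_transfer (s₁ : Function.Surjective (algebraMap A R₁)) {s : Set N}
    (h : Submodule.span R₁ s = ⊤) : Submodule.span R₂ s = ⊤ :=
  span_transfer (fun r => algebraMap A R₂ (Function.surjInv s₁ r)) (smul_surjInv s₁) h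

end quot

section tower
variable {R S M : Type*} [CommRing R] [CommRing S] [AddCommGroup M] [Algebra R S] [Module S M]
  [Module R M] [IsScalarTower R S M] {ι κ : Type*}

/-- converse of `linearIndependent_smul` when `b` spans. -/
theorem li_of_li_smul {b : ι → S} {c : κ → M} (hb : Submodule.span R (Set.range b) = ⊤)
    (h : LinearIndependent R fun q : κ × ι => b q.2 • c q.1) : LinearIndependent S c := by
  rw [LinearIndependent, Finsupp.linearCombination_smul] at h
  have h1 : Function.Surjective (Finsupp.linearCombination R b) := by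
    rw [← LinearMap.range_eq_top, Finsupp.range_linearCombination, hb]
  have h2 : Function.Surjective
      (Finsupp.mapRange.linearMap (α := κ) (Finsupp.linearCombination R b)) := by
    intro l
    obtain ⟨l', hl'⟩ := Finsupp.mapRange_surjective _ (map_zero _) h1 l
    exact ⟨l', hl'⟩
  have h3 : Function.Surjective (Finsupp.mapRange.linearMap (α := κ) (Finsupp.linearCombination R b) ∘ₗ
      (Finsupp.curryLinearEquiv R).toLinearMap) := by
    rw [LinearMap.coe_comp]
    exact h2.comp (LinearEquiv.surjective _)
  rw [LinearIndependent]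
  rw [LinearMap.coe_comp] at h
  exact Function.Injective.of_comp_right h h3

end tower

section main
variable {p : ℕ} [hp : Fact p.Prime] {A C B : Type u} [CommRing A] [CommRing C]
    [CommRing B] [Algebra A C] [Algebra C B] [Algebra A B] [IsScalarTower A C B] [CharP B p]

theorem hpowC (hinj : Function.Injective (algebraMap C B))
    (hpow : ∀ b : B, b ^ p ∈ Set.range (algebraMap A B)) :
    ∀ c : C, c ^ p ∈ Set.range (algebraMap A C) := by
  intro c
  obtain ⟨a, ha⟩ := hpow (algebraMap C B c)
  refine ⟨a, hinj ?_⟩
  rw [← IsScalarTower.algebraMap_apply, ha, map_pow]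

theorem hpowCB (hpow : ∀ b : B, b ^ p ∈ Set.range (algebraMap A B)) :
    ∀ b : B, b ^ p ∈ Set.range (algebraMap C B) := by
  intro b
  obtain ⟨a, ha⟩ := hpow b
  exact ⟨algebraMap A C a, by rw [← IsScalarTower.algebraMap_apply, ha]⟩

theorem S4518_aux
    (hinj : Function.Injective (algebraMap C B)) (hpow : ∀ b : B, b ^ p ∈ Set.range (algebraMap A B))
    {ι κ : Type u} (x : ι → C) (y : κ → B) :
    (EGA41.IsPGenerating p A x → EGA41.IsPGenerating p C y →
      EGA41.IsPGenerating p A (Sum.elim (fun i => algebraMap C B (x i)) y)) ∧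
    (EGA41.IsPBasis p A x →
      (EGA41.IsPIndependent p C y ↔ EGA41.IsPIndependent p A (Sum.elim (fun i => algebraMap C B (x i)) y))) := by
  have sA₁ : Function.Surjective (algebraMap A (pPowerSubalgebra p A C)) :=
    pPower_surj (hpowC hinj hpow)
  have sA₂ : Function.Surjective (algebraMap A (pPowerSubalgebra p A B)) := pPower_surj hpow
  have sC₂ : Function.Surjective (algebraMap C (pPowerSubalgebra p C B)) :=
    pPower_surj (hpowCB hpow)
  haveI : IsScalarTower A (pPowerSubalgebra p A C) B :=
    ⟨fun a r m => by
      rw [Subalgebra.smul_def, Subalgebra.smul_def, Subalgebra.coe_smul, smul_assoc]⟩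
  set u : Ered p ι → C := fun e => pMonomial x e.1 with hu
  set v : Ered p κ → B := fun f => pMonomial y f.1 with hv
  set w : Ered p (ι ⊕ κ) → B :=
    fun g => pMonomial (Sum.elim (fun i => algebraMap C B (x i)) y) g.1 with hw
  have hw' : w = (fun q : Ered p ι × Ered p κ => u q.1 • v q.2) ∘ sumEquiv p ι κ := by
    funext g
    have := pMonomial_sumEquiv_symm (p := p) x y (sumEquiv p ι κ g)
    rw [Equiv.symm_apply_apply] at this
    exact this
  have hk12 : ∀ a : A, algebraMap A (pPowerSubalgebra p A C) a = 0 →
      algebraMap A (pPowerSubalgebra p A B) a = 0 := by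
    intro a ha
    apply Subtype.ext
    have := congrArg (fun r : pPowerSubalgebra p A C => algebraMap C B r.1) ha
    simpa [← IsScalarTower.algebraMap_apply] using this
  have hk21 : ∀ a : A, algebraMap A (pPowerSubalgebra p A B) a = 0 →
      algebraMap A (pPowerSubalgebra p A C) a = 0 := by
    intro a ha
    apply Subtype.ext
    apply hinj
    have := congrArg (fun r : pPowerSubalgebra p A B => r.1) ha
    simpa [← IsScalarTower.algebraMap_apply] using this
  refine ⟨?_, ?_⟩
  · intro hx hy
    have hvC : Submodule.span C (Set.range v) = ⊤ :=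
      span_quot_transfer (A := C) (R₁ := pPowerSubalgebra p C B) (R₂ := C) sC₂ hy
    have h1 : Submodule.span (pPowerSubalgebra p A C) (Set.range u • Set.range v) = ⊤ := by
      rw [Submodule.span_smul_of_span_eq_top hx, hvC]
      rfl
    have h2 : Submodule.span (pPowerSubalgebra p A B) (Set.range u • Set.range v) = ⊤ :=
      span_quot_transfer (A := A) (R₁ := pPowerSubalgebra p A C) (R₂ := pPowerSubalgebra p A B)
        sA₁ h1
    change Submodule.span (pPowerSubalgebra p A B) (Set.range w) = ⊤
    rw [hw', (sumEquiv p ι κ).surjective.range_comp, ← Set.range_smul_range]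
    exact h2
  · intro hx
    constructor
    · intro hy
      have hvC : LinearIndependent C v :=
        li_quot_transfer (A := C) (R₁ := C) (R₂ := pPowerSubalgebra p C B)
          Function.surjective_id (fun c hc => by
            apply hinj
            have := congrArg (fun r : pPowerSubalgebra p C B => r.1) hc
            simpa using this) hy
      have h1 : LinearIndependent (pPowerSubalgebra p A C)
          (fun q : Ered p ι × Ered p κ => u q.1 • v q.2) := linearIndependent_smul hx.1 hvC
      have h2 : LinearIndependent (pPowerSubalgebra p A B)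
          (fun q : Ered p ι × Ered p κ => u q.1 • v q.2) :=
        li_quot_transfer (A := A) (R₁ := pPowerSubalgebra p A B) (R₂ := pPowerSubalgebra p A C)
          sA₂ hk12 h1
      change LinearIndependent (pPowerSubalgebra p A B) w
      rw [hw']
      exact h2.comp (sumEquiv p ι κ) (sumEquiv p ι κ).injective
    · intro h
      have h2 : LinearIndependent (pPowerSubalgebra p A B)
          (fun q : Ered p ι × Ered p κ => u q.1 • v q.2) := by
        have := LinearIndependent.comp (show LinearIndependent (pPowerSubalgebra p A B) w from h)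
          (sumEquiv p ι κ).symm (sumEquiv p ι κ).symm.injective
        have heq : w ∘ (sumEquiv p ι κ).symm = (fun q : Ered p ι × Ered p κ => u q.1 • v q.2) := by
          funext q
          exact pMonomial_sumEquiv_symm (p := p) x y q
        rwa [heq] at this
      have h1 : LinearIndependent (pPowerSubalgebra p A C)
          (fun q : Ered p ι × Ered p κ => u q.1 • v q.2) :=
        li_quot_transfer (A := A) (R₁ := pPowerSubalgebra p A C) (R₂ := pPowerSubalgebra p A B)
          sA₁ hk21 h2
      have h1' : LinearIndependent (pPowerSubalgebra p A C)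
          (fun q : Ered p κ × Ered p ι => u q.2 • v q.1) :=
        h1.comp (Equiv.prodComm (Ered p κ) (Ered p ι)) (Equiv.prodComm _ _).injective
      have hvC : LinearIndependent C v := li_of_li_smul hx.2 h1'
      exact li_quot_transfer (A := C) (R₁ := pPowerSubalgebra p C B) (R₂ := C) sC₂
        (fun c hc => by
          have : c = 0 := hc
          rw [this, map_zero]) hvC

end main

end Groth.Agent.Lib.helper25.PBasisK
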