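import Groth.Agent.Lib.helper25.Jacobson
import Groth.Agent.Lib.helper25.LogC

set_option autoImplicit false
set_option linter.unusedSectionVars false
universe v u
open TensorProduct

namespace Groth.Agent.Lib.helper25.PCurvLib

open Groth.Agent.Lib.helper25.Jacobson

section iter
variable {B : Type*} [CommRing B] (p : ℕ) [hp : Fact p.Prime]

/-- In characteristic `p` the `p`-fold iterate of a derivation satisfies the Leibniz rule. -/
theorem iterate_leibniz (hB : (p : B) = 0) (D : B →ₗ[ℤ] B)
    (hD : ∀ a b, D (a * b) = a * D b + b * D a) (a b : B) :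
    (⇑D)^[p] (a * b) = a * (⇑D)^[p] b + b * (⇑D)^[p] a := by
  -- work in End(End B)
  let Λ : Module.End ℤ (Module.End ℤ B) := LinearMap.mulLeft ℤ D
  let P : Module.End ℤ (Module.End ℤ B) := LinearMap.mulRight ℤ D
  let ad : Module.End ℤ (Module.End ℤ B) := Λ - P
  have hc : Commute P ad := by
    have h1 : Commute Λ P := LinearMap.commute_mulLeft_right D D
    exact (h1.symm).sub_right (Commute.refl P)
  have hΛ : Λ = P + ad := by simp [ad]
  have had : ∀ (k : ℕ) (c : B), (ad ^ k) (LinearMap.mulLeft ℤ c) = LinearMap.mulLeft ℤ ((⇑D)^[k] c) := by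
    intro k
    induction k with
    | zero => intro c; rfl
    | succ k ih =>
      intro c
      rw [pow_succ', Module.End.mul_apply, ih]
      ext z
      simp only [ad, Λ, P, LinearMap.sub_apply, LinearMap.mulLeft_apply, LinearMap.mulRight_apply,
        Module.End.mul_apply, hD, Function.iterate_succ_apply']
      ring
  have hpow := hc.add_pow p
  rw [← hΛ] at hpow
  have h1 := LinearMap.congr_fun (LinearMap.congr_fun hpow (LinearMap.mulLeft ℤ a)) b
  rw [LinearMap.pow_mulLeft, LinearMap.mulLeft_apply, Module.End.mul_apply, LinearMap.mulLeft_apply,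
    Module.End.pow_apply] at h1
  rw [h1, LinearMap.sum_apply, LinearMap.sum_apply]
  have hterm : ∀ m ∈ Finset.range (p + 1),
      ((P ^ m * ad ^ (p - m) * ((p.choose m : ℕ) : Module.End ℤ (Module.End ℤ B)))
        (LinearMap.mulLeft ℤ a)) b =
      (p.choose m : B) * ((⇑D)^[p - m] a * (⇑D)^[m] b) := by
    intro m _
    rw [Module.End.mul_apply, Module.End.mul_apply, Module.End.natCast_apply, map_nsmul, map_nsmul,
      had, LinearMap.pow_mulRight, LinearMap.mulRight_apply, LinearMap.smul_apply,
      Module.End.mul_apply, LinearMap.mulLeft_apply, Module.End.pow_apply, nsmul_eq_mul]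
  rw [Finset.sum_congr rfl hterm]
  have hmid : ∀ m, 0 < m → m < p → ((p.choose m : ℕ) : B) = 0 := by
    intro m hm0 hmp
    obtain ⟨c, hc⟩ := hp.out.dvd_choose_self hm0.ne' hmp
    rw [hc, Nat.cast_mul, hB, zero_mul]
  obtain ⟨q, hq⟩ : ∃ q, p = q + 1 := ⟨p - 1, by have := hp.out.one_le; omega⟩
  rw [Finset.sum_range_succ, Nat.choose_self, Nat.cast_one, one_mul, Nat.sub_self,
    Function.iterate_zero_apply]
  have h2 : ∑ m ∈ Finset.range p, (p.choose m : B) * ((⇑D)^[p - m] a * (⇑D)^[m] b) =
      b * (⇑D)^[p] a := by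
    conv_lhs => rw [hq, Finset.sum_range_succ']
    rw [Finset.sum_eq_zero, zero_add, Nat.choose_zero_right, Nat.cast_one, one_mul, Nat.sub_zero,
      Function.iterate_zero_apply, ← hq, mul_comm]
    intro m hm
    have := Finset.mem_range.1 hm
    rw [← hq, hmid (m + 1) (Nat.succ_pos m) (by omega), zero_mul]
  rw [h2, add_comm]

variable {A : Type*} [CommRing A] [Algebra A B]

/-- The `p`-th power of a derivation in characteristic `p`, as a derivation. -/
noncomputable def powDer (hB : (p : B) = 0) (D : Derivation A B B) : Derivation A B B where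
  toLinearMap := (D : B →ₗ[A] B) ^ p
  map_one_eq_zero' := by
    rw [Module.End.pow_apply]
    obtain ⟨q, hq⟩ : ∃ q, p = q + 1 := ⟨p - 1, by have := hp.out.one_le; omega⟩
    rw [hq, Function.iterate_succ_apply]
    simp only [Derivation.coeFn_coe, Derivation.map_one_eq_zero]
    exact iterate_map_zero D q
  leibniz' a b := by
    rw [Module.End.pow_apply, Module.End.pow_apply, Module.End.pow_apply]
    have := iterate_leibniz p hB (D : B →+ B).toIntLinearMap
      (fun a b => by simp [Derivation.leibniz]) a b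
    simpa [smul_eq_mul] using this

theorem powDer_apply (hB : (p : B) = 0) (D : Derivation A B B) (b : B) :
    powDer p hB D b = (⇑D)^[p] b := by
  change ((D : B →ₗ[A] B) ^ p) b = _
  rw [Module.End.pow_apply]
  rfl

end iter


section main
variable {A : Type v} {B M : Type u} [CommRing A] [CommRing B] [Algebra A B]
  [AddCommGroup M] [Module B M] [Module A M] [IsScalarTower A B M]

theorem alongDer_smul (nabla : M →ₗ[A] M ⊗[B] Ω[B⁄A]) (c : B) (D : Derivation A B B) (m : M) :
    Conn.alongDer nabla (c • D) m = c • Conn.alongDer nabla D m := by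
  have hl : (c • D).liftKaehlerDifferential = c • D.liftKaehlerDifferential :=
    map_smul (KaehlerDifferential.linearMapEquivDerivation A B).symm c D
  unfold Conn.alongDer
  rw [Conn.along_apply, Conn.along_apply, hl]
  generalize nabla m = t
  induction t using TensorProduct.induction_on with
  | zero => simp
  | tmul m' w => simp [smul_smul, mul_comm]
  | add x y hx hy => simp only [map_add, smul_add, hx, hy]

theorem alongDer_leibniz (nabla : M →ₗ[A] M ⊗[B] Ω[B⁄A])
    (hc : Conn.IsConn (KaehlerDifferential.D A B) nabla) (D : Derivation A B B) (b : B) (m : M) :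
    Conn.alongDer nabla D (b • m) = b • Conn.alongDer nabla D m + D b • m := by
  have := Groth.Agent.Lib.helper25.LogC.along_smul (KaehlerDifferential.D A B) 1 nabla
    ((Conn.isConn_iff _ _).1 hc) D.liftKaehlerDifferential b m
  rw [one_mul, Derivation.liftKaehlerDifferential_comp_D] at this
  exact this

/-- a derivation as a `ℤ`-derivation -/
noncomputable def derZ (D : Derivation A B B) : Derivation ℤ B B where
  toLinearMap := (D : B →+ B).toIntLinearMap
  map_one_eq_zero' := D.map_one_eq_zero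
  leibniz' a b := D.leibniz a b

theorem derZ_apply (D : Derivation A B B) (b : B) : derZ D b = D b := rfl

end main



section main2
variable {A : Type v} {B M : Type u} [CommRing A] [CommRing B] [Algebra A B]
  [AddCommGroup M] [Module B M] [Module A M] [IsScalarTower A B M]

theorem der_eq_smul (bΩ : Module.Basis (Fin 1) B (Ω[B⁄A])) (θ₀ : Derivation A B B)
    (hθ₀ : θ₀.liftKaehlerDifferential (bΩ 0) = 1) (D : Derivation A B B) :
    D = (D.liftKaehlerDifferential (bΩ 0)) • θ₀ := by
  apply (KaehlerDifferential.linearMapEquivDerivation A B).symm.injective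
  rw [map_smul]
  apply bΩ.ext
  intro i
  have hi : i = 0 := Subsingleton.elim _ _
  subst hi
  change D.liftKaehlerDifferential (bΩ 0) = (D.liftKaehlerDifferential (bΩ 0)) • θ₀.liftKaehlerDifferential (bΩ 0)
  rw [hθ₀, smul_eq_mul, mul_one]

theorem pCurv_eq_zero_of_dual (p : ℕ) [hp : Fact p.Prime] (hB : (p : B) = 0)
    (bΩ : Module.Basis (Fin 1) B (Ω[B⁄A])) (θ₀ : Derivation A B B)
    (hθ₀ : θ₀.liftKaehlerDifferential (bΩ 0) = 1)
    (nabla : M →ₗ[A] M ⊗[B] Ω[B⁄A])
    (hc : Conn.IsConn (KaehlerDifferential.D A B) nabla)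
    (H₀ : ∀ θp : Derivation A B B, Conn.IsIterPow θ₀ p θp → Conn.pCurv p nabla θ₀ θp = 0)
    (θ θp : Derivation A B B) (hθ : Conn.IsIterPow θ p θp) : Conn.pCurv p nabla θ θp = 0 := by
  set N : M →ₗ[A] M := Conn.alongDer nabla θ₀ with hN
  set θ₀p := powDer p hB θ₀ with hθ₀p
  have hiter₀ : Conn.IsIterPow θ₀ p θ₀p := fun b => powDer_apply p hB θ₀ b
  set h₀ : B := θ₀p.liftKaehlerDifferential (bΩ 0) with hh₀
  set f : B := θ.liftKaehlerDifferential (bΩ 0) with hf
  have hθf : θ = f • θ₀ := der_eq_smul bΩ θ₀ hθ₀ θ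
  have hθ₀pf : θ₀p = h₀ • θ₀ := der_eq_smul bΩ θ₀ hθ₀ θ₀p
  -- N^p = h₀ • N
  have hNp : ∀ m, (⇑N)^[p] m = h₀ • N m := by
    intro m
    have h := LinearMap.congr_fun (H₀ θ₀p hiter₀) m
    unfold Conn.pCurv at h
    rw [LinearMap.sub_apply, Module.End.pow_apply, LinearMap.zero_apply, sub_eq_zero] at h
    rw [h, hθ₀pf, alongDer_smul]
  -- alongDer θ = f • N
  have hθN : ∀ m, Conn.alongDer nabla θ m = f • N m := by
    intro m
    rw [hθf, alongDer_smul]
  have hleibM : ∀ (s : B) (m : M), (N : M →+ M) (s • m) = s • (N : M →+ M) m + derZ θ₀ s • m := by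
    intro s m
    exact alongDer_leibniz nabla hc θ₀ s m
  have hleibB : ∀ (s : B) (b : B), ((θ₀ : B →ₗ[A] B) : B →+ B) (s • b)
      = s • ((θ₀ : B →ₗ[A] B) : B →+ B) b + derZ θ₀ s • b := by
    intro s b
    change θ₀ (s * b) = s * θ₀ b + θ₀ s * b
    rw [Derivation.leibniz]
    simp only [smul_eq_mul]
    ring
  set g : B := ((fun c => f * derZ θ₀ c)^[p - 1] f) with hg
  have hochM := fun m => hochschild (derZ θ₀) f (N : M →+ M) p hB hleibM m
  have hochB := fun b => hochschild (derZ θ₀) f (((θ₀ : B →ₗ[A] B) : B →+ B)) p hB hleibB b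
  -- θp = (f^p h₀ + g) • θ₀
  have hθp : θp = (f ^ p * h₀ + g) • θ₀ := by
    ext b
    rw [hθ b]
    have h1 : (⇑θ) = fun z => f • ((θ₀ : B →ₗ[A] B) : B →+ B) z := by
      funext z
      conv_lhs => rw [hθf]
      rfl
    rw [h1, hochB b]
    have h2 : (⇑(((θ₀ : B →ₗ[A] B) : B →+ B)))^[p] b = h₀ • θ₀ b := by
      have := hiter₀ b
      rw [hθ₀pf] at this
      exact this.symm
    rw [h2]
    simp only [Derivation.smul_apply, smul_eq_mul]
    change _ = (f ^ p * h₀ + g) * θ₀ b
    change f ^ p * (h₀ * θ₀ b) + g * θ₀ b = _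
    ring
  ext m
  unfold Conn.pCurv
  rw [LinearMap.sub_apply, Module.End.pow_apply, LinearMap.zero_apply, sub_eq_zero]
  have h3 : (⇑(Conn.alongDer nabla θ)) = fun z => f • (N : M →+ M) z := by
    funext z
    exact hθN z
  rw [h3, hochM m, hθp, alongDer_smul]
  have h4 : (⇑(N : M →+ M))^[p] m = h₀ • N m := hNp m
  rw [h4, add_smul, smul_smul]
  rfl

end main2


end Groth.Agent.Lib.helper25.PCurvLib
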