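import Mathlib
import Groth.Agent.Lib.helper25.PBasisF
import Groth.Agent.Lib.helper25.FrobA

set_option autoImplicit false
set_option linter.unusedSectionVars false
universe u

namespace Groth.Agent.Lib.helper25.PPoly

open EGA41 Groth.Agent.Lib.helper25.PBasisA Groth.Agent.Lib.helper25.PBasisF

section span
variable {A : Type u} [CommRing A] (p : ℕ) {ι : Type u} (c : ι → Fin p → A) (f : ι → A)

/-- the `p`-polynomials `T_i^p + p Σ_k c_{ik} T_i^{p-k} - f_i`. -/
noncomputable def Fpoly (i : ι) : MvPolynomial ι A :=
  MvPolynomial.X i ^ p + (p : MvPolynomial ι A) * (Finset.univ.sum fun j : Fin p =>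
    if (j : ℕ) = 0 then 0 else MvPolynomial.C (c i j) * MvPolynomial.X i ^ (p - (j : ℕ)))
    - MvPolynomial.C (f i)

/-- The quotient `A[T_i]/(F_i)`. -/
abbrev Quo : Type u := MvPolynomial ι A ⧸ Ideal.span (Set.range (Fpoly p c f))

/-- class of a monomial. -/
noncomputable def qmon (e : ι →₀ ℕ) : Quo p c f :=
  Ideal.Quotient.mk _ (MvPolynomial.monomial e 1)

/-- the submodule spanned by the reduced monomials. -/
noncomputable def redSpan : Submodule A (Quo p c f) :=
  Submodule.span A (Set.range fun e : Ered p ι => qmon p c f e.1)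

theorem qmon_mem (e : ι →₀ ℕ) (he : ∀ i, e i < p) : qmon p c f e ∈ redSpan p c f :=
  Submodule.subset_span ⟨⟨e, he⟩, rfl⟩

theorem mk_X_pow (i : ι) :
    (Ideal.Quotient.mk (Ideal.span (Set.range (Fpoly p c f))) (MvPolynomial.X i ^ p)) =
      Ideal.Quotient.mk _ (MvPolynomial.C (f i)) -
      Ideal.Quotient.mk _ ((p : MvPolynomial ι A) * (Finset.univ.sum fun j : Fin p =>
        if (j : ℕ) = 0 then 0 else MvPolynomial.C (c i j) * MvPolynomial.X i ^ (p - (j : ℕ)))) := by
  have h : Ideal.Quotient.mk (Ideal.span (Set.range (Fpoly p c f))) (Fpoly p c f i) = 0 :=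
    Ideal.Quotient.eq_zero_iff_mem.2 (Ideal.subset_span ⟨i, rfl⟩)
  rw [Fpoly, map_sub, map_add] at h
  rw [← sub_eq_zero, ← h]
  ring

theorem smul_eq (a : A) (x : Quo p c f) :
    a • x = Ideal.Quotient.mk _ (MvPolynomial.C a) * x := by
  obtain ⟨q, rfl⟩ := Ideal.Quotient.mk_surjective x
  rw [← map_mul, ← MvPolynomial.smul_eq_C_mul]
  rfl

theorem X_mul_mem (hp : 0 < p) (i : ι) (n : Quo p c f) (hn : n ∈ redSpan p c f) :
    Ideal.Quotient.mk _ (MvPolynomial.X i) * n ∈ redSpan p c f := by
  classical
  induction hn using Submodule.span_induction with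
  | zero => rw [mul_zero]; exact Submodule.zero_mem _
  | add x y _ _ hx hy => rw [mul_add]; exact Submodule.add_mem _ hx hy
  | smul a x _ hx =>
    rw [mul_smul_comm]
    exact Submodule.smul_mem _ a hx
  | mem x hx =>
    obtain ⟨e, rfl⟩ := hx
    by_cases hlt : e.1 i + 1 < p
    · -- still reduced
      have : Ideal.Quotient.mk _ (MvPolynomial.X i) * qmon p c f e.1 =
          qmon p c f (Finsupp.single i 1 + e.1) := by
        rw [qmon, qmon, ← map_mul, MvPolynomial.X, MvPolynomial.monomial_mul, one_mul]
      rw [this]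
      apply qmon_mem
      intro j
      rw [Finsupp.add_apply, Finsupp.single_apply]
      split_ifs with h
      · subst h; omega
      · rw [zero_add]; exact e.2 j
    · -- overflow: use the relation
      have hei : e.1 i = p - 1 := by have := e.2 i; omega
      have hsplit : (MvPolynomial.X i : MvPolynomial ι A) * MvPolynomial.monomial e.1 1 =
          MvPolynomial.X i ^ p * MvPolynomial.monomial (e.1.erase i) 1 := by
        have hexp : Finsupp.single i 1 + e.1 = Finsupp.single i p + e.1.erase i := by
          ext j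
          rw [Finsupp.add_apply, Finsupp.add_apply, Finsupp.single_apply, Finsupp.single_apply,
            Finsupp.erase_apply]
          by_cases h : j = i
          · subst h; rw [if_pos rfl, if_pos rfl, if_pos rfl]; omega
          · rw [if_neg (Ne.symm h), if_neg (Ne.symm h), if_neg h]
        rw [MvPolynomial.X_pow_eq_monomial, MvPolynomial.X, MvPolynomial.monomial_mul,
          MvPolynomial.monomial_mul, hexp]
      have : Ideal.Quotient.mk _ (MvPolynomial.X i) * qmon p c f e.1 =
          Ideal.Quotient.mk _ (MvPolynomial.X i ^ p) * qmon p c f (e.1.erase i) := by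
        rw [qmon, qmon, ← map_mul, ← map_mul, hsplit]
      rw [this, mk_X_pow, sub_mul]
      refine Submodule.sub_mem _ ?_ ?_
      · -- f_i • monomial
        have : Ideal.Quotient.mk (Ideal.span (Set.range (Fpoly p c f))) (MvPolynomial.C (f i)) *
            qmon p c f (e.1.erase i) = f i • qmon p c f (e.1.erase i) := by
          rw [smul_eq]
        rw [this]
        apply Submodule.smul_mem
        apply qmon_mem
        intro j
        rw [Finsupp.erase_apply]
        split_ifs
        · exact hp
        · exact e.2 j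
      · rw [map_mul, map_sum, mul_assoc, Finset.sum_mul]
        have hpnat : Ideal.Quotient.mk (Ideal.span (Set.range (Fpoly p c f)))
            ((p : MvPolynomial ι A)) = algebraMap A (Quo p c f) (p : A) := by
          rw [map_natCast, map_natCast]
        have hpnat' : algebraMap A (Quo p c f) (p : A) =
            Ideal.Quotient.mk _ (MvPolynomial.C (p : A)) := rfl
        rw [hpnat, hpnat', ← smul_eq]
        apply Submodule.smul_mem
        apply Submodule.sum_mem
        intro j _
        split_ifs with hj
        · rw [map_zero, zero_mul]; exact Submodule.zero_mem _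
        · have : Ideal.Quotient.mk (Ideal.span (Set.range (Fpoly p c f)))
              (MvPolynomial.C (c i j) * MvPolynomial.X i ^ (p - (j : ℕ))) *
              qmon p c f (e.1.erase i) =
              c i j • qmon p c f (Finsupp.single i (p - (j : ℕ)) + e.1.erase i) := by
            rw [smul_eq, qmon, qmon, ← map_mul, ← map_mul, mul_assoc,
              MvPolynomial.X_pow_eq_monomial, MvPolynomial.monomial_mul, one_mul]
          rw [this]
          apply Submodule.smul_mem
          apply qmon_mem
          intro l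
          rw [Finsupp.add_apply, Finsupp.single_apply, Finsupp.erase_apply]
          by_cases h : l = i
          · subst h
            simp only [if_true, add_zero]
            have := j.2
            omega
          · rw [if_neg (Ne.symm h), if_neg h, zero_add]
            exact e.2 l

theorem redSpan_eq_top (hp : 0 < p) : redSpan p c f = ⊤ := by
  rw [eq_top_iff]
  intro a _
  obtain ⟨q, rfl⟩ := Ideal.Quotient.mk_surjective a
  induction q using MvPolynomial.induction_on with
  | C a =>
    have : Ideal.Quotient.mk (Ideal.span (Set.range (Fpoly p c f))) (MvPolynomial.C a) =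
        a • qmon p c f 0 := by
      rw [smul_eq, qmon]
      have : (MvPolynomial.monomial (0 : ι →₀ ℕ) (1 : A)) = 1 := rfl
      rw [this, map_one, mul_one]
    rw [this]
    exact Submodule.smul_mem _ _ (qmon_mem p c f 0 (fun _ => hp))
  | add q r hq hr => rw [map_add]; exact Submodule.add_mem _ (hq trivial) (hr trivial)
  | mul_X q i hq =>
    rw [map_mul, mul_comm]
    exact X_mul_mem p c f hp i _ (hq trivial)

end span

open IsLocalRing

theorem sum_pow_of_cast_eq_zero {R : Type*} [CommRing R] (p : ℕ) [Fact p.Prime] (hp : (p : R) = 0)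
    {α : Type*} (s : Finset α) (t : α → R) : (∑ e ∈ s, t e) ^ p = ∑ e ∈ s, t e ^ p := by
  classical
  induction s using Finset.induction_on with
  | empty => simp [zero_pow (Fact.out : p.Prime).ne_zero]
  | insert a s ha ih =>
    rw [Finset.sum_insert ha, Finset.sum_insert ha,
      Groth.Agent.Lib.helper25.FrobA.add_pow_of_cast_eq_zero p hp, ih]

section loc
variable {A : Type u} [CommRing A] [IsLocalRing A] (p : ℕ) [hp : Fact p.Prime]
  [CharP (ResidueField A) p] {ι : Type u} (c : ι → Fin p → A) (f : ι → A)

/-- the ideal `m A'`. -/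
noncomputable def mI : Ideal (Quo p c f) := (maximalIdeal A).map (algebraMap A (Quo p c f))

theorem mI_sq (hm : maximalIdeal A ^ 2 = ⊥) : mI p c f ^ 2 = ⊥ := by
  rw [mI, ← Ideal.map_pow, hm, Ideal.map_bot]

/-- `Q = A' / m A'`. -/
def Qr : Type u := Quo p c f ⧸ mI p c f

noncomputable instance : CommRing (Qr p c f) := Ideal.Quotient.commRing (mI p c f)

noncomputable def rho : Quo p c f →+* Qr p c f := Ideal.Quotient.mk _

noncomputable def theta : ResidueField A →+* Qr p c f :=
  Ideal.quotientMap (mI p c f) (algebraMap A (Quo p c f)) Ideal.le_comap_map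

theorem theta_res (a : A) : theta p c f (residue A a) = rho p c f (algebraMap A _ a) := rfl

theorem cast_Qr : ((p : ℕ) : Qr p c f) = 0 := by
  rw [← map_natCast (theta p c f), CharP.cast_eq_zero, map_zero]

theorem rho_X_pow (i : ι) :
    rho p c f (Ideal.Quotient.mk _ (MvPolynomial.X i)) ^ p = theta p c f (residue A (f i)) := by
  have h1 : rho p c f (Ideal.Quotient.mk (Ideal.span (Set.range (Fpoly p c f)))
      ((p : MvPolynomial ι A) * (Finset.univ.sum fun j : Fin p =>
        if (j : ℕ) = 0 then 0 else MvPolynomial.C (c i j) * MvPolynomial.X i ^ (p - (j : ℕ))))) = 0 := by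
    rw [map_mul, map_mul, map_natCast, map_natCast, cast_Qr, zero_mul]
  rw [← map_pow, ← map_pow, mk_X_pow, map_sub, h1, theta_res, sub_zero]
  rfl

theorem rho_qmon_pow (e : ι →₀ ℕ) :
    rho p c f (qmon p c f e) ^ p =
      theta p c f (pMonomial (fun i => residue A (f i)) e) := by
  rw [qmon, MvPolynomial.monomial_eq, map_one, one_mul, pMonomial, map_finsuppProd,
    map_finsuppProd, map_finsuppProd, Finsupp.prod, Finsupp.prod, ← Finset.prod_pow]
  refine Finset.prod_congr rfl fun i _ => ?_
  rw [map_pow, map_pow, map_pow, ← pow_mul, mul_comm, pow_mul, rho_X_pow]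

/-- the element of the residue field computing `ρ(a)^p`. -/
noncomputable def sOf (l : Ered p ι →₀ A) : ResidueField A :=
  l.sum fun e a => (residue A a) ^ p * pMonomial (fun i => residue A (f i)) e.1

theorem rho_pow (l : Ered p ι →₀ A) :
    rho p c f (l.sum fun e a => a • qmon p c f e.1) ^ p = theta p c f (sOf p f l) := by
  rw [Finsupp.sum, map_sum, sOf, Finsupp.sum, map_sum]
  refine (sum_pow_of_cast_eq_zero p (cast_Qr p c f) l.support
    (fun e => rho p c f (l e • qmon p c f e.1))).trans ?_
  refine Finset.sum_congr rfl fun e _ => ?_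
  rw [smul_eq, map_mul, mul_pow, rho_qmon_pow, map_mul, map_pow, theta_res]
  rfl

theorem mem_of_sOf_eq_zero
    (hind : LinearIndependent (↥(frobenius (ResidueField A) p).fieldRange)
      (fun e : {e : ι →₀ ℕ // ∀ i, e i < p} => EGA41.pMonomial (fun i => residue A (f i)) e.1))
    (l : Ered p ι →₀ A) (hs : sOf p f l = 0) (e : Ered p ι) : l e ∈ maximalIdeal A := by
  rw [linearIndependent_iff] at hind
  let g : Ered p ι →₀ ↥(frobenius (ResidueField A) p).fieldRange :=
    l.mapRange (fun a => ⟨(residue A a) ^ p, ⟨residue A a, rfl⟩⟩) (by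
      apply Subtype.ext
      change (residue A 0) ^ p = 0
      rw [map_zero, zero_pow hp.out.ne_zero])
  have hg : Finsupp.linearCombination _ (fun e : {e : ι →₀ ℕ // ∀ i, e i < p} =>
      EGA41.pMonomial (fun i => residue A (f i)) e.1) g = 0 := by
    rw [Finsupp.linearCombination_apply, Finsupp.sum_mapRange_index (by intro e; simp)]
    exact hs
  have h0 := DFunLike.congr_fun (hind g hg) e
  have h1 : (residue A (l e)) ^ p = 0 := by
    have := congrArg Subtype.val h0
    simpa [g] using this
  have h2 : residue A (l e) = 0 := pow_eq_zero_iff hp.out.ne_zero |>.1 h1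
  rwa [residue_eq_zero_iff] at h2

theorem isUnit_of_notMem (hm : maximalIdeal A ^ 2 = ⊥)
    (hind : LinearIndependent (↥(frobenius (ResidueField A) p).fieldRange)
      (fun e : {e : ι →₀ ℕ // ∀ i, e i < p} => EGA41.pMonomial (fun i => residue A (f i)) e.1))
    (a : Quo p c f) (ha : a ∉ mI p c f) : IsUnit a := by
  have hmem : a ∈ redSpan p c f := by rw [redSpan_eq_top p c f hp.out.pos]; trivial
  obtain ⟨l, rfl⟩ := Finsupp.mem_span_range_iff_exists_finsupp.1 hmem
  have hs : sOf p f l ≠ 0 := by
    intro hs
    apply ha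
    rw [Finsupp.sum]
    refine Ideal.sum_mem _ fun e _ => ?_
    rw [smul_eq]
    exact Ideal.mul_mem_right _ _ (Ideal.mem_map_of_mem _ (mem_of_sOf_eq_zero p f hind l hs e))
  obtain ⟨u, hu⟩ := residue_surjective (sOf p f l)
  have huu : IsUnit u := (residue_ne_zero_iff_isUnit u).1 (hu ▸ hs)
  have hrho := rho_pow p c f l
  rw [← hu, theta_res, ← map_pow] at hrho
  set a := (l.sum fun e a => a • qmon p c f e.1) with ha'
  have hn : a ^ p - algebraMap A (Quo p c f) u ∈ mI p c f :=
    (Ideal.Quotient.eq (I := mI p c f)).1 hrho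
  have hnil : IsNilpotent (a ^ p - algebraMap A (Quo p c f) u) := by
    refine ⟨2, ?_⟩
    have : (a ^ p - algebraMap A (Quo p c f) u) ^ 2 ∈ mI p c f ^ 2 := Ideal.pow_mem_pow hn 2
    rwa [mI_sq p c f hm] at this
  have hunit : IsUnit (a ^ p) := by
    have := hnil.isUnit_add_left_of_commute (huu.map (algebraMap A (Quo p c f))) (Commute.all _ _)
    rwa [add_sub_cancel] at this
  exact (isUnit_pow_iff hp.out.ne_zero).1 hunit

end loc



section loc2
variable {A : Type u} [CommRing A] [IsLocalRing A] (p : ℕ) [hp : Fact p.Prime]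
  [CharP (ResidueField A) p] {ι : Type u} (c : ι → Fin p → A) (f : ι → A)

theorem mI_ne_top : mI p c f ≠ ⊤ := by
  classical
  let L := AlgebraicClosure (ResidueField A)
  let φ₀ : A →+* L := (algebraMap (ResidueField A) L).comp (residue A)
  have hpL : ((p : ℕ) : L) = 0 := by
    rw [← map_natCast (algebraMap (ResidueField A) L), CharP.cast_eq_zero, map_zero]
  choose g hg using fun i : ι => IsAlgClosed.exists_pow_nat_eq (φ₀ (f i)) hp.out.pos
  let ev : MvPolynomial ι A →+* L := MvPolynomial.eval₂Hom φ₀ g
  have hker : Ideal.span (Set.range (Fpoly p c f)) ≤ RingHom.ker ev := by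
    rw [Ideal.span_le]
    rintro _ ⟨i, rfl⟩
    rw [SetLike.mem_coe, RingHom.mem_ker, Fpoly, map_sub, map_add, map_mul, map_natCast, hpL,
      zero_mul, add_zero, map_pow]
    simp only [ev, MvPolynomial.coe_eval₂Hom, MvPolynomial.eval₂_X, MvPolynomial.eval₂_C]
    rw [hg, sub_self]
  let ψ : Quo p c f →+* L := Ideal.Quotient.lift _ ev (fun q hq => hker hq)
  have hle : mI p c f ≤ RingHom.ker ψ := by
    rw [mI, Ideal.map_le_iff_le_comap]
    intro a ha
    rw [Ideal.mem_comap, RingHom.mem_ker]
    change ev (MvPolynomial.C a) = 0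
    simp only [ev, MvPolynomial.coe_eval₂Hom, MvPolynomial.eval₂_C]
    change algebraMap (ResidueField A) L (residue A a) = 0
    rw [(residue_eq_zero_iff a).2 ha, map_zero]
  intro htop
  have : (1 : Quo p c f) ∈ RingHom.ker ψ := hle (htop ▸ Submodule.mem_top)
  rw [RingHom.mem_ker, map_one] at this
  exact one_ne_zero this

theorem S4605_aux (hm : maximalIdeal A ^ 2 = ⊥)
    (hind : LinearIndependent (↥(frobenius (ResidueField A) p).fieldRange)
      (fun e : {e : ι →₀ ℕ // ∀ i, e i < p} => EGA41.pMonomial (fun i => residue A (f i)) e.1)) :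
    ∃ _ : IsLocalRing (Quo p c f),
      maximalIdeal (Quo p c f) = (maximalIdeal A).map (algebraMap A (Quo p c f)) := by
  have hne := mI_ne_top p c f
  haveI : Nontrivial (Quo p c f) := by
    by_contra h
    rw [not_nontrivial_iff_subsingleton] at h
    exact hne (Subsingleton.elim _ _)
  have hnil : ∀ a ∈ mI p c f, IsNilpotent a := by
    intro a ha
    refine ⟨2, ?_⟩
    have : a ^ 2 ∈ mI p c f ^ 2 := Ideal.pow_mem_pow ha 2
    rwa [mI_sq p c f hm] at this
  have hloc : IsLocalRing (Quo p c f) := by
    refine IsLocalRing.of_isUnit_or_isUnit_one_sub_self fun a => ?_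
    by_cases ha : a ∈ mI p c f
    · exact Or.inr (hnil a ha).isUnit_one_sub
    · exact Or.inl (isUnit_of_notMem p c f hm hind a ha)
  refine ⟨hloc, ?_⟩
  ext a
  rw [mem_maximalIdeal, mem_nonunits_iff]
  change _ ↔ a ∈ mI p c f
  constructor
  · intro hu
    by_contra ha
    exact hu (isUnit_of_notMem p c f hm hind a ha)
  · intro ha hu
    exact hne (Ideal.eq_top_of_isUnit_mem _ ha hu)

end loc2


end Groth.Agent.Lib.helper25.PPoly
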