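import Groth.Agent.Lib.helper25.FrobA
import Mathlib.FieldTheory.IsPerfectClosure

set_option autoImplicit false
universe u v
open TensorProduct FrobAlg

namespace Groth.Agent.Lib.helper25.PerfEt

open Groth.Agent.Lib.helper25

/-- An étale algebra over a perfect ring of characteristic `p` is perfect. -/
theorem perfectRing_of_etale (p : ℕ) [Fact p.Prime] (R : Type u) (E : Type v) [CommRing R] [CommRing E]
    [CharP R p] [CharP E p] [PerfectRing R p] [Algebra R E] [Algebra.Etale R E] :
    PerfectRing E p := by
  have hbij := FrobA.bijective_of_etale p R E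
  -- algebraMap R (Twist p R) is bijective
  have hT : Function.Bijective (Algebra.linearMap R (Twist p R)) := by
    have h1 : Function.Bijective (frobenius R p) := PerfectRing.bijective_frobenius
    have h2 : Function.Bijective (toTwist p R) := (toTwist p R).bijective
    exact h2.comp h1
  let f : R ≃ₗ[R] Twist p R := LinearEquiv.ofBijective (Algebra.linearMap R (Twist p R)) hT
  let g : E ≃ₗ[R] E ⊗[R] Twist p R :=
    (TensorProduct.rid R E).symm ≪≫ₗ TensorProduct.congr (LinearEquiv.refl R E) f
  have hg : ∀ e : E, g e = e ⊗ₜ[R] (1 : Twist p R) := by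
    intro e
    change (TensorProduct.congr (LinearEquiv.refl R E) f) ((TensorProduct.rid R E).symm e) = _
    rw [TensorProduct.rid_symm_apply, TensorProduct.congr_tmul]
    change e ⊗ₜ[R] (algebraMap R (Twist p R) 1) = _
    rw [map_one]
  refine ⟨?_⟩
  have : (fun x : E => x ^ p) = (relFrob p R E) ∘ g := by
    funext e
    change e ^ p = relFrob p R E (g e)
    rw [hg, FrobA.relFrob_tmul_one]
  rw [this]
  exact hbij.comp g.bijective


theorem bijective_lift_perfectClosure (p : ℕ) [Fact p.Prime]
    (A B A' B' : Type u) [CommRing A] [CommRing B] [CommRing A'] [CommRing B']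
    [CharP A p] [CharP B p] [CharP A' p] [CharP B' p] [PerfectRing A' p] [PerfectRing B' p]
    [Algebra A B] [Algebra.Etale A B] [Algebra A A'] [Algebra B B'] [Algebra A B'] [IsScalarTower A B B']
    [IsPerfectClosure (algebraMap A A') p] [IsPerfectClosure (algebraMap B B') p]
    (φ' : A' →ₐ[A] B') :
    Function.Bijective (Algebra.TensorProduct.lift φ' (IsScalarTower.toAlgHom A B B')
      (fun a b => Commute.all (φ' a) (IsScalarTower.toAlgHom A B B' b))) := by
  have hp : p.Prime := Fact.out
  set θ := Algebra.TensorProduct.lift φ' (IsScalarTower.toAlgHom A B B')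
      (fun a b => Commute.all (φ' a) (IsScalarTower.toAlgHom A B B' b)) with hθ
  have : Nontrivial B' := CharP.nontrivial_of_char_ne_one (R := B') (v := p) hp.ne_one
  have : Nontrivial (A' ⊗[A] B) := θ.toRingHom.domain_nontrivial
  have : CharP (A' ⊗[A] B) p := by
    rw [CharP.charP_iff_prime_eq_zero hp]
    have h0 : ((p : ℕ) : A) = 0 := CharP.cast_eq_zero A p
    have := congrArg (algebraMap A (A' ⊗[A] B)) h0
    rwa [map_natCast, map_zero] at this
  have : PerfectRing (A' ⊗[A] B) p := perfectRing_of_etale p A' (A' ⊗[A] B)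
  let j : B →+* A' ⊗[A] B := (Algebra.TensorProduct.includeRight : B →ₐ[A] A' ⊗[A] B).toRingHom
  have hj : ∀ b : B, j b = (1 : A') ⊗ₜ[A] b := fun b => rfl
  have hθj : θ.toRingHom.comp j = algebraMap B B' := by
    ext b
    change θ ((1 : A') ⊗ₜ[A] b) = _
    rw [hθ, Algebra.TensorProduct.lift_tmul, map_one, one_mul]
    rfl
  have hrad : IsPRadical j p := by
    refine ⟨?_, ?_⟩
    · intro x
      induction x using TensorProduct.induction_on with
      | zero => exact ⟨0, 0, by simp⟩
      | tmul a b =>
        obtain ⟨n, α, hα⟩ := IsPRadical.pow_mem (algebraMap A A') p a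
        refine ⟨n, α • b ^ p ^ n, ?_⟩
        rw [hj, Algebra.TensorProduct.tmul_pow, ← hα, Algebra.algebraMap_eq_smul_one,
          TensorProduct.smul_tmul]
      | add x y hx hy =>
        obtain ⟨n1, y1, h1⟩ := hx
        obtain ⟨n2, y2, h2⟩ := hy
        refine ⟨n1 + n2, y1 ^ p ^ n2 + y2 ^ p ^ n1, ?_⟩
        rw [add_pow_char_pow, map_add, map_pow, map_pow, h1, h2, ← pow_mul, ← pow_mul,
          ← pow_add, ← pow_add, add_comm n2 n1]
    · intro b hb
      have hb' : algebraMap B B' b = 0 := by
        rw [← hθj, RingHom.comp_apply, (RingHom.mem_ker).1 hb, map_zero]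
      exact IsPRadical.ker_le (algebraMap B B') p ((RingHom.mem_ker).2 hb')
  let ε : A' ⊗[A] B ≃+* B' := IsPerfectClosure.equiv j (algebraMap B B') p
  have hε : (ε : A' ⊗[A] B →+* B').comp j = algebraMap B B' :=
    IsPerfectClosure.equiv_comp j (algebraMap B B') p
  have heq : θ.toRingHom = (ε : A' ⊗[A] B →+* B') :=
    IsPRadical.injective_comp_of_perfect B' j p (hθj.trans hε.symm)
  have : (θ : A' ⊗[A] B → B') = ε := by
    funext x
    exact congrArg (fun f : A' ⊗[A] B →+* B' => f x) heq
  rw [this]
  exact ε.bijective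

end Groth.Agent.Lib.helper25.PerfEt
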