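import Mathlib

set_option autoImplicit false
set_option linter.unusedSectionVars false
universe u

namespace Groth.Agent.Lib.helper25.PerfFlat

section tower
variable (p : ℕ) [hp : Fact p.Prime] (R : Type u) [CommRing R] [CharP R p]

/-- `R` is free over itself through `F^n`, in elementary terms. -/
def HasFrobBasis (n : ℕ) : Prop :=
  ∃ (K : Type u) (B : (K →₀ R) ≃+ R), ∀ (f : R) (c : K →₀ R), B (f • c) = f ^ p ^ n * B c

theorem hasFrobBasis_zero : HasFrobBasis p R 0 := by
  refine ⟨PUnit, ?_, ?_⟩
  · exact (Finsupp.uniqueLinearEquiv R R PUnit.unit).toAddEquiv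
  · intro f c
    simp

variable {p R}

theorem hasFrobBasis_succ {E : Type u} (B₁ : (E →₀ R) ≃+ R)
    (h₁ : ∀ (g : R) (d : E →₀ R), B₁ (g • d) = g ^ p * B₁ d) {n : ℕ} (hn : HasFrobBasis p R n) :
    HasFrobBasis p R (n + 1) := by
  obtain ⟨K, B, hB⟩ := hn
  refine ⟨E × K, (Finsupp.curryAddEquiv.trans (Finsupp.mapRange.addEquiv B)).trans B₁, ?_⟩
  intro f c
  have h2 : (Finsupp.mapRange.addEquiv B) (Finsupp.curryAddEquiv (f • c)) =
      (f ^ p ^ n) • (Finsupp.mapRange.addEquiv B) (Finsupp.curryAddEquiv c) := by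
    ext e
    simp only [Finsupp.mapRange.addEquiv_apply, Finsupp.mapRange_apply, Finsupp.smul_apply, smul_eq_mul]
    have : (Finsupp.curryAddEquiv (f • c)) e = f • (Finsupp.curryAddEquiv c) e := by
      ext k
      simp [Finsupp.curryAddEquiv, Finsupp.curry_apply]
    rw [this, hB]
  simp only [AddEquiv.trans_apply]
  rw [h2, h₁, ← pow_mul, ← pow_succ]

theorem hasFrobBasis_all {E : Type u} (B₁ : (E →₀ R) ≃+ R)
    (h₁ : ∀ (g : R) (d : E →₀ R), B₁ (g • d) = g ^ p * B₁ d) (n : ℕ) : HasFrobBasis p R n := by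
  induction n with
  | zero => exact hasFrobBasis_zero p R
  | succ n ih => exact hasFrobBasis_succ B₁ h₁ ih

end tower


section pc
variable (p : ℕ) [hp : Fact p.Prime] (R : Type u) [CommRing R] [CharP R p]

/-- level-`N` inclusion. -/
def iota (N : ℕ) (r : R) : PerfectClosure R p := PerfectClosure.mk R p (N, r)

theorem iota_add (N : ℕ) (a b : R) : iota p R N (a + b) = iota p R N a + iota p R N b := by
  unfold iota
  rw [PerfectClosure.mk_add_mk]
  dsimp only
  rw [← iterate_map_add]
  exact PerfectClosure.R.sound R p N N (a + b) _ rfl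

theorem iota_zero (N : ℕ) : iota p R N 0 = 0 := PerfectClosure.mk_zero_right R p N

theorem iota_sum {κ : Type*} (s : Finset κ) (N : ℕ) (a : κ → R) :
    iota p R N (∑ k ∈ s, a k) = ∑ k ∈ s, iota p R N (a k) := by
  classical
  induction s using Finset.induction_on with
  | empty => simp [iota_zero]
  | insert k s hk ih => rw [Finset.sum_insert hk, Finset.sum_insert hk, iota_add, ih]

theorem of_mul_iota (N : ℕ) (f r : R) :
    PerfectClosure.of R p f * iota p R N r = iota p R N (f ^ p ^ N * r) := by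
  unfold iota
  rw [PerfectClosure.of_apply, PerfectClosure.mk_mul_mk]
  dsimp only
  rw [Function.iterate_zero, id, zero_add, ← coe_iterateFrobenius, iterateFrobenius_def]

theorem iota_succ (N : ℕ) (r : R) : iota p R (N + 1) (r ^ p) = iota p R N r :=
  PerfectClosure.mk_succ_pow R p N r

theorem iota_add_level (N M : ℕ) (r : R) : iota p R (M + N) (r ^ p ^ M) = iota p R N r := by
  unfold iota
  rw [PerfectClosure.R.sound R p M N r (r ^ p ^ M)]
  rw [← coe_iterateFrobenius, iterateFrobenius_def]

theorem exists_iota (y : PerfectClosure R p) : ∃ N r, y = iota p R N r := by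
  induction y using PerfectClosure.induction_on with
  | h x => exact ⟨x.1, x.2, rfl⟩

theorem exists_iota_ge (y : PerfectClosure R p) (N₀ : ℕ) : ∃ N r, N₀ ≤ N ∧ y = iota p R N r := by
  obtain ⟨N, r, rfl⟩ := exists_iota p R y
  exact ⟨N₀ + N, r ^ p ^ N₀, Nat.le_add_right _ _, (iota_add_level p R N N₀ r).symm⟩

theorem exists_iota_fin {l : ℕ} (y : Fin l → PerfectClosure R p) :
    ∃ N, ∃ r : Fin l → R, ∀ i, y i = iota p R N (r i) := by
  induction l with
  | zero => exact ⟨0, fun i => i.elim0, fun i => i.elim0⟩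
  | succ l ih =>
    obtain ⟨N, r, hr⟩ := ih (fun i => y i.succ)
    obtain ⟨M, s, hs⟩ := exists_iota p R (y 0)
    refine ⟨N + M, Fin.cons (s ^ p ^ N) (fun i => r i ^ p ^ M), ?_⟩
    intro i
    refine Fin.cases ?_ (fun j => ?_) i
    · rw [Fin.cons_zero, iota_add_level, hs]
    · rw [Fin.cons_succ, add_comm N M, iota_add_level, hr j]

theorem iota_eq_zero [IsReduced R] (N : ℕ) (r : R) (h : iota p R N r = 0) : r = 0 := by
  unfold iota at h
  rw [PerfectClosure.zero_def, PerfectClosure.eq_iff] at h
  simpa using h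

theorem iota_eq_one [IsReduced R] (N : ℕ) (r : R) (h : iota p R N r = 1) : r = 1 := by
  unfold iota at h
  rw [PerfectClosure.one_def, PerfectClosure.eq_iff] at h
  simpa using h

end pc


section flat
variable (p : ℕ) [hp : Fact p.Prime] (R : Type u) [CommRing R] [CharP R p] [IsReduced R]

theorem flat_of_hasFrobBasis (h : ∀ n, HasFrobBasis p R n) :
    letI := (PerfectClosure.of R p).toAlgebra
    Module.Flat R (PerfectClosure R p) := by
  letI := (PerfectClosure.of R p).toAlgebra
  have hsm : ∀ (f : R) (y : PerfectClosure R p), f • y = PerfectClosure.of R p f * y := fun f y => rfl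
  refine Module.Flat.of_forall_isTrivialRelation ?_
  intro l f y hfy
  obtain ⟨N, r, hr⟩ := exists_iota_fin p R y
  obtain ⟨K, B, hB⟩ := h N
  have h1 : ∑ i, f i ^ p ^ N * r i = 0 := by
    apply iota_eq_zero p R N
    rw [iota_sum, ← hfy]
    refine Finset.sum_congr rfl fun i _ => ?_
    rw [hsm, hr i, of_mul_iota]
  let c : Fin l → (K →₀ R) := fun i => B.symm (r i)
  have h2 : ∑ i, f i • c i = 0 := by
    apply B.injective
    rw [map_sum, map_zero, ← h1]
    refine Finset.sum_congr rfl fun i _ => ?_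
    rw [hB, AddEquiv.apply_symm_apply]
  classical
  let S : Finset K := Finset.univ.biUnion (fun i => (c i).support)
  rw [Module.isTrivialRelation_iff_vanishesTrivially]
  refine TensorProduct.VanishesTrivially.of_fintype (κ := S) (fun i k => c i k.1)
    (fun k => iota p R N (B (Finsupp.single k.1 1))) ?_ ?_
  · intro i
    have hsub : (c i).support ⊆ S := by
      intro k hk
      exact Finset.mem_biUnion.2 ⟨i, Finset.mem_univ _, hk⟩
    have hci : c i = ∑ k ∈ S, (c i k) • Finsupp.single k (1 : R) := by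
      conv_lhs => rw [← Finsupp.sum_single (c i)]
      rw [Finsupp.sum, Finset.sum_subset hsub]
      · refine Finset.sum_congr rfl fun k _ => ?_
        rw [Finsupp.smul_single, smul_eq_mul, mul_one]
      · intro k _ hk
        rw [Finsupp.notMem_support_iff.1 hk, Finsupp.single_zero]
    have hri : r i = ∑ k ∈ S, (c i k) ^ p ^ N * B (Finsupp.single k 1) := by
      have : r i = B (c i) := (AddEquiv.apply_symm_apply B (r i)).symm
      rw [this, hci, map_sum]
      refine Finset.sum_congr rfl fun k _ => ?_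
      rw [hB]
      congr 2
      rw [← hci]
    rw [hr i, hri, iota_sum, Finset.sum_coe_sort S (fun k => c i k • iota p R N (B (Finsupp.single k 1)))]
    refine Finset.sum_congr rfl fun k _ => ?_
    rw [hsm, of_mul_iota]
  · intro k
    have := DFunLike.congr_fun h2 k.1
    rw [Finsupp.coe_finsetSum, Finset.sum_apply] at this
    simp only [Finsupp.smul_apply, smul_eq_mul, Finsupp.coe_zero, Pi.zero_apply] at this
    rw [← this]
    refine Finset.sum_congr rfl fun i _ => ?_
    rw [smul_eq_mul, mul_comm]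

theorem faithfullyFlat_of_hasFrobBasis (h : ∀ n, HasFrobBasis p R n) :
    (PerfectClosure.of R p).FaithfullyFlat := by
  letI := (PerfectClosure.of R p).toAlgebra
  have hsm : ∀ (f : R) (y : PerfectClosure R p), f • y = PerfectClosure.of R p f * y := fun f y => rfl
  haveI := flat_of_hasFrobBasis p R h
  change Module.FaithfullyFlat R (PerfectClosure R p)
  rw [Module.FaithfullyFlat.iff_flat_and_proper_ideal]
  refine ⟨inferInstance, fun I hI htop => hI ?_⟩
  have key : ∀ w ∈ (I • ⊤ : Submodule R (PerfectClosure R p)), ∃ N s, s ∈ I ∧ w = iota p R N s := by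
    intro w hw
    refine Submodule.smul_induction_on hw (fun a ha y _ => ?_) (fun w w' hw hw' => ?_)
    · obtain ⟨N, r, rfl⟩ := exists_iota p R y
      exact ⟨N, a ^ p ^ N * r, Ideal.mul_mem_right _ _ (Ideal.pow_mem_of_mem _ ha _ (pow_pos hp.out.pos N)),
        by rw [hsm, of_mul_iota]⟩
    · obtain ⟨N, s, hs, rfl⟩ := hw
      obtain ⟨M, t, ht, rfl⟩ := hw'
      refine ⟨M + N, s ^ p ^ M + t ^ p ^ N, Ideal.add_mem _ (Ideal.pow_mem_of_mem _ hs _ (pow_pos hp.out.pos M))
        (Ideal.pow_mem_of_mem _ ht _ (pow_pos hp.out.pos N)), ?_⟩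
      rw [iota_add, iota_add_level, add_comm M N, iota_add_level]
  obtain ⟨N, s, hs, h1⟩ := key 1 (by rw [htop]; exact Submodule.mem_top)
  have := iota_eq_one p R N s h1.symm
  rw [Ideal.eq_top_iff_one, ← this]
  exact hs

end flat


section final
variable (p : ℕ) [hp : Fact p.Prime] (R : Type u) [CommRing R] [CharP R p]

theorem isReduced_of_pow_injective (h : ∀ r : R, r ^ p = 0 → r = 0) : IsReduced R := by
  refine ⟨fun x ⟨k, hk⟩ => ?_⟩
  have h1 : ∀ n : ℕ, ∀ r : R, r ^ p ^ n = 0 → r = 0 := by
    intro n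
    induction n with
    | zero => intro r hr; simpa using hr
    | succ n ih =>
      intro r hr
      rw [pow_succ, pow_mul] at hr
      exact ih r (h _ hr)
  apply h1 k
  have hk' : k ≤ p ^ k := (Nat.lt_pow_self hp.out.one_lt).le
  rw [← Nat.sub_add_cancel hk', pow_add, hk, mul_zero]

theorem S16421_aux (ι : Type u) (x : ι → R)
    (hx : Function.Bijective
      (fun c : {e : ι →₀ ℕ // ∀ i, e i < p} →₀ R =>
        c.sum (fun e r => r ^ p * e.1.prod (fun i n => x i ^ n)))) :
    (PerfectClosure.of R p).FaithfullyFlat := by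
  have hp0 : p ≠ 0 := hp.out.ne_zero
  let φ : ({e : ι →₀ ℕ // ∀ i, e i < p} →₀ R) →+ R :=
    { toFun := fun c => c.sum (fun e r => r ^ p * e.1.prod (fun i n => x i ^ n))
      map_zero' := Finsupp.sum_zero_index
      map_add' := fun c d => by
        refine Finsupp.sum_add_index' (fun e => by rw [zero_pow hp0, zero_mul]) (fun e a b => ?_)
        rw [add_pow_char, add_mul] }
  let B₁ : ({e : ι →₀ ℕ // ∀ i, e i < p} →₀ R) ≃+ R := AddEquiv.ofBijective φ hx
  have hB₁ : ∀ c, B₁ c = c.sum (fun e r => r ^ p * e.1.prod (fun i n => x i ^ n)) := fun c => rfl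
  have h₁ : ∀ (g : R) (d : {e : ι →₀ ℕ // ∀ i, e i < p} →₀ R), B₁ (g • d) = g ^ p * B₁ d := by
    intro g d
    rw [hB₁, hB₁, Finsupp.sum_smul_index' (fun e => by rw [zero_pow hp0, zero_mul]), Finsupp.mul_sum]
    refine Finsupp.sum_congr fun e _ => ?_
    rw [smul_eq_mul, mul_pow, mul_assoc]
  haveI : IsReduced R := by
    apply isReduced_of_pow_injective p R
    intro r hr
    let e0 : {e : ι →₀ ℕ // ∀ i, e i < p} := ⟨0, fun i => hp.out.pos⟩
    have h2 : B₁ (Finsupp.single e0 r) = B₁ 0 := by
      rw [map_zero, hB₁, Finsupp.sum_single_index (by rw [zero_pow hp0, zero_mul]), hr, zero_mul]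
    have h3 := B₁.injective h2
    have := DFunLike.congr_fun h3 e0
    simpa using this
  exact faithfullyFlat_of_hasFrobBasis p R (hasFrobBasis_all B₁ h₁)

end final

end Groth.Agent.Lib.helper25.PerfFlat
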