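import Mathlib

set_option autoImplicit false
universe u v w

namespace Groth.Agent.Lib.helper25.ProjLim

open TensorProduct

section
variable {R : Type*} [CommRing R] {X : Type*} [AddCommGroup X] [Module R X]
  {ι : Type*} {N : ι → Type*} [∀ i, AddCommGroup (N i)] [∀ i, Module R (N i)]
  (g : ∀ i, X →ₗ[R] N i)

/-- the comparison map `M ⊗ X → Π i, M ⊗ N i`. -/
noncomputable def Phi (M : Type*) [AddCommGroup M] [Module R M] :
    M ⊗[R] X →ₗ[R] (Π i, M ⊗[R] N i) :=
  LinearMap.pi fun i => LinearMap.lTensor M (g i)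

theorem Phi_apply (M : Type*) [AddCommGroup M] [Module R M] (z : M ⊗[R] X) (i : ι) :
    Phi g M z i = LinearMap.lTensor M (g i) z := rfl

/-- coordinate maps on `F ⊗ Y` for a basis of `F`. -/
noncomputable def coordT {F : Type*} [AddCommGroup F] [Module R F] {κ : Type*} (b : Module.Basis κ R F)
    (Y : Type*) [AddCommGroup Y] [Module R Y] (k : κ) : F ⊗[R] Y →ₗ[R] Y :=
  (TensorProduct.lid R Y).toLinearMap ∘ₗ LinearMap.rTensor Y (b.coord k)

theorem coordT_tmul {F : Type*} [AddCommGroup F] [Module R F] {κ : Type*} (b : Module.Basis κ R F)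
    (Y : Type*) [AddCommGroup Y] [Module R Y] (k : κ) (f : F) (y : Y) :
    coordT b Y k (f ⊗ₜ y) = b.repr f k • y := by
  simp [coordT]

theorem coordT_lTensor {F : Type*} [AddCommGroup F] [Module R F] {κ : Type*} (b : Module.Basis κ R F)
    {Y Z : Type*} [AddCommGroup Y] [Module R Y] [AddCommGroup Z] [Module R Z] (h : Y →ₗ[R] Z) (k : κ)
    (w : F ⊗[R] Y) : coordT b Z k (LinearMap.lTensor F h w) = h (coordT b Y k w) := by
  induction w using TensorProduct.induction_on with
  | zero => simp
  | tmul f y => simp [coordT_tmul]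
  | add x y hx hy => simp only [map_add, hx, hy]

theorem eq_zero_of_coordT {F : Type*} [AddCommGroup F] [Module R F] {κ : Type*} (b : Module.Basis κ R F)
    (Y : Type*) [AddCommGroup Y] [Module R Y] (w : F ⊗[R] Y) (h : ∀ k, coordT b Y k w = 0) : w = 0 := by
  classical
  apply (TensorProduct.equivFinsuppOfBasisLeft b).injective
  rw [map_zero]
  ext k
  rw [TensorProduct.equivFinsuppOfBasisLeft_apply]
  exact h k

theorem sum_coordT {F : Type*} [AddCommGroup F] [Module R F] {κ : Type*} [Fintype κ] (b : Module.Basis κ R F)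
    (Y : Type*) [AddCommGroup Y] [Module R Y] (w : F ⊗[R] Y) :
    ∑ k, b k ⊗ₜ[R] coordT b Y k w = w := by
  induction w using TensorProduct.induction_on with
  | zero => simp
  | tmul f y =>
    simp only [coordT_tmul]
    conv_rhs => rw [← b.sum_repr f, TensorProduct.sum_tmul]
    refine Finset.sum_congr rfl fun k _ => ?_
    rw [TensorProduct.smul_tmul]
  | add x y hx hy =>
    simp only [map_add, TensorProduct.tmul_add, Finset.sum_add_distrib, hx, hy]

/-- free case of injectivity. -/
theorem Phi_injective_of_basis (hg : ∀ x, (∀ i, g i x = 0) → x = 0)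
    {F : Type*} [AddCommGroup F] [Module R F] {κ : Type*} (b : Module.Basis κ R F) :
    Function.Injective (Phi g F) := by
  rw [injective_iff_map_eq_zero]
  intro w hw
  apply eq_zero_of_coordT b
  intro k
  apply hg
  intro i
  rw [← coordT_lTensor, ← Phi_apply, hw]
  simp

/-- retract case of injectivity. -/
theorem Phi_injective_of_retract {M F : Type*} [AddCommGroup M] [Module R M] [AddCommGroup F] [Module R F]
    (s : M →ₗ[R] F) (π : F →ₗ[R] M) (hπs : π ∘ₗ s = LinearMap.id)
    (hF : Function.Injective (Phi g F)) : Function.Injective (Phi g M) := by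
  rw [injective_iff_map_eq_zero]
  intro z hz
  have h1 : Phi g F (LinearMap.rTensor X s z) = 0 := by
    funext i
    rw [Phi_apply]
    have : LinearMap.lTensor F (g i) (LinearMap.rTensor X s z)
        = LinearMap.rTensor (N i) s (LinearMap.lTensor M (g i) z) := by
      rw [← LinearMap.comp_apply, ← LinearMap.comp_apply, LinearMap.lTensor_comp_rTensor,
        LinearMap.rTensor_comp_lTensor]
    rw [this, ← Phi_apply, hz]
    simp
  have h2 := hF (h1.trans (map_zero _).symm)
  have h3 : LinearMap.rTensor X π (LinearMap.rTensor X s z) = z := by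
    rw [← LinearMap.comp_apply, ← LinearMap.rTensor_comp, hπs, LinearMap.rTensor_id, LinearMap.id_apply]
  rw [← h3, h2, map_zero]

/-- injectivity for projective modules. -/
theorem Phi_injective_of_projective (hg : ∀ x, (∀ i, g i x = 0) → x = 0)
    (M : Type*) [AddCommGroup M] [Module R M] [Module.Projective R M] :
    Function.Injective (Phi g M) := by
  obtain ⟨s, hs⟩ := Module.projective_def'.1 (inferInstance : Module.Projective R M)
  exact Phi_injective_of_retract g s (Finsupp.linearCombination R id) hs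
    (Phi_injective_of_basis g hg (Finsupp.basisSingleOne))

end

section seq
variable {R : Type*} [CommRing R] {X : Type*} [AddCommGroup X] [Module R X]
  {N : ℕ → Type*} [∀ i, AddCommGroup (N i)] [∀ i, Module R (N i)]
  (g : ∀ i, X →ₗ[R] N i) (t : ∀ i, N (i + 1) →ₗ[R] N i)

theorem compat_of_mem_range (hcomp : ∀ i, t i ∘ₗ g (i + 1) = g i)
    (M : Type*) [AddCommGroup M] [Module R M] (y : Π i, M ⊗[R] N i)
    (hy : y ∈ LinearMap.range (Phi g M)) (i : ℕ) :
    LinearMap.lTensor M (t i) (y (i + 1)) = y i := by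
  obtain ⟨z, rfl⟩ := hy
  rw [Phi_apply, Phi_apply, ← LinearMap.comp_apply, ← LinearMap.lTensor_comp, hcomp]

theorem mem_range_of_compat_basis
    (hlim : ∀ x' : Π i, N i, (∀ i, t i (x' (i + 1)) = x' i) → ∃ x, ∀ i, g i x = x' i)
    {F : Type*} [AddCommGroup F] [Module R F] {κ : Type*} [Fintype κ] (b : Module.Basis κ R F)
    (y : Π i, F ⊗[R] N i) (hy : ∀ i, LinearMap.lTensor F (t i) (y (i + 1)) = y i) :
    y ∈ LinearMap.range (Phi g F) := by
  have h1 : ∀ k, ∃ x : X, ∀ i, g i x = coordT b (N i) k (y i) := by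
    intro k
    apply hlim
    intro i
    rw [← coordT_lTensor, hy]
  choose x hx using h1
  refine ⟨∑ k, b k ⊗ₜ[R] x k, ?_⟩
  funext i
  rw [Phi_apply, map_sum]
  simp only [LinearMap.lTensor_tmul, hx]
  exact sum_coordT b (N i) (y i)

theorem mem_range_of_compat_retract {M F : Type*} [AddCommGroup M] [Module R M] [AddCommGroup F]
    [Module R F] (s : M →ₗ[R] F) (π : F →ₗ[R] M) (hπs : π ∘ₗ s = LinearMap.id)
    (hF : ∀ y : Π i, F ⊗[R] N i, (∀ i, LinearMap.lTensor F (t i) (y (i + 1)) = y i) →
      y ∈ LinearMap.range (Phi g F))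
    (y : Π i, M ⊗[R] N i) (hy : ∀ i, LinearMap.lTensor M (t i) (y (i + 1)) = y i) :
    y ∈ LinearMap.range (Phi g M) := by
  obtain ⟨z, hz⟩ := hF (fun i => LinearMap.rTensor (N i) s (y i)) (fun i => by
    rw [← hy i, ← LinearMap.comp_apply, ← LinearMap.comp_apply, LinearMap.lTensor_comp_rTensor,
      LinearMap.rTensor_comp_lTensor])
  refine ⟨LinearMap.rTensor X π z, ?_⟩
  funext i
  have h1 := congrFun hz i
  rw [Phi_apply] at h1 ⊢
  have h2 : LinearMap.lTensor M (g i) (LinearMap.rTensor X π z)
      = LinearMap.rTensor (N i) π (LinearMap.lTensor F (g i) z) := by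
    rw [← LinearMap.comp_apply, ← LinearMap.comp_apply, LinearMap.lTensor_comp_rTensor,
      LinearMap.rTensor_comp_lTensor]
  rw [h2, h1, ← LinearMap.comp_apply, ← LinearMap.rTensor_comp, hπs, LinearMap.rTensor_id,
    LinearMap.id_apply]

theorem mem_range_iff_of_finite_projective (hcomp : ∀ i, t i ∘ₗ g (i + 1) = g i)
    (hlim : ∀ x' : Π i, N i, (∀ i, t i (x' (i + 1)) = x' i) → ∃ x, ∀ i, g i x = x' i)
    (M : Type*) [AddCommGroup M] [Module R M] [Module.Finite R M] [Module.Projective R M]
    (y : Π i, M ⊗[R] N i) :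
    y ∈ LinearMap.range (Phi g M) ↔ ∀ i, LinearMap.lTensor M (t i) (y (i + 1)) = y i := by
  refine ⟨compat_of_mem_range g t hcomp M y, fun hy => ?_⟩
  obtain ⟨n, π, s, -, -, hπs⟩ := Module.Finite.exists_comp_eq_id_of_projective R M
  exact mem_range_of_compat_retract g t s π hπs
    (fun y' hy' => mem_range_of_compat_basis g t hlim (Pi.basisFun R (Fin n)) y' hy') y hy

end seq

end Groth.Agent.Lib.helper25.ProjLim
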