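import Mathlib
import Groth.Agent.Lib.helper25.Sep1

set_option autoImplicit false
set_option linter.unusedSectionVars false
universe u

namespace Groth.Agent.Lib.helper25.SmGen

theorem S2162_aux {R S K L : Type u} [CommRing R] [IsDomain R] [CommRing S]
    [IsDomain S] [Algebra R S] [Field K] [Field L] [Algebra R K] [IsFractionRing R K]
    [Algebra S L] [IsFractionRing S L] [Algebra K L] [Algebra R L] [IsScalarTower R S L]
    [IsScalarTower R K L] :
    Algebra.IsSmoothAt R (⊥ : Ideal S) ↔ Algebra.IsGeometricallyReduced K L := by
  haveI : IsLocalization (⊥ : Ideal S).primeCompl L := by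
    rw [Ideal.primeCompl_bot]; infer_instance
  let e : Localization.AtPrime (⊥ : Ideal S) ≃ₐ[S] L :=
    IsLocalization.algEquiv (⊥ : Ideal S).primeCompl _ _
  let e' : Localization.AtPrime (⊥ : Ideal S) ≃ₐ[R] L := e.restrictScalars R
  rw [← Groth.Agent.Lib.helper25.Sep.formallySmooth_iff_isGeometricallyReduced]
  constructor
  · intro h
    haveI : Algebra.FormallySmooth R (Localization.AtPrime (⊥ : Ideal S)) := h
    haveI : Algebra.FormallySmooth R L := .of_equiv e'
    exact Algebra.FormallySmooth.localization_base (nonZeroDivisors R)
  · intro h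
    haveI := h
    haveI : Algebra.FormallySmooth R K := Algebra.FormallySmooth.of_isLocalization (nonZeroDivisors R)
    haveI : Algebra.FormallySmooth R L := Algebra.FormallySmooth.comp R K L
    exact .of_equiv e'.symm

end Groth.Agent.Lib.helper25.SmGen
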