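import Mathlib
import Groth.Prelude.Def_AlgSp3
import Groth.Prelude.Def_AlgSpMor6
import Groth.Agent.S9429

/-! Smooth morphisms are syntomic (schemes and algebraic spaces) (S10305) (helper25). -/

universe u

open AlgebraicGeometry CategoryTheory Limits TensorProduct

namespace Groth.Agent.Lib.helper25.SmSynt

set_option linter.style.haveILetI false

theorem isSyntomic_of_smooth (R S : Type u) [CommRing R] [CommRing S] [Algebra R S]
    [Algebra.Smooth R S] : Synt.IsSyntomic R S := by
  refine ⟨inferInstance, Algebra.Smooth.finitePresentation, fun p => ?_⟩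
  exact Groth.Agent.S9429.result p.asIdeal.ResidueField (p.asIdeal.Fiber S)

theorem isSyntomicMor_of_smooth {X Y : Scheme.{u}} (g : X ⟶ Y) [Smooth g] :
    Synt.IsSyntomicMor g := by
  intro x
  obtain ⟨V, hV, U, hU, hxU, e, hstd⟩ := Smooth.exists_isStandardSmooth g x
  refine ⟨⟨U, hU⟩, ⟨V, hV⟩, e, hxU, ?_⟩
  letI := (g.appLE V U e).hom.toAlgebra
  haveI : Algebra.IsStandardSmooth Γ(Y, V) Γ(X, U) := hstd
  exact isSyntomic_of_smooth Γ(Y, V) Γ(X, U)

theorem S10305_aux {S : Scheme.{u}} {X Y : AlgSp.Space S} (f : X ⟶ Y)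
    (hf : AlgSp.LocP @Smooth f.hom) : AlgSp.IsSyntomicMor f.hom := by
  intro U V a b h ha hb hcomm
  haveI : Smooth h.left := hf a b h ha hb hcomm
  exact isSyntomicMor_of_smooth h.left

end Groth.Agent.Lib.helper25.SmSynt
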