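import Mathlib
import Groth.Prelude.Def_Curv2
import Groth.Agent.Lib.helper25.VarBC9
import Groth.Agent.Lib.helper22.SmoothFibreSch

/-! Generic smoothness for separable function field extension (S7775) (helper25). -/

universe u

open AlgebraicGeometry CategoryTheory Limits TensorProduct

namespace Groth.Agent.Lib.helper25.VarBC

set_option linter.style.haveILetI false
attribute [-instance] Groth.Agent.Lib.helper19.JacLocal.instFormallySmoothRingExt

theorem flat_of_isField (R M : Type u) [CommRing R] [AddCommGroup M] [Module R M]
    (h : IsField R) : Module.Flat R M := by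
  letI := h.toField
  infer_instance

theorem S7775_aux (X Y : Scheme.{u}) [IsIntegral X] [IsIntegral Y]
    (f : X ⟶ Y) [IsDominant f] [LocallyOfFinitePresentation f]
    (hsep : GeometricallyReduced (f.fiberToSpecResidueField (f.base (genericPoint X)))) :
    Dense (f.smoothLocus : Set X) := by
  set y := f.base (genericPoint X) with hy
  letI : (f.fiber y).Over (Spec (CommRingCat.of (Y.residueField y))) :=
    ⟨f.fiberToSpecResidueField y⟩
  haveI : LocallyOfFinitePresentation
      ((f.fiber y) ↘ Spec (CommRingCat.of (Y.residueField y))) :=
    (inferInstance : LocallyOfFinitePresentation (pullback.snd f (Y.fromSpecResidueField y)))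
  haveI : LocallyOfFinitePresentation (f.fiberToSpecResidueField y) :=
    (inferInstance : LocallyOfFinitePresentation (pullback.snd f (Y.fromSpecResidueField y)))
  have hd := dense_smoothLocus_of_geometricallyReduced (Y.residueField y) (f.fiber y) hsep
  haveI : Nonempty (f.fiber y) := ⟨f.asFiber (genericPoint X)⟩
  obtain ⟨z, hz⟩ := hd.nonempty
  have H : IsPullback (f.fiberι y) (f.fiberToSpecResidueField y) f (Y.fromSpecResidueField y) :=
    IsPullback.of_hasPullback _ _
  have hfz : f (f.fiberι y z) = y := by
    have : f.fiberι y z ∈ f ⁻¹' {y} := (f.range_fiberι y).le ⟨z, rfl⟩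
    exact this
  have hgen : closure ({y} : Set Y) = Set.univ := by
    have h1 := (genericPoint_spec X).image f.continuous
    rw [Set.image_univ, (IsDominant.denseRange (f := f)).closure_range] at h1
    exact h1.def
  have hcomp : closure ({f (f.fiberι y z)} : Set Y) ∈ irreducibleComponents Y := by
    rw [hfz, hgen, irreducibleComponents_eq_singleton]
    exact Set.mem_singleton _
  have hfield := isField_stalk_of_closure_mem_irreducibleComponents Y _ hcomp
  have hflat : (f.stalkMap (f.fiberι y z)).hom.Flat := by
    letI := (f.stalkMap (f.fiberι y z)).hom.toAlgebra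
    exact flat_of_isField _ _ hfield
  have hlfp : LocallyOfFinitePresentation
      ((f.fiber y) ↘ Spec (CommRingCat.of (Y.residueField y))) := inferInstance
  have hmem := @Groth.Agent.H22.SmoothFibre.mem_smoothLocus_of_flat_of_fibre X Y (f.fiber y)
    (Y.residueField y) _ f (Y.fromSpecResidueField y) (f.fiberι y)
    ((f.fiber y) ↘ Spec (CommRingCat.of (Y.residueField y))) H _ hlfp z hflat hz
  exact f.smoothLocus.2.dense ⟨_, hmem⟩

end Groth.Agent.Lib.helper25.VarBC
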