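import Mathlib
import Groth.Prelude.Def_Curv2
import Groth.Agent.Lib.helper25.VarBC5

/-! Pointwise geometric regularity / normality: equivalent conditions (S7606, S7599) (helper25). -/

universe u

open AlgebraicGeometry CategoryTheory Limits TensorProduct

namespace Groth.Agent.Lib.helper25.VarBC

set_option linter.style.haveILetI false
attribute [local instance] Curv2.stalkAlgebra
attribute [-instance] Groth.Agent.Lib.helper19.JacLocal.instFormallySmoothRingExt

theorem geomReg_stalk_of_pi (k : Type u) [Field k] (X : Scheme.{u})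
    [X.Over (Spec (CommRingCat.of k))] [IsLocallyNoetherian X] (x : X)
    (h : ∀ (k' : Type u) [Field k'] [Algebra k k'] [FiniteDimensional k k']
      [IsPurelyInseparable k k'] (x' : Curv2.bc k X k'), Curv2.bcFst k X k' x' = x →
        IsRegularLocalRing ((Curv2.bc k X k').presheaf.stalk x')) :
    CAlg.IsGeometricallyRegular k (X.presheaf.stalk x) := by
  refine (Groth.Agent.Lib.helper25.GeomReg.S2672_aux k (X.presheaf.stalk x)).1.mpr ?_
  intro k' _ _ hfin hpi
  haveI := hfin
  haveI := hpi
  haveI : Module.Finite (X.presheaf.stalk x) ((X.presheaf.stalk x) ⊗[k] k') := inferInstance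
  haveI : IsNoetherianRing ((X.presheaf.stalk x) ⊗[k] k') :=
    Algebra.FiniteType.isNoetherianRing (X.presheaf.stalk x) _
  haveI h1 : IsRegularRing ((X.presheaf.stalk x) ⊗[k] k') := by
    apply Groth.Agent.Lib.helper20.RegQuot.isRegularRing_of_maximal
    intro Q' hQ'
    obtain ⟨x', hx', ⟨e'⟩⟩ := exists_point_equiv_localization (X ↘ Spec (CommRingCat.of k)) x
      (hφ_stalk k X x) k' Q' hQ'
    haveI := h k' x' hx'
    exact IsRegularLocalRing.of_ringEquiv e'
  exact IsRegularRing.of_ringEquiv
    (Algebra.TensorProduct.comm k (X.presheaf.stalk x) k').toRingEquiv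

theorem S7606_aux (k : Type u) [Field k] (X : Scheme.{u}) [X.Over (Spec (CommRingCat.of k))]
    [IsLocallyNoetherian X] (x : ↥X) :
    (Curv2.IsGeomRegularAt k X x ↔
      ∀ (k' : Type u) [Field k'] [Algebra k k'] [FiniteDimensional k k']
        [IsPurelyInseparable k k'] (x' : ↥(Curv2.bc k X k')),
        Curv2.bcFst k X k' x' = x →
          IsRegularLocalRing ↥((Curv2.bc k X k').presheaf.stalk x')) ∧
    ((∀ (k' : Type u) [Field k'] [Algebra k k'] [FiniteDimensional k k']
        [IsPurelyInseparable k k'] (x' : ↥(Curv2.bc k X k')),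
        Curv2.bcFst k X k' x' = x →
          IsRegularLocalRing ↥((Curv2.bc k X k').presheaf.stalk x')) ↔
      CAlg.IsGeometricallyRegular k ↥(X.presheaf.stalk x)) := by
  have h12 : Curv2.IsGeomRegularAt k X x →
      ∀ (k' : Type u) [Field k'] [Algebra k k'] [FiniteDimensional k k']
        [IsPurelyInseparable k k'] (x' : ↥(Curv2.bc k X k')),
        Curv2.bcFst k X k' x' = x →
          IsRegularLocalRing ↥((Curv2.bc k X k').presheaf.stalk x') := by
    intro h k' _ _ _ _ x' hx'
    exact h k' (IntermediateField.fg_top_iff.mpr inferInstance) x' hx'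
  refine ⟨⟨h12, fun h => (geomRegularAt_iff_stalk k X x).mpr (geomReg_stalk_of_pi k X x h)⟩,
    ⟨geomReg_stalk_of_pi k X x, fun h => h12 ((geomRegularAt_iff_stalk k X x).mpr h)⟩⟩

theorem S7599_aux (k : Type u) [Field k] (X : Scheme.{u}) [X.Over (Spec (CommRingCat.of k))]
    (x : ↥X) :
    ((∀ (k' : Type u) [Field k'] [Algebra k k'] (x' : ↥(Curv2.bc k X k')),
        Curv2.bcFst k X k' x' = x →
          IsDomain ↥((Curv2.bc k X k').presheaf.stalk x') ∧
            IsIntegrallyClosed ↥((Curv2.bc k X k').presheaf.stalk x')) ↔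
      (∀ (k' : Type u) [Field k'] [Algebra k k'] [FiniteDimensional k k']
        [IsPurelyInseparable k k'] (x' : ↥(Curv2.bc k X k')), Curv2.bcFst k X k' x' = x →
          IsDomain ↥((Curv2.bc k X k').presheaf.stalk x') ∧
            IsIntegrallyClosed ↥((Curv2.bc k X k').presheaf.stalk x'))) ∧
    ((∀ (k' : Type u) [Field k'] [Algebra k k'] [FiniteDimensional k k']
        [IsPurelyInseparable k k'] (x' : ↥(Curv2.bc k X k')), Curv2.bcFst k X k' x' = x →
          IsDomain ↥((Curv2.bc k X k').presheaf.stalk x') ∧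
            IsIntegrallyClosed ↥((Curv2.bc k X k').presheaf.stalk x')) ↔
      ∀ (k' : Type u) [Field k'] [Algebra k k'],
        EGA4.IsNormalRing (k' ⊗[k] ↥(X.presheaf.stalk x))) := by
  have hAB : (∀ (k' : Type u) [Field k'] [Algebra k k'] (x' : ↥(Curv2.bc k X k')),
        Curv2.bcFst k X k' x' = x →
          IsDomain ↥((Curv2.bc k X k').presheaf.stalk x') ∧
            IsIntegrallyClosed ↥((Curv2.bc k X k').presheaf.stalk x')) →
      (∀ (k' : Type u) [Field k'] [Algebra k k'] [FiniteDimensional k k']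
        [IsPurelyInseparable k k'] (x' : ↥(Curv2.bc k X k')), Curv2.bcFst k X k' x' = x →
          IsDomain ↥((Curv2.bc k X k').presheaf.stalk x') ∧
            IsIntegrallyClosed ↥((Curv2.bc k X k').presheaf.stalk x')) :=
    fun h k' _ _ _ _ x' hx' => h k' x' hx'
  have hBC : (∀ (k' : Type u) [Field k'] [Algebra k k'] [FiniteDimensional k k']
        [IsPurelyInseparable k k'] (x' : ↥(Curv2.bc k X k')), Curv2.bcFst k X k' x' = x →
          IsDomain ↥((Curv2.bc k X k').presheaf.stalk x') ∧
            IsIntegrallyClosed ↥((Curv2.bc k X k').presheaf.stalk x')) →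
      ∀ (k' : Type u) [Field k'] [Algebra k k'],
        EGA4.IsNormalRing (k' ⊗[k] ↥(X.presheaf.stalk x)) := by
    intro h K _ _
    have hb : ∀ (k' : Type u) [Field k'] [Algebra k k'], Module.Finite k k' →
        IsPurelyInseparable k k' → EGA4.IsNormalRing (k' ⊗[k] (X.presheaf.stalk x)) := by
      intro k' _ _ hfin hpi
      haveI := hfin
      haveI := hpi
      have h1 := normal_tensor_of_stalks k X x k' (fun x' hx' => h k' x' hx')
      exact Groth.Agent.Lib.helper20.FiberLoc.normal_of_ringEquiv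
        (Algebra.TensorProduct.comm k (X.presheaf.stalk x) k').toRingEquiv h1
    exact Groth.Agent.Lib.helper25.GeomNor.nor_tensor_field_of_pi k _ hb K
  have hCA : (∀ (k' : Type u) [Field k'] [Algebra k k'],
        EGA4.IsNormalRing (k' ⊗[k] ↥(X.presheaf.stalk x))) →
      (∀ (k' : Type u) [Field k'] [Algebra k k'] (x' : ↥(Curv2.bc k X k')),
        Curv2.bcFst k X k' x' = x →
          IsDomain ↥((Curv2.bc k X k').presheaf.stalk x') ∧
            IsIntegrallyClosed ↥((Curv2.bc k X k').presheaf.stalk x')) := by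
    intro h K _ _ z hz
    obtain ⟨Q, hQ, ⟨e⟩⟩ := Groth.Agent.Lib.helper7.StalkBC.exists_equiv_localization
      (X ↘ Spec (CommRingCat.of k)) x (hφ_stalk k X x) K z (hz ▸ specializes_rfl)
    have hN : EGA4.IsNormalRing ((X.presheaf.stalk x) ⊗[k] K) :=
      Groth.Agent.Lib.helper20.FiberLoc.normal_of_ringEquiv
        (Algebra.TensorProduct.comm k K (X.presheaf.stalk x)).toRingEquiv (h K)
    obtain ⟨h1, h2⟩ := hN Q
    haveI : IsDomain ((Curv2.bc k X K).presheaf.stalk z) := e.toMulEquiv.isDomain _
    exact ⟨inferInstance, IsIntegrallyClosed.of_equiv e.symm⟩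
  exact ⟨⟨hAB, fun h => hCA (hBC h)⟩, ⟨hBC, fun h => hAB (hCA h)⟩⟩

end Groth.Agent.Lib.helper25.VarBC
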