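import Mathlib
import Groth.Prelude.Def_Curv2
import Groth.Agent.Lib.helper25.VarBC6
import Groth.Agent.Lib.helper25.GeomReg6
import Groth.Agent.Lib.helper25.NorTensor5
import Groth.Agent.Lib.helper6.RegNormal

/-! Normality under separable base change (S7602) (helper25). -/

universe u

open AlgebraicGeometry CategoryTheory Limits TensorProduct

namespace Groth.Agent.Lib.helper25.VarBC

set_option linter.style.haveILetI false
attribute [local instance] Curv2.stalkAlgebra
attribute [-instance] Groth.Agent.Lib.helper19.JacLocal.instFormallySmoothRingExt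

/-- A regular ring is normal. -/
theorem normal_of_isRegularRing (R : Type u) [CommRing R] [IsRegularRing R] :
    EGA4.IsNormalRing R := by
  intro p hp
  haveI : IsRegularLocalRing (Localization.AtPrime p) := (isRegularRing_iff.mp inferInstance) p
  exact ⟨Groth.Agent.H5.RegLoc.isDomain _, Groth.Agent.Lib.helper6.RegNormal.isIntegrallyClosed _⟩

theorem geomRed_field_of_geometricallyReduced (k K : Type u) [Field k] [Field K] [Algebra k K]
    [GeometricallyReduced (Spec.map (CommRingCat.ofHom (algebraMap k K)))] :
    Algebra.IsGeometricallyReduced k K := by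
  rw [Algebra.isGeometricallyReduced_field_iff]
  have h := (geometrically_iff_of_commRing_of_isClosedUnderIsomorphisms (R := k)
    (P := @AlgebraicGeometry.IsReduced)
    (f := Spec.map (CommRingCat.ofHom (algebraMap k K)))).mp
      GeometricallyReduced.geometrically_isReduced (AlgebraicClosure k)
  haveI := h
  let e := pullbackSpecIso k K (AlgebraicClosure k)
  haveI : AlgebraicGeometry.IsReduced (Spec (CommRingCat.of (K ⊗[k] AlgebraicClosure k))) :=
    isReduced_of_isOpenImmersion e.inv
  have h2 : _root_.IsReduced (K ⊗[k] AlgebraicClosure k) := by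
    have := (affine_isReduced_iff (CommRingCat.of (K ⊗[k] AlgebraicClosure k))).mp inferInstance
    exact this
  exact isReduced_of_injective
    (Algebra.TensorProduct.comm k (AlgebraicClosure k) K).toAlgHom (AlgEquiv.injective _)

theorem geomNormal_of_geomRed_field (k K : Type u) [Field k] [Field K] [Algebra k K]
    [Algebra.IsGeometricallyReduced k K] : EGA4.IsGeomNormal k K := by
  intro k' _ _ hfin
  haveI := Groth.Agent.Lib.helper25.GeomReg.geomReg_of_geomRed_field k K k' hfin
  exact normal_of_isRegularRing _

theorem S7602_aux (k : Type u) [Field k] (X : Scheme.{u}) [X.Over (Spec (CommRingCat.of k))]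
    (hX : Pi1.IsNormalScheme X)
    (K : Type u) [Field K] [Algebra k K]
    [GeometricallyReduced (Spec.map (CommRingCat.ofHom (algebraMap k K)))] :
    Pi1.IsNormalScheme (Curv2.bc k X K) := by
  intro z
  let x := Curv2.bcFst k X K z
  obtain ⟨Q, hQ, ⟨e⟩⟩ := Groth.Agent.Lib.helper7.StalkBC.exists_equiv_localization
    (X ↘ Spec (CommRingCat.of k)) x (hφ_stalk k X x) K z specializes_rfl
  haveI := geomRed_field_of_geometricallyReduced k K
  obtain ⟨hd, hic⟩ := hX x
  have hA : EGA4.IsNormalRing (X.presheaf.stalk x) :=
    Groth.Agent.Lib.helper25.GeomNor.nor_of_ic _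
  have hN : EGA4.IsNormalRing (K ⊗[k] (X.presheaf.stalk x)) :=
    Groth.Agent.Lib.helper25.NorTensor.S9413_aux k K (X.presheaf.stalk x)
      (geomNormal_of_geomRed_field k K) hA
  have hN' : EGA4.IsNormalRing ((X.presheaf.stalk x) ⊗[k] K) :=
    Groth.Agent.Lib.helper20.FiberLoc.normal_of_ringEquiv
      (Algebra.TensorProduct.comm k K (X.presheaf.stalk x)).toRingEquiv hN
  obtain ⟨h1, h2⟩ := hN' Q
  haveI : IsDomain ((Curv2.bc k X K).presheaf.stalk z) := e.toMulEquiv.isDomain _
  exact ⟨inferInstance, IsIntegrallyClosed.of_equiv e.symm⟩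

end Groth.Agent.Lib.helper25.VarBC
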